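import Groth.Agent.S9407
import Groth.Agent.H52.Topology
import Groth.Agent.H52.Points
import Groth.Prelude.Def_AlgSpSub

/-! Reducedness along smooth / flat surjective morphisms of algebraic spaces (helper51). -/

set_option autoImplicit false
universe u
open CategoryTheory CategoryTheory.Limits AlgebraicGeometry
open AlgSp

namespace Groth.Agent.H51

/-- The source of a smooth morphism with reduced target is reduced. -/
theorem isReduced_of_smooth {X Y : Scheme.{u}} (f : X ⟶ Y) [Smooth f] [IsReduced Y] : IsReduced X := by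
  have key : ∀ x : X, ∃ U : X.Opens, x ∈ U ∧ IsReduced U.toScheme := by
    intro x
    obtain ⟨_, ⟨V, hV : IsAffineOpen V, rfl⟩, hxV, -⟩ :=
      (Y.isBasis_affineOpens).exists_subset_of_mem_open (Set.mem_univ (f x)) isOpen_univ
    obtain ⟨_, ⟨U, hU : IsAffineOpen U, rfl⟩, hxU, hUV⟩ :=
      (X.isBasis_affineOpens).exists_subset_of_mem_open (show x ∈ (f ⁻¹ᵁ V : Set X) from hxV)
        (f ⁻¹ᵁ V).isOpen
    refine ⟨U, hxU, ?_⟩
    have hsm := f.smooth_appLE hV hU hUV
    algebraize [(f.appLE V U hUV).hom]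
    have : _root_.IsReduced Γ(X, U) := Groth.Agent.S9407.result Γ(Y, V) Γ(X, U)
    exact isReduced_of_isOpenImmersion hU.isoSpec.hom
  choose U hxU hU using key
  have hcov : TopologicalSpace.IsOpenCover U := by
    show ⨆ i, U i = ⊤
    rw [eq_top_iff]
    rintro x -
    exact TopologicalSpace.Opens.mem_iSup.mpr ⟨x, hxU x⟩
  have : ∀ i, IsReduced ((X.openCoverOfIsOpenCover U hcov).X i) := hU
  exact IsReduced.of_openCover X (X.openCoverOfIsOpenCover U hcov)

set_option backward.isDefEq.respectTransparency.types false in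
/-- The target of a flat surjective morphism with reduced source is reduced. -/
theorem isReduced_of_flat_of_surjective {X Y : Scheme.{u}} (f : X ⟶ Y) [Flat f] [Surjective f]
    [IsReduced X] : IsReduced Y := by
  have : ∀ y : Y, _root_.IsReduced (Y.presheaf.stalk y) := by
    intro y
    obtain ⟨x, rfl⟩ := f.surjective y
    algebraize [(f.stalkMap x).hom]
    have : Module.FaithfullyFlat (Y.presheaf.stalk (f x)) (X.presheaf.stalk x) :=
      @Module.FaithfullyFlat.of_flat_of_isLocalHom _ _ _ _ _ _ _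
        (Flat.stalkMap f x) (f.toLRSHom.prop x)
    have hinj : Function.Injective (f.stalkMap x).hom := ‹RingHom.FaithfullyFlat _›.injective
    exact isReduced_of_injective (f.stalkMap x).hom hinj
  exact isReduced_of_isReduced_stalk Y

variable {S : Scheme.{u}}

/-- Chart refinement over a morphism: given etale charts `a` of `F` and `b` of `G` (the latter surjective),
the scheme `U₁ = U ×_G V` is etale surjective over `U` and maps to `V` compatibly. -/
theorem exists_chart_over {F G : Sp S} (f : F ⟶ G) {U V : Over S} (a : (yon S).obj U ⟶ F)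
    (b : (yon S).obj V ⟶ G) (ha : RepWith @Etale a) (hb : RepWith @Etale b)
    (hbs : RepWith @Surjective b) :
    ∃ (U₁ : Over S) (p : U₁ ⟶ U) (h : U₁ ⟶ V), Etale p.left ∧ Surjective p.left ∧
      RepWith @Etale ((yon S).map p ≫ a) ∧ ((yon S).map p ≫ a) ≫ f = (yon S).map h ≫ b ∧
      (RepWith @Surjective a → RepWith @Surjective ((yon S).map p ≫ a)) ∧
      (RepWith @Surjective a → IsSurjectiveMor f → Surjective h.left) := by
  have instE2 := AlgSp.repWith_isMultiplicative (S := S) @Etale
  have instS2 := AlgSp.repWith_isMultiplicative (S := S) @Surjective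
  obtain ⟨U₁, p, hh, sq⟩ := hb.1 (a ≫ f)
  have hpe : Etale p.left := hb.2 _ _ _ sq
  have hps : Surjective p.left := hbs.2 _ _ _ sq
  obtain ⟨h, rfl⟩ := (yon S).map_surjective hh
  refine ⟨U₁, p, h, hpe, hps, (RepWith @Etale).comp_mem _ _ ((repWith_yon_map_iff _ _).2 hpe) ha,
    by rw [Category.assoc, sq.w], fun has =>
      (RepWith @Surjective).comp_mem _ _ ((repWith_yon_map_iff _ _).2 hps) has, fun has hs => ?_⟩
  refine ⟨fun v => ?_⟩
  obtain ⟨x, hx⟩ := hs (Points.ofPt b v)
  obtain ⟨u, rfl⟩ := Groth.Agent.H52.surjective_ofPt_of_surjective a has x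
  have hxy : Points.ofPt b v = Points.ofPt (a ≫ f) u := by
    rw [← hx]; rfl
  obtain ⟨w, hw1, -⟩ := Groth.Agent.H52.exists_of_ofPt_eq_ofPt sq v u hxy
  exact ⟨w, hw1⟩

/-- Reducedness descends along flat surjective morphisms of algebraic spaces. -/
theorem isReducedSp_of_flat_surjective {F G : Sp S} (hG : IsAlgSpace G) (f : F ⟶ G)
    (hfl : LocP @Flat f) (hs : IsSurjectiveMor f) (hF : IsReducedSp F) : IsReducedSp G := by
  obtain ⟨U, a, hae, has, hU⟩ := hF
  obtain ⟨V, b, hbe, hbs⟩ := hG.atlas
  obtain ⟨U₁, p, h, hpe, hps, ha₁e, hcomm, ha₁s, hhs⟩ := exists_chart_over f a b hae hbe hbs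
  have hU' : IsReduced U.left := hU
  have hU₁ : IsReduced U₁.left := isReduced_of_smooth p.left
  have hflat : Flat h.left := hfl _ b h ha₁e hbe hcomm
  have hsurj : Surjective h.left := hhs has hs
  have hV : IsReduced V.left := isReduced_of_flat_of_surjective h.left
  exact ⟨V, b, hbe, hbs, hV⟩

/-- Reducedness ascends along smooth morphisms of algebraic spaces. -/
theorem isReducedSp_of_smooth {F G : Sp S} (hF : IsAlgSpace F) (f : F ⟶ G)
    (hf : LocP @Smooth f) (hG : IsReducedSp G) : IsReducedSp F := by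
  obtain ⟨V, b, hbe, hbs, hV⟩ := hG
  obtain ⟨U, a, hae, has⟩ := hF.atlas
  obtain ⟨U₁, p, h, hpe, hps, ha₁e, hcomm, ha₁s, hhs⟩ := exists_chart_over f a b hae hbe hbs
  have hV' : IsReduced V.left := hV
  have hsm : Smooth h.left := hf _ b h ha₁e hbe hcomm
  have hU₁ : IsReduced U₁.left := isReduced_of_smooth h.left
  exact ⟨U₁, _, ha₁e, ha₁s has, hU₁⟩

end Groth.Agent.H51
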