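import Groth.Agent.H51.CoprodDesc
import Mathlib.AlgebraicGeometry.Morphisms.Finite

/-!
# Finite coproducts of finite morphisms (helper51)
-/

set_option autoImplicit false
universe u
open CategoryTheory CategoryTheory.Limits AlgebraicGeometry Opposite AlgSp

namespace Groth.Agent.H51.CoprodFinite

open Groth.Agent.H50

/-- A morphism from a finite coproduct of affine schemes to an affine scheme is finite as soon as its components are. -/
theorem isFinite_of_sigma {ι : Type u} [Finite ι] (W : ι → Scheme.{u}) [∀ i, IsAffine (W i)]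
    {Z : Scheme.{u}} [IsAffine Z] (m : (∐ W) ⟶ Z) (h : ∀ i, IsFinite (Sigma.ι W i ≫ m)) :
    IsFinite m := by
  let R : ι → CommRingCat.{u} := fun i => Γ(W i, ⊤)
  let φ : Γ(Z, ⊤) ⟶ CommRingCat.of (Π i, R i) :=
    CommRingCat.ofHom (RingHom.pi fun i => (Sigma.ι W i ≫ m).appTop.hom)
  let E : (∐ W) ≅ Spec (CommRingCat.of (Π i, R i)) :=
    (Sigma.mapIso (fun i => (W i).isoSpec)) ≪≫ asIso (sigmaSpec R)
  have hφ : IsFinite (Spec.map φ) := by
    rw [IsFinite.SpecMap_iff]
    change (RingHom.pi fun i => (Sigma.ι W i ≫ m).appTop.hom).Finite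
    have hfin : ∀ i, ((Sigma.ι W i ≫ m).appTop.hom).Finite := fun i => by
      have := h i
      exact (HasAffineProperty.iff_of_isAffine (P := @IsFinite)).1 (h i) |>.2
    let _ : Algebra Γ(Z, ⊤) (Π i, R i) := (RingHom.pi fun i => (Sigma.ι W i ≫ m).appTop.hom).toAlgebra
    let _ : ∀ i, Algebra Γ(Z, ⊤) (R i) := fun i => ((Sigma.ι W i ≫ m).appTop.hom).toAlgebra
    have : ∀ i, Module.Finite Γ(Z, ⊤) (R i) := fun i => hfin i
    change Module.Finite Γ(Z, ⊤) (Π i, R i)
    exact Module.Finite.pi
  have hm : m = E.hom ≫ Spec.map φ ≫ Z.isoSpec.inv := by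
    apply Sigma.hom_ext
    intro i
    change _ = Sigma.ι W i ≫ ((Sigma.mapIso (fun i => (W i).isoSpec)).hom ≫ sigmaSpec R) ≫ _
    have e0 : Sigma.ι W i ≫ (Sigma.mapIso (fun i => (W i).isoSpec)).hom =
        (W i).isoSpec.hom ≫ Sigma.ι (fun i => Spec (R i)) i := by
      simp [Sigma.mapIso]
      rfl
    rw [Category.assoc, ← Category.assoc (Sigma.ι W i), e0, Category.assoc,
      ι_sigmaSpec_assoc, ← Spec.map_comp_assoc]
    have e1 : φ ≫ CommRingCat.ofHom (Pi.evalRingHom (fun i => R i) i) = (Sigma.ι W i ≫ m).appTop := by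
      ext x
      rfl
    rw [e1, ← Category.assoc, Scheme.isoSpec_hom_naturality, Category.assoc, Iso.hom_inv_id,
      Category.comp_id]
  rw [hm]
  infer_instance

variable {S : Scheme.{u}}

/-- A morphism from a finite coproduct of sheaves is finite as soon as its components are. -/
theorem isFiniteMor_desc {ι : Type u} [Finite ι] {F : ι → Sp S} (c : Cofan F) (hc : IsColimit c)
    {G : Sp S} (d : c.pt ⟶ G) (hd : ∀ i, IsFiniteMor (c.inj i ≫ d)) : IsFiniteMor d := by
  intro Z hZ ξ
  have := hZ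
  have hx := fun i => hd i hZ ξ
  choose R r a sq haff hfin using hx
  obtain ⟨m, fst, sqm, hm, -⟩ := exists_rep_desc c hc d ξ R r a sq
  have : ∀ i, IsAffine (R i).left := haff
  refine ⟨sigmaOver R, m, fst, sqm, ?_, ?_⟩
  · change IsAffine (∐ fun i => (R i).left)
    infer_instance
  · refine isFinite_of_sigma (fun i => (R i).left) m.left (fun i => ?_)
    have e : Sigma.ι (fun i => (R i).left) i ≫ m.left = (r i).left := by
      rw [← hm i]
      rfl
    rw [e]
    exact hfin i

end Groth.Agent.H51.CoprodFinite
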