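import Mathlib
import Groth.Agent.H11.GRAtDefs
import Groth.Agent.H10.DevX

set_option autoImplicit false
set_option linter.style.haveILetI false

universe u

open TensorProduct IsLocalRing
open Groth.Agent.H11.GRAtDefs

namespace Groth.Agent.H51.GRAtL1

/-- A free base change reflects "killed by an element outside the prime". -/
theorem exists_notMem_mul_eq_zero_of_free {K E L : Type u} [Field K] [CommRing E] [Algebra K E]
    [Field L] [Algebra K L] (n : Ideal E) (N : Ideal (E ⊗[K] L))
    (hN : N.comap (algebraMap E (E ⊗[K] L)) = n) (a : E)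
    (u' : E ⊗[K] L) (hu' : u' ∉ N) (h0 : u' * (a ⊗ₜ[K] (1 : L)) = 0) :
    ∃ u : E, u ∉ n ∧ u * a = 0 := by
  classical
  let b := Module.Free.chooseBasis K L
  let B := Algebra.TensorProduct.basis E b
  by_contra hcon
  push Not at hcon
  apply hu'
  have hsmul : a • u' = 0 := by
    rw [Algebra.smul_def, Algebra.TensorProduct.algebraMap_apply, Algebra.algebraMap_self_apply,
      mul_comm]
    exact h0
  have hrep : ∀ i, B.repr u' i ∈ n := by
    intro i
    by_contra hi
    have h1 := hcon (B.repr u' i) hi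
    apply h1
    have h2 : B.repr (a • u') i = a • B.repr u' i := by
      rw [map_smul, Finsupp.smul_apply]
    rw [hsmul, map_zero, Finsupp.zero_apply, smul_eq_mul] at h2
    rw [mul_comm]
    exact h2.symm
  rw [← B.linearCombination_repr u', Finsupp.linearCombination_apply]
  refine Ideal.sum_mem _ fun i _ => ?_
  change (B.repr u' i) • B i ∈ N
  rw [Algebra.smul_def]
  refine Ideal.mul_mem_right _ _ ?_
  have : B.repr u' i ∈ N.comap (algebraMap E (E ⊗[K] L)) := by rw [hN]; exact hrep i
  exact this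

attribute [local instance] Algebra.TensorProduct.rightAlgebra

set_option maxHeartbeats 1600000 in
set_option synthInstance.maxHeartbeats 200000 in
/-- core: given a field `L` receiving `E` and `C` compatibly, with the right kernels. -/
theorem core {S A C₀ C : Type u} [CommRing S] [CommRing A] [Algebra S A] [CommRing C₀]
    [Algebra S C₀] [CommRing C] [Algebra A C] [Algebra C₀ C] [Algebra S C] [IsScalarTower S A C]
    [IsScalarTower S C₀ C] [Algebra.IsPushout S A C₀ C] (q : Ideal C) [q.IsPrime]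
    (hGR : GRAt A q)
    (K : Type u) [Field K] [Algebra S K] (E : Type u) [CommRing E] [Algebra C₀ E] [Algebra K E]
    [Algebra S E] [IsScalarTower S C₀ E] [IsScalarTower S K E] [Algebra.IsPushout S C₀ K E]
    (n : Ideal E) (L : Type u) [Field L] (ψE : E →+* L) (ψC : C →+* L)
    (hcompat : ∀ c : C₀, ψE (algebraMap C₀ E c) = ψC (algebraMap C₀ C c))
    (hkE : RingHom.ker ψE = n) (hkC : RingHom.ker ψC = q)
    (a : E) (ha : IsNilpotent a) : ∃ u : E, u ∉ n ∧ u * a = 0 := by
  letI algKL : Algebra K L := (ψE.comp (algebraMap K E)).toAlgebra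
  letI algAL : Algebra A L := (ψC.comp (algebraMap A C)).toAlgebra
  letI algSL : Algebra S L := ((algebraMap K L).comp (algebraMap S K)).toAlgebra
  haveI tSKL : IsScalarTower S K L := IsScalarTower.of_algebraMap_eq fun x => rfl
  have hSL : ∀ x : S, algebraMap S L x = ψC (algebraMap S C x) := by
    intro x
    change ψE (algebraMap K E (algebraMap S K x)) = _
    rw [← IsScalarTower.algebraMap_apply S K E, IsScalarTower.algebraMap_apply S C₀ E, hcompat,
      ← IsScalarTower.algebraMap_apply S C₀ C]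
  haveI tSAL : IsScalarTower S A L := IsScalarTower.of_algebraMap_eq fun x => by
    rw [hSL, IsScalarTower.algebraMap_apply S A C]
    rfl
  -- the model
  letI algAEL : Algebra A (E ⊗[K] L) :=
    ((algebraMap L (E ⊗[K] L)).comp (algebraMap A L)).toAlgebra
  haveI tALEL : IsScalarTower A L (E ⊗[K] L) := IsScalarTower.of_algebraMap_eq fun x => rfl
  haveI tSLEL : IsScalarTower S L (E ⊗[K] L) := IsScalarTower.of_algebraMap_eq fun x => by
    rw [Algebra.TensorProduct.algebraMap_apply, IsScalarTower.algebraMap_apply S K E,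
      IsScalarTower.algebraMap_apply S K L]
    change (algebraMap K E (algebraMap S K x)) ⊗ₜ[K] (1 : L) =
      (1 : E) ⊗ₜ[K] (algebraMap K L (algebraMap S K x))
    rw [Algebra.algebraMap_eq_smul_one, TensorProduct.smul_tmul, ← Algebra.algebraMap_eq_smul_one]
  haveI tKLEL : IsScalarTower K L (E ⊗[K] L) := IsScalarTower.of_algebraMap_eq fun x => by
    rw [Algebra.TensorProduct.algebraMap_apply]
    change (algebraMap K E x) ⊗ₜ[K] (1 : L) = (1 : E) ⊗ₜ[K] (algebraMap K L x)
    rw [Algebra.algebraMap_eq_smul_one, TensorProduct.smul_tmul, ← Algebra.algebraMap_eq_smul_one]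
  haveI tSAEL : IsScalarTower S A (E ⊗[K] L) := IsScalarTower.of_algebraMap_eq fun x => by
    rw [IsScalarTower.algebraMap_apply S L (E ⊗[K] L), IsScalarTower.algebraMap_apply S A L]
    rfl
  -- the `C`-algebra structure
  let fA : A →ₐ[S] (E ⊗[K] L) := IsScalarTower.toAlgHom S A (E ⊗[K] L)
  let fC₀ : C₀ →ₐ[S] (E ⊗[K] L) := IsScalarTower.toAlgHom S C₀ (E ⊗[K] L)
  let φC : C →ₐ[S] (E ⊗[K] L) := Algebra.pushoutDesc C fA fC₀ (fun _ _ => mul_comm _ _)
  letI algCEL : Algebra C (E ⊗[K] L) := φC.toRingHom.toAlgebra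
  have hφA : ∀ x : A, φC (algebraMap A C x) = algebraMap A (E ⊗[K] L) x := fun x =>
    Algebra.pushoutDesc_left C fA fC₀ _ x
  have hφC₀ : ∀ x : C₀, φC (algebraMap C₀ C x) = algebraMap C₀ (E ⊗[K] L) x := fun x =>
    Algebra.pushoutDesc_right C fA fC₀ _ x
  haveI tACEL : IsScalarTower A C (E ⊗[K] L) := IsScalarTower.of_algebraMap_eq fun x =>
    (hφA x).symm
  haveI tC₀CEL : IsScalarTower C₀ C (E ⊗[K] L) := IsScalarTower.of_algebraMap_eq fun x =>
    (hφC₀ x).symm
  haveI tSCEL : IsScalarTower S C (E ⊗[K] L) := IsScalarTower.of_algebraMap_eq fun x =>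
    (φC.commutes x).symm
  -- pushouts
  haveI p1 : Algebra.IsPushout S K C₀ E := Algebra.IsPushout.symm inferInstance
  have p2 : Algebra.IsPushout S L C₀ (E ⊗[K] L) :=
    (Algebra.IsPushout.comp_iff S K C₀ E (T := L) (T' := E ⊗[K] L)).mpr inferInstance
  have p3 : Algebra.IsPushout A L C (E ⊗[K] L) :=
    (Algebra.IsPushout.comp_iff S A C₀ C (T := L) (T' := E ⊗[K] L)).mp p2
  haveI p4 : Algebra.IsPushout A C L (E ⊗[K] L) := p3.symm
  -- the prime
  let ψE' : E →ₐ[K] L := { ψE with commutes' := fun x => rfl }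
  let μ : (E ⊗[K] L) →ₐ[K] L :=
    Algebra.TensorProduct.lift ψE' (AlgHom.id K L) (fun _ _ => Commute.all _ _)
  have hμ : ∀ (e : E) (l : L), μ (e ⊗ₜ[K] l) = ψE e * l := fun e l => by
    change Algebra.TensorProduct.lift ψE' (AlgHom.id K L) _ (e ⊗ₜ[K] l) = _
    rw [Algebra.TensorProduct.lift_tmul]
    rfl
  let N : Ideal (E ⊗[K] L) := RingHom.ker μ.toRingHom
  haveI : N.IsPrime := RingHom.ker_isPrime _
  have hNn : N.comap (algebraMap E (E ⊗[K] L)) = n := by
    ext e
    rw [Ideal.mem_comap, ← hkE, RingHom.mem_ker]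
    change μ (algebraMap E (E ⊗[K] L) e) = 0 ↔ _
    rw [Algebra.TensorProduct.algebraMap_apply, Algebra.algebraMap_self_apply, hμ, mul_one,
      RingHom.mem_ker]
  have hμC : ∀ c : C, μ (algebraMap C (E ⊗[K] L) c) = ψC c := by
    let g₁ : C →ₐ[S] L := (μ.restrictScalars S).comp φC
    let g₂ : C →ₐ[S] L := { ψC with commutes' := fun x => (hSL x).symm }
    have hg : g₁ = g₂ := by
      apply Algebra.IsPushout.algHom_ext (R := S) (S := A) (R' := C₀) C
      · ext x
        change μ (φC (algebraMap C₀ C x)) = ψC (algebraMap C₀ C x)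
        rw [hφC₀, Algebra.TensorProduct.algebraMap_apply, hμ, mul_one, hcompat]
      · ext x
        change μ (φC (algebraMap A C x)) = ψC (algebraMap A C x)
        rw [hφA]
        change μ (algebraMap L (E ⊗[K] L) (algebraMap A L x)) = _
        rw [Algebra.TensorProduct.right_algebraMap_apply, hμ, map_one, one_mul]
        rfl
    intro c
    exact congrArg (fun g : C →ₐ[S] L => g c) hg
  have hNq : N.comap (algebraMap C (E ⊗[K] L)) = q := by
    ext c
    rw [Ideal.mem_comap, ← hkC, RingHom.mem_ker]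
    change μ (algebraMap C (E ⊗[K] L) c) = 0 ↔ _
    rw [hμC, RingHom.mem_ker]
  obtain ⟨u', hu', h0⟩ := hGR L (E ⊗[K] L) N hNq (algebraMap E (E ⊗[K] L) a) (ha.map _)
  rw [Algebra.TensorProduct.algebraMap_apply, Algebra.algebraMap_self_apply] at h0
  exact exists_notMem_mul_eq_zero_of_free n N hNn a u' hu' h0

/-- (L1) descent of geometric reducedness of a fibre along any base change. -/
theorem grAt_descend {S A C₀ C : Type u} [CommRing S] [CommRing A] [Algebra S A] [CommRing C₀]
    [Algebra S C₀] [CommRing C] [Algebra A C] [Algebra C₀ C] [Algebra S C] [IsScalarTower S A C]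
    [IsScalarTower S C₀ C] [Algebra.IsPushout S A C₀ C] (q : Ideal C) [q.IsPrime]
    (hGR : GRAt A q) : GRAt S (q.comap (algebraMap C₀ C)) := by
  intro K _ _ E _ _ _ _ _ _ _ n _ hn a ha
  obtain ⟨N₁, hN₁, hN₁E, hN₁C⟩ :=
    Groth.Agent.H10.DevX.exists_prime_tensor_liesOver C₀ E C n q hn
  haveI := hN₁
  let ψE : E →+* N₁.ResidueField := (algebraMap (E ⊗[C₀] C) N₁.ResidueField).comp
    (Algebra.TensorProduct.includeLeft : E →ₐ[C₀] E ⊗[C₀] C).toRingHom
  let ψC : C →+* N₁.ResidueField := (algebraMap (E ⊗[C₀] C) N₁.ResidueField).comp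
    (Algebra.TensorProduct.includeRight : C →ₐ[C₀] E ⊗[C₀] C).toRingHom
  have hcompat : ∀ c : C₀, ψE (algebraMap C₀ E c) = ψC (algebraMap C₀ C c) := by
    intro c
    change algebraMap (E ⊗[C₀] C) N₁.ResidueField
        ((Algebra.TensorProduct.includeLeft : E →ₐ[C₀] E ⊗[C₀] C) (algebraMap C₀ E c)) =
      algebraMap (E ⊗[C₀] C) N₁.ResidueField
        ((Algebra.TensorProduct.includeRight : C →ₐ[C₀] E ⊗[C₀] C) (algebraMap C₀ C c))
    rw [AlgHom.commutes, AlgHom.commutes]
  have hkE : RingHom.ker ψE = n := by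
    rw [← hN₁E, ← RingHom.comap_ker, Ideal.ker_algebraMap_residueField]
  have hkC : RingHom.ker ψC = q := by
    rw [← hN₁C, ← RingHom.comap_ker, Ideal.ker_algebraMap_residueField]
  exact core (S := S) (A := A) (C₀ := C₀) q hGR K E n N₁.ResidueField ψE ψC hcompat hkE hkC a ha

end Groth.Agent.H51.GRAtL1
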