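import Mathlib
import Groth.Agent.H11.GRAtDefs
import Groth.Agent.H51.GRAt_L1
import Groth.Agent.H2.GRAt_N1
import Groth.Agent.H48.FlatLimit6

set_option autoImplicit false
set_option linter.style.haveILetI false

universe u

open TensorProduct IsLocalRing
open Groth.Agent.H11.GRAtDefs

namespace Groth.Agent.H51.GRAtL2

/-- elementwise form of reducedness of a localization at a prime. -/
theorem isReduced_atPrime_iff {C : Type*} [CommRing C] (q : Ideal C) [q.IsPrime] :
    IsReduced (Localization.AtPrime q) ↔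
      ∀ c : C, (∃ t, t ∉ q ∧ ∃ N : ℕ, t * c ^ N = 0) → ∃ u, u ∉ q ∧ u * c = 0 := by
  constructor
  · intro hred c ⟨t, ht, N, h0⟩
    have h1 : (algebraMap C (Localization.AtPrime q) c) ^ N = 0 := by
      have hu : IsUnit (algebraMap C (Localization.AtPrime q) t) :=
        IsLocalization.map_units (Localization.AtPrime q) (⟨t, ht⟩ : q.primeCompl)
      have h2 : algebraMap C (Localization.AtPrime q) t *
          (algebraMap C (Localization.AtPrime q) c) ^ N = 0 := by
        rw [← map_pow, ← map_mul, h0, map_zero]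
      exact (hu.mul_right_eq_zero).mp h2
    have h3 : algebraMap C (Localization.AtPrime q) c = 0 := IsReduced.eq_zero _ ⟨N, h1⟩
    obtain ⟨m, hm⟩ := (IsLocalization.map_eq_zero_iff q.primeCompl _ c).mp h3
    exact ⟨m, m.2, hm⟩
  · intro H
    constructor
    intro x ⟨N, hx⟩
    obtain ⟨c, s, rfl⟩ := IsLocalization.exists_mk'_eq q.primeCompl x
    rw [← IsLocalization.mk'_pow, IsLocalization.mk'_eq_zero_iff] at hx
    obtain ⟨m, hm⟩ := hx
    obtain ⟨u, hu, huc⟩ := H c ⟨m, m.2, N, hm⟩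
    rw [IsLocalization.mk'_eq_zero_iff]
    exact ⟨⟨u, hu⟩, huc⟩

section Sub

variable {R₀ A B₀ : Type u} [CommRing R₀] [CommRing A] [Algebra R₀ A] [CommRing B₀]
  [Algebra R₀ B₀]

/-- (INJ) -/
theorem injective_map_val (S : Subalgebra R₀ A) [Module.Flat S (S ⊗[R₀] B₀)] :
    Function.Injective (Algebra.TensorProduct.map S.val (AlgHom.id R₀ B₀)) := by
  have h1 : Function.Injective ((Algebra.linearMap S A).rTensor (S ⊗[R₀] B₀)) :=
    Module.Flat.rTensor_preserves_injective_linearMap _ Subtype.val_injective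
  have key : ∀ x : S ⊗[R₀] B₀,
      AlgebraTensorModule.cancelBaseChange R₀ S S A B₀
        ((Algebra.linearMap S A).rTensor (S ⊗[R₀] B₀) ((TensorProduct.lid S _).symm x)) =
      Algebra.TensorProduct.map S.val (AlgHom.id R₀ B₀) x := by
    intro x
    induction x using TensorProduct.induction_on with
    | zero => simp
    | tmul s b =>
      rw [TensorProduct.lid_symm_apply, LinearMap.rTensor_tmul,
        AlgebraTensorModule.cancelBaseChange_tmul, Algebra.TensorProduct.map_tmul]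
      simp [Algebra.smul_def]
    | add x y hx hy => simp only [map_add, hx, hy]
  intro x y hxy
  rw [← key x, ← key y] at hxy
  exact (TensorProduct.lid S _).symm.injective (h1 ((AlgebraTensorModule.cancelBaseChange
    R₀ S S A B₀).injective hxy))

/-- (RANGE) -/
theorem exists_fg_mem_range (y : A ⊗[R₀] B₀) :
    ∃ S₁ : Subalgebra R₀ A, S₁.FG ∧ ∀ S : Subalgebra R₀ A, S₁ ≤ S →
      y ∈ Set.range (Algebra.TensorProduct.map S.val (AlgHom.id R₀ B₀)) := by
  induction y using TensorProduct.induction_on with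
  | zero => exact ⟨⊥, Subalgebra.fg_bot, fun S _ => ⟨0, map_zero _⟩⟩
  | tmul a b =>
    refine ⟨Algebra.adjoin R₀ {a}, ?_, fun S hS => ?_⟩
    · have := Subalgebra.fg_adjoin_finset (R := R₀) ({a} : Finset A)
      simpa using this
    have ha : a ∈ S := hS (Algebra.subset_adjoin (Set.mem_singleton a))
    exact ⟨(⟨a, ha⟩ : S) ⊗ₜ[R₀] b, by rw [Algebra.TensorProduct.map_tmul]; rfl⟩
  | add x y hx hy =>
    obtain ⟨S₁, hS₁, h₁⟩ := hx
    obtain ⟨S₂, hS₂, h₂⟩ := hy
    refine ⟨S₁ ⊔ S₂, hS₁.sup hS₂, fun S hS => ?_⟩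
    obtain ⟨x', rfl⟩ := h₁ S (le_sup_left.trans hS)
    obtain ⟨y', rfl⟩ := h₂ S (le_sup_right.trans hS)
    exact ⟨x' + y', map_add _ _ _⟩

end Sub

/-- the Noetherian hypothesis -/
def NoethCase : Prop :=
  ∀ (R' C' : Type u) [CommRing R'] [IsNoetherianRing R'] [CommRing C'] [Algebra R' C']
      [Algebra.FiniteType R' C'] [Module.Flat R' C'] (q' : Ideal C') [q'.IsPrime],
      IsReduced (Localization.AtPrime (q'.comap (algebraMap R' C'))) → GRAt R' q' →
      IsReduced (Localization.AtPrime q')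

set_option maxHeartbeats 1600000 in
set_option synthInstance.maxHeartbeats 200000 in
/-- Step 2+3 over a reduced base. -/
theorem core_A {A R₀ B₀ : Type u} [CommRing A] [IsReduced A] [CommRing R₀] [IsNoetherianRing R₀]
    [Algebra R₀ A] [CommRing B₀] [Algebra R₀ B₀] [Algebra.FiniteType R₀ B₀]
    [Module.Flat A (A ⊗[R₀] B₀)] (J : Ideal (A ⊗[R₀] B₀)) [J.IsPrime] (hGR : GRAt A J)
    (hN : NoethCase.{u}) :
    ∀ x : A ⊗[R₀] B₀, (∃ t, t ∉ J ∧ ∃ N : ℕ, t * x ^ N = 0) → ∃ u, u ∉ J ∧ u * x = 0 := by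
  obtain ⟨S₀, hS₀, hflat⟩ := Groth.Agent.H48.FlatLimit.exists_fg_flat (R₀ := R₀) B₀ A
  rintro x ⟨t, ht, N, h0⟩
  obtain ⟨S₁, hS₁, hx⟩ := exists_fg_mem_range (R₀ := R₀) (B₀ := B₀) x
  obtain ⟨S₂, hS₂, ht'⟩ := exists_fg_mem_range (R₀ := R₀) (B₀ := B₀) t
  let S : Subalgebra R₀ A := S₀ ⊔ S₁ ⊔ S₂
  have hSfg : S.FG := (hS₀.sup hS₁).sup hS₂
  haveI : Module.Flat S (S ⊗[R₀] B₀) := hflat S (le_sup_left.trans le_sup_left) hSfg
  have hinj := injective_map_val (B₀ := B₀) S
  obtain ⟨xS, rfl⟩ := hx S ((le_sup_right : S₁ ≤ S₀ ⊔ S₁).trans le_sup_left)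
  obtain ⟨tS, rfl⟩ := ht' S le_sup_right
  haveI : Algebra.FiniteType R₀ S := (Subalgebra.fg_iff_finiteType S).mp hSfg
  haveI : IsNoetherianRing S := Algebra.FiniteType.isNoetherianRing R₀ S
  haveI : IsReduced S := isReduced_of_injective S.val Subtype.val_injective
  -- the algebra structure `C_S → C_A`
  let ι : S ⊗[R₀] B₀ →ₐ[R₀] A ⊗[R₀] B₀ := Algebra.TensorProduct.map S.val (AlgHom.id R₀ B₀)
  letI algι : Algebra (S ⊗[R₀] B₀) (A ⊗[R₀] B₀) := ι.toRingHom.toAlgebra
  haveI tow : IsScalarTower S (S ⊗[R₀] B₀) (A ⊗[R₀] B₀) :=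
    IsScalarTower.of_algebraMap_eq fun s => by
      change _ = ι (algebraMap S (S ⊗[R₀] B₀) s)
      rw [Algebra.TensorProduct.algebraMap_apply, Algebra.TensorProduct.algebraMap_apply,
        Algebra.TensorProduct.map_tmul]
      rfl
  haveI push : Algebra.IsPushout S A (S ⊗[R₀] B₀) (A ⊗[R₀] B₀) :=
    Algebra.IsPushout.tensorProduct_tensorProduct R₀ B₀ S A (by
      ext b
      change ι ((1 : S) ⊗ₜ[R₀] b) = (1 : A) ⊗ₜ[R₀] b
      rw [Algebra.TensorProduct.map_tmul]
      rfl)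
  -- descend `GRAt`
  have hGRS : GRAt S (J.comap (algebraMap (S ⊗[R₀] B₀) (A ⊗[R₀] B₀))) :=
    Groth.Agent.H51.GRAtL1.grAt_descend (S := S) (A := A) (C₀ := S ⊗[R₀] B₀) J hGR
  haveI : (J.comap (algebraMap (S ⊗[R₀] B₀) (A ⊗[R₀] B₀))).IsPrime := Ideal.IsPrime.comap _
  have hred : IsReduced (Localization.AtPrime
      ((J.comap (algebraMap (S ⊗[R₀] B₀) (A ⊗[R₀] B₀))).comap
        (algebraMap S (S ⊗[R₀] B₀)))) := inferInstance
  have hredC := hN S (S ⊗[R₀] B₀) (J.comap (algebraMap (S ⊗[R₀] B₀) (A ⊗[R₀] B₀))) hred hGRS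
  have htS : tS ∉ J.comap (algebraMap (S ⊗[R₀] B₀) (A ⊗[R₀] B₀)) := ht
  have h0S : tS * xS ^ N = 0 := by
    apply hinj
    rw [map_mul, map_pow, map_zero]
    exact h0
  obtain ⟨uS, huS, hux⟩ := (isReduced_atPrime_iff _).mp hredC xS ⟨tS, htS, N, h0S⟩
  refine ⟨ι uS, huS, ?_⟩
  change ι uS * ι xS = 0
  rw [← map_mul, hux, map_zero]

attribute [local instance] Algebra.TensorProduct.rightAlgebra

set_option maxHeartbeats 1600000 in
set_option synthInstance.maxHeartbeats 200000 in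
/-- transfer along an `A`-algebra isomorphism `A ⊗[R₀] B₀ ≃ D`. -/
theorem core_fp_aux {A D R₀ B₀ : Type u} [CommRing A] [IsReduced A] [CommRing D] [Algebra A D]
    [Module.Flat A D] [CommRing R₀] [IsNoetherianRing R₀] [Algebra R₀ A] [CommRing B₀]
    [Algebra R₀ B₀] [Algebra.FiniteType R₀ B₀] (e₀ : A ⊗[R₀] B₀ ≃ₐ[A] D)
    (J : Ideal D) [J.IsPrime] (hGR : GRAt A J) (hN : NoethCase.{u}) :
    ∀ x : D, (∃ t, t ∉ J ∧ ∃ N : ℕ, t * x ^ N = 0) → ∃ u, u ∉ J ∧ u * x = 0 := by
  haveI : Module.Flat A (A ⊗[R₀] B₀) := Module.Flat.of_linearEquiv e₀.toLinearEquiv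
  let J' : Ideal (A ⊗[R₀] B₀) := J.comap e₀.toRingHom
  haveI : J'.IsPrime := Ideal.IsPrime.comap _
  -- transfer GRAt
  let ε : D →ₐ[A] A ⊗[R₀] B₀ := e₀.symm.toAlgHom
  letI algDE : Algebra D (A ⊗[R₀] B₀) := ε.toRingHom.toAlgebra
  haveI tADE : IsScalarTower A D (A ⊗[R₀] B₀) :=
    IsScalarTower.of_algebraMap_eq fun a => (e₀.symm.commutes a).symm
  haveI push : Algebra.IsPushout A D A (A ⊗[R₀] B₀) := by
    let e : D ≃ₐ[D] (A ⊗[R₀] B₀) :=
      AlgEquiv.ofRingEquiv (f := e₀.symm.toRingEquiv) (fun x => rfl)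
    exact Algebra.IsPushout.of_equiv (R := A) (R' := D) (S := A) (S' := D) e (by
      ext a
      exact e₀.symm.commutes a)
  have hJ' : J'.comap (algebraMap D (A ⊗[R₀] B₀)) = J := by
    ext d
    change e₀ (e₀.symm d) ∈ J ↔ _
    rw [AlgEquiv.apply_symm_apply]
  have hGR' : GRAt A J' := Groth.Agent.H2.GRAtN1.grAt_baseChange (R := A) (C := D) (V := A)
    (E := A ⊗[R₀] B₀) J hGR J' hJ'
  have H := core_A (R₀ := R₀) (B₀ := B₀) J' hGR' hN
  rintro x ⟨t, ht, N, h0⟩
  have ht' : e₀.symm t ∉ J' := by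
    change e₀ (e₀.symm t) ∉ J
    rw [AlgEquiv.apply_symm_apply]
    exact ht
  obtain ⟨u', hu', hux⟩ := H (e₀.symm x) ⟨e₀.symm t, ht', N, by
    rw [← map_pow, ← map_mul, h0, map_zero]⟩
  refine ⟨e₀ u', hu', ?_⟩
  have := congrArg e₀ hux
  rwa [map_mul, AlgEquiv.apply_symm_apply, map_zero] at this

/-- Step 2+3 for a f.p. flat algebra over a reduced base, elementwise form. -/
theorem core_fp {A D : Type u} [CommRing A] [IsReduced A] [CommRing D] [Algebra A D]
    [Algebra.FinitePresentation A D] [Module.Flat A D] (J : Ideal D) [J.IsPrime]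
    (hGR : GRAt A J) (hN : NoethCase.{u}) :
    ∀ x : D, (∃ t, t ∉ J ∧ ∃ N : ℕ, t * x ^ N = 0) → ∃ u, u ∉ J ∧ u * x = 0 := by
  let P := Algebra.Presentation.ofFinitePresentation A D
  haveI : IsNoetherianRing P.Core := Algebra.FiniteType.isNoetherianRing ℤ P.Core
  exact core_fp_aux (R₀ := P.Core) (B₀ := P.ModelOfHasCoeffs P.Core)
    (P.tensorModelOfHasCoeffsEquiv P.Core) J hGR hN

set_option maxHeartbeats 1600000 in
set_option synthInstance.maxHeartbeats 200000 in
/-- (L2) -/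
theorem isReduced_of_flat_of_grAt {R C : Type u} [CommRing R] [CommRing C] [Algebra R C]
    [Algebra.FinitePresentation R C] [Module.Flat R C] (q : Ideal C) [q.IsPrime]
    (hR : IsReduced (Localization.AtPrime (q.comap (algebraMap R C)))) (hGR : GRAt R q)
    (hN : ∀ (R' C' : Type u) [CommRing R'] [IsNoetherianRing R'] [CommRing C'] [Algebra R' C']
      [Algebra.FiniteType R' C'] [Module.Flat R' C'] (q' : Ideal C') [q'.IsPrime],
      IsReduced (Localization.AtPrime (q'.comap (algebraMap R' C'))) → GRAt R' q' →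
      IsReduced (Localization.AtPrime q')) :
    IsReduced (Localization.AtPrime q) := by
  rw [isReduced_atPrime_iff]
  rintro c ⟨t, ht, N, h0⟩
  haveI := hR
  -- base change to `A := R_p`
  haveI hpprime : (q.comap (algebraMap R C)).IsPrime := Ideal.IsPrime.comap _
  obtain ⟨J₀, hJ₀, -, hJ₀C⟩ := Groth.Agent.H10.DevX.exists_prime_tensor_liesOver R
    (Localization.AtPrime (q.comap (algebraMap R C))) C
    (maximalIdeal (Localization.AtPrime (q.comap (algebraMap R C)))) q
    (IsLocalization.AtPrime.under_maximalIdeal _ _)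
  haveI := hJ₀
  have hJ₀C' : J₀.comap (algebraMap C
      (Localization.AtPrime (q.comap (algebraMap R C)) ⊗[R] C)) = q := hJ₀C
  have hGRA : GRAt (Localization.AtPrime (q.comap (algebraMap R C))) J₀ :=
    Groth.Agent.H2.GRAtN1.grAt_baseChange (R := R) (C := C)
      (V := Localization.AtPrime (q.comap (algebraMap R C)))
      (E := Localization.AtPrime (q.comap (algebraMap R C)) ⊗[R] C) q hGR J₀ hJ₀C'
  have H := core_fp (A := Localization.AtPrime (q.comap (algebraMap R C)))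
    (D := Localization.AtPrime (q.comap (algebraMap R C)) ⊗[R] C) J₀ hGRA hN
  have ht' : (1 : Localization.AtPrime (q.comap (algebraMap R C))) ⊗ₜ[R] t ∉ J₀ := by
    intro hmem
    apply ht
    rw [← hJ₀C']
    exact hmem
  obtain ⟨u', hu', hux⟩ := H ((1 : Localization.AtPrime (q.comap (algebraMap R C))) ⊗ₜ[R] c)
    ⟨_, ht', N, by
      rw [Algebra.TensorProduct.tmul_pow, one_pow, Algebra.TensorProduct.tmul_mul_tmul, one_mul,
        h0, TensorProduct.tmul_zero]⟩
  -- descend to `C`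
  haveI : IsLocalizedModule (q.comap (algebraMap R C)).primeCompl
      (TensorProduct.mk R (Localization.AtPrime (q.comap (algebraMap R C))) C 1) :=
    (isLocalizedModule_iff_isBaseChange (q.comap (algebraMap R C)).primeCompl
      (Localization.AtPrime (q.comap (algebraMap R C))) _).mpr
      (TensorProduct.isBaseChange R C (Localization.AtPrime (q.comap (algebraMap R C))))
  obtain ⟨⟨c', s⟩, hs⟩ := IsLocalizedModule.surj (q.comap (algebraMap R C)).primeCompl
    (TensorProduct.mk R (Localization.AtPrime (q.comap (algebraMap R C))) C 1) u'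
  have hs' : (1 : Localization.AtPrime (q.comap (algebraMap R C))) ⊗ₜ[R] c' =
      ((1 : Localization.AtPrime (q.comap (algebraMap R C))) ⊗ₜ[R] (algebraMap R C s)) * u' := by
    have h2 : (s : R) • u' = (1 : Localization.AtPrime (q.comap (algebraMap R C))) ⊗ₜ[R] c' := hs
    rw [← h2]
    calc (s : R) • u' = (s : R) • ((1 : Localization.AtPrime (q.comap (algebraMap R C)) ⊗[R] C)
          * u') := by rw [one_mul]
      _ = ((s : R) • (1 : Localization.AtPrime (q.comap (algebraMap R C)) ⊗[R] C)) * u' :=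
          (smul_mul_assoc _ _ _).symm
      _ = _ := by
          rw [Algebra.TensorProduct.one_def, ← TensorProduct.tmul_smul,
            ← Algebra.algebraMap_eq_smul_one]
  have hsq : algebraMap R C s ∉ q := fun h => s.2 h
  have hc'q : c' ∉ q := by
    intro hc'
    have h3 : (1 : Localization.AtPrime (q.comap (algebraMap R C))) ⊗ₜ[R] c' ∈ J₀ := by
      rw [← hJ₀C'] at hc'
      exact hc'
    rw [hs'] at h3
    rcases hJ₀.mem_or_mem h3 with h | h
    · have h4 : algebraMap R C s ∈ J₀.comap (algebraMap C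
          (Localization.AtPrime (q.comap (algebraMap R C)) ⊗[R] C)) := h
      rw [hJ₀C'] at h4
      exact hsq h4
    · exact hu' h
  have h1 : (1 : Localization.AtPrime (q.comap (algebraMap R C))) ⊗ₜ[R] (c' * c) = 0 := by
    have : (1 : Localization.AtPrime (q.comap (algebraMap R C))) ⊗ₜ[R] (c' * c) =
        ((1 : Localization.AtPrime (q.comap (algebraMap R C))) ⊗ₜ[R] c') *
          ((1 : Localization.AtPrime (q.comap (algebraMap R C))) ⊗ₜ[R] c) := by
      rw [Algebra.TensorProduct.tmul_mul_tmul, one_mul]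
    rw [this, hs', mul_assoc, hux, mul_zero]
  obtain ⟨s', hs0⟩ := (IsLocalizedModule.eq_zero_iff (q.comap (algebraMap R C)).primeCompl
    (TensorProduct.mk R (Localization.AtPrime (q.comap (algebraMap R C))) C 1)).mp h1
  have hs0' : (s' : R) • (c' * c) = 0 := hs0
  refine ⟨algebraMap R C s' * c', ?_, ?_⟩
  · intro hmem
    rcases (inferInstance : q.IsPrime).mem_or_mem hmem with h | h
    · exact s'.2 h
    · exact hc'q h
  · rw [mul_assoc, ← Algebra.smul_def]
    exact hs0'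

end Groth.Agent.H51.GRAtL2
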