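import Mathlib

/-!
# QCBC pure-algebra pieces (ALG1) for helper32: common machinery + `mem_of_forall_mem_span`
-/

set_option autoImplicit false
universe u
open CategoryTheory Limits TensorProduct

namespace Groth.Agent.H51.QCBC_ALG1

noncomputable abbrev bc {A : Type u} {B : Type u} [CommRing A] [CommRing B] (φ : A →+* B)
    {I : Type u} (c : I →₀ A) : I →₀ B := Finsupp.mapRange φ (map_zero _) c

lemma exact_lTensor_subtype_mkQ {A : Type u} [CommRing A] {M : Type u} [AddCommGroup M]
    [Module A M] (K : Submodule A M) (C : Type u) [AddCommGroup C] [Module A C] :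
    Function.Exact (K.subtype.lTensor C) (K.mkQ.lTensor C) := by
  have hex0 : Function.Exact K.subtype K.mkQ := LinearMap.exact_subtype_mkQ K
  exact lTensor_exact _ hex0 (Submodule.mkQ_surjective K)

section Theta

variable {A : Type u} [CommRing A] {I : Type u} (K : Submodule A (I →₀ A))
variable (C : Type u) [CommRing C] [Algebra A C]

/-- `Θ_C v = Σ_i v_i ⊗ [e_i]`. -/
noncomputable def Θ : (I →₀ C) →ₗ[C] C ⊗[A] ((I →₀ A) ⧸ K) :=
  Finsupp.linearCombination C (fun i => (1 : C) ⊗ₜ[A] K.mkQ (Finsupp.single i 1))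

lemma Θ_single (i : I) (c : C) :
    Θ K C (Finsupp.single i c) = c ⊗ₜ[A] K.mkQ (Finsupp.single i 1) := by
  rw [Θ, Finsupp.linearCombination_single, TensorProduct.smul_tmul', smul_eq_mul, mul_one]

lemma Θ_bc (p : I →₀ A) : Θ K C (bc (algebraMap A C) p) = (1 : C) ⊗ₜ[A] K.mkQ p := by
  induction p using Finsupp.induction_linear with
  | zero => simp [bc]
  | add p q hp hq =>
    have : bc (algebraMap A C) (p + q) = bc (algebraMap A C) p + bc (algebraMap A C) q :=
      Finsupp.mapRange_add (map_add _) p q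
    rw [this, map_add, hp, hq, map_add, TensorProduct.tmul_add]
  | single i r =>
    have : bc (algebraMap A C) (Finsupp.single i r) = Finsupp.single i (algebraMap A C r) :=
      Finsupp.mapRange_single
    rw [this, Θ_single, Algebra.algebraMap_eq_smul_one, TensorProduct.smul_tmul, ← map_smul,
      Finsupp.smul_single, smul_eq_mul, mul_one]

variable {C} in
lemma Θ_map {C' : Type u} [CommRing C'] [Algebra A C'] (ψ : C →ₐ[A] C') (v : I →₀ C) :
    Θ K C' (bc (ψ : C →+* C') v) = (ψ.toLinearMap.rTensor _) (Θ K C v) := by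
  induction v using Finsupp.induction_linear with
  | zero => simp [bc]
  | add p q hp hq =>
    have : bc (ψ : C →+* C') (p + q) = bc (ψ : C →+* C') p + bc (ψ : C →+* C') q :=
      Finsupp.mapRange_add (map_add _) p q
    rw [this, map_add, hp, hq, map_add, map_add]
  | single i r =>
    have : bc (ψ : C →+* C') (Finsupp.single i r) = Finsupp.single i (ψ r) :=
      Finsupp.mapRange_single
    rw [this, Θ_single, Θ_single, LinearMap.rTensor_tmul]
    rfl

lemma Θ_eq_zero_of_mem {v : I →₀ C}
    (hv : v ∈ Submodule.span C (bc (algebraMap A C) '' (K : Set (I →₀ A)))) : Θ K C v = 0 := by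
  induction hv using Submodule.span_induction with
  | mem x hx =>
    obtain ⟨k, hk, rfl⟩ := hx
    rw [Θ_bc, Submodule.mkQ_apply, (Submodule.Quotient.mk_eq_zero K).mpr hk,
      TensorProduct.tmul_zero]
  | zero => simp
  | add x y _ _ hx hy => rw [map_add, hx, hy, add_zero]
  | smul c x _ hx => rw [map_smul, hx, smul_zero]

open scoped Classical

lemma e_one_tmul (p : I →₀ A) :
    TensorProduct.finsuppScalarRight A C C I ((1 : C) ⊗ₜ[A] p) = bc (algebraMap A C) p := by
  ext i
  rw [TensorProduct.finsuppScalarRight_apply_tmul_apply, Finsupp.mapRange_apply,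
    Algebra.algebraMap_eq_smul_one]

lemma e_tmul (c : C) (p : I →₀ A) :
    TensorProduct.finsuppScalarRight A C C I (c ⊗ₜ[A] p) = c • bc (algebraMap A C) p := by
  rw [← e_one_tmul, ← map_smul, TensorProduct.smul_tmul', smul_eq_mul, mul_one]

lemma Θ_e (t : C ⊗[A] (I →₀ A)) :
    Θ K C (TensorProduct.finsuppScalarRight A C C I t) = (K.mkQ.lTensor C) t := by
  induction t using TensorProduct.induction_on with
  | zero => simp
  | tmul c p =>
    rw [e_tmul, map_smul, Θ_bc, LinearMap.lTensor_tmul, TensorProduct.smul_tmul', smul_eq_mul,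
      mul_one]
  | add x y hx hy => rw [map_add, map_add, hx, hy, map_add]

lemma mem_of_Θ_eq_zero {v : I →₀ C} (hv : Θ K C v = 0) :
    v ∈ Submodule.span C (bc (algebraMap A C) '' (K : Set (I →₀ A))) := by
  set e := TensorProduct.finsuppScalarRight A C C I with he
  have h1 : (K.mkQ.lTensor C) (e.symm v) = 0 := by
    rw [← Θ_e, LinearEquiv.apply_symm_apply, hv]
  have hex : Function.Exact (K.subtype.lTensor C) (K.mkQ.lTensor C) :=
    exact_lTensor_subtype_mkQ K C
  obtain ⟨s, hs⟩ := (hex (e.symm v)).mp h1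
  have hv' : v = e ((K.subtype.lTensor C) s) := by rw [hs, LinearEquiv.apply_symm_apply]
  rw [hv']
  clear hv' hs h1 hv
  induction s using TensorProduct.induction_on with
  | zero => simp
  | tmul c k =>
    rw [LinearMap.lTensor_tmul, he, e_tmul]
    exact Submodule.smul_mem _ _ (Submodule.subset_span ⟨k.1, k.2, rfl⟩)
  | add x y hx hy =>
    rw [map_add, map_add]
    exact Submodule.add_mem _ hx hy

end Theta

section Pi

variable {A : Type u} [CommRing A] {ι : Type} [Fintype ι] [DecidableEq ι]
  (M : ι → Type u) [∀ i, AddCommGroup (M i)] [∀ i, Module A (M i)]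
  (N : Type u) [AddCommGroup N] [Module A N]

lemma sum_single_comp_proj :
    ∑ i, (LinearMap.single A M i).comp (LinearMap.proj i) = LinearMap.id := by
  ext x j
  simp [LinearMap.sum_apply, Finset.sum_apply, Pi.single_apply]

lemma sum_rTensor_single_proj (t : (∀ i, M i) ⊗[A] N) :
    ∑ i, (LinearMap.single A M i).rTensor N ((LinearMap.proj i).rTensor N t) = t := by
  have h : ∑ i, ((LinearMap.single A M i).comp (LinearMap.proj i)).rTensor N =
      LinearMap.id := by
    rw [← LinearMap.rTensor_id, ← sum_single_comp_proj M]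
    exact (map_sum (LinearMap.rTensorHom N) _ _).symm
  have := congr_arg (fun f => f t) h
  simp only [LinearMap.sum_apply, LinearMap.id_apply, LinearMap.rTensor_comp,
    LinearMap.comp_apply] at this
  exact this

lemma eq_zero_of_forall_proj (t : (∀ i, M i) ⊗[A] N)
    (h : ∀ i, (LinearMap.proj i : (∀ i, M i) →ₗ[A] M i).rTensor N t = 0) : t = 0 := by
  rw [← sum_rTensor_single_proj M N t]
  exact Finset.sum_eq_zero (fun i _ => by rw [h i, map_zero])

lemma exists_of_components (y : ∀ i, M i ⊗[A] N) :
    ∃ t : (∀ i, M i) ⊗[A] N, ∀ i, (LinearMap.proj i).rTensor N t = y i := by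
  refine ⟨∑ i, (LinearMap.single A M i).rTensor N (y i), fun j => ?_⟩
  rw [map_sum]
  rw [Finset.sum_eq_single j]
  · rw [← LinearMap.comp_apply, ← LinearMap.rTensor_comp]
    have : (LinearMap.proj j).comp (LinearMap.single A M j) = LinearMap.id := by
      ext x; simp
    rw [this, LinearMap.rTensor_id, LinearMap.id_apply]
  · intro i _ hij
    rw [← LinearMap.comp_apply, ← LinearMap.rTensor_comp]
    have : (LinearMap.proj j).comp (LinearMap.single A M i) = 0 := by
      ext x; simp [Pi.single_apply, hij]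
    rw [this, LinearMap.rTensor_zero, LinearMap.zero_apply]
  · intro h; exact absurd (Finset.mem_univ j) h

end Pi

section FF

variable {A : Type u} [CommRing A] {n : ℕ} (B : Fin n → Type u) [∀ a, CommRing (B a)]
  [∀ a, Algebra A (B a)] [∀ a, Module.Flat A (B a)]

instance flat_pi : Module.Flat A (∀ a, B a) := by
  have e : (Π₀ a, B a) ≃ₗ[A] (∀ a, B a) := DFinsupp.linearEquivFunOnFintype
  exact Module.Flat.of_linearEquiv e.symm

include B in
lemma faithfullyFlat_pi
    (hsurj : ∀ p : PrimeSpectrum A, ∃ a,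
      p ∈ Set.range (PrimeSpectrum.comap (algebraMap A (B a)))) :
    Module.FaithfullyFlat A (∀ a, B a) := by
  apply Module.FaithfullyFlat.of_comap_surjective
  intro p
  obtain ⟨a, q, hq⟩ := hsurj p
  refine ⟨PrimeSpectrum.comap (Pi.evalRingHom B a) q, ?_⟩
  rw [← hq]
  ext x
  simp only [PrimeSpectrum.comap_asIdeal, Ideal.mem_comap]
  rfl

end FF

variable {A : Type u} [CommRing A] {n : ℕ} (B : Fin n → Type u) [∀ a, CommRing (B a)]
  [∀ a, Algebra A (B a)] [∀ a, Module.Flat A (B a)]

/-- an element of a module dying in every `B a ⊗ Q` is zero -/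
lemma eq_zero_of_forall_tmul_eq_zero
    (hsurj : ∀ p : PrimeSpectrum A, ∃ a,
      p ∈ Set.range (PrimeSpectrum.comap (algebraMap A (B a))))
    (Q : Type u) [AddCommGroup Q] [Module A Q] (x : Q)
    (h : ∀ a, (1 : B a) ⊗ₜ[A] x = 0) : x = 0 := by
  have := faithfullyFlat_pi B hsurj
  apply Module.FaithfullyFlat.tensorProduct_mk_injective (A := A) (B := ∀ a, B a) Q
  rw [map_zero]
  apply eq_zero_of_forall_proj B Q
  intro a
  rw [TensorProduct.mk_apply, LinearMap.rTensor_tmul]
  exact h a

theorem mem_of_forall_mem_span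
    (hsurj : ∀ p : PrimeSpectrum A, ∃ a,
      p ∈ Set.range (PrimeSpectrum.comap (algebraMap A (B a))))
    {I : Type u} (K : Submodule A (I →₀ A)) (c : I →₀ A)
    (hc : ∀ a, bc (algebraMap A (B a)) c ∈
      Submodule.span (B a) (bc (algebraMap A (B a)) '' (K : Set (I →₀ A)))) : c ∈ K := by
  rw [← Submodule.Quotient.mk_eq_zero K]
  apply eq_zero_of_forall_tmul_eq_zero B hsurj
  intro a
  have := Θ_eq_zero_of_mem K (B a) (hc a)
  rwa [Θ_bc] at this

end Groth.Agent.H51.QCBC_ALG1
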