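import Mathlib
import Groth.Agent.S0389
import Groth.Agent.H57.RelAssGen.Defs
import Groth.Agent.H58.RA_NOE
import Groth.Agent.H58.RA_ASS

set_option autoImplicit false
set_option linter.style.haveILetI false

universe u

open Groth.Agent.H57.RelAssGen
open TensorProduct

namespace Groth.Agent.H51.RA_B1

/-! ### general lemmas -/

/-- membership in `𝔭 • ⊤` descends along a localization up to a denominator. -/
theorem exists_smul_mem_of_map_mem {R : Type*} [CommRing R] (S : Submonoid R) {X X' : Type*}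
    [AddCommGroup X] [Module R X] [AddCommGroup X'] [Module R X'] (f : X →ₗ[R] X')
    [IsLocalizedModule S f] (𝔭 : Ideal R) (z : X) (hz : f z ∈ 𝔭 • (⊤ : Submodule R X')) :
    ∃ s ∈ S, s • z ∈ 𝔭 • (⊤ : Submodule R X) := by
  have h1 : 𝔭 • (⊤ : Submodule R X') = (𝔭 • (⊤ : Submodule R X)).localized₀ S f := by
    rw [Submodule.localized₀_smul, Submodule.localized₀_top]
  rw [h1, Submodule.mem_localized₀] at hz
  obtain ⟨m, hm, s, hms⟩ := hz
  have h2 : f m = f ((s : R) • z) := by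
    rw [LinearMap.map_smul, ← hms]
    exact (IsLocalizedModule.mk'_cancel' f m s).symm
  obtain ⟨t, ht⟩ := (IsLocalizedModule.eq_iff_exists S f).mp h2
  refine ⟨t * s, (t * s).2, ?_⟩
  have h3 : ((t : R) * (s : R)) • z = (t : R) • m := by
    rw [mul_smul]
    exact ht.symm
  change ((t : R) * (s : R)) • z ∈ _
  rw [h3]
  exact Submodule.smul_mem _ _ hm

/-- elements of `𝔭 • ⊤` die in `(A ⧸ 𝔭) ⊗ -` after any linear map. -/
theorem one_tmul_map_eq_zero {R : Type*} [CommRing R] {X Y : Type*} [AddCommGroup X] [Module R X]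
    [AddCommGroup Y] [Module R Y] (φ : X →ₗ[R] Y) (𝔭 : Ideal R) (z : X)
    (hz : z ∈ 𝔭 • (⊤ : Submodule R X)) : (1 : R ⧸ 𝔭) ⊗ₜ[R] φ z = 0 := by
  refine Submodule.smul_induction_on hz ?_ ?_
  · intro r hr n _
    rw [map_smul, TensorProduct.tmul_smul, TensorProduct.smul_tmul']
    have : r • (1 : R ⧸ 𝔭) = 0 := by
      rw [Algebra.smul_def, mul_one]
      exact Ideal.Quotient.eq_zero_iff_mem.mpr hr
    rw [this, TensorProduct.zero_tmul]
  · intro x y hx hy
    rw [map_add, TensorProduct.tmul_add, hx, hy, add_zero]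

/-- `1 ⊗ x = 0` in `(R ⧸ 𝔭) ⊗ X` implies `x ∈ 𝔭 X`. -/
theorem mem_smul_top_of_one_tmul_eq_zero {R : Type*} [CommRing R] {X : Type*} [AddCommGroup X]
    [Module R X] (𝔭 : Ideal R) (x : X) (hx : (1 : R ⧸ 𝔭) ⊗ₜ[R] x = 0) :
    x ∈ 𝔭 • (⊤ : Submodule R X) := by
  have h := congrArg (TensorProduct.quotTensorEquivQuotSMul X 𝔭) hx
  rw [map_zero] at h
  have h2 : TensorProduct.quotTensorEquivQuotSMul X 𝔭 ((1 : R ⧸ 𝔭) ⊗ₜ[R] x) =
      Submodule.Quotient.mk ((1 : R) • x) :=
    TensorProduct.quotTensorEquivQuotSMul_mk_tmul 𝔭 1 x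
  rw [h2, one_smul, Submodule.Quotient.mk_eq_zero] at h
  exact h

/-- Step II (purity): if `(M ⧸ N)_{a₂}` is `A`-flat and `z ∈ N ∩ 𝔭 M`, then `a₂ ^ n • z ∈ 𝔭 N`. -/
theorem exists_pow_smul_mem_of_flat_quot {A : Type u} [CommRing A] {M : Type u} [AddCommGroup M]
    [Module A M] (N : Submodule A M) (a₂ : A)
    (hflat : Module.Flat A (Localization.Away a₂ ⊗[A] (M ⧸ N))) (𝔭 : Ideal A) (z : N)
    (hz : (z : M) ∈ 𝔭 • (⊤ : Submodule A M)) :
    ∃ n : ℕ, a₂ ^ n • z ∈ 𝔭 • (⊤ : Submodule A N) := by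
  have hex : Function.Exact N.subtype N.mkQ := LinearMap.exact_subtype_mkQ N
  have hinj : Function.Injective (N.subtype.lTensor (Localization.Away a₂)) :=
    Module.Flat.lTensor_preserves_injective_linearMap _ N.injective_subtype
  have hex' : Function.Exact (N.subtype.lTensor (Localization.Away a₂))
      (N.mkQ.lTensor (Localization.Away a₂)) :=
    lTensor_exact _ hex (Submodule.mkQ_surjective N)
  have hsurj : Function.Surjective (N.mkQ.lTensor (Localization.Away a₂)) :=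
    LinearMap.lTensor_surjective _ (Submodule.mkQ_surjective N)
  have key := LinearMap.lTensor_injective_of_exact_of_flat (N.mkQ.lTensor (Localization.Away a₂))
    hsurj (N.subtype.lTensor (Localization.Away a₂)) hinj hex' (A ⧸ 𝔭)
  have h0 : (N.subtype.lTensor (Localization.Away a₂)).lTensor (A ⧸ 𝔭)
      ((1 : A ⧸ 𝔭) ⊗ₜ[A] ((1 : Localization.Away a₂) ⊗ₜ[A] z)) = 0 := by
    rw [LinearMap.lTensor_tmul, LinearMap.lTensor_tmul]
    exact one_tmul_map_eq_zero (TensorProduct.mk A (Localization.Away a₂) M 1) 𝔭 _ hz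
  have h1 : (1 : A ⧸ 𝔭) ⊗ₜ[A] ((1 : Localization.Away a₂) ⊗ₜ[A] z) = 0 :=
    key (by rw [h0, map_zero])
  have h2 := mem_smul_top_of_one_tmul_eq_zero 𝔭 _ h1
  haveI : IsLocalizedModule (Submonoid.powers a₂)
      (TensorProduct.mk A (Localization.Away a₂) N 1) :=
    (isLocalizedModule_iff_isBaseChange (Submonoid.powers a₂) (Localization.Away a₂) _).mpr
      (TensorProduct.isBaseChange A N (Localization.Away a₂))
  obtain ⟨s, ⟨n, hn⟩, hs⟩ := exists_smul_mem_of_map_mem (Submonoid.powers a₂)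
    (TensorProduct.mk A (Localization.Away a₂) N 1) 𝔭 z h2
  have hn' : a₂ ^ n = s := hn
  exact ⟨n, by rw [hn']; exact hs⟩

section Domain

variable {A B M : Type u} [CommRing A] [IsDomain A] [CommRing B] [Algebra A B]
  [Algebra.FiniteType A B] [AddCommGroup M] [Module B M] [Module A M] [IsScalarTower A B M]
  [Module.Finite B M]

/-- Step 0: a `g ∈ J` which is a nonzerodivisor on the generic fibre. -/
theorem exists_regular (J : Ideal B)
    (h : ∀ q : Ideal B, q.IsPrime → q.comap (algebraMap A B) = ⊥ → SocAt (fibI A q) q M →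
      ¬ J ≤ q) :
    ∃ g ∈ J, ∀ m : M, g • m = 0 → ∃ a₀ : A, a₀ ≠ 0 ∧ a₀ • m = 0 := by
  classical
  let T := Algebra.algebraMapSubmonoid B (nonZeroDivisors A)
  haveI : IsNoetherianRing (Localization T) := Groth.Agent.H58.RA_NOE.isNoetherianRing_localization_generic A B
  haveI : Module.Finite (Localization T) (LocalizedModule T M) :=
    Module.Finite.of_isLocalizedModule T (LocalizedModule.mkLinearMap T M)
  have hfin : (associatedPrimes (Localization T) (LocalizedModule T M)).Finite :=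
    associatedPrimes.finite _ _
  have hprime : ∀ P ∈ hfin.toFinset, P ≠ ⊤ → P ≠ ⊤ →
      (P.comap (algebraMap B (Localization T))).IsPrime := by
    intro P hP _ _
    rw [Set.Finite.mem_toFinset] at hP
    haveI := IsAssociatedPrime.isPrime hP
    exact Ideal.IsPrime.comap _
  have hav : ¬ ((J : Set B) ⊆ ⋃ P ∈ (hfin.toFinset : Set (Ideal (Localization T))),
      ((P.comap (algebraMap B (Localization T)) : Ideal B) : Set B)) := by
    rw [Ideal.subset_union_prime ⊤ ⊤ hprime]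
    rintro ⟨P, hP, hJP⟩
    rw [Set.Finite.mem_toFinset] at hP
    haveI := IsAssociatedPrime.isPrime hP
    obtain ⟨h1, h2⟩ := Groth.Agent.H58.RA_ASS.socAt_of_mem_associatedPrimes (A := A) (B := B) (M := M) P hP
    refine h (P.comap (algebraMap B (Localization T))) (Ideal.IsPrime.comap _) h1 ?_ hJP
    have : fibI A (P.comap (algebraMap B (Localization T))) = ⊥ := by
      unfold fibI
      rw [h1, Ideal.map_bot]
    rw [this]
    exact h2
  obtain ⟨g, hgJ, hg⟩ := Set.not_subset.mp hav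
  refine ⟨g, hgJ, fun m hm => ?_⟩
  by_cases hx : LocalizedModule.mkLinearMap T M m = 0
  · obtain ⟨c, hc⟩ := (IsLocalizedModule.eq_zero_iff T (LocalizedModule.mkLinearMap T M)).mp hx
    obtain ⟨a₀, ha₀, hca⟩ := c.2
    refine ⟨a₀, nonZeroDivisors.ne_zero ha₀, ?_⟩
    rw [← algebraMap_smul B a₀ m, hca]
    exact hc
  · exfalso
    have h0 : algebraMap B (Localization T) g • LocalizedModule.mkLinearMap T M m = 0 := by
      rw [algebraMap_smul, ← map_smul, hm, map_zero]
    have hmem : algebraMap B (Localization T) g ∈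
        {r : Localization T | ∃ x : LocalizedModule T M, x ≠ 0 ∧ r • x = 0} := ⟨_, hx, h0⟩
    rw [← biUnion_associatedPrimes_eq_zero_divisors] at hmem
    obtain ⟨P, hP, hgP⟩ := Set.mem_iUnion₂.mp hmem
    apply hg
    refine Set.mem_iUnion₂.mpr ⟨P, ?_, hgP⟩
    rw [Finset.mem_coe, Set.Finite.mem_toFinset]
    exact hP

omit [Algebra.FiniteType A B] [Module.Finite B M] [Module B M] [IsScalarTower A B M]
  [CommRing B] [Algebra A B] in
/-- Step I: torsion elements are `a₁`-power torsion when `M_{a₁}` is free. -/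
theorem exists_pow_smul_eq_zero (a₁ : A) (ha₁ : a₁ ≠ 0)
    (hfree : Module.Free (Localization.Away a₁) (Localization.Away a₁ ⊗[A] M)) (m : M) (a₀ : A)
    (ha₀ : a₀ ≠ 0) (hm : a₀ • m = 0) : ∃ n : ℕ, a₁ ^ n • m = 0 := by
  have hle : Submonoid.powers a₁ ≤ nonZeroDivisors A :=
    powers_le_nonZeroDivisors_of_noZeroDivisors ha₁
  haveI : IsDomain (Localization.Away a₁) := IsLocalization.isDomain_localization hle
  have h1 : (algebraMap A (Localization.Away a₁) a₀) • ((1 : Localization.Away a₁) ⊗ₜ[A] m) = 0 := by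
    rw [algebraMap_smul, ← TensorProduct.tmul_smul, hm, TensorProduct.tmul_zero]
  have h2 : algebraMap A (Localization.Away a₁) a₀ ≠ 0 := by
    intro h0
    apply ha₀
    exact (IsLocalization.injective (Localization.Away a₁) hle) (by rw [h0, map_zero])
  have h3 : (1 : Localization.Away a₁) ⊗ₜ[A] m = 0 := by
    rcases smul_eq_zero.mp h1 with h | h
    · exact absurd h h2
    · exact h
  haveI : IsLocalizedModule (Submonoid.powers a₁)
      (TensorProduct.mk A (Localization.Away a₁) M 1) :=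
    (isLocalizedModule_iff_isBaseChange (Submonoid.powers a₁) (Localization.Away a₁) _).mpr
      (TensorProduct.isBaseChange A M (Localization.Away a₁))
  obtain ⟨c, hc⟩ := (IsLocalizedModule.eq_zero_iff (Submonoid.powers a₁)
    (TensorProduct.mk A (Localization.Away a₁) M 1)).mp h3
  obtain ⟨n, hn⟩ := c.2
  have hn' : a₁ ^ n = (c : A) := hn
  exact ⟨n, by rw [hn']; exact hc⟩

omit [IsDomain A] [Algebra.FiniteType A B] [Module.Finite B M] in
theorem mem_map_smul_top_iff (𝔭 : Ideal A) (x : M) :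
    x ∈ (𝔭.map (algebraMap A B)) • (⊤ : Submodule B M) ↔ x ∈ 𝔭 • (⊤ : Submodule A M) := by
  constructor
  · intro hx
    refine Submodule.smul_induction_on hx ?_ ?_
    · intro b hb m _
      suffices H : ∀ m : M, b • m ∈ 𝔭 • (⊤ : Submodule A M) from H m
      change b ∈ Ideal.span _ at hb
      refine Submodule.span_induction ?_ ?_ ?_ ?_ hb
      · rintro _ ⟨p, hp, rfl⟩ m
        rw [algebraMap_smul]
        exact Submodule.smul_mem_smul hp trivial
      · intro m
        rw [zero_smul]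
        exact zero_mem _
      · intro b₁ b₂ _ _ h₁ h₂ m
        rw [add_smul]
        exact add_mem (h₁ m) (h₂ m)
      · intro c b₁ _ h₁ m
        rw [smul_eq_mul, mul_comm, mul_smul]
        exact h₁ (c • m)
    · intro x y hx hy
      exact add_mem hx hy
  · intro hx
    refine Submodule.smul_induction_on hx ?_ ?_
    · intro p hp m _
      rw [← algebraMap_smul B p m]
      exact Submodule.smul_mem_smul (Ideal.mem_map_of_mem _ hp) trivial
    · intro x y hx hy
      exact add_mem hx hy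

/-- the key claim: `g`-multiples in `𝔭 M` come from `𝔭 M` up to a power of `a`. -/
theorem core_claim (g : B) (hg : ∀ m : M, g • m = 0 → ∃ a₀ : A, a₀ ≠ 0 ∧ a₀ • m = 0) :
    ∃ a : A, a ≠ 0 ∧ ∀ (𝔭 : Ideal A) (y : M), g • y ∈ 𝔭 • (⊤ : Submodule A M) →
      ∃ n : ℕ, a ^ n • y ∈ 𝔭 • (⊤ : Submodule A M) := by
  obtain ⟨a₁, ha₁, hfree₁, -, -, -⟩ := Groth.Agent.S0389.result (R := A) (S := B) (M := M)
  let NB : Submodule B M := LinearMap.range (LinearMap.lsmul B M g)
  obtain ⟨a₂, ha₂, hfree₂, -, -, -⟩ := Groth.Agent.S0389.result (R := A) (S := B) (M := M ⧸ NB)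
  let N : Submodule A M := NB.restrictScalars A
  have hflat : Module.Flat A (Localization.Away a₂ ⊗[A] (M ⧸ N)) := by
    haveI : Module.Flat A (Localization.Away a₂) := IsLocalization.flat _ (Submonoid.powers a₂)
    have h1 : Module.Flat A (Localization.Away a₂ ⊗[A] (M ⧸ NB)) :=
      Module.Flat.trans A (Localization.Away a₂) _
    exact Module.Flat.of_linearEquiv
      (LinearEquiv.lTensor (Localization.Away a₂) (Submodule.Quotient.restrictScalarsEquiv A NB))
  refine ⟨a₁ * a₂, mul_ne_zero ha₁ ha₂, fun 𝔭 y hy => ?_⟩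
  have hzN : g • y ∈ N := ⟨y, rfl⟩
  obtain ⟨n, hn⟩ := exists_pow_smul_mem_of_flat_quot N a₂ hflat 𝔭 ⟨g • y, hzN⟩ hy
  have hw : ∀ x ∈ 𝔭 • (⊤ : Submodule A N), ∃ w ∈ 𝔭 • (⊤ : Submodule A M), (x : M) = g • w := by
    intro x hx
    refine Submodule.smul_induction_on hx ?_ ?_
    · rintro r hr ⟨_, ⟨w', rfl⟩⟩ _
      refine ⟨r • w', Submodule.smul_mem_smul hr trivial, ?_⟩
      change r • (g • w') = g • (r • w')
      rw [smul_comm]
    · rintro x y ⟨w₁, hw₁, h₁⟩ ⟨w₂, hw₂, h₂⟩
      refine ⟨w₁ + w₂, add_mem hw₁ hw₂, ?_⟩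
      rw [Submodule.coe_add, h₁, h₂, smul_add]
  obtain ⟨w, hw𝔭, hw⟩ := hw _ hn
  have hw' : a₂ ^ n • (g • y) = g • w := hw
  have h0 : g • (a₂ ^ n • y - w) = 0 := by
    rw [smul_sub, smul_comm, hw', sub_self]
  obtain ⟨a₀, ha₀, ha₀m⟩ := hg _ h0
  obtain ⟨k, hk⟩ := exists_pow_smul_eq_zero a₁ ha₁ hfree₁ _ a₀ ha₀ ha₀m
  rw [smul_sub, sub_eq_zero] at hk
  refine ⟨n + k, ?_⟩
  have e1 : (a₁ * a₂) ^ (n + k) • y = (a₁ ^ n * a₂ ^ k) • (a₁ ^ k • (a₂ ^ n • y)) := by
    rw [smul_smul, smul_smul]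
    congr 1
    ring
  rw [e1, hk]
  exact Submodule.smul_mem _ _ (Submodule.smul_mem _ _ hw𝔭)

/-- (B1) if no associated point of the generic fibre lies in `V(J)`, the same holds for the
fibres over a nonempty open. -/
theorem core_avoid (J : Ideal B)
    (h : ∀ q : Ideal B, q.IsPrime → q.comap (algebraMap A B) = ⊥ → SocAt (fibI A q) q M →
      ¬ J ≤ q) :
    ∃ a : A, a ≠ 0 ∧ ∀ q : Ideal B, q.IsPrime → algebraMap A B a ∉ q →
      SocAt (fibI A q) q M → ¬ J ≤ q := by
  obtain ⟨g, hgJ, hg⟩ := exists_regular (A := A) (M := M) J h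
  obtain ⟨a, ha, hclaim⟩ := core_claim (A := A) (M := M) g hg
  refine ⟨a, ha, fun q hq haq hsoc hJq => ?_⟩
  obtain ⟨m, hi, hii⟩ := hsoc
  obtain ⟨s, hs, hsg⟩ := hii g (hJq hgJ)
  have h1 : g • (s • m) ∈ (q.comap (algebraMap A B)) • (⊤ : Submodule A M) := by
    rw [← mem_map_smul_top_iff (B := B), smul_smul, mul_comm]
    exact hsg
  obtain ⟨n, hn⟩ := hclaim _ _ h1
  rw [← mem_map_smul_top_iff (B := B), ← algebraMap_smul B (a ^ n) (s • m), smul_smul] at hn
  refine hi _ ?_ hn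
  intro hmem
  rcases hq.mem_or_mem hmem with h | h
  · rw [map_pow] at h
    exact haq (hq.mem_of_pow_mem _ h)
  · exact hs h

end Domain

end Groth.Agent.H51.RA_B1

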