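import Groth.Prelude.Def_AlgSp3
import Mathlib.AlgebraicGeometry.Morphisms.QuasiSeparated

/-! Fibre products over a sheaf as base changes of its diagonal (helper51). -/

set_option autoImplicit false
universe u
open CategoryTheory CategoryTheory.Limits AlgebraicGeometry
open AlgSp

namespace Groth.Agent.H51

section Cat

variable {C : Type*} [Category C]

/-- `A ×_X B` is the base change of the diagonal of `X` along `a × b : A ⨯ B ⟶ X ⨯ X`. -/
theorem isPullback_diag_of_isPullback {P A B X : C} [HasBinaryProduct A B] [HasBinaryProduct X X]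
    {fst : P ⟶ A} {snd : P ⟶ B} {a : A ⟶ X} {b : B ⟶ X} (sq : IsPullback fst snd a b) :
    IsPullback (fst ≫ a) (prod.lift fst snd) (Limits.diag X) (prod.map a b) := by
  have w : (fst ≫ a) ≫ Limits.diag X = prod.lift fst snd ≫ prod.map a b := by
    apply Limits.prod.hom_ext
    · simp only [Category.assoc, prod.lift_fst, prod.map_fst, Limits.diag, Category.comp_id,
        prod.lift_fst_assoc]
    · simp only [Category.assoc, prod.lift_snd, prod.map_snd, Limits.diag, Category.comp_id,
        prod.lift_snd_assoc, sq.w]
  refine ⟨⟨w⟩, ⟨PullbackCone.IsLimit.mk w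
    (fun s => sq.lift (s.snd ≫ prod.fst) (s.snd ≫ prod.snd) ?_) ?_ ?_ ?_⟩⟩
  · have h1 := congr($(s.condition) ≫ prod.fst)
    have h2 := congr($(s.condition) ≫ prod.snd)
    simp only [Category.assoc, prod.map_fst, prod.map_snd, Limits.diag, prod.lift_fst,
      prod.lift_snd, Category.comp_id] at h1 h2
    rw [Category.assoc, Category.assoc, ← h1, ← h2]
  · intro s
    have h1 := congr($(s.condition) ≫ prod.fst)
    simp only [Category.assoc, prod.map_fst, Limits.diag, prod.lift_fst, Category.comp_id] at h1
    rw [← Category.assoc, sq.lift_fst, Category.assoc, ← h1]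
  · intro s
    apply Limits.prod.hom_ext
    · simp only [Category.assoc, prod.lift_fst, sq.lift_fst]
    · simp only [Category.assoc, prod.lift_snd, sq.lift_snd]
  · intro s m h1 h2
    apply sq.hom_ext
    · rw [sq.lift_fst, ← h2, Category.assoc, prod.lift_fst]
    · rw [sq.lift_snd, ← h2, Category.assoc, prod.lift_snd]

end Cat

variable {S : Scheme.{u}}

theorem isPullback_diag_yon {F : Sp S} {U V P : Over S} {a : (yon S).obj U ⟶ F}
    {b : (yon S).obj V ⟶ F} {fst : P ⟶ U} {snd : P ⟶ V}
    (sq : IsPullback ((yon S).map fst) ((yon S).map snd) a b) :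
    IsPullback ((yon S).map fst ≫ a) ((yon S).map (prod.lift fst snd)) (Limits.diag F)
      (prodComparison (yon S) U V ≫ prod.map a b) := by
  have h0 := isPullback_diag_of_isPullback sq
  have hl : (yon S).map (prod.lift fst snd) ≫ prodComparison (yon S) U V =
      prod.lift ((yon S).map fst) ((yon S).map snd) := by
    apply Limits.prod.hom_ext
    · rw [Category.assoc, prodComparison_fst, ← Functor.map_comp, prod.lift_fst, prod.lift_fst]
    · rw [Category.assoc, prodComparison_snd, ← Functor.map_comp, prod.lift_snd, prod.lift_snd]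
  refine IsPullback.of_iso h0 (Iso.refl _) (Iso.refl _) (asIso (prodComparison (yon S) U V)).symm
    (Iso.refl _) ?_ ?_ ?_ ?_
  · simp
  · simp only [Iso.symm_hom, asIso_inv, Iso.refl_hom, Category.id_comp]
    rw [IsIso.comp_inv_eq, hl]
  · simp
  · simp

/-- If the diagonal of `F` is representable with property `Q`, then for every scheme `P`
representing `h_U ×_F h_V` the map `P ⟶ U ×_S V` has `Q`. -/
theorem prop_lift_of_repWith_diag (Q : MorphismProperty Scheme.{u}) {F : Sp S}
    (hF : RepWith Q (Limits.diag F)) {U V P : Over S} {a : (yon S).obj U ⟶ F}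
    {b : (yon S).obj V ⟶ F} {fst : P ⟶ U} {snd : P ⟶ V}
    (sq : IsPullback ((yon S).map fst) ((yon S).map snd) a b) :
    Q (prod.lift fst snd).left :=
  hF.2 _ _ _ (isPullback_diag_yon sq)

end Groth.Agent.H51
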