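import Groth.Agent.H51.DescCrit

/-!
# Solutions of descent problems: canonical solution, base change, uniqueness (helper51)
-/

set_option autoImplicit false
universe w' w u

open CategoryTheory CategoryTheory.Limits AlgebraicGeometry Desc

namespace Groth.Agent.H51.DescCrit

section

variable {S : Scheme.{u}} {ι : Type w} {X : ι → Scheme.{u}} {f : ∀ i, X i ⟶ S}

/-- The canonical descent datum of `W` is solved by `W`. -/
theorem isSol_canonical (W : Over S) :
    IsSol ((toDDFam f).obj W) W (fun i => pullback.snd (f i) W.hom) where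
  sq i := (IsPullback.of_hasPullback (f i) W.hom).flip
  inv T i j x₀ x₁ h v := by
    let v0 : T ⟶ pullback (f i) W.hom := v.1
    change pullback.lift x₁ (v0 ≫ pullback.snd (f i) W.hom) _ ≫ pullback.snd (f j) W.hom =
      v0 ≫ pullback.snd (f i) W.hom
    rw [pullback.lift_snd]

variable {D : SchDDFam f} {W : Over S} {k : ∀ i, (D.obj i).left ⟶ W.left}

/-- A solution is carried along an isomorphism of descent data. -/
theorem IsSol.of_iso {D' : SchDDFam f} (hs : IsSol D W k) (e : D ≅ D') :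
    IsSol D' W (fun i => (e.inv.hom i).left ≫ k i) where
  sq i := by
    have h1 : (e.inv.hom i).left ≫ (e.hom.hom i).left = 𝟙 _ :=
      congrArg (fun a : D' ⟶ D' => (a.hom i).left) e.inv_hom_id
    have h2 : (e.hom.hom i).left ≫ (e.inv.hom i).left = 𝟙 _ :=
      congrArg (fun a : D ⟶ D => (a.hom i).left) e.hom_inv_id
    have hw : (e.inv.hom i).left ≫ (D.obj i).hom = (D'.obj i).hom := Over.w (e.inv.hom i)
    refine IsPullback.of_iso (hs.sq i)
      (⟨(e.hom.hom i).left, (e.inv.hom i).left, h2, h1⟩ : (D.obj i).left ≅ (D'.obj i).left)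
      (Iso.refl _) (Iso.refl _) (Iso.refl _) ?_ ?_ (by simp) (by simp)
    · simp only [Iso.refl_hom, Category.comp_id]
      rw [← Category.assoc, h2, Category.id_comp]
    · simp only [Iso.refl_hom, Category.comp_id, ← hw]
      rw [← Category.assoc, h2, Category.id_comp]
  inv T i j x₀ x₁ h v := by
    have := e.inv.comm x₀ x₁ h v (e.inv.push v) rfl
    rw [← Category.assoc, ← this, hs.inv]
    simp [SchDDFam.Hom.push]

/-- Two solutions of the same descent problem are isomorphic, compatibly with all the structure. -/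
theorem IsSol.unique (hs : IsSol D W k) (hf : Presieve.ofArrows X f ∈ Scheme.fpqcPrecoverage S)
    {W' : Over S} {k' : ∀ i, (D.obj i).left ⟶ W'.left} (hs' : IsSol D W' k') :
    ∃ e : W.left ≅ W'.left, (∀ i, k i ≫ e.hom = k' i) ∧ e.hom ≫ W'.hom = W.hom := by
  obtain ⟨a, ha, -⟩ := hs.existsUnique_desc hf k' (fun T i j x₀ x₁ h v => hs'.inv x₀ x₁ h v)
  obtain ⟨b, hb, -⟩ := hs'.existsUnique_desc hf k (fun T i j x₀ x₁ h v => hs.inv x₀ x₁ h v)
  obtain ⟨c, -, hc⟩ := hs.existsUnique_desc hf k (fun T i j x₀ x₁ h v => hs.inv x₀ x₁ h v)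
  obtain ⟨c', -, hc'⟩ := hs'.existsUnique_desc hf k' (fun T i j x₀ x₁ h v => hs'.inv x₀ x₁ h v)
  have h1 : a ≫ b = 𝟙 _ := by
    rw [hc (a ≫ b) (fun i => by rw [← Category.assoc, ha, hb]),
      hc (𝟙 _) (fun i => Category.comp_id _)]
  have h2 : b ≫ a = 𝟙 _ := by
    rw [hc' (b ≫ a) (fun i => by rw [← Category.assoc, hb, ha]),
      hc' (𝟙 _) (fun i => Category.comp_id _)]
  refine ⟨⟨a, b, h1, h2⟩, ha, ?_⟩
  obtain ⟨d, -, hd⟩ := hs.existsUnique_desc hf (fun i => (D.obj i).hom ≫ f i)
    (fun T i j x₀ x₁ h v => by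
      rw [← Category.assoc, ← Category.assoc, (D.φ x₀ x₁ h v).2, v.2, h])
  rw [hd (a ≫ W'.hom) (fun i => by rw [← Category.assoc, ha, (hs'.sq i).w]),
    hd W.hom (fun i => (hs.sq i).w)]

/-- The isomorphism with the canonical descent datum given by a solution. -/
theorem IsSol.nonempty_iso (hs : IsSol D W k) : Nonempty ((toDDFam f).obj W ≅ D) := by
  let θ : ∀ i, pullback (f i) W.hom ⟶ (D.obj i).left := fun i =>
    (hs.sq i).lift (pullback.snd (f i) W.hom) (pullback.fst (f i) W.hom) pullback.condition.symm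
  let θi : ∀ i, (D.obj i).left ⟶ pullback (f i) W.hom := fun i =>
    pullback.lift (D.obj i).hom (k i) (hs.sq i).w.symm
  have hθk : ∀ i, θ i ≫ k i = pullback.snd (f i) W.hom := fun i => (hs.sq i).lift_fst _ _ _
  have hθh : ∀ i, θ i ≫ (D.obj i).hom = pullback.fst (f i) W.hom := fun i => (hs.sq i).lift_snd _ _ _
  have h1 : ∀ i, θ i ≫ θi i = 𝟙 _ := fun i => by
    apply pullback.hom_ext
    · rw [Category.assoc, pullback.lift_fst, hθh, Category.id_comp]
    · rw [Category.assoc, pullback.lift_snd, hθk, Category.id_comp]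
  have h2 : ∀ i, θi i ≫ θ i = 𝟙 _ := fun i => by
    apply (hs.sq i).hom_ext
    · rw [Category.assoc, hθk, pullback.lift_snd, Category.id_comp]
    · rw [Category.assoc, hθh, pullback.lift_fst, Category.id_comp]
  let a : (toDDFam f).obj W ⟶ D :=
    ⟨fun i => Over.homMk (θ i) (hθh i), fun T i j x₀ x₁ h v w hw => by
      let v0 : T ⟶ pullback (f i) W.hom := v.1
      have hv0 : v0 ≫ pullback.fst (f i) W.hom = x₀ := v.2
      change (D.φ x₀ x₁ h w).1 = pullback.lift x₁ (v0 ≫ pullback.snd (f i) W.hom) _ ≫ θ j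
      change w.1 = v0 ≫ θ i at hw
      apply (hs.sq j).hom_ext
      · rw [hs.inv, hw, Category.assoc, Category.assoc, hθk, hθk, pullback.lift_snd]
      · rw [Category.assoc, hθh, pullback.lift_fst]
        exact (D.φ x₀ x₁ h w).2⟩
  let b : D ⟶ (toDDFam f).obj W :=
    ⟨fun i => Over.homMk (θi i) (pullback.lift_fst _ _ _), fun T i j x₀ x₁ h v w hw => by
      let w0 : T ⟶ pullback (f i) W.hom := w.1
      change pullback.lift x₁ (w0 ≫ pullback.snd (f i) W.hom) _ = (D.φ x₀ x₁ h v).1 ≫ θi j
      change w0 = v.1 ≫ θi i at hw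
      apply pullback.hom_ext
      · rw [pullback.lift_fst, Category.assoc, pullback.lift_fst]
        exact (D.φ x₀ x₁ h v).2.symm
      · rw [pullback.lift_snd, Category.assoc, pullback.lift_snd, hs.inv, hw,
          Category.assoc, pullback.lift_snd]⟩
  refine ⟨⟨a, b, ?_, ?_⟩⟩
  · apply SchDDFam.hom_ext
    funext i
    apply Over.OverMorphism.ext
    exact h1 i
  · apply SchDDFam.hom_ext
    funext i
    apply Over.OverMorphism.ext
    exact h2 i

end

section Pull

variable {S : Scheme.{u}} {ι : Type w} {X : ι → Scheme.{u}} {f : ∀ i, X i ⟶ S}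
  {S' : Scheme.{u}} {ι' : Type w'} {X' : ι' → Scheme.{u}} {f' : ∀ j, X' j ⟶ S'}
  {α : ι' → ι} {p : S' ⟶ S} {p' : ∀ j, X' j ⟶ X (α j)} (w : ∀ j, p' j ≫ f (α j) = f' j ≫ p)
  {D : SchDDFam f} {W : Over S} {k : ∀ i, (D.obj i).left ⟶ W.left}

/-- The maps of the base change of a solution. -/
noncomputable def pullK (hs : IsSol D W k) (j : ι') :
    pullback (D.obj (α j)).hom (p' j) ⟶ pullback W.hom p :=
  pullback.lift (pullback.fst _ _ ≫ k (α j)) (pullback.snd _ _ ≫ f' j) (by
    rw [Category.assoc, (hs.sq (α j)).w, ← Category.assoc, pullback.condition, Category.assoc, w j,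
      Category.assoc])

/-- The base change of a solution is a solution of the pulled back descent problem. -/
theorem IsSol.pull (hs : IsSol D W k) :
    IsSol ((pullDDFam w).obj D) (Over.mk (pullback.snd W.hom p)) (fun j => pullK w hs j) where
  sq j := by
    have big := (IsPullback.of_hasPullback (D.obj (α j)).hom (p' j)).paste_horiz (hs.sq (α j))
    have e1 : pullback.fst (D.obj (α j)).hom (p' j) ≫ k (α j) =
        pullK w hs j ≫ pullback.fst W.hom p := (pullback.lift_fst _ _ _).symm
    rw [e1, w j] at big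
    exact IsPullback.of_right big (pullback.lift_snd _ _ _) (IsPullback.of_hasPullback W.hom p)
  inv T j₀ j₁ x₀ x₁ h v := by
    let v0 : T ⟶ pullback (D.obj (α j₀)).hom (p' j₀) := v.1
    have hv0 : v0 ≫ pullback.snd _ _ = x₀ := v.2
    let u := D.φ (x₀ ≫ p' j₀) (x₁ ≫ p' j₁) (pull_compat w x₀ x₁ h)
      (liftsPullbackEquiv (D.obj (α j₀)) (p' j₀) x₀ v)
    change pullback.lift u.1 x₁ u.2 ≫ pullK w hs j₁ = v0 ≫ pullK w hs j₀
    apply pullback.hom_ext
    · rw [Category.assoc, Category.assoc]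
      unfold pullK
      rw [pullback.lift_fst, pullback.lift_fst, ← Category.assoc, pullback.lift_fst, hs.inv]
      rfl
    · rw [Category.assoc, Category.assoc]
      unfold pullK
      rw [pullback.lift_snd, pullback.lift_snd, ← Category.assoc, pullback.lift_snd,
        ← Category.assoc, hv0, h]

end Pull

end Groth.Agent.H51.DescCrit
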