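import Groth.Agent.H51.LqfDesc
import Groth.Agent.H50.OpenSub
import Groth.Agent.H52.Topology
import Groth.Agent.H52.EpiBC

/-!
# Effective fppf descent for separated locally quasi-finite schemes, without quasi-compactness (helper51)

`Z, Z'` affine, `c : Z' ⟶ Z` fppf, `π : F ⟶ h_Z` a sheaf whose base change along `c` is a scheme `W'` separated,
locally quasi-finite and locally of finite type over `Z'` (NOT assumed quasi-compact).  Then `F` is a scheme:
`F` is covered by the open subsheaves attached to the saturations of the affine opens of `W'`; these saturations are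
quasi-compact, so that the quasi-compact case (`LqfDesc`, via Zariski's main theorem) applies to each of them, and the
pieces are glued with `ZarGlue.exists_iso_yon`.

Consequences: the chart criteria of `LqfDesc` without the quasi-compactness assumption; in particular the diagonal of
a sheaf `Y` with an epimorphism `h_U ⟶ Y` whose kernel pair is a scheme `R` with `R ⟶ U × U` locally of finite type
is representable.
-/

set_option autoImplicit false
universe u
open CategoryTheory CategoryTheory.Limits AlgebraicGeometry Opposite AlgSp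

namespace Groth.Agent.H51.LqfDescGen

open Groth.Agent.H50 Groth.Agent.H52

variable {S : Scheme.{u}}

/-- A representable universally open map from a scheme induces an open map on points. -/
theorem isOpenMap_ofPt_of_universallyOpen {F : Sp S} {U : Over S} (a : (yon S).obj U ⟶ F)
    (ha : RepWith @UniversallyOpen a) : IsOpenMap (Points.ofPt a) := by
  intro W hW
  rw [Points.isOpen_iff]
  intro T g
  obtain ⟨V, ψ, fst, sq⟩ := ha.1 g
  have hψ : UniversallyOpen ψ.left := ha.2 _ _ _ sq
  obtain ⟨φ, rfl⟩ := (yon S).map_surjective fst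
  have key : Points.ofPt g ⁻¹' (Points.ofPt a '' W) = ψ.left '' (φ.left ⁻¹' W) := by
    ext t
    constructor
    · rintro ⟨u, hu, hut⟩
      obtain ⟨v, hv1, hv2⟩ := exists_of_ofPt_eq_ofPt sq u t hut
      exact ⟨v, by simpa [hv1] using hu, hv2⟩
    · rintro ⟨v, hv, rfl⟩
      refine ⟨φ.left v, hv, ?_⟩
      rw [← ofPt_yon_map_comp, ← ofPt_yon_map_comp, sq.w]
  rw [key]
  exact ψ.left.isOpenMap _ (hW.preimage φ.left.continuous)

/-- The kernel pair of the base change `a` of `h_c` is the scheme `W' ×_Z Z'`. -/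
theorem exists_kernelPair {Z Z' W' : Over S} (c : Z' ⟶ Z) (b' : W' ⟶ Z') {F : Sp S}
    (π : F ⟶ (yon S).obj Z) (a : (yon S).obj W' ⟶ F)
    (sq0 : IsPullback a ((yon S).map b') π ((yon S).map c)) :
    ∃ (W2 : Over S) (a1 p2 : W2 ⟶ W') (b2 : W2 ⟶ Z'),
      IsPullback ((yon S).map p2) ((yon S).map a1) a a ∧ IsPullback a1 b2 (b' ≫ c) c := by
  obtain ⟨W2, a1, b2, hW2⟩ : ∃ (W2 : Over S) (a1 : W2 ⟶ W') (b2 : W2 ⟶ Z'),
      IsPullback a1 b2 (b' ≫ c) c := ⟨_, _, _, IsPullback.of_hasPullback _ _⟩
  have hcomm : ((yon S).map a1 ≫ a) ≫ π = (yon S).map b2 ≫ (yon S).map c := by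
    rw [Category.assoc, sq0.w, ← Functor.map_comp, ← Functor.map_comp, ← Functor.map_comp, ← hW2.w]
  obtain ⟨p2, hp2⟩ := (yon S).map_surjective (sq0.lift ((yon S).map a1 ≫ a) ((yon S).map b2) hcomm)
  have hp2a : (yon S).map p2 ≫ a = (yon S).map a1 ≫ a := by rw [hp2, sq0.lift_fst]
  have hp2b : p2 ≫ b' = b2 := (yon S).map_injective (by rw [Functor.map_comp, hp2, sq0.lift_snd])
  refine ⟨W2, a1, p2, b2, ?_, hW2⟩
  have outer : IsPullback ((yon S).map p2 ≫ (yon S).map b') ((yon S).map a1) ((yon S).map c)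
      (a ≫ π) := by
    rw [← Functor.map_comp, hp2b, sq0.w, ← Functor.map_comp]
    exact (hW2.map (yon S)).flip
  exact IsPullback.of_right outer hp2a sq0.flip

set_option maxHeartbeats 1600000 in
/-- Effective fppf descent for separated locally quasi-finite schemes over an affine base. -/
theorem exists_rep_of_sep_lqf {Z Z' W' : Over S} [IsAffine Z.left] [IsAffine Z'.left]
    (c : Z' ⟶ Z) [Flat c.left] [LocallyOfFinitePresentation c.left] [Surjective c.left]
    (b' : W' ⟶ Z') [IsSeparated b'.left] [LocallyQuasiFinite b'.left] [LocallyOfFiniteType b'.left]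
    {F : Sp S} (π : F ⟶ (yon S).obj Z) (a : (yon S).obj W' ⟶ F)
    (sq0 : IsPullback a ((yon S).map b') π ((yon S).map c)) :
    ∃ (W : Over S) (w : W ⟶ Z) (k : W' ⟶ W) (ψ : F ≅ (yon S).obj W),
      ψ.hom ≫ (yon S).map w = π ∧ a ≫ ψ.hom = (yon S).map k ∧
      IsPullback k.left b'.left w.left c.left := by
  have hepi : Epi ((yon S).map c) := epi_yon_map_of_fppf c
  have haepi : Epi a := epi_fst_of_isPullback sq0
  have := AlgSp.repWith_isStableUnderBaseChange (S := S) @UniversallyOpen
  have haUO : RepWith @UniversallyOpen a :=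
    MorphismProperty.of_isPullback sq0.flip
      ((repWith_yon_map_iff @UniversallyOpen c).2 inferInstance)
  have hopen := isOpenMap_ofPt_of_universallyOpen a haUO
  obtain ⟨W2, a1, p2, b2, ker, hW2⟩ := exists_kernelPair c b' π a sq0
  have hW2S : IsPullback a1.left b2.left (b' ≫ c).left c.left := hW2.map (Over.forget S)
  have hcaff : IsAffineHom c.left := inferInstance
  have ha1aff : IsAffineHom a1.left := MorphismProperty.of_isPullback hW2S.flip hcaff
  have ha1qc : QuasiCompact a1.left := inferInstance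
  -- the open pieces
  have key : ∀ O : W'.left.affineOpens, ∃ (V : Over S) (f : (yon S).obj V ⟶ F),
      RepWith @IsOpenImmersion f ∧ ∀ ⦃T : Over S⦄ (x : T ⟶ W'), (∀ t, x.left t ∈ O.1) →
        ∃ x' : (yon S).obj T ⟶ (yon S).obj V, x' ≫ f = (yon S).map x ≫ a := by
    intro O
    let WO : Set (Points F) := Points.ofPt a '' (O.1 : Set ↥W'.left)
    have hWO : IsOpen WO := hopen _ O.1.isOpen
    obtain ⟨gW, sqW⟩ := exists_isPullback_openSubι hWO a
    have hO₁ : ((preimageOpens hWO a : W'.left.Opens) : Set ↥W'.left) =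
        p2.left '' (a1.left ⁻¹' (O.1 : Set ↥W'.left)) := by
      ext w
      constructor
      · rintro ⟨o, ho, how⟩
        obtain ⟨v, hv1, hv2⟩ := exists_of_ofPt_eq_ofPt ker w o how.symm
        exact ⟨v, by simpa [hv2] using ho, hv1⟩
      · rintro ⟨v, hv, rfl⟩
        refine ⟨a1.left v, hv, ?_⟩
        rw [← ofPt_yon_map_comp, ← ofPt_yon_map_comp, ker.w]
    have hcomp : IsCompact ((preimageOpens hWO a : W'.left.Opens) : Set ↥W'.left) := by
      rw [hO₁]
      exact (QuasiCompact.isCompact_preimage (f := a1.left) _ O.1.isOpen O.2.isCompact).image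
        p2.left.continuous
    have hcs : CompactSpace ↥(preimageOpens hWO a : W'.left.Opens) :=
      isCompact_iff_compactSpace.1 hcomp
    let bO : opensOver W' (preimageOpens hWO a) ⟶ Z' := opensOverι W' (preimageOpens hWO a) ≫ b'
    have sqO : IsPullback gW ((yon S).map bO) (openSubι F WO ≫ π) ((yon S).map c) := by
      rw [Functor.map_comp]
      exact sqW.paste_vert sq0
    have hbOl : bO.left = (preimageOpens hWO a).ι ≫ b'.left := rfl
    have i1 : IsSeparated bO.left := by rw [hbOl]; infer_instance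
    have i2 : LocallyQuasiFinite bO.left := by rw [hbOl]; infer_instance
    have i3 : LocallyOfFiniteType bO.left := by rw [hbOl]; infer_instance
    have i4 : QuasiCompact bO.left := (quasiCompact_iff_compactSpace bO.left).2 hcs
    have hqa : (opensOver W' (preimageOpens hWO a)).left.IsQuasiAffine :=
      LqfDesc.isQuasiAffine_of_sep_lqf bO.left
    obtain ⟨V, w, k, ψ, -, -, -, -⟩ :=
      QAffDesc.exists_qaffine_rep c bO (openSubι F WO ≫ π) gW sqO
    have : (RepWith (S := S) @IsOpenImmersion).RespectsIso := inferInstance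
    refine ⟨V, ψ.inv ≫ openSubι F WO,
      (MorphismProperty.cancel_left_of_respectsIso (RepWith (S := S) @IsOpenImmersion) ψ.inv
        (openSubι F WO)).2 (repWith_isOpenImmersion_openSubι hWO), fun T x hx => ?_⟩
    obtain ⟨g', hg'⟩ := (factors_openSubι_iff F WO ((yon S).map x ≫ a)).2 (fun t => by
      rw [ofPt_yon_map_comp]
      exact ⟨_, hx t, rfl⟩)
    exact ⟨g' ≫ ψ.hom, by rw [Category.assoc, Iso.hom_inv_id_assoc, hg']⟩
  choose V f hf hlift using key
  -- gluing
  have hsurj : ∀ (T : Over S) (y : (yon S).obj T ⟶ F), ∃ Sg ∈ J S T, ∀ ⦃T' : Over S⦄ (φ : T' ⟶ T),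
      Sg φ → ∃ (i : W'.left.affineOpens) (x : (yon S).obj T' ⟶ (yon S).obj (V i)),
        x ≫ f i = (yon S).map φ ≫ y := by
    intro T y
    let Sg : Sieve T :=
      { arrows := fun T' φ => ∃ (i : W'.left.affineOpens) (x : (yon S).obj T' ⟶ (yon S).obj (V i)),
          x ≫ f i = (yon S).map φ ≫ y
        downward_closed := by
          rintro T' T'' φ ⟨i, x, hx⟩ φ'
          exact ⟨i, (yon S).map φ' ≫ x, by rw [Category.assoc, hx, Functor.map_comp, Category.assoc]⟩ }
    refine ⟨Sg, ?_, fun T' φ hφ => hφ⟩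
    obtain ⟨Sg0, hSg0, hl⟩ := exists_local_lift a y
    have hpt : ∀ τ : ↥T.left, ∃ (N : Over S) (n : N ⟶ T), Flat n.left ∧
        LocallyOfFinitePresentation n.left ∧ (∃ ν : ↥N.left, n.left ν = τ) ∧ Sg n := by
      intro τ
      obtain ⟨T', g, hg, hfl, hfp, t', ht'⟩ := exists_fppf_of_mem_J hSg0 τ
      obtain ⟨x0, hx0⟩ := hl g hg
      obtain ⟨x, rfl⟩ := (yon S).map_surjective x0
      obtain ⟨_, ⟨O, hO, rfl⟩, hxO, -⟩ := W'.left.isBasis_affineOpens.exists_subset_of_mem_open
        (Set.mem_univ (x.left t')) isOpen_univ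
      let N' : T'.left.Opens := x.left ⁻¹ᵁ O
      have hn1 : (opensOverι T' N' ≫ g).left = N'.ι ≫ g.left := rfl
      refine ⟨opensOver T' N', opensOverι T' N' ≫ g, ?_, ?_, ⟨⟨t', hxO⟩, ?_⟩, ?_⟩
      · rw [hn1]; infer_instance
      · rw [hn1]; infer_instance
      · rw [hn1]; exact ht'
      · obtain ⟨x', hx'⟩ := hlift ⟨O, hO⟩ (opensOverι T' N' ≫ x) (fun t => t.2)
        refine ⟨⟨O, hO⟩, x', ?_⟩
        rw [hx', Functor.map_comp, Category.assoc, hx0, Functor.map_comp, Category.assoc]
    choose N n hnfl hnfp hnpt hn using hpt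
    exact mem_J_of_fppf_family N n (fun τ => by
      obtain ⟨ν, hν⟩ := hnpt τ
      exact ⟨τ, ν, hν⟩) hnfl hnfp Sg hn
  obtain ⟨G, e, -, -, -, -⟩ := ZarGlue.exists_iso_yon hf hsurj
  obtain ⟨w, hw⟩ := (yon S).map_surjective (e.hom ≫ π)
  obtain ⟨k, hk⟩ := (yon S).map_surjective (a ≫ e.inv)
  have hkw : k ≫ w = b' ≫ c := by
    apply (yon S).map_injective
    rw [Functor.map_comp, Functor.map_comp, hk, hw, Category.assoc, Iso.inv_hom_id_assoc, sq0.w]
  have sq1 : IsPullback ((yon S).map k) ((yon S).map b') ((yon S).map w) ((yon S).map c) := by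
    rw [hk, hw]
    refine IsPullback.of_iso sq0 (Iso.refl _) e.symm (Iso.refl _) (Iso.refl _) ?_ ?_ ?_ ?_
    · simp
    · simp
    · simp
    · simp
  have sq2 : IsPullback k b' w c := IsPullback.of_map (yon S) hkw sq1
  refine ⟨G, w, k, e.symm, ?_, ?_, sq2.map (Over.forget S)⟩
  · rw [Iso.symm_hom, hw, Iso.inv_hom_id_assoc]
  · rw [Iso.symm_hom, hk]

/-- Descent of a separated locally quasi-finite fibre product along an affine fppf cover. -/
theorem exists_lqf_pullback' {X Y : Sp S} (f : X ⟶ Y) {V : Over S} (p : (yon S).obj V ⟶ Y)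
    {P : Sp S} (fst : P ⟶ X) (snd : P ⟶ (yon S).obj V) (sq : IsPullback fst snd f p)
    {Z Z' W' : Over S} [IsAffine Z.left] [IsAffine Z'.left]
    (g : (yon S).obj Z ⟶ Y) (c : Z' ⟶ Z) [Flat c.left] [LocallyOfFinitePresentation c.left]
    [Surjective c.left] (g'' : Z' ⟶ V)
    (hg : (yon S).map g'' ≫ p = (yon S).map c ≫ g) (b' : W' ⟶ Z') [IsSeparated b'.left]
    [LocallyQuasiFinite b'.left] [LocallyOfFiniteType b'.left]
    (x' : (yon S).obj W' ⟶ P)
    (sqW' : IsPullback x' ((yon S).map b') snd ((yon S).map g'')) :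
    ∃ (W : Over S) (w : W ⟶ Z) (k : W' ⟶ W) (x : (yon S).obj W ⟶ X),
      IsPullback x ((yon S).map w) f g ∧ IsPullback k.left b'.left w.left c.left := by
  have big : IsPullback (x' ≫ fst) ((yon S).map b') f ((yon S).map c ≫ g) := by
    rw [← hg]
    exact sqW'.paste_horiz sq
  have sqF := IsPullback.of_hasPullback f g
  have sq0 : IsPullback (pullback.lift (x' ≫ fst) ((yon S).map b' ≫ (yon S).map c)
      (by rw [big.w, Category.assoc])) ((yon S).map b') (pullback.snd f g) ((yon S).map c) := by
    refine IsPullback.of_right ?_ (pullback.lift_snd _ _ _) sqF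
    rw [pullback.lift_fst]
    exact big
  obtain ⟨W, w, k, ψ, hψπ, -, sqS⟩ := exists_rep_of_sep_lqf c b' (pullback.snd f g) _ sq0
  refine ⟨W, w, k, ψ.inv ≫ pullback.fst f g, ?_, sqS⟩
  refine IsPullback.of_iso sqF ψ (Iso.refl _) (Iso.refl _) (Iso.refl _) ?_ ?_ ?_ ?_
  · simp
  · simp [hψπ]
  · simp
  · simp

/-- A morphism of sheaves `f : X ⟶ Y` is representable with `Q` as soon as its base change along a map `p : h_V ⟶ Y`
from a scheme, through which maps from affine schemes to `Y` factor after an affine fppf cover, is a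
separated locally quasi-finite morphism of schemes with `Q`. -/
theorem repWith_of_local_chart' (Q : MorphismProperty Scheme.{u}) [IsZariskiLocalAtTarget Q]
    [Q.IsStableUnderBaseChange] (hQ : Q.DescendsAlong fppfProp)
    {X Y : Sp S} (f : X ⟶ Y) {V R : Over S} (p : (yon S).obj V ⟶ Y)
    (hlift : ∀ ⦃Z : Over S⦄, IsAffine Z.left → ∀ g : (yon S).obj Z ⟶ Y,
      ∃ (Z' : Over S) (c : Z' ⟶ Z) (g'' : Z' ⟶ V), IsAffine Z'.left ∧ Flat c.left ∧
        LocallyOfFinitePresentation c.left ∧ Surjective c.left ∧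
        (yon S).map g'' ≫ p = (yon S).map c ≫ g)
    (fst : (yon S).obj R ⟶ X) (j : R ⟶ V) (sq : IsPullback fst ((yon S).map j) f p)
    [IsSeparated j.left] [LocallyQuasiFinite j.left] [LocallyOfFiniteType j.left]
    (hj : Q j.left) : RepWith Q f := by
  refine ZarGlue.repWith_of_affine_test Q f (fun Z hZ g => ?_)
  have := hZ
  obtain ⟨Z', c, g'', hZ', hcfl, hcfp, hcs, hx⟩ := hlift hZ g
  have sqO := IsPullback.of_hasPullback j g''
  have sqS : IsPullback (pullback.fst j g'').left (pullback.snd j g'').left j.left g''.left :=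
    sqO.map (Over.forget S)
  have i1 : IsSeparated (pullback.snd j g'').left :=
    MorphismProperty.of_isPullback (P := @IsSeparated) sqS inferInstance
  have i2 : LocallyQuasiFinite (pullback.snd j g'').left :=
    MorphismProperty.of_isPullback (P := @LocallyQuasiFinite) sqS inferInstance
  have i3 : LocallyOfFiniteType (pullback.snd j g'').left :=
    MorphismProperty.of_isPullback (P := @LocallyOfFiniteType) sqS inferInstance
  have i5 : Q (pullback.snd j g'').left := MorphismProperty.of_isPullback (P := Q) sqS hj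
  obtain ⟨W, w, k, xx, sqx, sqk⟩ := exists_lqf_pullback' f p fst ((yon S).map j) sq g c g'' hx
    (pullback.snd j g'') ((yon S).map (pullback.fst j g'')) (sqO.map (yon S))
  exact ⟨W, w, xx, sqx, hQ.of_isPullback sqk.flip ⟨⟨hcs, hcfl⟩, hcfp⟩ i5⟩

/-- A morphism of sheaves is representable with `Q` as soon as its base change along an epimorphism from a scheme is a
separated locally quasi-finite morphism of schemes with `Q`. -/
theorem repWith_of_epi_chart' (Q : MorphismProperty Scheme.{u}) [IsZariskiLocalAtTarget Q]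
    [Q.IsStableUnderBaseChange] (hQ : Q.DescendsAlong fppfProp)
    {X Y : Sp S} (f : X ⟶ Y) {V R : Over S} (p : (yon S).obj V ⟶ Y) [Epi p]
    (fst : (yon S).obj R ⟶ X) (j : R ⟶ V) (sq : IsPullback fst ((yon S).map j) f p)
    [IsSeparated j.left] [LocallyQuasiFinite j.left] [LocallyOfFiniteType j.left]
    (hj : Q j.left) : RepWith Q f := by
  refine repWith_of_local_chart' Q hQ f p (fun Z hZ g => ?_) fst j sq hj
  have := hZ
  obtain ⟨Z', c, x, hZ', hcfl, hcfp, hcs, hx⟩ := LqfDesc.exists_affine_fppf_lift p g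
  obtain ⟨g'', rfl⟩ := (yon S).map_surjective x
  exact ⟨Z', c, g'', hZ', hcfl, hcfp, hcs, hx⟩

/-- The diagonal of a sheaf `Y` with an epimorphism `p : h_U ⟶ Y` from a scheme whose kernel pair is a scheme `R` with
`(t, s) : R ⟶ U × U` separated locally quasi-finite with `Q` is representable with `Q`. -/
theorem repWith_diag_of_epi_chart' (Q : MorphismProperty Scheme.{u}) [IsZariskiLocalAtTarget Q]
    [Q.IsStableUnderBaseChange] (hQ : Q.DescendsAlong fppfProp)
    {Y : Sp S} {U R : Over S} (p : (yon S).obj U ⟶ Y) [Epi p] (s t : R ⟶ U)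
    (hk : IsPullback ((yon S).map t) ((yon S).map s) p p)
    [IsSeparated (prod.lift t s).left] [LocallyQuasiFinite (prod.lift t s).left]
    [LocallyOfFiniteType (prod.lift t s).left]
    (hj : Q (prod.lift t s).left) : RepWith Q (Limits.diag Y) := by
  let p2 : (yon S).obj (U ⨯ U) ⟶ Y ⨯ Y :=
    prod.lift ((yon S).map prod.fst ≫ p) ((yon S).map prod.snd ≫ p)
  have hp2a : p2 ≫ prod.fst = (yon S).map prod.fst ≫ p := prod.lift_fst _ _
  have hp2b : p2 ≫ prod.snd = (yon S).map prod.snd ≫ p := prod.lift_snd _ _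
  have hj1 : (yon S).map (prod.lift t s) ≫ (yon S).map prod.fst = (yon S).map t := by
    rw [← Functor.map_comp, prod.lift_fst]
  have hj2 : (yon S).map (prod.lift t s) ≫ (yon S).map prod.snd = (yon S).map s := by
    rw [← Functor.map_comp, prod.lift_snd]
  have hd1 : Limits.diag Y ≫ prod.fst = 𝟙 Y := prod.lift_fst _ _
  have hd2 : Limits.diag Y ≫ prod.snd = 𝟙 Y := prod.lift_snd _ _
  have sq : IsPullback ((yon S).map t ≫ p) ((yon S).map (prod.lift t s)) (Limits.diag Y) p2 := by
    have comm : ((yon S).map t ≫ p) ≫ Limits.diag Y = (yon S).map (prod.lift t s) ≫ p2 := by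
      apply Limits.prod.hom_ext
      · simp only [Category.assoc, hp2a, hd1, Category.comp_id]
        rw [← Category.assoc, hj1]
      · simp only [Category.assoc, hp2b, hd2, Category.comp_id]
        rw [← Category.assoc, hj2, hk.w]
    refine ⟨⟨comm⟩, ⟨PullbackCone.IsLimit.mk _ (fun c => ?_) (fun c => ?_) (fun c => ?_)
      (fun c m h1 h2 => ?_)⟩⟩
    · refine hk.lift (c.snd ≫ (yon S).map prod.fst) (c.snd ≫ (yon S).map prod.snd) ?_
      have e1 := congr($(c.condition) ≫ prod.fst)
      have e2 := congr($(c.condition) ≫ prod.snd)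
      simp only [Category.assoc, hp2a, hp2b, hd1, hd2, Category.comp_id] at e1 e2
      rw [Category.assoc, Category.assoc, ← e1, ← e2]
    · have e1 := congr($(c.condition) ≫ prod.fst)
      simp only [Category.assoc, hp2a, hd1, Category.comp_id] at e1
      rw [← Category.assoc, hk.lift_fst, Category.assoc, ← e1]
    · have hpres : Mono (prodComparison (yon S) U U) := by
        have : IsIso (prodComparison (yon S) U U) := inferInstance
        infer_instance
      rw [← cancel_mono (prodComparison (yon S) U U)]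
      apply Limits.prod.hom_ext
      · simp only [Category.assoc, prodComparison_fst]
        rw [hj1, hk.lift_fst]
      · simp only [Category.assoc, prodComparison_snd]
        rw [hj2, hk.lift_snd]
    · apply hk.hom_ext
      · rw [hk.lift_fst, ← hj1, ← Category.assoc, h2]
      · rw [hk.lift_snd, ← hj2, ← Category.assoc, h2]
  refine repWith_of_local_chart' Q hQ (Limits.diag Y) p2 (fun Z hZ g => ?_) _ _ sq hj
  have := hZ
  obtain ⟨Z1, c1, x1, hZ1, h1a, h1b, h1c, hx1⟩ := LqfDesc.exists_affine_fppf_lift p (g ≫ prod.fst)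
  have := hZ1
  obtain ⟨Z2, c2, x2, hZ2, h2a, h2b, h2c, hx2⟩ :=
    LqfDesc.exists_affine_fppf_lift p ((yon S).map c1 ≫ g ≫ prod.snd)
  obtain ⟨a1, rfl⟩ := (yon S).map_surjective x1
  obtain ⟨a2, rfl⟩ := (yon S).map_surjective x2
  refine ⟨Z2, c2 ≫ c1, prod.lift (c2 ≫ a1) a2, hZ2, ?_, ?_, ?_, ?_⟩
  · rw [Over.comp_left]; infer_instance
  · rw [Over.comp_left]; infer_instance
  · rw [Over.comp_left]; infer_instance
  · apply Limits.prod.hom_ext
    · rw [Category.assoc, hp2a, ← Category.assoc, ← Functor.map_comp, prod.lift_fst,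
        Functor.map_comp, Category.assoc, hx1, Functor.map_comp, Category.assoc, Category.assoc]
    · rw [Category.assoc, hp2b, ← Category.assoc, ← Functor.map_comp, prod.lift_snd, hx2,
        Functor.map_comp, Category.assoc, Category.assoc]

end Groth.Agent.H51.LqfDescGen
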