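import Groth.Prelude.Def_AlgSp
import Mathlib.CategoryTheory.Sites.LeftExact
import Mathlib.CategoryTheory.Limits.Types.Pullbacks
import Mathlib.CategoryTheory.Limits.Preserves.Shapes.Equalizers

/-!
# The kernel pair of the quotient sheaf of an equivalence relation (helper51)

For `s, t : R ⟶ U` over `S` an equivalence relation on `T`-points, the sheaf coequalizer `U/R` of
`h_s, h_t : h_R ⇉ h_U` has kernel pair `h_R`: the presheaf quotient has kernel pair `R` sectionwise, and
sheafification is exact.
-/

set_option autoImplicit false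
universe u
open CategoryTheory CategoryTheory.Limits AlgebraicGeometry Opposite

namespace Groth.Agent.H51.QuotKer

variable {S : Scheme.{u}}

/-- the representable presheaf of `V`, lifted one universe. -/
abbrev yP (V : Over S) : (Over S)ᵒᵖ ⥤ Type (u + 1) := yoneda.obj V ⋙ uliftFunctor.{u + 1, u}

/-- the map of lifted representable presheaves. -/
abbrev yM {V W : Over S} (g : V ⟶ W) : yP V ⟶ yP W :=
  Functor.whiskerRight (yoneda.map g) uliftFunctor.{u + 1, u}

variable {R U : Over S} (s t : R ⟶ U)

/-- the relation on `T`-points of `U`. -/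
def rel (T : (Over S)ᵒᵖ) (a b : (yP U).obj T) : Prop :=
  ∃ r : T.unop ⟶ R, r ≫ t = a.down ∧ r ≫ s = b.down

theorem rel_map {T T' : (Over S)ᵒᵖ} (f : T ⟶ T') (a b : (yP U).obj T) (h : rel s t T a b) :
    rel s t T' ((yP U).map f a) ((yP U).map f b) := by
  obtain ⟨r, h1, h2⟩ := h
  refine ⟨f.unop ≫ r, ?_, ?_⟩
  · rw [Category.assoc, h1]; rfl
  · rw [Category.assoc, h2]; rfl

/-- the presheaf quotient. -/
def PQ : (Over S)ᵒᵖ ⥤ Type (u + 1) where
  obj T := Quot (rel s t T)
  map {T T'} f := ↾(Quot.map ((yP U).map f) (rel_map s t f))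
  map_id T := by
    ext x
    induction x using Quot.ind with
    | mk a =>
      change Quot.mk _ ((yP U).map (𝟙 T) a) = Quot.mk _ a
      rw [(yP U).map_id]; rfl
  map_comp f g := by
    ext x
    induction x using Quot.ind with
    | mk a =>
      change Quot.mk _ ((yP U).map (f ≫ g) a) = Quot.mk _ ((yP U).map g ((yP U).map f a))
      rw [(yP U).map_comp]; rfl

/-- the quotient map of presheaves. -/
def pπ : yP U ⟶ PQ s t where
  app T := ↾(Quot.mk (rel s t T))
  naturality _ _ _ := rfl

theorem pπ_app {T : (Over S)ᵒᵖ} (a : (yP U).obj T) : (pπ s t).app T a = Quot.mk _ a := rfl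

theorem pπ_w : yM s ≫ pπ s t = yM t ≫ pπ s t := by
  ext T ⟨r⟩
  exact (Quot.sound (⟨r, rfl, rfl⟩ : rel s t T ⟨r ≫ t⟩ ⟨r ≫ s⟩)).symm

/-- the presheaf quotient is the coequalizer. -/
def isColimitPQ : IsColimit (Cofork.ofπ (pπ s t) (pπ_w s t)) :=
  Cofork.IsColimit.mk _
    (fun c =>
      { app := fun T => ↾(Quot.lift (fun a => c.π.app T a) (by
          rintro a b ⟨r, h1, h2⟩
          have := ConcreteCategory.congr_hom (congr_app c.condition T) ⟨r⟩
          have ha : a = (yM t).app T ⟨r⟩ := by
            apply ULift.ext; exact h1.symm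
          have hb : b = (yM s).app T ⟨r⟩ := by
            apply ULift.ext; exact h2.symm
          rw [ha, hb]
          exact this.symm))
        naturality := by
          intro T T' f
          ext x
          induction x using Quot.ind with
          | mk a => exact ConcreteCategory.congr_hom (c.π.naturality f) a })
    (fun c => by ext T a; rfl)
    (fun c m hm => by
      ext T x
      induction x using Quot.ind with
      | mk a => exact ConcreteCategory.congr_hom (congr_app hm T) a)

theorem isPullback_presheaf (h : AlgSp.IsEqvRel s t) :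
    IsPullback (yM t) (yM s) (pπ s t) (pπ s t) := by
  refine IsPullback.of_forall_isPullback_app (fun T => ?_)
  rw [Types.isPullback_iff]
  refine ⟨congr_app (pπ_w s t).symm T, ?_, ?_⟩
  · rintro ⟨x⟩ ⟨y⟩ ⟨h1, h2⟩
    congr 1
    exact h.injective T.unop x y (congr_arg ULift.down h1) (congr_arg ULift.down h2)
  · intro a b hab
    have heq : Equivalence (rel s t T) := by
      have := (h.equivalence T.unop).comap (ULift.down : (yP U).obj T → (T.unop ⟶ U))
      exact this
    have hab' : Quot.mk (rel s t T) a = Quot.mk (rel s t T) b := hab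
    have := (heq.eqvGen_iff).1 (Quot.eqvGen_exact hab')
    obtain ⟨r, h1, h2⟩ := this
    exact ⟨⟨r⟩, ULift.ext _ _ h1, ULift.ext _ _ h2⟩

section Sheafified

variable (K : Precoverage Scheme.{u})

/-- The kernel pair of `h_U ⟶ U/R` is `h_R` (sheafified representables). -/
theorem isPullback_rep (h : AlgSp.IsEqvRel s t) :
    IsPullback (QuotSh.repMap K t) (QuotSh.repMap K s) (QuotSh.quotπ K s t)
      (QuotSh.quotπ K s t) := by
  let a := presheafToSheaf (QuotSh.J K S) (Type (u + 1))
  have hpb : IsPullback (a.map (yM t)) (a.map (yM s)) (a.map (pπ s t)) (a.map (pπ s t)) :=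
    (isPullback_presheaf s t h).map a
  have hcol := isColimitCoforkMapOfIsColimit a (pπ_w s t) (isColimitPQ s t)
  let e : QuotSh.quot K s t ≅ a.obj (PQ s t) :=
    (colimit.isColimit (parallelPair (QuotSh.repMap K s)
      (QuotSh.repMap K t))).coconePointUniqueUpToIso hcol
  have he : QuotSh.quotπ K s t ≫ e.hom = a.map (pπ s t) :=
    IsColimit.comp_coconePointUniqueUpToIso_hom _ hcol WalkingParallelPair.one
  refine IsPullback.of_iso hpb (Iso.refl _) (Iso.refl _) (Iso.refl _) e.symm ?_ ?_ ?_ ?_
  · simp; rfl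
  · simp; rfl
  · rw [Iso.refl_hom, Category.id_comp, Iso.symm_hom, Iso.comp_inv_eq]; exact he.symm
  · rw [Iso.refl_hom, Category.id_comp, Iso.symm_hom, Iso.comp_inv_eq]; exact he.symm

end Sheafified

variable {s t} in
/-- naturality of the identification `rep V ≅ h_V`. -/
theorem repIso_naturality {V W : Over S} (g : V ⟶ W) :
    QuotSh.repMap Scheme.fppfPrecoverage g ≫
        (QuotSh.repIsoUliftYoneda Scheme.fppfPrecoverage W).hom =
      (QuotSh.repIsoUliftYoneda Scheme.fppfPrecoverage V).hom ≫ (AlgSp.yon S).map g :=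
  (sheafificationNatIso (AlgSp.J S) (Type (u + 1))).inv.naturality ((AlgSp.yon S).map g)

/-- the quotient map `h_U ⟶ U/R` on the representable sheaf. -/
noncomputable abbrev qmap : (AlgSp.yon S).obj U ⟶ QuotSh.quot Scheme.fppfPrecoverage s t :=
  (QuotSh.repIsoUliftYoneda Scheme.fppfPrecoverage U).inv ≫ QuotSh.quotπ Scheme.fppfPrecoverage s t

instance : Epi (qmap s t) := by
  have : Epi (QuotSh.quotπ Scheme.fppfPrecoverage s t) := by
    unfold QuotSh.quotπ; exact coequalizer.π_epi
  exact epi_comp _ _

theorem qmap_w : (AlgSp.yon S).map s ≫ qmap s t = (AlgSp.yon S).map t ≫ qmap s t := by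
  have h1 := repIso_naturality (S := S) s
  have h2 := repIso_naturality (S := S) t
  have e1 : (AlgSp.yon S).map s ≫ (QuotSh.repIsoUliftYoneda Scheme.fppfPrecoverage U).inv =
      (QuotSh.repIsoUliftYoneda Scheme.fppfPrecoverage R).inv ≫
        QuotSh.repMap Scheme.fppfPrecoverage s := by
    rw [Iso.eq_inv_comp, ← Category.assoc, ← h1, Category.assoc, Iso.hom_inv_id, Category.comp_id]
  have e2 : (AlgSp.yon S).map t ≫ (QuotSh.repIsoUliftYoneda Scheme.fppfPrecoverage U).inv =
      (QuotSh.repIsoUliftYoneda Scheme.fppfPrecoverage R).inv ≫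
        QuotSh.repMap Scheme.fppfPrecoverage t := by
    rw [Iso.eq_inv_comp, ← Category.assoc, ← h2, Category.assoc, Iso.hom_inv_id, Category.comp_id]
  unfold qmap
  rw [← Category.assoc, e1, ← Category.assoc, e2, Category.assoc, Category.assoc,
    QuotSh.quot_condition]

/-- The kernel pair of `h_U ⟶ U/R` is `h_R`, on representable sheaves. -/
theorem isPullback_yon (h : AlgSp.IsEqvRel s t) :
    IsPullback ((AlgSp.yon S).map t) ((AlgSp.yon S).map s) (qmap s t) (qmap s t) := by
  refine IsPullback.of_iso (isPullback_rep s t Scheme.fppfPrecoverage h)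
    (QuotSh.repIsoUliftYoneda Scheme.fppfPrecoverage R)
    (QuotSh.repIsoUliftYoneda Scheme.fppfPrecoverage U)
    (QuotSh.repIsoUliftYoneda Scheme.fppfPrecoverage U) (Iso.refl _) ?_ ?_ ?_ ?_
  · exact repIso_naturality t
  · exact repIso_naturality s
  · simp [qmap]
  · simp [qmap]

end Groth.Agent.H51.QuotKer
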