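import Groth.Prelude.Def_Desc
import Groth.Agent.H51.LqfDescGen
import Groth.Agent.H51.QuotKer
import Groth.Agent.H50.Kernel
import Groth.Agent.H50.Basic
import Groth.Agent.H52.MonoField

/-!
# From functor-of-points descent data to fppf sheaves (helper51)

For `p : X ⟶ S` and a descent datum `D` for schemes relative to `p`, the scheme `R = V ×_S X` (`V = D.obj.left`) with
`s = pr₁` and `t` given by the gluing bijections is an equivalence relation on `V` over `S`; its quotient sheaf `F`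
satisfies `F ×_S X = V`.  If `F` is representable by `W`, then `D` is the canonical descent datum of `W`.
-/

set_option autoImplicit false
universe u
open CategoryTheory CategoryTheory.Limits AlgebraicGeometry Opposite AlgSp

namespace Groth.Agent.H51.DDSheaf

variable {X S : Scheme.{u}} (p : X ⟶ S) (D : Desc.SchDD p)

theorem φ_congr {T : Scheme.{u}} {x₀ x₁ x₀' x₁' : T ⟶ X} (h : x₀ ≫ p = x₁ ≫ p)
    (h' : x₀' ≫ p = x₁' ≫ p) (e₀ : x₀ = x₀') (e₁ : x₁ = x₁') (v : Desc.Lifts D.obj x₀)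
    (v' : Desc.Lifts D.obj x₀') (hv : v.1 = v'.1) :
    (D.φ x₀ x₁ h v).1 = (D.φ x₀' x₁' h' v').1 := by
  subst e₀ e₁
  obtain rfl : v = v' := Subtype.ext hv
  rfl

/-- `S` as the terminal object over itself. -/
abbrev Zt (S : Scheme.{u}) : Over S := Over.mk (𝟙 S)

/-- `X` over `S`. -/
abbrev Z' : Over S := Over.mk p

/-- `p` over `S`. -/
abbrev c : Z' p ⟶ Zt S := Over.homMk p (Category.comp_id _)

/-- `V` over `S`. -/
abbrev W' : Over S := Over.mk (D.obj.hom ≫ p)

/-- `V ⟶ X` over `S`. -/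
abbrev b' : W' p D ⟶ Z' p := Over.homMk D.obj.hom rfl

/-- The relation scheme `V ×_S X`. -/
noncomputable abbrev Rs : Scheme.{u} := pullback (D.obj.hom ≫ p) p

/-- `V ×_S X` over `S`. -/
noncomputable abbrev RO : Over S := Over.mk (pullback.fst (D.obj.hom ≫ p) p ≫ D.obj.hom ≫ p)

/-- The source map. -/
noncomputable abbrev sR : RO p D ⟶ W' p D := Over.homMk (pullback.fst (D.obj.hom ≫ p) p) rfl

theorem hx01 : (pullback.fst (D.obj.hom ≫ p) p ≫ D.obj.hom) ≫ p =
    pullback.snd (D.obj.hom ≫ p) p ≫ p := by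
  rw [Category.assoc]
  exact pullback.condition

/-- The target map on schemes. -/
noncomputable def tS : Rs p D ⟶ D.obj.left :=
  (D.φ _ _ (hx01 p D) ⟨pullback.fst (D.obj.hom ≫ p) p, rfl⟩).1

theorem tS_hom : tS p D ≫ D.obj.hom = pullback.snd (D.obj.hom ≫ p) p :=
  (D.φ _ _ (hx01 p D) ⟨pullback.fst (D.obj.hom ≫ p) p, rfl⟩).2

/-- The target map. -/
noncomputable abbrev tR : RO p D ⟶ W' p D := Over.homMk (tS p D) (by
  change tS p D ≫ D.obj.hom ≫ p = pullback.fst _ _ ≫ D.obj.hom ≫ p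
  rw [← Category.assoc, tS_hom, pullback.condition])

theorem lift_tS {T : Scheme.{u}} (v : T ⟶ D.obj.left) (x₁ : T ⟶ X)
    (h : (v ≫ D.obj.hom) ≫ p = x₁ ≫ p) :
    pullback.lift v x₁ (by rw [← Category.assoc]; exact h) ≫ tS p D =
      (D.φ (v ≫ D.obj.hom) x₁ h ⟨v, rfl⟩).1 := by
  have hr1 : pullback.lift v x₁ (by rw [← Category.assoc]; exact h) ≫
      pullback.fst (D.obj.hom ≫ p) p = v := pullback.lift_fst _ _ _
  have hr2 : pullback.lift v x₁ (by rw [← Category.assoc]; exact h) ≫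
      pullback.snd (D.obj.hom ≫ p) p = x₁ := pullback.lift_snd _ _ _
  obtain ⟨r, hr⟩ : ∃ r : T ⟶ Rs p D, r = pullback.lift v x₁ (by rw [← Category.assoc]; exact h) :=
    ⟨_, rfl⟩
  rw [← hr] at hr1 hr2 ⊢
  have e₀ : r ≫ pullback.fst (D.obj.hom ≫ p) p ≫ D.obj.hom = v ≫ D.obj.hom := by
    rw [← Category.assoc, hr1]
  have h' : (r ≫ pullback.fst (D.obj.hom ≫ p) p ≫ D.obj.hom) ≫ p =
      (r ≫ pullback.snd (D.obj.hom ≫ p) p) ≫ p := by
    rw [e₀, hr2]
    exact h
  have := D.φ_natural r (pullback.fst (D.obj.hom ≫ p) p ≫ D.obj.hom)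
    (pullback.snd (D.obj.hom ≫ p) p) (hx01 p D) h' ⟨pullback.fst (D.obj.hom ≫ p) p, rfl⟩
    ⟨v, e₀.symm⟩ hr1.symm
  change r ≫ (D.φ _ _ (hx01 p D) ⟨pullback.fst (D.obj.hom ≫ p) p, rfl⟩).1 = _
  rw [← this]
  exact φ_congr p D _ _ e₀ hr2 _ _ rfl

variable {p D}

theorem hab {T : Over S} (a b : T ⟶ W' p D) :
    (b.left ≫ D.obj.hom) ≫ p = (a.left ≫ D.obj.hom) ≫ p := by
  have h1 := Over.w a
  have h2 := Over.w b
  change a.left ≫ D.obj.hom ≫ p = T.hom at h1
  change b.left ≫ D.obj.hom ≫ p = T.hom at h2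
  rw [Category.assoc, Category.assoc, h1, h2]

theorem rel_iff {T : Over S} (a b : T ⟶ W' p D) :
    (∃ r : T ⟶ RO p D, r ≫ tR p D = a ∧ r ≫ sR p D = b) ↔
      (D.φ (b.left ≫ D.obj.hom) (a.left ≫ D.obj.hom) (hab a b) ⟨b.left, rfl⟩).1 = a.left := by
  constructor
  · rintro ⟨r, rfl, rfl⟩
    have h1 : r.left ≫ pullback.snd (D.obj.hom ≫ p) p = (r ≫ tR p D).left ≫ D.obj.hom := by
      change _ = (r.left ≫ tS p D) ≫ D.obj.hom
      rw [Category.assoc, tS_hom]
    have h2 : r.left = pullback.lift (r ≫ sR p D).left ((r ≫ tR p D).left ≫ D.obj.hom)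
        (by rw [← Category.assoc]; exact hab (r ≫ tR p D) (r ≫ sR p D)) := by
      apply pullback.hom_ext
      · rw [pullback.lift_fst]; rfl
      · rw [pullback.lift_snd, h1]
    have h3 := lift_tS p D (r ≫ sR p D).left ((r ≫ tR p D).left ≫ D.obj.hom)
      (hab (r ≫ tR p D) (r ≫ sR p D))
    rw [← h2] at h3
    exact h3.symm
  · intro h
    have hr := lift_tS p D b.left (a.left ≫ D.obj.hom) (hab a b)
    refine ⟨Over.homMk (pullback.lift b.left (a.left ≫ D.obj.hom)
      (by rw [← Category.assoc]; exact hab a b)) ?_, ?_, ?_⟩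
    · change pullback.lift _ _ _ ≫ pullback.fst _ _ ≫ D.obj.hom ≫ p = T.hom
      rw [pullback.lift_fst_assoc]
      exact Over.w b
    · apply Over.OverMorphism.ext
      change pullback.lift _ _ _ ≫ tS p D = a.left
      rw [hr, h]
    · apply Over.OverMorphism.ext
      change pullback.lift _ _ _ ≫ pullback.fst _ _ = b.left
      rw [pullback.lift_fst]

theorem isEqvRel : AlgSp.IsEqvRel (sR p D) (tR p D) where
  injective T r r' ht hs := by
    apply Over.OverMorphism.ext
    apply pullback.hom_ext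
    · exact congrArg CommaMorphism.left hs
    · have h1 := congrArg CommaMorphism.left ht
      change r.left ≫ tS p D = r'.left ≫ tS p D at h1
      rw [← tS_hom, ← Category.assoc, ← Category.assoc, h1]
  equivalence T := by
    constructor
    · intro a
      rw [rel_iff]
      exact congrArg Subtype.val (D.φ_self (a.left ≫ D.obj.hom) ⟨a.left, rfl⟩)
    · intro a b hab'
      rw [rel_iff] at hab' ⊢
      have e : D.φ (b.left ≫ D.obj.hom) (a.left ≫ D.obj.hom) (hab a b) ⟨b.left, rfl⟩ =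
          ⟨a.left, rfl⟩ := Subtype.ext hab'
      have := D.φ_comp (b.left ≫ D.obj.hom) (a.left ≫ D.obj.hom) (b.left ≫ D.obj.hom) (hab a b)
        (hab b a) ⟨b.left, rfl⟩
      rw [e] at this
      rw [this]
      exact congrArg Subtype.val (D.φ_self (b.left ≫ D.obj.hom) ⟨b.left, rfl⟩)
    · intro a b c' h1 h2
      rw [rel_iff] at h1 h2 ⊢
      have e2 : D.φ (c'.left ≫ D.obj.hom) (b.left ≫ D.obj.hom) (hab b c') ⟨c'.left, rfl⟩ =
          ⟨b.left, rfl⟩ := Subtype.ext h2
      have := D.φ_comp (c'.left ≫ D.obj.hom) (b.left ≫ D.obj.hom) (a.left ≫ D.obj.hom) (hab b c')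
        (hab a b) ⟨c'.left, rfl⟩
      rw [e2] at this
      rw [← this]
      exact h1

variable (p D)

/-- The quotient sheaf of the descent datum. -/
noncomputable abbrev F : Sp S := QuotSh.quot Scheme.fppfPrecoverage (sR p D) (tR p D)

/-- The quotient map. -/
noncomputable abbrev a : (yon S).obj (W' p D) ⟶ F p D := QuotKer.qmap (sR p D) (tR p D)

theorem ker : IsPullback ((yon S).map (tR p D)) ((yon S).map (sR p D)) (a p D) (a p D) :=
  QuotKer.isPullback_yon (sR p D) (tR p D) isEqvRel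

theorem hT (S : Scheme.{u}) : Nonempty (IsTerminal ((yon S).obj (Zt S))) :=
  ⟨IsTerminal.isTerminalObj (yon S) _ Over.mkIdTerminal⟩

/-- The structure map of the quotient sheaf. -/
noncomputable def π : F p D ⟶ (yon S).obj (Zt S) := (hT S).some.from _

variable {p D}

theorem a_eq_of_rel {T : Over S} (x y : T ⟶ W' p D)
    (h : (D.φ (y.left ≫ D.obj.hom) (x.left ≫ D.obj.hom) (hab x y) ⟨y.left, rfl⟩).1 = x.left) :
    (yon S).map x ≫ a p D = (yon S).map y ≫ a p D := by
  obtain ⟨r, rfl, rfl⟩ := (rel_iff x y).2 h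
  rw [Functor.map_comp, Functor.map_comp, Category.assoc, Category.assoc, (ker p D).w]

theorem rel_of_a_eq {T : Over S} (x y : T ⟶ W' p D)
    (h : (yon S).map x ≫ a p D = (yon S).map y ≫ a p D) :
    (D.φ (y.left ≫ D.obj.hom) (x.left ≫ D.obj.hom) (hab x y) ⟨y.left, rfl⟩).1 = x.left := by
  rw [← rel_iff]
  obtain ⟨r, hr⟩ := (yon S).map_surjective ((ker p D).lift _ _ h)
  refine ⟨r, (yon S).map_injective ?_, (yon S).map_injective ?_⟩
  · rw [Functor.map_comp, hr, (ker p D).lift_fst]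
  · rw [Functor.map_comp, hr, (ker p D).lift_snd]

theorem sq0 : IsPullback (a p D) ((yon S).map (b' p D)) (π p D) ((yon S).map (c p)) := by
  have hw : a p D ≫ π p D = (yon S).map (b' p D) ≫ (yon S).map (c p) := (hT S).some.hom_ext _ _
  let m : (yon S).obj (W' p D) ⟶ pullback (π p D) ((yon S).map (c p)) :=
    pullback.lift (a p D) ((yon S).map (b' p D)) hw
  have hm1 : m ≫ pullback.fst _ _ = a p D := pullback.lift_fst _ _ _
  have hm2 : m ≫ pullback.snd _ _ = (yon S).map (b' p D) := pullback.lift_snd _ _ _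
  have hmono : Mono m := by
    apply H50.mono_of_forall_yon
    intro T x y hxy
    obtain ⟨x₀, rfl⟩ := (yon S).map_surjective x
    obtain ⟨y₀, rfl⟩ := (yon S).map_surjective y
    have h1 : (yon S).map x₀ ≫ a p D = (yon S).map y₀ ≫ a p D := by
      rw [← hm1, ← Category.assoc, hxy, Category.assoc]
    have h2 : x₀ ≫ b' p D = y₀ ≫ b' p D := by
      apply (yon S).map_injective
      rw [Functor.map_comp, Functor.map_comp, ← hm2, ← Category.assoc, hxy, Category.assoc]
    have h3 := rel_of_a_eq x₀ y₀ h1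
    have h4 : y₀.left ≫ D.obj.hom = x₀.left ≫ D.obj.hom :=
      (congrArg CommaMorphism.left h2).symm
    congr 1
    apply Over.OverMorphism.ext
    rw [← h3]
    have := D.φ_self (y₀.left ≫ D.obj.hom) ⟨y₀.left, rfl⟩
    rw [φ_congr p D (hab x₀ y₀) rfl rfl h4.symm ⟨y₀.left, rfl⟩ ⟨y₀.left, rfl⟩ rfl, this]
  have hepi : Epi m := by
    apply H50.epi_of_local_lift
    intro T y
    obtain ⟨x, hx⟩ := (yon S).map_surjective (y ≫ pullback.snd _ _)
    obtain ⟨Sg, hSg, hl⟩ := H50.exists_local_lift (a p D) (y ≫ pullback.fst _ _)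
    refine ⟨Sg, hSg, fun T' f hf => ?_⟩
    obtain ⟨v, hv⟩ := hl f hf
    obtain ⟨v₀, rfl⟩ := (yon S).map_surjective v
    have hfx : (v₀.left ≫ D.obj.hom) ≫ p = (f ≫ x).left ≫ p := by
      have h1 := Over.w v₀
      have h2 := Over.w (f ≫ x)
      change v₀.left ≫ D.obj.hom ≫ p = T'.hom at h1
      change (f ≫ x).left ≫ p = T'.hom at h2
      rw [Category.assoc, h1, h2]
    let v₁ := D.φ (v₀.left ≫ D.obj.hom) (f ≫ x).left hfx ⟨v₀.left, rfl⟩
    let v₁O : T' ⟶ W' p D := Over.homMk v₁.1 (by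
      change v₁.1 ≫ D.obj.hom ≫ p = T'.hom
      rw [← Category.assoc, v₁.2]
      exact Over.w (f ≫ x))
    have hb : v₁O ≫ b' p D = f ≫ x := by
      apply Over.OverMorphism.ext
      exact v₁.2
    have ha : (yon S).map v₁O ≫ a p D = (yon S).map v₀ ≫ a p D := by
      apply a_eq_of_rel
      exact φ_congr p D _ hfx rfl v₁.2 ⟨v₀.left, rfl⟩ ⟨v₀.left, rfl⟩ rfl
    refine ⟨(yon S).map v₁O, ?_⟩
    apply pullback.hom_ext
    · rw [Category.assoc, hm1, ha, hv, Category.assoc]
    · rw [Category.assoc, hm2, ← Functor.map_comp, hb, Functor.map_comp, hx, Category.assoc]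
  have hiso : IsIso m := isIso_of_mono_of_epi m
  exact IsPullback.of_iso_pullback ⟨hw⟩ (asIso m) hm1 hm2

/-- A morphism of descent data whose underlying morphism is invertible is invertible. -/
theorem exists_iso_of_hom {D₁ D₂ : Desc.SchDD p} (f : D₁ ⟶ D₂) (g : D₂.obj ⟶ D₁.obj)
    (h1 : f.hom ≫ g = 𝟙 _) (h2 : g ≫ f.hom = 𝟙 _) : Nonempty (D₁ ≅ D₂) := by
  have h1l : f.hom.left ≫ g.left = 𝟙 _ := congrArg CommaMorphism.left h1
  have h2l : g.left ≫ f.hom.left = 𝟙 _ := congrArg CommaMorphism.left h2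
  let gi : D₂ ⟶ D₁ := ⟨g, fun T x₀ x₁ h v w hw => by
    have hv : v.1 = w.1 ≫ f.hom.left := by
      rw [hw, Category.assoc, h2l, Category.comp_id]
    have := f.comm x₀ x₁ h w v hv
    rw [this, Category.assoc, h1l, Category.comp_id]⟩
  exact ⟨⟨f, gi, Desc.SchDD.hom_ext h1, Desc.SchDD.hom_ext h2⟩⟩

/-- If the quotient sheaf of a descent datum is representable, the descent datum is effective. -/
theorem effective_of_rep (hrep : AlgSp.Representable (π p D)) :
    ∃ U : Over S, Nonempty ((Desc.toDD p).obj U ≅ D) := by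
  obtain ⟨W, w, fstW, sqW⟩ := hrep (𝟙 ((yon S).obj (Zt S)))
  have hiso : IsIso fstW := sqW.isIso_fst_of_isIso
  obtain ⟨k, hk⟩ := (yon S).map_surjective (a p D ≫ inv fstW)
  have hkW : (yon S).map k ≫ fstW = a p D := by rw [hk, Category.assoc, IsIso.inv_hom_id,
    Category.comp_id]
  have sqO' : IsPullback ((yon S).map k) ((yon S).map (b' p D)) ((yon S).map w)
      ((yon S).map (c p)) := by
    refine IsPullback.of_iso sq0 (Iso.refl _) (asIso fstW).symm (Iso.refl _) (Iso.refl _) ?_ ?_ ?_ ?_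
    · simp [hk]
    · simp
    · exact (hT S).some.hom_ext _ _
    · simp
  have sqO : IsPullback k (b' p D) w (c p) :=
    IsPullback.of_map (yon S) (Over.mkIdTerminal.hom_ext _ _) sqO'
  have sqS : IsPullback k.left D.obj.hom w.left p := sqO.map (Over.forget S)
  have hwl : w.left = W.hom := by
    have := Over.w w
    simpa using this
  rw [hwl] at sqS
  -- the comparison with the fibre product
  let θi : D.obj.left ⟶ pullback p W.hom := pullback.lift D.obj.hom k.left sqS.w.symm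
  let θ : pullback p W.hom ⟶ D.obj.left :=
    sqS.lift (pullback.snd p W.hom) (pullback.fst p W.hom) pullback.condition.symm
  have hθ1 : θ ≫ θi = 𝟙 _ := by
    apply pullback.hom_ext
    · rw [Category.assoc, pullback.lift_fst, sqS.lift_snd, Category.id_comp]
    · rw [Category.assoc, pullback.lift_snd, sqS.lift_fst, Category.id_comp]
  have hθ2 : θi ≫ θ = 𝟙 _ := by
    apply sqS.hom_ext
    · rw [Category.assoc, sqS.lift_fst, pullback.lift_snd, Category.id_comp]
    · rw [Category.assoc, sqS.lift_snd, pullback.lift_fst, Category.id_comp]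
  have hkφ : ∀ ⦃T : Scheme.{u}⦄ (x₀ x₁ : T ⟶ X) (h : x₀ ≫ p = x₁ ≫ p) (v : Desc.Lifts D.obj x₀),
      (D.φ x₀ x₁ h v).1 ≫ k.left = v.1 ≫ k.left := by
    intro T x₀ x₁ h v
    have hv1 : v.1 ≫ D.obj.hom ≫ p = x₀ ≫ p := by rw [← Category.assoc, v.2]
    have hv2 : (D.φ x₀ x₁ h v).1 ≫ D.obj.hom ≫ p = x₀ ≫ p := by
      rw [← Category.assoc, (D.φ x₀ x₁ h v).2, h]
    let vO : Over.mk (x₀ ≫ p) ⟶ W' p D := Over.homMk v.1 hv1
    let vO' : Over.mk (x₀ ≫ p) ⟶ W' p D := Over.homMk (D.φ x₀ x₁ h v).1 hv2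
    have hrel : (yon S).map vO' ≫ a p D = (yon S).map vO ≫ a p D := by
      apply a_eq_of_rel
      exact φ_congr p D _ h v.2 (D.φ x₀ x₁ h v).2 ⟨v.1, rfl⟩ v rfl
    have : vO' ≫ k = vO ≫ k := by
      apply (yon S).map_injective
      rw [Functor.map_comp, Functor.map_comp, hk, ← Category.assoc, hrel, Category.assoc]
    exact congrArg CommaMorphism.left this
  let f : D ⟶ (Desc.toDD p).obj W :=
    ⟨Over.homMk θi (pullback.lift_fst _ _ _), fun T x₀ x₁ h v w' hw' => by
      change (Desc.canMap p W x₀ x₁ h w').1 = (D.φ x₀ x₁ h v).1 ≫ θi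
      rw [Desc.canMap_val]
      apply pullback.hom_ext
      · rw [pullback.lift_fst, Category.assoc, pullback.lift_fst]
        exact ((D.φ x₀ x₁ h v).2).symm
      · rw [pullback.lift_snd, Category.assoc, pullback.lift_snd, hkφ]
        have : w'.1 = v.1 ≫ θi := hw'
        rw [this, Category.assoc, pullback.lift_snd]⟩
  have hθfst : θ ≫ D.obj.hom = pullback.fst p W.hom := sqS.lift_snd _ _ _
  obtain ⟨e⟩ := exists_iso_of_hom f (Over.homMk θ hθfst)
    (by apply Over.OverMorphism.ext; exact hθ2) (by apply Over.OverMorphism.ext; exact hθ1)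
  exact ⟨W, ⟨e.symm⟩⟩

end Groth.Agent.H51.DDSheaf
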