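import Groth.Agent.H51.AffQuot
import Groth.Agent.H51.DescCrit2
import Groth.Agent.H51.DDSheaf

/-!
# Effectivity of affine descent data along a flat surjective morphism of affine schemes (helper51)
-/

set_option autoImplicit false
universe u
open CategoryTheory CategoryTheory.Limits AlgebraicGeometry Opposite Desc

namespace Groth.Agent.H51.AffEff

open Groth.Agent.H51.DescCrit Groth.Agent.H51.DDSheaf

/-- Effectivity for the one-member family and for the morphism are the same. -/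
theorem eff_iff {X S : Scheme.{u}} (p : X ⟶ S) (D : SchDD p) :
    (∃ U : Over S, Nonempty ((toDD p).obj U ≅ D)) ↔
      ((SchDDFam.ofSchDD.{u} p).obj D).IsEffective := by
  constructor
  · rintro ⟨U, ⟨e⟩⟩
    exact ⟨U, ⟨(SchDDFam.ofSchDD.{u} p).mapIso e⟩⟩
  · rintro ⟨U, ⟨e⟩⟩
    exact ⟨U, ⟨(SchDDFam.toSchDD.{u} p).mapIso e⟩⟩

variable {X S : Scheme.{u}} (p : X ⟶ S) (D : SchDD p)

/-- A quotient of `V` by the descent relation is a solution. -/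
theorem isSol_of_quotient (W : Over S) (k : D.obj.left ⟶ W.left)
    (sq : IsPullback k D.obj.hom W.hom p)
    (hk : tS p D ≫ k = pullback.fst (D.obj.hom ≫ p) p ≫ k) :
    IsSol ((SchDDFam.ofSchDD.{u} p).obj D) W (fun _ => k) where
  sq _ := sq
  inv T _ _ x₀ x₁ h v := by
    obtain ⟨v', rfl⟩ : ∃ v' : Lifts D.obj x₀, v' = v := ⟨v, rfl⟩
    change (D.φ x₀ x₁ h v').1 ≫ k = v'.1 ≫ k
    have h' : (v'.1 ≫ D.obj.hom) ≫ p = x₁ ≫ p := by rw [v'.2]; exact h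
    have e1 := lift_tS p D v'.1 x₁ h'
    have e2 : (D.φ (v'.1 ≫ D.obj.hom) x₁ h' ⟨v'.1, rfl⟩).1 = (D.φ x₀ x₁ h v').1 :=
      φ_congr p D h' h v'.2 rfl _ _ rfl
    rw [← e2, ← e1, Category.assoc, hk, ← Category.assoc, pullback.lift_fst]

theorem effective_of_affine [IsAffine X] [IsAffine S] [Flat p] [IsAffine D.obj.left] :
    ∃ U : Over S, Nonempty ((toDD p).obj U ≅ D) := by
  rw [eff_iff]
  let a1 := pullback.fst (D.obj.hom ≫ p) p
  let b2 := pullback.snd (D.obj.hom ≫ p) p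
  have hW2 : IsPullback a1 b2 (D.obj.hom ≫ p) p := IsPullback.of_hasPullback _ _
  let a2 := pullback.fst (a1 ≫ D.obj.hom ≫ p) p
  let b3 := pullback.snd (a1 ≫ D.obj.hom ≫ p) p
  have hW3 : IsPullback a2 b3 (a1 ≫ D.obj.hom ≫ p) p := IsPullback.of_hasPullback _ _
  have c13 : (a2 ≫ a1) ≫ D.obj.hom ≫ p = b3 ≫ p := by rw [Category.assoc, hW3.w]
  have c23 : (a2 ≫ tS p D) ≫ D.obj.hom ≫ p = b3 ≫ p := by
    rw [Category.assoc, ← Category.assoc (tS p D), tS_hom, ← hW2.w, hW3.w]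
  let t13 : pullback (a1 ≫ D.obj.hom ≫ p) p ⟶ pullback (D.obj.hom ≫ p) p :=
    pullback.lift (a2 ≫ a1) b3 c13
  let t23 : pullback (a1 ≫ D.obj.hom ≫ p) p ⟶ pullback (D.obj.hom ≫ p) p :=
    pullback.lift (a2 ≫ tS p D) b3 c23
  have t13a : t13 ≫ a1 = a2 ≫ a1 := pullback.lift_fst _ _ _
  have t13b : t13 ≫ b2 = b3 := pullback.lift_snd _ _ _
  have t23a : t23 ≫ a1 = a2 ≫ tS p D := pullback.lift_fst _ _ _
  have t23b : t23 ≫ b2 = b3 := pullback.lift_snd _ _ _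
  -- the cocycle condition
  have hx02 : ((a2 ≫ a1) ≫ D.obj.hom) ≫ p = b3 ≫ p := by rw [Category.assoc]; exact c13
  have hx01' : ((a2 ≫ a1) ≫ D.obj.hom) ≫ p = (a2 ≫ b2) ≫ p := by
    rw [Category.assoc, Category.assoc, Category.assoc, ← hW2.w]
  have hx12 : (a2 ≫ b2) ≫ p = b3 ≫ p := hx01'.symm.trans hx02
  have e13 : t13 ≫ tS p D = (D.φ ((a2 ≫ a1) ≫ D.obj.hom) b3 hx02 ⟨a2 ≫ a1, rfl⟩).1 :=
    lift_tS p D (a2 ≫ a1) b3 hx02
  have ea2 : a2 ≫ tS p D =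
      (D.φ ((a2 ≫ a1) ≫ D.obj.hom) (a2 ≫ b2) hx01' ⟨a2 ≫ a1, rfl⟩).1 := by
    have h0 : a2 = pullback.lift (a2 ≫ a1) (a2 ≫ b2)
        ((Category.assoc _ _ _).symm.trans hx01') := by
      apply pullback.hom_ext
      · rw [pullback.lift_fst]
      · rw [pullback.lift_snd]
    have := lift_tS p D (a2 ≫ a1) (a2 ≫ b2) hx01'
    rw [← h0] at this
    exact this
  have hx12' : ((a2 ≫ tS p D) ≫ D.obj.hom) ≫ p = b3 ≫ p := by rw [Category.assoc]; exact c23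
  have e23 : t23 ≫ tS p D = (D.φ ((a2 ≫ tS p D) ≫ D.obj.hom) b3 hx12' ⟨a2 ≫ tS p D, rfl⟩).1 :=
    lift_tS p D (a2 ≫ tS p D) b3 hx12'
  have hfork : t13 ≫ tS p D = t23 ≫ tS p D := by
    rw [e13, e23]
    have hmid : (a2 ≫ tS p D) ≫ D.obj.hom = a2 ≫ b2 := by rw [Category.assoc, tS_hom]
    rw [φ_congr p D hx12' hx12 hmid rfl ⟨a2 ≫ tS p D, rfl⟩
      (D.φ ((a2 ≫ a1) ≫ D.obj.hom) (a2 ≫ b2) hx01' ⟨a2 ≫ a1, rfl⟩) ea2, D.φ_comp]
  -- the unit
  let δ : D.obj.left ⟶ pullback (D.obj.hom ≫ p) p := pullback.lift (𝟙 _) D.obj.hom (by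
    rw [Category.id_comp])
  have hδ : δ ≫ tS p D = 𝟙 _ := by
    have h0 : ((𝟙 D.obj.left) ≫ D.obj.hom) ≫ p = D.obj.hom ≫ p := by rw [Category.id_comp]
    have e1 := lift_tS p D (𝟙 _) D.obj.hom h0
    change δ ≫ tS p D = _ at e1
    rw [e1, φ_congr p D h0 rfl (Category.id_comp _) rfl ⟨𝟙 _, rfl⟩ ⟨𝟙 _, Category.id_comp _⟩ rfl,
      D.φ_self]
  have : IsAffine D.obj.left := inferInstance
  obtain ⟨W, w, k, hWaff, sq, hinv⟩ := AffQuot.exists_affine_quotient p D.obj.hom a1 b2 hW2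
    (tS p D) (tS_hom p D) a2 b3 hW3 t13 t23 t13a t13b t23a t23b hfork δ hδ
  exact (isSol_of_quotient p D (Over.mk w) k sq hinv).isEffective

end Groth.Agent.H51.AffEff
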