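import Groth.Agent.H51.DescCrit2
import Groth.Agent.H49.DescFF

/-!
# Effectivity of descent data can be tested after an fpqc refinement of the family (helper51)
-/

set_option autoImplicit false
universe w' w u

open CategoryTheory CategoryTheory.Limits AlgebraicGeometry Desc

namespace Groth.Agent.H51.DescRefine

open Groth.Agent.H51.DescCrit

variable {S : Scheme.{u}} {ι : Type w'} {κ : Type w} {U : ι → Scheme.{u}} {V : κ → Scheme.{u}}
  {a : ∀ i, U i ⟶ S} {b : ∀ j, V j ⟶ S} {α : ι → κ} {g : ∀ i, U i ⟶ V (α i)}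

/-- If the pullback of a descent datum along a refinement by an fpqc covering family is effective, so is the
descent datum. -/
theorem isEffective_of_pull (hw : ∀ i, g i ≫ b (α i) = a i ≫ 𝟙 S)
    (ha : Presieve.ofArrows U a ∈ Scheme.fpqcPrecoverage S) (D : SchDDFam b)
    (h : ((pullDDFam hw).obj D).IsEffective) : D.IsEffective := by
  obtain ⟨W, ⟨e⟩⟩ := h
  obtain ⟨c⟩ := ((isSol_canonical (f := b) W).pull hw).nonempty_iso
  have hff := Groth.Agent.H49.pullDDFam_full_faithful (a := a) (b := b) (g := g) hw (by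
    intro T j y Z
    have h1 : Sieve.ofArrows U a ∈ Scheme.fpqcTopology S :=
      Precoverage.generate_mem_toGrothendieck ha
    have h2 := Scheme.fpqcTopology.pullback_stable (y ≫ b j) h1
    exact (GrothendieckTopology.Subcanonical.isSheaf_of_isRepresentable
      (J := Scheme.fpqcTopology) (yoneda.obj Z)) _ h2)
  have := hff.1
  have := hff.2
  let isoW : Over.mk (pullback.snd W.hom (𝟙 S)) ≅ W :=
    Over.isoMk (asIso (pullback.fst W.hom (𝟙 S))) (by
      simp only [asIso_hom, Over.mk_hom]
      rw [pullback.condition, Category.comp_id])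
  let e2 : (pullDDFam hw).obj ((toDDFam b).obj W) ≅ (pullDDFam hw).obj D :=
    c.symm ≪≫ (toDDFam a).mapIso isoW ≪≫ e
  exact ⟨W, ⟨(pullDDFam hw).preimageIso e2⟩⟩

end Groth.Agent.H51.DescRefine
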