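import Groth.Agent.H65.DescLoc
import Groth.Agent.H51.DescRefine
import Groth.Agent.H51.AffEff

/-!
# fpqc descent for schemes: reduction of effectivity to a faithfully flat morphism of affine schemes (helper51)
-/

set_option autoImplicit false
universe u
open CategoryTheory CategoryTheory.Limits AlgebraicGeometry Opposite Desc

namespace Groth.Agent.H51.DescAssemble

open Groth.Agent.H51.DescCrit Groth.Agent.H51.AffEff

theorem mem_fpqc_single {X S : Scheme.{u}} (p : X ⟶ S) [Flat p] [Surjective p] [QuasiCompact p] :
    Presieve.ofArrows (fun _ : PUnit.{u + 1} => X) (fun _ => p) ∈ Scheme.fpqcPrecoverage S := by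
  rw [Presieve.ofArrows_pUnit]
  exact p.singleton_mem_fpqcPrecoverage

/-- Effectivity of a one-member family datum in terms of the associated datum for the morphism. -/
theorem isEffective_of_toSchDD {X S : Scheme.{u}} (p : X ⟶ S)
    (E : SchDDFam (fun _ : PUnit.{u + 1} => p))
    (h : ∃ U : Over S, Nonempty ((toDD p).obj U ≅ (SchDDFam.toSchDD.{u} p).obj E)) :
    E.IsEffective :=
  (eff_iff p ((SchDDFam.toSchDD.{u} p).obj E)).1 h

/-- Reduction of effectivity of descent data along a surjective flat quasi-compact morphism to the case of a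
faithfully flat morphism of affine schemes, for a class `P` of structure morphisms stable under base change. -/
theorem effective_of_local (P : ∀ {A B : Scheme.{u}}, (A ⟶ B) → Prop)
    (hP : ∀ {A B B' : Scheme.{u}} (f : A ⟶ B) (g : B' ⟶ B), P f → P (pullback.snd f g))
    (heff : ∀ {X S : Scheme.{u}} (p : X ⟶ S) [IsAffine X] [IsAffine S] [Flat p] [Surjective p]
      (D : SchDD p), P D.obj.hom → ∃ U : Over S, Nonempty ((toDD p).obj U ≅ D))
    {X S : Scheme.{u}} (p : X ⟶ S) [Surjective p] [Flat p] [QuasiCompact p]
    (D : SchDD p) (hD : P D.obj.hom) : ∃ U : Over S, Nonempty ((toDD p).obj U ≅ D) := by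
  rw [eff_iff]
  refine Groth.Agent.H65.DescLoc.isEffective_of_affineOpens (fun _ : PUnit.{u + 1} => p)
    (mem_fpqc_single p) _ (fun a => ?_)
  -- the situation over the affine open `a`
  have haff : IsAffine (a.1 : Scheme.{u}) := a.2
  have hqc : QuasiCompact (pullback.snd p a.1.ι) := MorphismProperty.pullback_snd _ _ inferInstance
  have hfl : Flat (pullback.snd p a.1.ι) := MorphismProperty.pullback_snd _ _ inferInstance
  have hsj : Surjective (pullback.snd p a.1.ι) := MorphismProperty.pullback_snd _ _ inferInstance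
  have hcomp : CompactSpace ↥(pullback p a.1.ι) :=
    QuasiCompact.compactSpace_of_compactSpace (pullback.snd p a.1.ι)
  -- a finite affine open cover of `X_a`
  let 𝒰 := (pullback p a.1.ι).affineCover.finiteSubcover
  have h𝒰aff : ∀ i, IsAffine (𝒰.X i) := fun i => by
    dsimp only [𝒰, Scheme.OpenCover.finiteSubcover]
    infer_instance
  let e : (∐ 𝒰.X) ⟶ pullback p a.1.ι := Sigma.desc 𝒰.f
  have hefl : Flat e := inferInstance
  have hesj : Surjective e := inferInstance
  have hX'aff : IsAffine (∐ 𝒰.X) := inferInstance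
  have hqc' : QuasiCompact (e ≫ pullback.snd p a.1.ι) := inferInstance
  refine Groth.Agent.H51.DescRefine.isEffective_of_pull
    (U := fun _ : PUnit.{u + 1} => ∐ 𝒰.X) (V := fun _ : PUnit.{u + 1} => pullback p a.1.ι)
    (a := fun _ => e ≫ pullback.snd p a.1.ι) (b := fun _ => pullback.snd p a.1.ι)
    (α := id) (g := fun _ => e) (fun _ => (Category.comp_id _).symm)
    (mem_fpqc_single (e ≫ pullback.snd p a.1.ι)) _ ?_
  refine isEffective_of_toSchDD _ _ (heff _ _ ?_)
  exact hP _ e (hP _ _ hD)

end Groth.Agent.H51.DescAssemble
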