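import Groth.Agent.H51.DiagSep
import Groth.Agent.S9984
import Groth.Agent.S9985
import Groth.Agent.S9901
import Groth.Agent.S9903

/-! Proper morphisms of algebraic spaces: base change and composition (helper51). -/

set_option autoImplicit false
universe u
open CategoryTheory CategoryTheory.Limits AlgebraicGeometry
open AlgSp

namespace Groth.Agent.H51

variable {S : Scheme.{u}}

/-- Base change of quasi-compact morphisms. -/
theorem isQuasiCompactMor_of_isPullback {F G G' F' : Sp S} {f : F ⟶ G} {g : G' ⟶ G} {fst : F' ⟶ F}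
    {f' : F' ⟶ G'} (sq : IsPullback fst f' f g) (hf : IsQuasiCompactMor f) :
    IsQuasiCompactMor f' := by
  intro Z Z' hZ hZq k fst' snd' sq'
  exact hf hZ hZq (k ≫ g) (fst' ≫ fst) snd' (sq'.paste_horiz sq)

/-- Base change of universal properties. -/
theorem univSp_of_isPullback (Q : MorphismProperty (Sp S)) {F G G' F' : Sp S} {f : F ⟶ G}
    {g : G' ⟶ G} {fst : F' ⟶ F} {f' : F' ⟶ G'} (sq : IsPullback fst f' f g) (hf : UnivSp Q f) :
    UnivSp Q f' := by
  intro Z Z' hZ k fst' snd' sq'
  exact hf hZ (k ≫ g) (fst' ≫ fst) snd' (sq'.paste_horiz sq)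

/-- Composition of quasi-compact morphisms of algebraic spaces. -/
theorem isQuasiCompactMor_comp {F G H : Sp S} (hG : IsAlgSpace G) (hH : IsAlgSpace H) {f : F ⟶ G}
    {g : G ⟶ H} (hf : IsQuasiCompactMor f) (hg : IsQuasiCompactMor g) :
    IsQuasiCompactMor (f ≫ g) := by
  intro Z Z' hZ hZq k fst snd sq
  have sqG := IsPullback.of_hasPullback g k
  have hGZ : IsAlgSpace (pullback g k) :=
    Groth.Agent.H52.isAlgSpace_of_isPullback sqG hH.diag hG hZ
  have hGZq : IsQuasiCompactSp (pullback g k) := hg hZ hZq k _ _ sqG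
  have hw : (fst ≫ f) ≫ g = snd ≫ k := by rw [Category.assoc]; exact sq.w
  have sq1 : IsPullback fst (pullback.lift (fst ≫ f) snd hw) f (pullback.fst g k) := by
    refine IsPullback.of_bot ?_ (pullback.lift_fst _ _ _).symm sqG
    rw [pullback.lift_snd]
    exact sq
  exact hf hGZ hGZq _ _ _ sq1

/-- Composition of universally closed morphisms of algebraic spaces. -/
theorem isUnivClosedMor_comp {F G H : Sp S} (hG : IsAlgSpace G) (hH : IsAlgSpace H) {f : F ⟶ G}
    {g : G ⟶ H} (hf : IsUnivClosedMor f) (hg : IsUnivClosedMor g) :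
    IsUnivClosedMor (f ≫ g) := by
  intro Z Z' hZ k fst snd sq
  have sqG := IsPullback.of_hasPullback g k
  have hGZ : IsAlgSpace (pullback g k) :=
    Groth.Agent.H52.isAlgSpace_of_isPullback sqG hH.diag hG hZ
  have h2 : IsClosedMap (Points.map (pullback.snd g k)) := hg hZ k _ _ sqG
  have hw : (fst ≫ f) ≫ g = snd ≫ k := by rw [Category.assoc]; exact sq.w
  have sq1 : IsPullback fst (pullback.lift (fst ≫ f) snd hw) f (pullback.fst g k) := by
    refine IsPullback.of_bot ?_ (pullback.lift_fst _ _ _).symm sqG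
    rw [pullback.lift_snd]
    exact sq
  have h1 : IsClosedMap (Points.map (pullback.lift (fst ≫ f) snd hw)) := hf hGZ _ _ _ sq1
  have e : Points.map snd =
      Points.map (pullback.snd g k) ∘ Points.map (pullback.lift (fst ≫ f) snd hw) := by
    funext x
    rw [Function.comp_apply, ← Points.map_comp, pullback.lift_snd]
  show IsClosedMap (Points.map snd)
  rw [e]
  exact h2.comp h1

/-- The diagonal of a composite. -/
theorem diagonal_comp_eq {C : Type*} [Category C] [HasPullbacks C] {X Y Z : C} (f : X ⟶ Y)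
    (g : Y ⟶ Z) : pullback.diagonal (f ≫ g) = pullback.diagonal f ≫ pullback.mapDesc f f g := by
  apply pullback.hom_ext
  · rw [pullback.diagonal_fst, Category.assoc, pullback.lift_fst, Category.comp_id,
      pullback.diagonal_fst]
  · rw [pullback.diagonal_snd, Category.assoc, pullback.lift_snd, Category.comp_id,
      pullback.diagonal_snd]

/-- Base change of a proper morphism of algebraic spaces. -/
theorem isProperMor_of_isPullback {X Y Y' X' : AlgSp.Space S} (f : X ⟶ Y) (g : Y' ⟶ Y)
    (fst : X' ⟶ X) (f' : X' ⟶ Y') (sq : IsPullback fst.hom f'.hom f.hom g.hom)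
    (hf : IsProperMor f.hom) : IsProperMor f'.hom := by
  refine ⟨?_, ⟨Groth.Agent.S9984.result _ (Or.inl rfl) f g fst f' sq hf.2.1.1,
    isQuasiCompactMor_of_isPullback sq hf.2.1.2⟩, univSp_of_isPullback _ sq hf.2.2⟩
  refine (Groth.Agent.S9903.result f').1.2 fun Z hZ k P fst' snd' sq' => ?_
  exact (Groth.Agent.S9903.result f).1.1 hf.1 Z hZ (k ≫ g.hom) P (fst' ≫ fst.hom) snd'
    (sq'.paste_horiz sq)

/-- Composition of proper morphisms of algebraic spaces. -/
theorem isProperMor_comp {X Y Z : AlgSp.Space S} (f : X ⟶ Y) (g : Y ⟶ Z)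
    (hf : IsProperMor f.hom) (hg : IsProperMor g.hom) : IsProperMor (f ≫ g).hom := by
  have inst1 := AlgSp.repWith_isStableUnderBaseChange (S := S) @IsClosedImmersion
  have inst2 := AlgSp.repWith_isMultiplicative (S := S) @IsClosedImmersion
  refine ⟨?_, ⟨Groth.Agent.S9985.result _ (Or.inl rfl) f g hf.2.1.1 hg.2.1.1,
    isQuasiCompactMor_comp Y.property Z.property hf.2.1.2 hg.2.1.2⟩,
    isUnivClosedMor_comp Y.property Z.property hf.2.2 hg.2.2⟩
  show RepWith @IsClosedImmersion (pullback.diagonal (f.hom ≫ g.hom))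
  rw [diagonal_comp_eq]
  exact (RepWith @IsClosedImmersion).comp_mem _ _ hf.1
    ((Groth.Agent.S9901.result f f g).2.2.2.2.2.1 hg.1)

end Groth.Agent.H51
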