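import Groth.Agent.H51.DiagOpen
import Groth.Agent.H50.Etale
import Groth.Agent.S9922
import Mathlib.AlgebraicGeometry.ZariskisMainTheorem

/-! Separatedness via universal closedness of the diagonal (helper51). -/

set_option autoImplicit false
universe u
open CategoryTheory CategoryTheory.Limits AlgebraicGeometry
open AlgSp

namespace Groth.Agent.H51

variable {S : Scheme.{u}}

/-- The relative diagonal of a morphism from an algebraic space is representable. -/
theorem representable_pullback_diagonal {F G : Sp S} (hF : IsAlgSpace F) (f : F ⟶ G) :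
    Representable (pullback.diagonal f) := by
  have hm : Mono (prod.lift (pullback.fst f f) (pullback.snd f f)) := ⟨fun x y hxy => by
    have h1 := congr($hxy ≫ prod.fst)
    have h2 := congr($hxy ≫ prod.snd)
    simp only [Category.assoc, prod.lift_fst, prod.lift_snd] at h1 h2
    exact pullback.hom_ext h1 h2⟩
  apply Groth.Agent.H52.representable_of_comp_mono (pullback.diagonal f)
    (prod.lift (pullback.fst f f) (pullback.snd f f))
  have : pullback.diagonal f ≫ prod.lift (pullback.fst f f) (pullback.snd f f) = Limits.diag F := by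
    apply Limits.prod.hom_ext <;> simp
  rw [this]
  exact hF.diag

/-- An etale surjective chart of `F ×_G F` over which the diagonal becomes `U ×_F U ⟶ U ×_G U`. -/
theorem exists_diagonal_chart {F G : Sp S} (hF : IsAlgSpace F) (hG : IsAlgSpace G) (f : F ⟶ G) :
    ∃ (U T R : Over S) (a : (yon S).obj U ⟶ F) (α β : T ⟶ U) (α' β' : R ⟶ U) (ι : R ⟶ T)
      (r : (yon S).obj T ⟶ pullback f f),
      RepWith @Etale a ∧ RepWith @Surjective a ∧ RepWith @Etale r ∧ RepWith @Surjective r ∧
      IsPullback ((yon S).map α') ((yon S).map β') a a ∧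
      IsPullback ((yon S).map α) ((yon S).map β) (a ≫ f) (a ≫ f) ∧
      ι ≫ α = α' ∧ ι ≫ β = β' ∧
      IsPullback ((yon S).map α' ≫ a) ((yon S).map ι) (pullback.diagonal f) r := by
  obtain ⟨U, a, hae, has⟩ := hF.atlas
  obtain ⟨T, α, β, r, hr1, hr2, sqT, hr⟩ :=
    Groth.Agent.H52.exists_chart_of_isPullback (IsPullback.of_hasPullback f f) hG.diag a a
  have hre : RepWith @Etale r := hr @Etale hae hae
  have hrs : RepWith @Surjective r := hr @Surjective has has
  obtain ⟨R, β', αα, sqR⟩ := hae.1 a
  obtain ⟨α', rfl⟩ := (yon S).map_surjective αα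
  have hw : (yon S).map α' ≫ a ≫ f = (yon S).map β' ≫ a ≫ f := by
    rw [← Category.assoc, sqR.w, Category.assoc]
  obtain ⟨ι, hι⟩ := (yon S).map_surjective (sqT.lift _ _ hw)
  have h1 : (yon S).map ι ≫ (yon S).map α = (yon S).map α' := by rw [hι, sqT.lift_fst]
  have h2 : (yon S).map ι ≫ (yon S).map β = (yon S).map β' := by rw [hι, sqT.lift_snd]
  have magic := isPullback_magic (IsPullback.of_hasPullback f f) (pullback.diagonal f)
    (pullback.diagonal_fst f) (pullback.diagonal_snd f) sqR sqT ((yon S).map ι) h1 h2 r hr1 hr2
  refine ⟨U, T, R, a, α, β, α', β', ι, r, hae, has, hre, hrs, sqR, sqT, ?_, ?_, magic⟩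
  · apply (yon S).map_injective
    rw [Functor.map_comp, h1]
  · apply (yon S).map_injective
    rw [Functor.map_comp, h2]

/-- The relative diagonal of a morphism of algebraic spaces is locally of finite type. -/
theorem repWith_locallyOfFiniteType_diagonal {F G : Sp S} (hF : IsAlgSpace F) (hG : IsAlgSpace G)
    (f : F ⟶ G) : RepWith @LocallyOfFiniteType (pullback.diagonal f) := by
  obtain ⟨U, T, R, a, α, β, α', β', ι, r, hae, has, hre, hrs, sqR, sqT, h1, h2, magic⟩ :=
    exists_diagonal_chart hF hG f
  have hα'e : Etale α'.left := hae.2 a _ α' sqR.flip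
  have : LocallyOfFiniteType (ι.left ≫ α.left) := by
    rw [← Over.comp_left, h1]; infer_instance
  have hι : LocallyOfFiniteType ι.left := locallyOfFiniteType_of_comp ι.left α.left
  exact repWith_of_baseChange_cover' @LocallyOfFiniteType (pullback.diagonal f)
    (representable_pullback_diagonal hF f) r (repWith_fppf_of_etale_surjective r hre hrs) _ ι magic hι

/-- Base changes of the relative diagonal to schemes are monomorphisms. -/
theorem mono_left_of_isPullback_diagonal {F G : Sp S} (f : F ⟶ G) {T W : Over S}
    {g : (yon S).obj T ⟶ pullback f f} {fst : (yon S).obj W ⟶ F} {snd : W ⟶ T}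
    (sq : IsPullback fst ((yon S).map snd) (pullback.diagonal f) g) : Mono snd.left := by
  have hm : Mono ((yon S).map snd) := ⟨fun x y hxy => by
    apply sq.hom_ext _ hxy
    rw [← cancel_mono (pullback.diagonal f), Category.assoc, Category.assoc, sq.w,
      ← Category.assoc, hxy, Category.assoc]⟩
  have hm' : Mono snd := (yon S).mono_of_mono_map hm
  infer_instance

/-- If the diagonal of `f` is universally closed then `f` is separated. -/
theorem isSeparatedMor_of_repWith_universallyClosed_diagonal {F G : Sp S} (hF : IsAlgSpace F)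
    (hG : IsAlgSpace G) (f : F ⟶ G) (h : RepWith @UniversallyClosed (pullback.diagonal f)) :
    IsSeparatedMor f := by
  have hlft := repWith_locallyOfFiniteType_diagonal hF hG f
  refine ⟨h.1, fun T W g fst snd sq => ?_⟩
  have h1 : UniversallyClosed snd.left := h.2 g fst snd sq
  have h2 : LocallyOfFiniteType snd.left := hlft.2 g fst snd sq
  have h3 : Mono snd.left := mono_left_of_isPullback_diagonal f sq
  have h4 : IsProper snd.left := {}
  exact (IsClosedImmersion.iff_isProper_and_mono snd.left).2 ⟨h4, h3⟩

end Groth.Agent.H51
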