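import Groth.Agent.H51.FpqcDesc
import Groth.Agent.H51.DiagSep
import Groth.Agent.H52.SepBC
import Groth.Agent.H52.DescCI

/-!
# Properties of the diagonal are fpqc local on the base (helper51)
-/

universe u

open CategoryTheory CategoryTheory.Limits AlgebraicGeometry Opposite AlgSp MorphismProperty

namespace Groth.Agent.H51

/-- Quasi-compactness satisfies fpqc descent. -/
theorem quasiCompact_descendsAlong_fpqc :
    DescendsAlong (@QuasiCompact : MorphismProperty Scheme.{u}) (@Surjective ⊓ @Flat ⊓ @QuasiCompact) := by
  apply DescendsAlong.mk'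
  intro X Y Z f g _ hf h
  have : Surjective f := hf.1.1
  have : QuasiCompact f := hf.2
  have : QuasiCompact (pullback.fst f g) := h
  rw [quasiCompact_iff_forall_isAffineOpen]
  intro U hU
  have hK : IsCompact ((f ⁻¹ᵁ U : X.Opens) : Set X) := f.isCompact_preimage hU.isCompact
  have h1 : IsCompact ((pullback.fst f g) ⁻¹ᵁ (f ⁻¹ᵁ U) : Set ↥(pullback f g)) :=
    (pullback.fst f g).isCompact_preimage hK
  have h2 := h1.image (pullback.snd f g).continuous
  convert h2 using 1
  ext y
  constructor
  · intro hy
    have hy' : g y ∈ (U : Set Z) := hy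
    obtain ⟨x, hx⟩ := f.surjective (g y)
    obtain ⟨a, ha1, ha2⟩ := Scheme.Pullback.exists_preimage_pullback x y hx
    refine ⟨a, ?_, ha2⟩
    change f ((pullback.fst f g) a) ∈ (U : Set Z)
    rw [ha1, hx]
    exact hy'
  · rintro ⟨a, ha, rfl⟩
    have ha' : f ((pullback.fst f g) a) ∈ (U : Set Z) := ha
    change g ((pullback.snd f g) a) ∈ (U : Set Z)
    have : g ((pullback.snd f g) a) = f ((pullback.fst f g) a) := by
      rw [← Scheme.Hom.comp_apply, ← Scheme.Hom.comp_apply, pullback.condition]
    rw [this]
    exact ha'

/-- Being a monomorphism satisfies fpqc descent. -/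
theorem mono_descendsAlong_fpqc :
    DescendsAlong (MorphismProperty.monomorphisms Scheme.{u}) (@Surjective ⊓ @Flat ⊓ @QuasiCompact) := by
  rw [← MorphismProperty.diagonal_isomorphisms]
  infer_instance

/-- Being a closed immersion satisfies fpqc descent. -/
theorem isClosedImmersion_descendsAlong_fpqc :
    DescendsAlong (@IsClosedImmersion : MorphismProperty Scheme.{u}) (@Surjective ⊓ @Flat ⊓ @QuasiCompact) := by
  have hm := mono_descendsAlong_fpqc.{u}
  refine ⟨fun {A X Y Z fst snd f g} sq hf hfst => ?_⟩
  have hci : IsClosedImmersion fst := hfst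
  have h1 : Mono g := hm.of_isPullback sq hf (inferInstanceAs (Mono fst))
  have h2 : UniversallyClosed g :=
    MorphismProperty.of_isPullback_of_descendsAlong (P := @UniversallyClosed)
      (Q := @Surjective ⊓ @Flat ⊓ @QuasiCompact) sq hf inferInstance
  have h3 : LocallyOfFiniteType g :=
    MorphismProperty.of_isPullback_of_descendsAlong (P := @LocallyOfFiniteType)
      (Q := @Surjective ⊓ @Flat ⊓ @QuasiCompact) sq hf inferInstance
  have : IsProper g := {}
  exact (IsClosedImmersion.iff_isProper_and_mono g).2 ⟨this, h1⟩

variable {S : Scheme.{u}}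

/-- "The diagonal is representable with `Q`" is fpqc local on the base, for `Q` stable under base change, Zariski local
on the target and descending along fpqc morphisms. -/
theorem isLocalOnBase_fpqc_diagonal (Q : MorphismProperty Scheme.{u}) [Q.IsStableUnderBaseChange]
    [IsZariskiLocalAtTarget Q] [Q.DescendsAlong (@Surjective ⊓ @Flat ⊓ @QuasiCompact)] :
    IsLocalOnBase (IsFpqcCover (S := S))
      (fun _ _ f => RepWith Q (pullback.diagonal f) : MorphismProperty (Sp S)) := by
  intro ι Y Yi g hY hYi hcov X f hX Xi p q hXi sq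
  have := AlgSp.repWith_isStableUnderBaseChange (S := S) Q
  constructor
  · intro hf i
    let β : pullback (p i) (p i) ⟶ pullback f f :=
      pullback.lift (pullback.fst (p i) (p i) ≫ q i) (pullback.snd (p i) (p i) ≫ q i)
        (by rw [Category.assoc, Category.assoc, (sq i).w, ← Category.assoc, ← Category.assoc,
          pullback.condition])
    have hβ₁ : β ≫ pullback.fst f f = pullback.fst (p i) (p i) ≫ q i := pullback.lift_fst _ _ _
    have hβ₂ : β ≫ pullback.snd f f = pullback.snd (p i) (p i) ≫ q i := pullback.lift_snd _ _ _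
    have sqD := Groth.Agent.H52.isPullback_diagonal_of_isPullback (sq i) β hβ₁ hβ₂
    exact MorphismProperty.of_isPullback sqD.flip hf
  · intro hp
    have hrep : Representable (pullback.diagonal f) := representable_pullback_diagonal hX f
    refine MorphismProperty.relative_of_snd hrep (fun T t => ?_)
    change Q (hrep.snd t).left
    refine IsZariskiLocalAtTarget.of_openCover (P := Q) T.left.affineCover (fun i => ?_)
    let U : Over S := Over.mk (T.left.affineCover.f i ≫ T.hom)
    let τ : U ⟶ T := Over.homMk (T.left.affineCover.f i) rfl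
    have hU : IsAffine U.left := inferInstanceAs (IsAffine (T.left.affineCover.X i))
    have sqE' := IsPullback.of_hasPullback (hrep.snd t) τ
    have hr : Q (pullback.snd (hrep.snd t) τ).left := by
      obtain ⟨m, W, c, hW, hflat, hsurj, hlift⟩ :=
        hcov.2 U hU ((yon S).map τ ≫ t ≫ pullback.fst f f ≫ f)
      have := hU
      have := hW
      have := hflat
      refine descend_of_flat_family Q (pullback.snd (hrep.snd t) τ).left (fun j => (W j).left)
        (fun j => (c j).left) (fun z => by obtain ⟨j, w, hw⟩ := hsurj z; exact ⟨j, w, hw⟩)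
        (fun j => ?_)
      obtain ⟨i', l, hl⟩ := hlift j
      have sqE'' := IsPullback.of_hasPullback (pullback.snd (hrep.snd t) τ) (c j)
      refine ⟨_, _, _, sqE''.map (Over.forget S), ?_⟩
      have big : IsPullback (pullback.fst (pullback.snd (hrep.snd t) τ) (c j) ≫
          pullback.fst (hrep.snd t) τ) (pullback.snd (pullback.snd (hrep.snd t) τ) (c j))
          (hrep.snd t) (c j ≫ τ) := sqE''.paste_horiz sqE'
      refine Groth.Agent.H52.Q_of_diagonal_baseChange (sq i') (hp i') t (hrep.fst t) (hrep.snd t)
        (hrep.isPullback t) (c j ≫ τ) l ?_ _ _ big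
      rw [hl, Functor.map_comp, Category.assoc]
    have sqS : IsPullback (pullback.fst (hrep.snd t) τ).left (pullback.snd (hrep.snd t) τ).left
        (hrep.snd t).left (T.left.affineCover.f i) := sqE'.map (Over.forget S)
    have : Q.RespectsIso := MorphismProperty.IsStableUnderBaseChange.respectsIso
    have e := sqS.isoPullback_hom_snd
    change Q (pullback.snd (hrep.snd t).left (T.left.affineCover.f i))
    rw [← Q.cancel_left_of_respectsIso sqS.isoPullback.hom, e]
    exact hr

theorem isLocalOnBase_fpqc_isQuasiSeparatedMor :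
    IsLocalOnBase (IsFpqcCover (S := S)) IsQuasiSeparatedMor :=
  have := quasiCompact_descendsAlong_fpqc.{u}
  isLocalOnBase_fpqc_diagonal @QuasiCompact

theorem isLocalOnBase_fpqc_isSeparatedMor :
    IsLocalOnBase (IsFpqcCover (S := S)) IsSeparatedMor :=
  have := isClosedImmersion_descendsAlong_fpqc.{u}
  isLocalOnBase_fpqc_diagonal @IsClosedImmersion

end Groth.Agent.H51
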