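import Groth.Agent.H51.FpqcLocP
import Groth.Agent.H50.Descent

/-!
# Instances of `isLocalOnBase_fpqc_locP` (helper51)
-/

universe u

open CategoryTheory CategoryTheory.Limits AlgebraicGeometry Opposite AlgSp MorphismProperty

namespace Groth.Agent.H51

variable {S : Scheme.{u}}

theorem flat_descendsAlong_fpqc :
    DescendsAlong (@Flat : MorphismProperty Scheme.{u}) (@Surjective ⊓ @Flat ⊓ @QuasiCompact) :=
  HasRingHomProperty.descendsAlong_flat Groth.Agent.H50.flat_codescendsAlong_faithfullyFlat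

theorem lqf_descendsAlong_fpqc :
    DescendsAlong (@LocallyQuasiFinite : MorphismProperty Scheme.{u}) (@Surjective ⊓ @Flat ⊓ @QuasiCompact) :=
  HasRingHomProperty.descendsAlong_flat Groth.Agent.H50.quasiFinite_codescendsAlong_faithfullyFlat

theorem isLocalOnBase_fpqc_lft :
    IsLocalOnBase (IsFpqcCover (S := S)) (LocP @LocallyOfFiniteType) :=
  isLocalOnBase_fpqc_locP Groth.Agent.H52.etLocal_lft

theorem isLocalOnBase_fpqc_lfp :
    IsLocalOnBase (IsFpqcCover (S := S)) (LocP @LocallyOfFinitePresentation) :=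
  isLocalOnBase_fpqc_locP Groth.Agent.H52.etLocal_lfp

theorem isLocalOnBase_fpqc_flat :
    IsLocalOnBase (IsFpqcCover (S := S)) (LocP @Flat) :=
  have := flat_descendsAlong_fpqc
  isLocalOnBase_fpqc_locP Groth.Agent.H52.etLocal_flat

theorem isLocalOnBase_fpqc_smooth :
    IsLocalOnBase (IsFpqcCover (S := S)) (LocP @Smooth) :=
  isLocalOnBase_fpqc_locP Groth.Agent.H52.etLocal_smooth

theorem isLocalOnBase_fpqc_etale :
    IsLocalOnBase (IsFpqcCover (S := S)) (LocP @Etale) :=
  isLocalOnBase_fpqc_locP Groth.Agent.H52.etLocal_etale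

theorem isLocalOnBase_fpqc_lqf :
    IsLocalOnBase (IsFpqcCover (S := S)) (LocP (@LocallyQuasiFinite ⊓ @LocallyOfFiniteType)) :=
  have := lqf_descendsAlong_fpqc
  isLocalOnBase_fpqc_locP Groth.Agent.H52.etLocal_lqf

theorem isLocalOnBase_fpqc_unramified :
    IsLocalOnBase (IsFpqcCover (S := S)) (LocP (@LocallyOfFiniteType ⊓ @FormallyUnramified)) :=
  isLocalOnBase_fpqc_locP Groth.Agent.H52.etLocal_unramified

/-- Conjunction of two properties local on the base. -/
theorem IsLocalOnBase.and {τ : CovNotion S} {P Q : MorphismProperty (Sp S)}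
    (hP : IsLocalOnBase τ P) (hQ : IsLocalOnBase τ Q) :
    IsLocalOnBase τ (fun _ _ f => P f ∧ Q f) := by
  intro ι Y Yi g hY hYi hcov X f hX Xi p q hXi sq
  have h1 := hP Yi g hY hYi hcov f hX Xi p q hXi sq
  have h2 := hQ Yi g hY hYi hcov f hX Xi p q hXi sq
  constructor
  · rintro ⟨ha, hb⟩ i
    exact ⟨h1.1 ha i, h2.1 hb i⟩
  · intro h
    exact ⟨h1.2 fun i => (h i).1, h2.2 fun i => (h i).2⟩

end Groth.Agent.H51
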