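import Groth.Agent.H51.RepDescent
import Groth.Agent.H52.FibProd
import Mathlib.AlgebraicGeometry.Morphisms.FlatMono

/-! Diagonals of unramified morphisms of algebraic spaces (helper51). -/

set_option autoImplicit false
universe u
open CategoryTheory CategoryTheory.Limits AlgebraicGeometry
open AlgSp

namespace Groth.Agent.H51

section Cat

variable {C : Type*} [Category C]

/-- The magic square: for `f : F ⟶ G`, `a : A ⟶ F`, `a' : A' ⟶ F`, the map `A ×_F A' ⟶ A ×_G A'` is the
base change of the diagonal `F ⟶ F ×_G F`. -/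
theorem isPullback_magic {F G A A' R T Q : C} {f : F ⟶ G} {a : A ⟶ F} {a' : A' ⟶ F}
    {p1 p2 : Q ⟶ F} (sqQ : IsPullback p1 p2 f f) (δ : F ⟶ Q) (hδ1 : δ ≫ p1 = 𝟙 F)
    (hδ2 : δ ≫ p2 = 𝟙 F)
    {α' : R ⟶ A} {β' : R ⟶ A'} (sqR : IsPullback α' β' a a')
    {α : T ⟶ A} {β : T ⟶ A'} (sqT : IsPullback α β (a ≫ f) (a' ≫ f))
    (ι : R ⟶ T) (h1 : ι ≫ α = α') (h2 : ι ≫ β = β')
    (τ : T ⟶ Q) (hτ1 : τ ≫ p1 = α ≫ a) (hτ2 : τ ≫ p2 = β ≫ a') :
    IsPullback (α' ≫ a) ι δ τ := by
  have w : (α' ≫ a) ≫ δ = ι ≫ τ := by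
    apply sqQ.hom_ext
    · rw [Category.assoc, hδ1, Category.comp_id, Category.assoc, hτ1, ← Category.assoc, h1]
    · rw [Category.assoc, hδ2, Category.comp_id, Category.assoc, hτ2, ← Category.assoc, h2, sqR.w]
  refine ⟨⟨w⟩, ⟨PullbackCone.IsLimit.mk w
    (fun s => sqR.lift (s.snd ≫ α) (s.snd ≫ β) ?_) ?_ ?_ ?_⟩⟩
  · have e1 : s.snd ≫ α ≫ a = s.fst := by
      rw [← hτ1, ← Category.assoc, ← s.condition, Category.assoc, hδ1, Category.comp_id]
    have e2 : s.snd ≫ β ≫ a' = s.fst := by
      rw [← hτ2, ← Category.assoc, ← s.condition, Category.assoc, hδ2, Category.comp_id]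
    rw [Category.assoc, Category.assoc, e1, e2]
  · intro s
    have e1 : s.snd ≫ α ≫ a = s.fst := by
      rw [← hτ1, ← Category.assoc, ← s.condition, Category.assoc, hδ1, Category.comp_id]
    rw [← Category.assoc, sqR.lift_fst, Category.assoc, e1]
  · intro s
    apply sqT.hom_ext
    · rw [Category.assoc, h1, sqR.lift_fst]
    · rw [Category.assoc, h2, sqR.lift_snd]
  · intro s m hm1 hm2
    apply sqR.hom_ext
    · rw [sqR.lift_fst, ← hm2, Category.assoc, h1]
    · rw [sqR.lift_snd, ← hm2, Category.assoc, h2]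

/-- In the magic square, the comparison `A ×_F A' ⟶ A ×_G A'` is a monomorphism. -/
theorem mono_of_isPullback_of_isPullback {F A A' R T : C} {a : A ⟶ F} {a' : A' ⟶ F}
    {α' : R ⟶ A} {β' : R ⟶ A'} (sqR : IsPullback α' β' a a')
    {α : T ⟶ A} {β : T ⟶ A'}
    (ι : R ⟶ T) (h1 : ι ≫ α = α') (h2 : ι ≫ β = β') : Mono ι := by
  refine ⟨fun x y hxy => sqR.hom_ext ?_ ?_⟩
  · rw [← h1, ← Category.assoc, hxy, Category.assoc]
  · rw [← h2, ← Category.assoc, hxy, Category.assoc]

end Cat

variable {S : Scheme.{u}}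

/-- `RepWith` is monotone in the property. -/
theorem repWith_mono {P P' : MorphismProperty Scheme.{u}} (hle : P ≤ P') {F G : Sp S} {f : F ⟶ G}
    (hf : RepWith P f) : RepWith P' f :=
  ⟨hf.1, fun _ _ g fst snd sq => hle _ (hf.2 g fst snd sq)⟩

/-- Descent on the target with an arbitrary pullback square. -/
theorem repWith_of_baseChange_cover' (P : MorphismProperty Scheme.{u}) [P.IsStableUnderBaseChange]
    [P.DescendsAlong (@Surjective ⊓ @Flat ⊓ @LocallyOfFinitePresentation)]
    {F G : Sp S} (c : F ⟶ G) (hc : Representable c) {V W : Over S} (b : (yon S).obj V ⟶ G)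
    (hb : RepWith (@Surjective ⊓ @Flat ⊓ @LocallyOfFinitePresentation) b)
    (fst : (yon S).obj W ⟶ F) (snd : W ⟶ V) (sq : IsPullback fst ((yon S).map snd) c b)
    (h : P snd.left) : RepWith P c := by
  apply repWith_of_baseChange_cover P c hc b hb
  have hu : RepWith P ((yon S).map snd) := (repWith_yon_map_iff P _).2 h
  have sq' := hc.isPullback b
  have sqX : IsPullback (sq.lift (hc.fst b) ((yon S).map (hc.snd b)) sq'.w)
      ((yon S).map (hc.snd b)) ((yon S).map snd) (𝟙 _) := by
    have : IsIso (sq.lift (hc.fst b) ((yon S).map (hc.snd b)) sq'.w) := by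
      refine ⟨sq'.lift fst ((yon S).map snd) sq.w, ?_, ?_⟩
      · apply sq'.hom_ext
        · rw [Category.assoc, sq'.lift_fst, sq.lift_fst, Category.id_comp]
        · rw [Category.assoc, sq'.lift_snd, sq.lift_snd, Category.id_comp]
      · apply sq.hom_ext
        · rw [Category.assoc, sq.lift_fst, sq'.lift_fst, Category.id_comp]
        · rw [Category.assoc, sq.lift_snd, sq'.lift_snd, Category.id_comp]
    refine IsPullback.of_horiz_isIso ⟨?_⟩
    rw [sq.lift_snd, Category.comp_id]
  exact hu.2 _ _ _ sqX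

/-- A section of an etale morphism of schemes is an open immersion. -/
theorem isOpenImmersion_of_comp_eq_id {X Y : Scheme.{u}} (s : X ⟶ Y) (p : Y ⟶ X) [Etale p]
    (h : s ≫ p = 𝟙 X) : IsOpenImmersion s := by
  have : Etale (s ≫ p) := by rw [h]; infer_instance
  have : Etale s := Etale.of_comp s p
  have : Mono s := mono_of_mono_fac h
  exact IsOpenImmersion.of_flat_of_mono s

/-- etale morphisms are unramified. -/
theorem etale_le_unramified :
    (@Etale : MorphismProperty Scheme.{u}) ≤
      (@LocallyOfFiniteType ⊓ @FormallyUnramified : MorphismProperty Scheme.{u}) := by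
  intro X Y f hf
  have : Etale f := hf
  exact ⟨inferInstance, inferInstance⟩

/-- (1) The diagonal of an unramified morphism of algebraic spaces is an open immersion. -/
theorem repWith_isOpenImmersion_diagonal_of_unramified {F G : Sp S} (hF : IsAlgSpace F)
    (hG : IsAlgSpace G) (f : F ⟶ G)
    (hf : LocP (@LocallyOfFiniteType ⊓ @FormallyUnramified) f) :
    RepWith @IsOpenImmersion (pullback.diagonal f) := by
  have instE1 := AlgSp.repWith_isStableUnderBaseChange (S := S) @Etale
  have instE2 := AlgSp.repWith_isMultiplicative (S := S) @Etale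
  have instS2 := AlgSp.repWith_isMultiplicative (S := S) @Surjective
  have instU2 := AlgSp.repWith_isMultiplicative (S := S)
    (@LocallyOfFiniteType ⊓ @FormallyUnramified)
  -- the diagonal is representable
  have hΔrep : Representable (pullback.diagonal f) := by
    have hm : Mono (prod.lift (pullback.fst f f) (pullback.snd f f)) := ⟨fun x y hxy => by
      have h1 := congr($hxy ≫ prod.fst)
      have h2 := congr($hxy ≫ prod.snd)
      simp only [Category.assoc, prod.lift_fst, prod.lift_snd] at h1 h2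
      exact pullback.hom_ext h1 h2⟩
    apply Groth.Agent.H52.representable_of_comp_mono (pullback.diagonal f)
      (prod.lift (pullback.fst f f) (pullback.snd f f))
    have : pullback.diagonal f ≫ prod.lift (pullback.fst f f) (pullback.snd f f) = Limits.diag F := by
      apply Limits.prod.hom_ext <;> simp
    rw [this]
    exact hF.diag
  -- charts
  obtain ⟨U₀, a₀, ha₀e, ha₀s⟩ := hF.atlas
  obtain ⟨V, b, hbe, hbs⟩ := hG.atlas
  obtain ⟨U₁, p, hh, sq⟩ := hbe.1 (a₀ ≫ f)
  have hpe : Etale p.left := hbe.2 _ _ _ sq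
  have hps : Surjective p.left := hbs.2 _ _ _ sq
  obtain ⟨h, rfl⟩ := (yon S).map_surjective hh
  have ha₁e : RepWith @Etale ((yon S).map p ≫ a₀) :=
    (RepWith @Etale).comp_mem _ _ ((repWith_yon_map_iff _ _).2 hpe) ha₀e
  have ha₁s : RepWith @Surjective ((yon S).map p ≫ a₀) :=
    (RepWith @Surjective).comp_mem _ _ ((repWith_yon_map_iff _ _).2 hps) ha₀s
  have hcomm : ((yon S).map p ≫ a₀) ≫ f = (yon S).map h ≫ b := by
    rw [Category.assoc, sq.w]
  generalize (yon S).map p ≫ a₀ = a₁ at ha₁e ha₁s hcomm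
  have hh : (@LocallyOfFiniteType ⊓ @FormallyUnramified : MorphismProperty Scheme.{u}) h.left :=
    hf a₁ b h ha₁e hbe hcomm
  -- the cover of the fibre product
  obtain ⟨T, α, β, r, hr1, hr2, sqT, hr⟩ :=
    Groth.Agent.H52.exists_chart_of_isPullback (IsPullback.of_hasPullback f f) hG.diag a₁ a₁
  have hre : RepWith @Etale r := hr @Etale ha₁e ha₁e
  have hrs : RepWith @Surjective r := hr @Surjective ha₁s ha₁s
  obtain ⟨R, β', αα, sqR⟩ := ha₁e.1 a₁
  obtain ⟨α', rfl⟩ := (yon S).map_surjective αα
  have hα'e : Etale α'.left := ha₁e.2 a₁ _ α' sqR.flip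
  have hw : (yon S).map α' ≫ a₁ ≫ f = (yon S).map β' ≫ a₁ ≫ f := by
    rw [← Category.assoc, sqR.w, Category.assoc]
  obtain ⟨ι, hι⟩ := (yon S).map_surjective (sqT.lift _ _ hw)
  have h1 : (yon S).map ι ≫ (yon S).map α = (yon S).map α' := by rw [hι, sqT.lift_fst]
  have h2 : (yon S).map ι ≫ (yon S).map β = (yon S).map β' := by rw [hι, sqT.lift_snd]
  have magic := isPullback_magic (IsPullback.of_hasPullback f f) (pullback.diagonal f)
    (pullback.diagonal_fst f) (pullback.diagonal_snd f) sqR sqT ((yon S).map ι) h1 h2 r hr1 hr2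
  -- the base change is an open immersion
  have hu : RepWith (@LocallyOfFiniteType ⊓ @FormallyUnramified) (a₁ ≫ f) := by
    rw [hcomm]
    exact (RepWith (@LocallyOfFiniteType ⊓ @FormallyUnramified)).comp_mem _ _
      ((repWith_yon_map_iff _ _).2 hh) (repWith_mono etale_le_unramified hbe)
  have hα : (@LocallyOfFiniteType ⊓ @FormallyUnramified : MorphismProperty Scheme.{u}) α.left :=
    hu.2 (a₁ ≫ f) _ α sqT.flip
  have hα1 : LocallyOfFiniteType α.left := hα.1
  have hα2 : FormallyUnramified α.left := hα.2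
  have h1' : ι.left ≫ α.left = α'.left := by
    rw [← Over.comp_left]
    congr 1
    apply (yon S).map_injective
    rw [Functor.map_comp, h1]
  have : Etale (ι.left ≫ α.left) := by rw [h1']; exact hα'e
  have hιe : Etale ι.left := Etale.of_comp ι.left α.left
  have hm : Mono ((yon S).map ι) := mono_of_isPullback_of_isPullback sqR _ h1 h2
  have hm' : Mono ι := (yon S).mono_of_mono_map hm
  have hm'' : Mono ι.left := inferInstance
  have hιo : IsOpenImmersion ι.left := IsOpenImmersion.of_flat_of_mono ι.left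
  exact repWith_of_baseChange_cover' @IsOpenImmersion (pullback.diagonal f) hΔrep r
    (repWith_fppf_of_etale_surjective r hre hrs) _ ι magic hιo

/-- (2) If the diagonal of `f` is an open immersion then in every chart square the morphism of schemes is
formally unramified. -/
theorem formallyUnramified_of_diagonal_openImmersion {F G : Sp S} (hG : IsAlgSpace G) (f : F ⟶ G)
    (hΔ : RepWith @IsOpenImmersion (pullback.diagonal f)) {U V : Over S}
    (a : (yon S).obj U ⟶ F) (b : (yon S).obj V ⟶ G) (h : U ⟶ V)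
    (ha : RepWith @Etale a) (hb : RepWith @Etale b) (hcomm : a ≫ f = (yon S).map h ≫ b) :
    FormallyUnramified h.left := by
  -- T = U ×_G U
  obtain ⟨T, β, αα, sqT⟩ := (hG.representable_from_yon (a ≫ f)) (a ≫ f)
  obtain ⟨α, rfl⟩ := (yon S).map_surjective αα
  -- R = U ×_F U
  obtain ⟨R, β', αα, sqR⟩ := ha.1 a
  obtain ⟨α', rfl⟩ := (yon S).map_surjective αα
  have hα'e : Etale α'.left := ha.2 a _ α' sqR.flip
  have hw : (yon S).map α' ≫ a ≫ f = (yon S).map β' ≫ a ≫ f := by
    rw [← Category.assoc, sqR.w, Category.assoc]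
  obtain ⟨ι, hι⟩ := (yon S).map_surjective (sqT.lift _ _ hw)
  have h1 : (yon S).map ι ≫ (yon S).map α = (yon S).map α' := by rw [hι, sqT.lift_fst]
  have h2 : (yon S).map ι ≫ (yon S).map β = (yon S).map β' := by rw [hι, sqT.lift_snd]
  have hτ : ((yon S).map α ≫ a) ≫ f = ((yon S).map β ≫ a) ≫ f := by
    rw [Category.assoc, Category.assoc]; exact sqT.w
  have magic := isPullback_magic (IsPullback.of_hasPullback f f) (pullback.diagonal f)
    (pullback.diagonal_fst f) (pullback.diagonal_snd f) sqR sqT ((yon S).map ι) h1 h2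
    (pullback.lift _ _ hτ) (pullback.lift_fst _ _ _) (pullback.lift_snd _ _ _)
  have hιo : IsOpenImmersion ι.left := hΔ.2 _ _ ι magic
  -- the diagonal of a
  obtain ⟨δa, hδa⟩ := (yon S).map_surjective (sqR.lift (𝟙 _) (𝟙 _) rfl)
  have hδa1 : δa ≫ α' = 𝟙 U := by
    apply (yon S).map_injective
    rw [Functor.map_comp, hδa, sqR.lift_fst, CategoryTheory.Functor.map_id]
  have hδa2 : δa ≫ β' = 𝟙 U := by
    apply (yon S).map_injective
    rw [Functor.map_comp, hδa, sqR.lift_snd, CategoryTheory.Functor.map_id]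
  have hδao : IsOpenImmersion δa.left := by
    apply isOpenImmersion_of_comp_eq_id δa.left α'.left
    rw [← Over.comp_left, hδa1, Over.id_left]
  -- B = V ×_G V
  obtain ⟨B, π2, ππ, sqB⟩ := hb.1 b
  obtain ⟨π1, rfl⟩ := (yon S).map_surjective ππ
  have hπ1e : Etale π1.left := hb.2 b _ π1 sqB.flip
  obtain ⟨δb, hδb⟩ := (yon S).map_surjective (sqB.lift (𝟙 _) (𝟙 _) rfl)
  have hδb1 : δb ≫ π1 = 𝟙 V := by
    apply (yon S).map_injective
    rw [Functor.map_comp, hδb, sqB.lift_fst, CategoryTheory.Functor.map_id]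
  have hδb2 : δb ≫ π2 = 𝟙 V := by
    apply (yon S).map_injective
    rw [Functor.map_comp, hδb, sqB.lift_snd, CategoryTheory.Functor.map_id]
  have hδbo : IsOpenImmersion δb.left := by
    apply isOpenImmersion_of_comp_eq_id δb.left π1.left
    rw [← Over.comp_left, hδb1, Over.id_left]
  -- K = U ×_V U
  have sqK : IsPullback ((yon S).map (pullback.fst h h)) ((yon S).map (pullback.snd h h))
      ((yon S).map h) ((yon S).map h) := (IsPullback.of_hasPullback h h).map (yon S)
  have sqT' : IsPullback ((yon S).map α) ((yon S).map β) ((yon S).map h ≫ b) ((yon S).map h ≫ b) := by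
    rw [← hcomm]; exact sqT
  have hwj : (yon S).map (pullback.fst h h) ≫ (yon S).map h ≫ b =
      (yon S).map (pullback.snd h h) ≫ (yon S).map h ≫ b := by
    rw [← Category.assoc, sqK.w, Category.assoc]
  obtain ⟨j, hj⟩ := (yon S).map_surjective (sqT'.lift _ _ hwj)
  have hj1 : (yon S).map j ≫ (yon S).map α = (yon S).map (pullback.fst h h) := by
    rw [hj, sqT'.lift_fst]
  have hj2 : (yon S).map j ≫ (yon S).map β = (yon S).map (pullback.snd h h) := by
    rw [hj, sqT'.lift_snd]
  have hwσ : ((yon S).map α ≫ (yon S).map h) ≫ b = ((yon S).map β ≫ (yon S).map h) ≫ b := by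
    rw [Category.assoc, Category.assoc]; exact sqT'.w
  obtain ⟨σ, hσ⟩ := (yon S).map_surjective (sqB.lift _ _ hwσ)
  have hσ1 : (yon S).map σ ≫ (yon S).map π1 = (yon S).map α ≫ (yon S).map h := by
    rw [hσ, sqB.lift_fst]
  have hσ2 : (yon S).map σ ≫ (yon S).map π2 = (yon S).map β ≫ (yon S).map h := by
    rw [hσ, sqB.lift_snd]
  have magic2 := isPullback_magic sqB ((yon S).map δb)
    (by rw [← Functor.map_comp, hδb1, CategoryTheory.Functor.map_id])
    (by rw [← Functor.map_comp, hδb2, CategoryTheory.Functor.map_id]) sqK sqT' ((yon S).map j) hj1 hj2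
    ((yon S).map σ) hσ1 hσ2
  have hjo : IsOpenImmersion j.left :=
    ((repWith_yon_map_iff @IsOpenImmersion δb).2 hδbo).2 _ _ j magic2
  -- compare the diagonals
  have hcmp : pullback.diagonal h ≫ j = δa ≫ ι := by
    apply (yon S).map_injective
    apply sqT.hom_ext
    · rw [Functor.map_comp, Functor.map_comp, Category.assoc, Category.assoc, hj1, h1,
        ← Functor.map_comp, ← Functor.map_comp, pullback.diagonal_fst, hδa1]
    · rw [Functor.map_comp, Functor.map_comp, Category.assoc, Category.assoc, hj2, h2,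
        ← Functor.map_comp, ← Functor.map_comp, pullback.diagonal_snd, hδa2]
  have hcmp' : (pullback.diagonal h).left ≫ j.left = δa.left ≫ ι.left := by
    rw [← Over.comp_left, hcmp, Over.comp_left]
  have : IsOpenImmersion ((pullback.diagonal h).left ≫ j.left) := by
    rw [hcmp']; infer_instance
  have hδK : IsOpenImmersion (pullback.diagonal h).left :=
    IsOpenImmersion.of_comp _ j.left
  -- transfer to the diagonal of schemes
  have sqKs : IsPullback (pullback.fst h h).left (pullback.snd h h).left h.left h.left :=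
    (IsPullback.of_hasPullback h h).map (Over.forget S)
  have hd : pullback.diagonal h.left = (pullback.diagonal h).left ≫ sqKs.isoPullback.hom := by
    apply pullback.hom_ext
    · rw [Category.assoc, sqKs.isoPullback_hom_fst, ← Over.comp_left, pullback.diagonal_fst,
        pullback.diagonal_fst, Over.id_left]
    · rw [Category.assoc, sqKs.isoPullback_hom_snd, ← Over.comp_left, pullback.diagonal_snd,
        pullback.diagonal_snd, Over.id_left]
  have : IsOpenImmersion (pullback.diagonal h.left) := by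
    rw [hd]; infer_instance
  infer_instance

end Groth.Agent.H51
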