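import Groth.Agent.H51.SmoothST
import Groth.Agent.H51.DiagOpen

/-! Properties etale-smooth local on source-and-target (helper51). -/

set_option autoImplicit false
universe u
open CategoryTheory CategoryTheory.Limits AlgebraicGeometry
open AlgSp

namespace Groth.Agent.H51

variable {S : Scheme.{u}}

theorem locP_smooth_of_isEtaleMor {F G : Sp S} (f : F ⟶ G) (hf : IsEtaleMor f) :
    LocP @Smooth f := by
  intro U V a b h ha hb comm
  have : Etale h.left := etale_of_isEtaleMor_of_charts f hf a b h ha hb comm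
  show Smooth h.left
  infer_instance

theorem locP_unramified_of_isEtaleMor {F G : Sp S} (f : F ⟶ G) (hf : IsEtaleMor f) :
    LocP (@LocallyOfFiniteType ⊓ @FormallyUnramified) f := by
  intro U V a b h ha hb comm
  have : Etale h.left := etale_of_isEtaleMor_of_charts f hf a b h ha hb comm
  exact ⟨inferInstance, inferInstance⟩

theorem isEtaleMor_of_repWith_isOpenImmersion {F G : Sp S} (f : F ⟶ G)
    (hf : RepWith @IsOpenImmersion f) : IsEtaleMor f := by
  have instE2 := AlgSp.repWith_isMultiplicative (S := S) @Etale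
  intro U φ hφ
  refine (RepWith @Etale).comp_mem _ _ hφ (repWith_mono ?_ hf)
  intro A B g hg
  have : IsOpenImmersion g := hg
  exact (inferInstance : Etale g)

/-- The graph of a morphism into the source of an etale morphism is etale. -/
theorem isEtaleMor_graph {X Y Z : Sp S} (hY : IsAlgSpace Y) (hZ : IsAlgSpace Z) (f : X ⟶ Y)
    (g : Y ⟶ Z) (hg : IsEtaleMor g) :
    IsEtaleMor (pullback.lift (𝟙 X) f (by simp) : X ⟶ pullback (f ≫ g) g) := by
  have inst1 := AlgSp.repWith_isStableUnderBaseChange (S := S) @IsOpenImmersion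
  have hΔ : RepWith @IsOpenImmersion (pullback.diagonal g) :=
    repWith_isOpenImmersion_diagonal_of_unramified hY hZ g (locP_unramified_of_isEtaleMor g hg)
  exact isEtaleMor_of_repWith_isOpenImmersion _
    (MorphismProperty.of_isPullback (pullback_lift_diagonal_isPullback f g) hΔ)

variable {P : MorphismProperty (Sp S)}

theorem IsEtaleSmoothLocalST.localOnSource (hP : IsEtaleSmoothLocalST P) :
    IsLocalOnSource (IsEtCover (S := S)) P := by
  intro ι X Xi g hX hXi hcov Y f hY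
  refine ⟨fun hf i => hP.precomp (hXi i) hX hY (g i) f (hcov.1 i) hf, fun h => ?_⟩
  refine (hP.locality hX hY f).2 fun x => ?_
  obtain ⟨i, v, hv⟩ := hcov.2 x
  refine ⟨Y, X, Xi i, 𝟙 Y, 𝟙 X, f, g i, v, hY, hX, hXi i, locP_smooth_id Y,
    IsPullback.of_horiz_isIso ⟨by simp⟩, hcov.1 i, ?_, h i⟩
  rw [Category.comp_id]
  exact hv

theorem IsEtaleSmoothLocalST.localOnBase (hP : IsEtaleSmoothLocalST P) :
    IsLocalOnBase (IsSmCover (S := S)) P := by
  intro ι Y Yi g hY hYi hcov X f hX Xi p q hXi sq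
  refine ⟨fun hf i => hP.baseChange hX hY (hXi i) (hYi i) f (g i) (p i) (q i) (sq i) (hcov.1 i) hf,
    fun h => ?_⟩
  refine (hP.locality hX hY f).2 fun x => ?_
  obtain ⟨i, w, hw⟩ := hcov.2 (Points.map f x)
  obtain ⟨z, hz1, hz2⟩ := Groth.Agent.H52.exists_point_of_isPullback (sq i) x w hw.symm
  refine ⟨Yi i, Xi i, Xi i, g i, q i, p i, 𝟙 _, z, hYi i, hXi i, hXi i, hcov.1 i, sq i,
    isEtaleMor_id _, ?_, ?_⟩
  · rw [Category.id_comp]
    exact hz1
  · rw [Category.id_comp]
    exact h i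

theorem IsEtaleSmoothLocalST.of_postcomp (hP : IsEtaleSmoothLocalST P) {X Y Z : Sp S}
    (hX : IsAlgSpace X) (hY : IsAlgSpace Y) (hZ : IsAlgSpace Z) (f : X ⟶ Y) (g : Y ⟶ Z)
    (hg : IsEtaleMor g) (hfg : P (f ≫ g)) : P f := by
  have sqW := IsPullback.of_hasPullback (f ≫ g) g
  have hW : IsAlgSpace (pullback (f ≫ g) g) :=
    Groth.Agent.H52.isAlgSpace_of_isPullback sqW hZ.diag hX hY
  have h1 : P (pullback.snd (f ≫ g) g) :=
    hP.baseChange hX hZ hW hY (f ≫ g) g _ _ sqW (locP_smooth_of_isEtaleMor g hg) hfg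
  have h2 := hP.precomp hX hW hY _ _ (isEtaleMor_graph hY hZ f g hg) h1
  rwa [pullback.lift_snd] at h2

theorem IsEtaleSmoothLocalST.postcomp (hP : IsEtaleSmoothLocalST P) {X Y Z : Sp S}
    (hX : IsAlgSpace X) (hY : IsAlgSpace Y) (hZ : IsAlgSpace Z) (f : X ⟶ Y) (g : Y ⟶ Z)
    (hf : P f) (hg : IsEtaleMor g) : P (f ≫ g) := by
  have sqW := IsPullback.of_hasPullback (f ≫ g) g
  have hW : IsAlgSpace (pullback (f ≫ g) g) :=
    Groth.Agent.H52.isAlgSpace_of_isPullback sqW hZ.diag hX hY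
  refine (hP.locality hX hZ (f ≫ g)).2 fun x => ?_
  refine ⟨Y, pullback (f ≫ g) g, X, g, pullback.fst _ _, pullback.snd _ _,
    pullback.lift (𝟙 X) f (by simp), x, hY, hW, hX, locP_smooth_of_isEtaleMor g hg, sqW,
    isEtaleMor_graph hY hZ f g hg, ?_, ?_⟩
  · rw [pullback.lift_fst]
    exact Points.map_id x
  · rw [pullback.lift_snd]
    exact hf

end Groth.Agent.H51
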