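import Groth.Prelude.Def_AlgSp3
import Mathlib.AlgebraicGeometry.Morphisms.FlatDescent
import Mathlib.AlgebraicGeometry.Morphisms.LocalFlatDescent

/-! Descent on the target for representable morphisms of fppf sheaves (helper51). -/

set_option autoImplicit false
universe u
open CategoryTheory CategoryTheory.Limits AlgebraicGeometry
open AlgSp

namespace Groth.Agent.H51

variable {S : Scheme.{u}}

/-- An etale surjective representable map is an fppf covering map. -/
theorem repWith_fppf_of_etale_surjective {F : Sp S} {V : Over S} (b : (yon S).obj V ⟶ F)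
    (hb : RepWith @Etale b) (hbs : RepWith @Surjective b) :
    RepWith (@Surjective ⊓ @Flat ⊓ @LocallyOfFinitePresentation) b := by
  refine ⟨hb.1, fun T W g fst snd sq => ?_⟩
  have h1 : Etale snd.left := hb.2 g fst snd sq
  have h2 : Surjective snd.left := hbs.2 g fst snd sq
  exact ⟨⟨h2, (Etale.iff_flat_and_formallyUnramified.mp h1).1⟩,
    (Etale.iff_flat_and_formallyUnramified.mp h1).2.2⟩

/-- Descent on the target: a representable morphism `c : F ⟶ G` has `P` (in the representable sense)
as soon as its base change along one fppf covering `b : h_V ⟶ G` has `P`, for `P` stable under base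
change and descending along fppf coverings. -/
theorem repWith_of_baseChange_cover (P : MorphismProperty Scheme.{u}) [P.IsStableUnderBaseChange]
    [P.DescendsAlong (@Surjective ⊓ @Flat ⊓ @LocallyOfFinitePresentation)]
    {F G : Sp S} (c : F ⟶ G) (hc : Representable c) {V : Over S} (b : (yon S).obj V ⟶ G)
    (hb : RepWith (@Surjective ⊓ @Flat ⊓ @LocallyOfFinitePresentation) b)
    (h : P (hc.snd b).left) : RepWith P c := by
  have : P.RespectsIso := MorphismProperty.IsStableUnderBaseChange.respectsIso
  refine MorphismProperty.relative_of_snd hc (fun T g' => ?_)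
  change P (hc.snd g').left
  -- the data
  have sq1 := hc.isPullback g'
  have sqb := hb.rep.isPullback g'
  have hQt : (@Surjective ⊓ @Flat ⊓ @LocallyOfFinitePresentation : MorphismProperty Scheme.{u})
      (hb.rep.snd g').left := hb.property_snd g'
  have sq2 : IsPullback ((yon S).map (pullback.fst (hc.snd g') (hb.rep.snd g')))
      ((yon S).map (pullback.snd (hc.snd g') (hb.rep.snd g')))
      ((yon S).map (hc.snd g')) ((yon S).map (hb.rep.snd g')) :=
    (IsPullback.of_hasPullback (hc.snd g') (hb.rep.snd g')).map (yon S)
  have sq12 := sq2.paste_horiz sq1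
  have sq3 := hc.isPullback b
  have hu : RepWith P ((yon S).map (hc.snd b)) := (repWith_yon_map_iff P _).2 h
  have hw : ((yon S).map (pullback.fst (hc.snd g') (hb.rep.snd g')) ≫ hc.fst g') ≫ c =
      ((yon S).map (pullback.snd (hc.snd g') (hb.rep.snd g')) ≫ hb.rep.fst g') ≫ b := by
    rw [sq12.w, Category.assoc, sqb.w]
  have sq4 : IsPullback (sq3.lift _ _ hw)
      ((yon S).map (pullback.snd (hc.snd g') (hb.rep.snd g')))
      ((yon S).map (hc.snd b)) (hb.rep.fst g') := by
    refine IsPullback.of_right ?_ (sq3.lift_snd _ _ hw) sq3
    rw [sq3.lift_fst, sqb.w]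
    exact sq12
  have hP2 : P (pullback.snd (hc.snd g') (hb.rep.snd g')).left := hu.property _ _ _ sq4
  have sqS : IsPullback (pullback.snd (hc.snd g') (hb.rep.snd g')).left
      (pullback.fst (hc.snd g') (hb.rep.snd g')).left (hb.rep.snd g').left (hc.snd g').left :=
    ((IsPullback.of_hasPullback (hc.snd g') (hb.rep.snd g')).map (Over.forget S)).flip
  exact MorphismProperty.of_isPullback_of_descendsAlong
    (Q := @Surjective ⊓ @Flat ⊓ @LocallyOfFinitePresentation) sqS hQt hP2

set_option backward.isDefEq.respectTransparency.types false in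
/-- etale descends along fppf coverings (Mathlib instance, found only with relaxed transparency). -/
theorem etale_descendsAlong_fppf :
    MorphismProperty.DescendsAlong (@Etale : MorphismProperty Scheme.{u})
      (@Surjective ⊓ @Flat ⊓ @LocallyOfFinitePresentation) := inferInstance

/-- `repWith_of_baseChange_cover` for `P = Etale`. -/
theorem repWith_etale_of_baseChange_cover
    {F G : Sp S} (c : F ⟶ G) (hc : Representable c) {V : Over S} (b : (yon S).obj V ⟶ G)
    (hb : RepWith (@Surjective ⊓ @Flat ⊓ @LocallyOfFinitePresentation) b)
    (h : Etale (hc.snd b).left) : RepWith @Etale c :=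
  haveI := etale_descendsAlong_fppf.{u}
  repWith_of_baseChange_cover @Etale c hc b hb h

end Groth.Agent.H51
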