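import Groth.Agent.H51.SrcSch2
import Groth.Agent.H51.RepDescent

/-! Etale-local on the source for representable etale maps to an algebraic space (helper51). -/

set_option autoImplicit false
set_option linter.style.haveILetI false
universe u
open CategoryTheory CategoryTheory.Limits AlgebraicGeometry
open AlgSp

namespace Groth.Agent.H51

variable {S : Scheme.{u}}

/-- If `χ : U ⟶ U'` is etale surjective and `h_χ ≫ φ' : h_U ⟶ F` is representable etale, with `F`
an algebraic space, then `φ'` is representable etale. -/
theorem repWith_etale_of_comp_surjective_etale {F : Sp S} (hF : IsAlgSpace F) {U U' : Over S}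
    (χ : U ⟶ U') [Etale χ.left] [Surjective χ.left] (φ' : (yon S).obj U' ⟶ F)
    (h : RepWith @Etale ((yon S).map χ ≫ φ')) : RepWith @Etale φ' := by
  have hrep : Representable φ' := hF.representable_from_yon φ'
  refine MorphismProperty.relative_of_snd hrep (fun T g' => ?_)
  change Etale (hrep.snd g').left
  obtain ⟨p, hp⟩ := (yon S).map_surjective (hrep.fst g')
  have sqb := hrep.isPullback g'
  rw [← hp] at sqb
  have sqt : IsPullback ((yon S).map (pullback.snd p χ)) ((yon S).map (pullback.fst p χ))
      ((yon S).map χ) ((yon S).map p) :=
    ((IsPullback.of_hasPullback p χ).map (yon S)).flip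
  have sq := sqt.paste_vert sqb
  rw [← Functor.map_comp] at sq
  have hE : Etale (pullback.fst p χ ≫ hrep.snd g').left := h.2 g' _ _ sq
  have sqS : IsPullback (pullback.fst p χ).left (pullback.snd p χ).left p.left χ.left :=
    (IsPullback.of_hasPullback p χ).map (Over.forget S)
  have : Etale (pullback.fst p χ).left :=
    MorphismProperty.of_isPullback (P := @Etale) sqS.flip inferInstance
  have : Surjective (pullback.fst p χ).left :=
    MorphismProperty.of_isPullback (P := @Surjective) sqS.flip inferInstance
  have : Etale ((pullback.fst p χ).left ≫ (hrep.snd g').left) := by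
    rw [← Over.comp_left]; exact hE
  exact etale_of_etale_surjective_comp (pullback.fst p χ).left (hrep.snd g').left

/-- A morphism `f : F ⟶ G` to an algebraic space is etale as soon as `a ≫ f` is representable
etale for one representable etale surjective `a : h_U ⟶ F`. -/
theorem isEtaleMor_of_atlas {F G : Sp S} (hG : IsAlgSpace G) (f : F ⟶ G) {U : Over S}
    (a : (yon S).obj U ⟶ F) (ha : RepWith @Etale a) (has : RepWith @Surjective a)
    (haf : RepWith @Etale (a ≫ f)) : IsEtaleMor f := by
  intro W φ hφ
  have inst1 := AlgSp.repWith_isStableUnderBaseChange (S := S) @Etale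
  have inst2 := AlgSp.repWith_isMultiplicative (S := S) @Etale
  have sq := ha.rep.isPullback φ
  obtain ⟨q, hq⟩ := (yon S).map_surjective (ha.rep.fst φ)
  have hqE : Etale q.left := by
    have sq' := sq.flip
    rw [← hq] at sq'
    exact hφ.2 a _ q sq'
  have hχE : Etale (ha.rep.snd φ).left := ha.property_snd φ
  have hχS : Surjective (ha.rep.snd φ).left := has.property_snd φ
  refine repWith_etale_of_comp_surjective_etale hG (ha.rep.snd φ) (φ ≫ f) ?_
  have hw : (yon S).map (ha.rep.snd φ) ≫ φ ≫ f = (yon S).map q ≫ a ≫ f := by
    rw [← Category.assoc, ← sq.w, hq, Category.assoc]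
  rw [hw]
  exact (RepWith @Etale).comp_mem _ _ ((repWith_yon_map_iff _ _).2 hqE) haf

end Groth.Agent.H51
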