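import Groth.Prelude.Def_AlgSp3
import Mathlib.RingTheory.Unramified.LocalStructure
import Mathlib.AlgebraicGeometry.Morphisms.QuasiFinite
import Mathlib.AlgebraicGeometry.Morphisms.Etale

/-! Etale morphisms of sheaves and charts (helper51). -/

set_option autoImplicit false
universe u
open CategoryTheory CategoryTheory.Limits AlgebraicGeometry
open AlgSp

namespace Groth.Agent.H51

/-- An unramified morphism of schemes is locally quasi-finite. -/
theorem locallyQuasiFinite_of_unramified {X Y : Scheme.{u}} (f : X ⟶ Y)
    [LocallyOfFiniteType f] [FormallyUnramified f] : LocallyQuasiFinite f := by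
  refine ⟨fun {U} hU {V} hV e => ?_⟩
  have h1 : (f.appLE U V e).hom.FiniteType := f.finiteType_appLE hU hV e
  have h2 : (f.appLE U V e).hom.FormallyUnramified := f.formallyUnramified_appLE hU hV e
  algebraize [(f.appLE U V e).hom]
  show (algebraMap _ _).QuasiFinite
  rw [RingHom.quasiFinite_algebraMap]
  infer_instance

variable {S : Scheme.{u}}

/-- If `f` is etale (in the chart-composition sense), then in every commutative square with etale
charts the morphism of schemes is etale. -/
theorem etale_of_isEtaleMor_of_charts {F G : Sp S} (f : F ⟶ G) (hf : IsEtaleMor f) {U V : Over S}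
    (a : (yon S).obj U ⟶ F) (b : (yon S).obj V ⟶ G) (h : U ⟶ V)
    (ha : RepWith @Etale a) (hb : RepWith @Etale b) (hcomm : a ≫ f = (yon S).map h ≫ b) :
    Etale h.left := by
  have haf : RepWith @Etale (a ≫ f) := hf a ha
  obtain ⟨W, snd, fst, sq⟩ := hb.1 (a ≫ f)
  have hsnd : Etale snd.left := hb.2 (a ≫ f) fst snd sq
  obtain ⟨q, rfl⟩ := (yon S).map_surjective fst
  have hq : Etale q.left := haf.2 b ((yon S).map snd) q sq.flip
  have hw : (yon S).map h ≫ b = 𝟙 _ ≫ (a ≫ f) := by rw [Category.id_comp, hcomm]
  obtain ⟨γ, hγ⟩ := (yon S).map_surjective (sq.lift ((yon S).map h) (𝟙 _) hw)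
  have h1 : γ ≫ q = h := by
    apply (yon S).map_injective
    rw [Functor.map_comp, hγ, sq.lift_fst]
  have h2 : γ ≫ snd = 𝟙 U := by
    apply (yon S).map_injective
    rw [Functor.map_comp, hγ, sq.lift_snd]
    exact ((yon S).map_id U).symm
  have h2' : γ.left ≫ snd.left = 𝟙 U.left := by
    rw [← Over.comp_left, h2, Over.id_left]
  have : Etale (γ.left ≫ snd.left) := by rw [h2']; infer_instance
  have hγe : Etale γ.left := Etale.of_comp γ.left snd.left
  rw [← h1, Over.comp_left]
  infer_instance

end Groth.Agent.H51
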