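import Groth.Agent.H51.FpqcIso
import Groth.Agent.H51.EtSmoothST
import Groth.Agent.H50.Fppf
import Groth.Agent.H50.Basic
import Groth.Agent.S10209
import Groth.Agent.S10210
import Groth.Agent.S10524

/-!
# Etale monomorphisms of algebraic spaces are open immersions (helper51)
-/

universe u

open CategoryTheory CategoryTheory.Limits AlgebraicGeometry Opposite AlgSp MorphismProperty

namespace Groth.Agent.H51

variable {S : Scheme.{u}}

/-- Base change of an etale morphism of algebraic spaces (sheaf level). -/
theorem isEtaleMor_snd_of_isPullback {X Y Z P : Sp S} (hX : IsAlgSpace X) (hY : IsAlgSpace Y)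
    (hZ : IsAlgSpace Z) (hP : IsAlgSpace P) {f : X ⟶ Y} {g : Z ⟶ Y} {fst : P ⟶ X} {snd : P ⟶ Z}
    (sq : IsPullback fst snd f g) (hf : IsEtaleMor f) : IsEtaleMor snd :=
  Groth.Agent.S10209.result (X := ⟨X, hX⟩) (Y := ⟨Y, hY⟩) (Z := ⟨Z, hZ⟩) (P := ⟨P, hP⟩)
    (ObjectProperty.homMk f) (ObjectProperty.homMk g) (ObjectProperty.homMk snd)
    (ObjectProperty.homMk fst) sq.flip hf

/-- Cancellation for etale morphisms of algebraic spaces (sheaf level). -/
theorem isEtaleMor_of_comp {X Y Z : Sp S} (hX : IsAlgSpace X) (hY : IsAlgSpace Y)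
    (hZ : IsAlgSpace Z) (f : X ⟶ Y) (h : Y ⟶ Z) (hg : IsEtaleMor (f ≫ h)) (hh : IsEtaleMor h) :
    IsEtaleMor f :=
  Groth.Agent.S10210.result (X := ⟨X, hX⟩) (Y := ⟨Y, hY⟩) (Z := ⟨Z, hZ⟩)
    (ObjectProperty.homMk f) (ObjectProperty.homMk h) (ObjectProperty.homMk (f ≫ h)) rfl hg hh

/-- An etale monomorphism of algebraic spaces is (representable by) an open immersion. -/
theorem repWith_isOpenImmersion_of_etale_mono {X Y : Sp S} (hX : IsAlgSpace X) (hY : IsAlgSpace Y)
    (f : X ⟶ Y) (het : IsEtaleMor f) [Mono f] : RepWith @IsOpenImmersion f := by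
  refine MorphismProperty.relative.of_exists (fun T g => ?_)
  have hT : IsAlgSpace ((yon S).obj T) := ((AlgSp.ofScheme S).obj T).property
  have sq := IsPullback.of_hasPullback f g
  have hP₀ : IsAlgSpace (pullback f g) := Groth.Agent.H52.isAlgSpace_of_isPullback sq hY.diag hX hT
  have hsnd : IsEtaleMor (pullback.snd f g) := isEtaleMor_snd_of_isPullback hX hY hT hP₀ sq het
  obtain ⟨U, a, hae, has⟩ := hP₀.atlas
  obtain ⟨k, hk⟩ := (yon S).map_surjective (a ≫ pullback.snd f g)
  have hkE : Etale k.left := by
    rw [← repWith_yon_map_iff (S := S) @Etale, hk]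
    exact hsnd a hae
  obtain ⟨V₀, ι, k', hk'ι, hι, -, -, hk's⟩ := Groth.Agent.H50.exists_open_image k
  have hιm : Mono ((yon S).map ι) := Groth.Agent.H52.mono_yon_map ι
  have hιo : RepWith @IsOpenImmersion ((yon S).map ι) := (repWith_yon_map_iff _ _).2 hι
  have hιe : IsEtaleMor ((yon S).map ι) := (isEtaleMor_yon_map_iff ι).2 inferInstance
  have hV₀ : IsAlgSpace ((yon S).obj V₀) := ((AlgSp.ofScheme S).obj V₀).property
  -- the pullback of `h_{V₀} ⟶ h_T` to `P₀` is an isomorphism
  have sq1 := IsPullback.of_hasPullback (pullback.snd f g) ((yon S).map ι)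
  have := AlgSp.repWith_isStableUnderBaseChange (S := S) @IsOpenImmersion
  have hpr₁ : RepWith @IsOpenImmersion (pullback.fst (pullback.snd f g) ((yon S).map ι)) :=
    MorphismProperty.of_isPullback sq1.flip hιo
  have hpr₁s : Function.Surjective (Points.map (pullback.fst (pullback.snd f g) ((yon S).map ι))) := by
    intro x
    obtain ⟨u, rfl⟩ := Groth.Agent.H52.surjective_ofPt_of_surjective a has x
    have hx : Points.map (pullback.snd f g) (Points.ofPt a u) =
        Points.map ((yon S).map ι) (Points.ofScheme V₀ (k'.left u)) := by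
      rw [Points.map_ofPt, ← hk, Points.ofPt_eq_map_ofScheme, Groth.Agent.H52.map_yon_map_ofScheme,
        Groth.Agent.H52.map_yon_map_ofScheme, ← hk'ι]
      rfl
    obtain ⟨z, hz, -⟩ := Groth.Agent.H52.exists_point_of_isPullback sq1 _ _ hx
    exact ⟨z, hz⟩
  have hpr₁i : IsIso (pullback.fst (pullback.snd f g) ((yon S).map ι)) :=
    Groth.Agent.H52.isIso_of_repWith_isOpenImmersion_of_surjective _ hpr₁ hpr₁s
  let e : pullback f g ⟶ (yon S).obj V₀ :=
    inv (pullback.fst (pullback.snd f g) ((yon S).map ι)) ≫ pullback.snd (pullback.snd f g) ((yon S).map ι)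
  have he : e ≫ (yon S).map ι = pullback.snd f g := by
    rw [Category.assoc, ← sq1.w, IsIso.inv_hom_id_assoc]
  have hem : Mono e := by
    have : Mono (e ≫ (yon S).map ι) := by rw [he]; infer_instance
    exact mono_of_mono e ((yon S).map ι)
  have hee : IsEtaleMor e := isEtaleMor_of_comp hP₀ hV₀ hT e ((yon S).map ι) (by rw [he]; exact hsnd) hιe
  have hae' : a ≫ e = (yon S).map k' := by
    rw [← cancel_mono ((yon S).map ι), Category.assoc, he, ← hk, ← Functor.map_comp, hk'ι]
  have hes : IsSurjectiveMor e := by
    intro v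
    obtain ⟨v₀, rfl⟩ := (Points.schemeEquiv V₀).surjective v
    obtain ⟨u, rfl⟩ := k'.left.surjective v₀
    refine ⟨Points.ofPt a u, ?_⟩
    rw [Points.map_ofPt, hae', Points.ofPt_eq_map_ofScheme, Groth.Agent.H52.map_yon_map_ofScheme]
    rfl
  have hle := locP_etale_of_isEtaleMor e hee
  have hepi : Epi e := Groth.Agent.H52.epi_of_fppf_mor hP₀ hV₀ e
    (fun U V a b h ha hb comm => by
      have : Etale h.left := hle a b h ha hb comm
      exact (inferInstance : Flat h.left))
    (fun U V a b h ha hb comm => by
      have : Etale h.left := hle a b h ha hb comm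
      exact (inferInstance : LocallyOfFinitePresentation h.left)) hes
  have hei : IsIso e := isIso_of_mono_of_epi e
  refine ⟨V₀, inv e ≫ pullback.fst f g, ι, ?_, hι⟩
  exact sq.of_iso (asIso e) (Iso.refl _) (Iso.refl _) (Iso.refl _) (by simp) (by simp [he])
    (by simp) (by simp)

/-- An etale and universally injective morphism of algebraic spaces is a monomorphism. -/
theorem mono_of_etale_univInjective {X Y : Sp S} (hX : IsAlgSpace X) (hY : IsAlgSpace Y)
    (f : X ⟶ Y) (het : IsEtaleMor f) (hinj : IsUnivInjectiveMor f) : Mono f := by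
  have hΔ : RepWith @IsOpenImmersion (pullback.diagonal f) :=
    repWith_isOpenImmersion_diagonal_of_unramified hX hY f (locP_unramified_of_isEtaleMor f het)
  have hi : Function.Injective (Points.map (pullback.snd f f)) :=
    hinj hX f (pullback.fst f f) (pullback.snd f f) (IsPullback.of_hasPullback f f)
  have hs : Function.Surjective (Points.map (pullback.diagonal f)) := by
    intro z
    refine ⟨Points.map (pullback.snd f f) z, hi ?_⟩
    rw [← Points.map_comp, pullback.diagonal_snd, Points.map_id]
  have : IsIso (pullback.diagonal f) :=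
    Groth.Agent.H52.isIso_of_repWith_isOpenImmersion_of_surjective _ hΔ hs
  exact (pullback.isIso_diagonal_iff (f := f)).1 this

/-- An etale and universally injective morphism of algebraic spaces is an open immersion. -/
theorem repWith_isOpenImmersion_of_etale_univInjective {X Y : Sp S} (hX : IsAlgSpace X)
    (hY : IsAlgSpace Y) (f : X ⟶ Y) (het : IsEtaleMor f) (hinj : IsUnivInjectiveMor f) :
    RepWith @IsOpenImmersion f :=
  have := mono_of_etale_univInjective hX hY f het hinj
  repWith_isOpenImmersion_of_etale_mono hX hY f het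

/-- A monomorphism of sheaves is injective on points. -/
theorem injective_map_of_mono {F G : Sp S} (f : F ⟶ G) [Mono f] : Function.Injective (Points.map f) := by
  have h1 : Mono ((sheafToPresheaf (J S) (Type (u + 1))).map f) := inferInstance
  have h2 : ∀ T, Function.Injective (f.hom.app T) := fun T => by
    have : Mono (f.hom.app T) := (NatTrans.mono_iff_mono_app f.hom).1 h1 T
    exact (mono_iff_injective _).1 this
  intro x y
  induction x using Points.ind with
  | h p =>
  induction y using Points.ind with
  | h q =>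
  rw [Points.map_mk, Points.map_mk, Points.mk_eq_mk_iff, Points.mk_eq_mk_iff]
  rintro ⟨Ω, _, w, a, b, h⟩
  refine ⟨Ω, inferInstance, w, a, b, h2 _ ?_⟩
  change G.obj.map a.op (f.hom.app _ p.val) = G.obj.map b.op (f.hom.app _ q.val) at h
  rw [← NatTrans.naturality_apply, ← NatTrans.naturality_apply] at h
  exact h

/-- A monomorphism of sheaves is universally injective. -/
theorem isUnivInjectiveMor_of_mono {X Y : Sp S} (f : X ⟶ Y) [Mono f] : IsUnivInjectiveMor f := by
  intro Z Z' hZ g fst snd sq
  have hm : Mono snd := ⟨fun a b hab => sq.hom_ext (by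
    rw [← cancel_mono f, Category.assoc, Category.assoc, sq.w, ← Category.assoc, ← Category.assoc,
      hab]) hab⟩
  exact injective_map_of_mono snd

/-- Open immersions of algebraic spaces are fpqc local on the base. -/
theorem isLocalOnBase_fpqc_repWith_isOpenImmersion :
    IsLocalOnBase (IsFpqcCover (S := S)) (RepWith @IsOpenImmersion) := by
  intro ι Y Yi g hY hYi hcov X f hX Xi p q hXi sq
  have := AlgSp.repWith_isStableUnderBaseChange (S := S) @IsOpenImmersion
  constructor
  · intro hf i
    exact MorphismProperty.of_isPullback (sq i) hf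
  · intro hp
    have hmono : ∀ i, Mono (p i) := fun i => Groth.Agent.H50.mono_of_repWith (fun A B g hg => by
      have : IsOpenImmersion g := hg
      exact (inferInstance : Mono g)) (hp i)
    have het : IsEtaleMor f :=
      (isLocalOnBase_fpqc_isEtaleMor Yi g hY hYi hcov f hX Xi p q hXi sq).2 fun i =>
        isEtaleMor_of_repWith_isOpenImmersion (p i) (hp i)
    have hinj : IsUnivInjectiveMor f :=
      (Groth.Agent.S10524.result S Yi g hY hYi hcov f hX Xi p q hXi sq).2 fun i =>
        have := hmono i
        isUnivInjectiveMor_of_mono (p i)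
    exact repWith_isOpenImmersion_of_etale_univInjective hX hY f het hinj

end Groth.Agent.H51
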