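import Groth.Agent.H51.SrcRep
import Groth.Agent.H51.EtaleChart
import Groth.Agent.H51.FpqcLocPInst

/-!
# `IsEtaleMor` versus `LocP @Etale` for algebraic spaces; fpqc locality on the base (helper51)
-/

universe u

open CategoryTheory CategoryTheory.Limits AlgebraicGeometry Opposite AlgSp MorphismProperty

namespace Groth.Agent.H51

variable {S : Scheme.{u}}

theorem locP_etale_of_isEtaleMor {F G : Sp S} (f : F ⟶ G) (hf : IsEtaleMor f) : LocP @Etale f :=
  fun _ _ a b h ha hb comm => etale_of_isEtaleMor_of_charts f hf a b h ha hb comm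

theorem isEtaleMor_of_locP_etale {X Y : Sp S} (hX : IsAlgSpace X) (hY : IsAlgSpace Y) (f : X ⟶ Y)
    (h : LocP @Etale f) : IsEtaleMor f := by
  obtain ⟨U, a, hae, has⟩ := hX.atlas
  obtain ⟨V, b, hbe, hbs⟩ := hY.atlas
  have := AlgSp.repWith_isMultiplicative (S := S) @Etale
  have := AlgSp.repWith_isMultiplicative (S := S) @Surjective
  have sq := hbe.rep.isPullback' (a ≫ f)
  have h2e : Etale (hbe.rep.snd (a ≫ f)).left := hbe.property_snd _
  have h2s : Surjective (hbe.rep.snd (a ≫ f)).left := hbs.property_snd _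
  have hae' : RepWith @Etale ((yon S).map (hbe.rep.snd (a ≫ f)) ≫ a) :=
    (RepWith @Etale).comp_mem _ _ ((repWith_yon_map_iff _ _).2 h2e) hae
  have has' : RepWith @Surjective ((yon S).map (hbe.rep.snd (a ≫ f)) ≫ a) :=
    (RepWith @Surjective).comp_mem _ _ ((repWith_yon_map_iff _ _).2 h2s) has
  have hh : Etale (hbe.rep.fst' (a ≫ f)).left :=
    h ((yon S).map (hbe.rep.snd (a ≫ f)) ≫ a) b _ hae' hbe (by rw [Category.assoc]; exact sq.w.symm)
  refine isEtaleMor_of_atlas hY f _ hae' has' ?_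
  rw [Category.assoc, ← sq.w]
  exact (RepWith @Etale).comp_mem _ _ ((repWith_yon_map_iff _ _).2 hh) hbe

theorem isLocalOnBase_fpqc_isEtaleMor :
    IsLocalOnBase (IsFpqcCover (S := S)) IsEtaleMor := by
  intro ι Y Yi g hY hYi hcov X f hX Xi p q hXi sq
  have key := isLocalOnBase_fpqc_etale (S := S) Yi g hY hYi hcov f hX Xi p q hXi sq
  constructor
  · intro hf i
    exact isEtaleMor_of_locP_etale (hXi i) (hYi i) _ (key.1 (locP_etale_of_isEtaleMor f hf) i)
  · intro hp
    exact isEtaleMor_of_locP_etale hX hY f (key.2 fun i => locP_etale_of_isEtaleMor _ (hp i))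

end Groth.Agent.H51
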