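import Groth.Agent.H51.FpqcDiag
import Groth.Agent.H51.EtaleIff
import Groth.Agent.H52.Iso
import Groth.Agent.H52.EpiFppf
import Groth.Agent.S10525

/-!
# Monomorphisms and isomorphisms of algebraic spaces are fpqc local on the base (helper51)
-/

universe u

open CategoryTheory CategoryTheory.Limits AlgebraicGeometry Opposite AlgSp MorphismProperty

namespace Groth.Agent.H51

variable {S : Scheme.{u}}

/-- A morphism from an algebraic space is a monomorphism iff its diagonal is representable by isomorphisms. -/
theorem mono_iff_repWith_isomorphisms_diagonal {F G : Sp S} (_hF : IsAlgSpace F) (f : F ⟶ G) :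
    Mono f ↔ RepWith (isomorphisms Scheme.{u}) (pullback.diagonal f) := by
  constructor
  · intro hf
    have := AlgSp.repWith_isMultiplicative (S := S) (isomorphisms Scheme.{u})
    exact MorphismProperty.of_isIso (RepWith (isomorphisms Scheme.{u})) _
  · intro h
    rw [← pullback.isIso_diagonal_iff]
    apply Groth.Agent.H52.isIso_of_representable_of_forall_isIso _ h.1
    intro T V g fst snd sq
    have h3 : IsIso snd.left := h.2 _ _ _ sq
    have h4 : IsIso ((Over.forget S).map snd) := h3
    exact isIso_of_reflects_iso snd (Over.forget S)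

theorem isLocalOnBase_fpqc_mono :
    IsLocalOnBase (IsFpqcCover (S := S)) (monomorphisms (Sp S)) := by
  intro ι Y Yi g hY hYi hcov X f hX Xi p q hXi sq
  have key := isLocalOnBase_fpqc_diagonal (S := S) (isomorphisms Scheme.{u}) Yi g hY hYi hcov f hX Xi p q
    hXi sq
  simp only [monomorphisms.iff]
  rw [mono_iff_repWith_isomorphisms_diagonal hX f]
  exact key.trans (forall_congr' fun i => (mono_iff_repWith_isomorphisms_diagonal (hXi i) (p i)).symm)

theorem isEtaleMor_of_isIso {F G : Sp S} (f : F ⟶ G) [IsIso f] : IsEtaleMor f := by
  intro U φ hφ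
  have := AlgSp.repWith_isMultiplicative (S := S) @Etale
  exact (MorphismProperty.cancel_right_of_respectsIso (RepWith @Etale) φ f).2 hφ

theorem isUnivHomeoMor_of_isIso {F G : Sp S} (f : F ⟶ G) [IsIso f] : IsUnivHomeoMor f := by
  intro Z Z' hZ g fst snd sq
  have : IsIso snd := sq.isIso_snd_of_isIso
  exact (Groth.Agent.H52.homeoOfIso (asIso snd)).isHomeomorph

theorem isLocalOnBase_fpqc_isomorphisms :
    IsLocalOnBase (IsFpqcCover (S := S)) (isomorphisms (Sp S)) := by
  intro ι Y Yi g hY hYi hcov X f hX Xi p q hXi sq
  simp only [isomorphisms.iff]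
  constructor
  · intro hf i
    exact (sq i).isIso_snd_of_isIso
  · intro hp
    have hmono : Mono f :=
      (isLocalOnBase_fpqc_mono Yi g hY hYi hcov f hX Xi p q hXi sq).2 fun i => by
        have := hp i
        exact (monomorphisms.iff _).2 inferInstance
    have het : IsEtaleMor f :=
      (isLocalOnBase_fpqc_isEtaleMor Yi g hY hYi hcov f hX Xi p q hXi sq).2 fun i => by
        have := hp i
        exact isEtaleMor_of_isIso (p i)
    have hhom : IsUnivHomeoMor f :=
      (Groth.Agent.S10525.result S Yi g hY hYi hcov f hX Xi p q hXi sq).2 fun i => by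
        have := hp i
        exact isUnivHomeoMor_of_isIso (p i)
    have hsurj : IsSurjectiveMor f :=
      (hhom hY (𝟙 Y) (𝟙 X) f (IsPullback.of_horiz_isIso ⟨by simp⟩)).surjective
    have hle := locP_etale_of_isEtaleMor f het
    have hepi : Epi f := Groth.Agent.H52.epi_of_fppf_mor hX hY f
      (fun U V a b h ha hb comm => by
        have : Etale h.left := hle a b h ha hb comm
        exact (inferInstance : Flat h.left))
      (fun U V a b h ha hb comm => by
        have : Etale h.left := hle a b h ha hb comm
        exact (inferInstance : LocallyOfFinitePresentation h.left)) hsurj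
    exact isIso_of_mono_of_epi f

end Groth.Agent.H51
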