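import Groth.Agent.H51.LargestOpen
import Groth.Agent.H50.Basic
import Groth.Agent.H50.Fppf
import Groth.Agent.H50.Kernel

/-!
# Zariski gluing of representability for fppf sheaves over `S` (helper51)

A sheaf `W` on schemes over `S` covered by representable open subfunctors is representable
(the analogue over `S` of Mathlib's `Scheme.LocalRepresentability`).
-/

set_option autoImplicit false
universe u
open CategoryTheory CategoryTheory.Limits AlgebraicGeometry Opposite
open AlgSp

namespace Groth.Agent.H51.ZarGlue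

variable {S : Scheme.{u}} {W : Sp S} {ι : Type u} {X : ι → Over S}
  {f : ∀ i, (yon S).obj (X i) ⟶ W} (hf : ∀ i, RepWith @IsOpenImmersion (f i))

theorem fst'_self_eq_snd (i : ι) : (hf i).rep.fst' (f i) = (hf i).rep.snd (f i) := by
  have := Groth.Agent.H51.mono_of_repWith_isOpenImmersion (hf i)
  apply (yon S).map_injective
  rw [← cancel_mono (f i), ((hf i).rep.isPullback' (f i)).w]

theorem isIso_fst'_self (i : ι) : IsIso ((hf i).rep.fst' (f i)) := by
  have := Groth.Agent.H51.mono_of_repWith_isOpenImmersion (hf i)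
  have := ((hf i).rep.isPullback' (f i)).isIso_fst_of_mono
  exact (Functor.FullyFaithful.ofFullyFaithful (yon S)).isIso_of_isIso_map _

theorem isOpenImmersion_fst' (i j : ι) : IsOpenImmersion ((hf i).rep.fst' (f j)).left :=
  (hf j).property _ _ _ ((hf i).1.isPullback' (f j)).flip

set_option backward.isDefEq.respectTransparency false in
open Functor.relativelyRepresentable in
/-- The glue data in schemes over `S`. -/
noncomputable def glueData₀ : CategoryTheory.GlueData (Over S) where
  J := ι
  U := X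
  V := fun (i, j) ↦ (hf i).rep.pullback (f j)
  f i j := (hf i).rep.fst' (f j)
  f_mono i j := by
    have := isOpenImmersion_fst' hf i j
    have : Mono ((hf i).rep.fst' (f j)).left := inferInstance
    exact (Over.forget S).mono_of_mono_map this
  f_id i := isIso_fst'_self hf i
  t i j := (hf i).rep.symmetry (hf j).rep
  t_id i := by
    apply (hf i).rep.hom_ext' <;> simp [fst'_self_eq_snd hf i]
  t' i j k := lift₃ _ _ _ (pullback₃.p₂ _ _ _) (pullback₃.p₃ _ _ _) (pullback₃.p₁ _ _ _)
    (by simp) (by simp)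
  t_fac i j k := (hf j).rep.hom_ext' (by simp) (by simp)
  cocycle i j k := pullback₃.hom_ext (by simp) (by simp) (by simp)

/-- The glue data in schemes. -/
noncomputable def glueData : Scheme.GlueData where
  toGlueData := (glueData₀ hf).mapGlueData (Over.forget S)
  f_open i j := isOpenImmersion_fst' hf i j

/-- The glued scheme. -/
noncomputable abbrev glued : Scheme.{u} := (glueData hf).glued

/-- The inclusions of the pieces. -/
noncomputable abbrev gluedι (i : ι) : (X i).left ⟶ glued hf := (glueData hf).ι i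

theorem glue_condition (i j : ι) :
    ((hf i).rep.symmetry (hf j).rep).left ≫ ((hf j).rep.fst' (f i)).left ≫ gluedι hf j =
      ((hf i).rep.fst' (f j)).left ≫ gluedι hf i :=
  (glueData hf).glue_condition i j

/-- The structure morphism of the glued scheme. -/
noncomputable def gluedHom : glued hf ⟶ S :=
  Multicoequalizer.desc (glueData hf).diagram S (fun i => (X i).hom) (by
    rintro ⟨i, j⟩
    show ((hf i).rep.fst' (f j)).left ≫ (X i).hom =
      (((hf i).rep.symmetry (hf j).rep).left ≫ ((hf j).rep.fst' (f i)).left) ≫ (X j).hom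
    rw [Over.w, Category.assoc, Over.w, Over.w])

theorem gluedι_gluedHom (i : ι) : gluedι hf i ≫ gluedHom hf = (X i).hom :=
  Multicoequalizer.π_desc _ _ _ _ _

/-- The glued scheme over `S`. -/
noncomputable abbrev gluedOver : Over S := Over.mk (gluedHom hf)

/-- The inclusions of the pieces, over `S`. -/
noncomputable abbrev gluedOverι (i : ι) : X i ⟶ gluedOver hf :=
  Over.homMk (gluedι hf i) (gluedι_gluedHom hf i)

theorem glue_condition_over (i j : ι) :
    (hf i).rep.symmetry (hf j).rep ≫ (hf j).rep.fst' (f i) ≫ gluedOverι hf j =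
      (hf i).rep.fst' (f j) ≫ gluedOverι hf i := by
  ext1
  exact glue_condition hf i j

/-- Gluing morphisms to a sheaf along a covering family of schemes over `S`. -/
theorem exists_glue {W : Sp S} {G : Over S} {κ : Type*} (Y : κ → Over S) (c : ∀ i, Y i ⟶ G)
    (hc : Sieve.generate (Presieve.ofArrows Y c) ∈ J S G) (w : ∀ i, (yon S).obj (Y i) ⟶ W)
    (compat : ∀ i j (Z : Over S) (a : Z ⟶ Y i) (b : Z ⟶ Y j), a ≫ c i = b ≫ c j →
      (yon S).map a ≫ w i = (yon S).map b ≫ w j) :
    ∃ w₀ : (yon S).obj G ⟶ W, ∀ i, (yon S).map (c i) ≫ w₀ = w i := by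
  have hW : Presieve.IsSheaf (J S) W.obj := (isSheaf_iff_isSheaf_of_type _ _).1 W.property
  have h1 : Presieve.IsSheafFor W.obj (Presieve.ofArrows Y c) := by
    rw [Presieve.isSheafFor_iff_generate]
    exact hW _ hc
  rw [Presieve.isSheafFor_arrows_iff] at h1
  obtain ⟨t, ht, -⟩ := h1 (fun i => (J S).uliftYonedaEquiv (w i)) (by
    intro i j Z a b hab
    rw [GrothendieckTopology.uliftYonedaEquiv_naturality,
      GrothendieckTopology.uliftYonedaEquiv_naturality]
    exact congrArg _ (compat i j Z a b hab))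
  refine ⟨(J S).uliftYonedaEquiv.symm t, fun i => ?_⟩
  apply (J S).uliftYonedaEquiv.injective
  rw [← GrothendieckTopology.uliftYonedaEquiv_naturality, Equiv.apply_symm_apply]
  exact ht i

theorem exists_mem_range_gluedι (g : ↥(glued hf)) : ∃ i, g ∈ Set.range (gluedι hf i) := by
  obtain ⟨i, x, hx⟩ := (glueData hf).ι_jointly_surjective g
  exact ⟨i, x, hx⟩

/-- Two morphisms to pieces that agree in the glued scheme agree in the sheaf. -/
theorem map_comp_eq_of_comp_gluedOverι_eq {i j : ι} {Z : Over S} (a : Z ⟶ X i) (b : Z ⟶ X j)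
    (hab : a ≫ gluedOverι hf i = b ≫ gluedOverι hf j) :
    (yon S).map a ≫ f i = (yon S).map b ≫ f j := by
  have hab' : a.left ≫ gluedι hf i = b.left ≫ gluedι hf j := congrArg (fun φ => φ.left) hab
  let l : Z.left ⟶ ((hf i).rep.pullback (f j)).left :=
    PullbackCone.IsLimit.lift ((glueData hf).vPullbackConeIsLimit i j) a.left b.left hab'
  have hl1 : l ≫ ((hf i).rep.fst' (f j)).left = a.left :=
    PullbackCone.IsLimit.lift_fst ((glueData hf).vPullbackConeIsLimit i j) a.left b.left hab'
  have hl2 : l ≫ ((hf i).rep.symmetry (hf j).rep).left ≫ ((hf j).rep.fst' (f i)).left = b.left :=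
    PullbackCone.IsLimit.lift_snd ((glueData hf).vPullbackConeIsLimit i j) a.left b.left hab'
  let l' : Z ⟶ (hf i).rep.pullback (f j) := Over.homMk l (by
    rw [← Over.w ((hf i).rep.fst' (f j)), ← Category.assoc, hl1, Over.w])
  have h1 : l' ≫ (hf i).rep.fst' (f j) = a := by
    ext1
    exact hl1
  have h2 : l' ≫ (hf i).rep.symmetry (hf j).rep ≫ (hf j).rep.fst' (f i) = b := by
    ext1
    exact hl2
  rw [← h1, ← h2, Functor.relativelyRepresentable.symmetry_fst, Functor.map_comp, Functor.map_comp,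
    Category.assoc, Category.assoc, ((hf i).rep.isPullback' (f j)).w]

theorem mem_J_gluedOverι :
    Sieve.generate (Presieve.ofArrows X (gluedOverι hf)) ∈ J S (gluedOver hf) := by
  refine Groth.Agent.H50.mem_J_of_fppf_family X (gluedOverι hf) (fun g => ?_)
    (fun i => ?_) (fun i => ?_) _ (fun i => ?_)
  · obtain ⟨i, x, hx⟩ := exists_mem_range_gluedι hf g
    exact ⟨i, x, hx⟩
  · have : IsOpenImmersion (gluedι hf i) := inferInstanceAs (IsOpenImmersion ((glueData hf).ι i))
    show Flat (gluedι hf i)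
    infer_instance
  · have : IsOpenImmersion (gluedι hf i) := inferInstanceAs (IsOpenImmersion ((glueData hf).ι i))
    show LocallyOfFinitePresentation (gluedι hf i)
    infer_instance
  · exact Sieve.le_generate _ _ _ (Presieve.ofArrows.mk i)

/-- The comparison morphism from the sheaf of the glued scheme. -/
theorem exists_gluedTo :
    ∃ w₀ : (yon S).obj (gluedOver hf) ⟶ W, ∀ i, (yon S).map (gluedOverι hf i) ≫ w₀ = f i :=
  exists_glue X (gluedOverι hf) (mem_J_gluedOverι hf) f
    (fun _ _ _ a b hab => map_comp_eq_of_comp_gluedOverι_eq hf a b hab)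

instance (i : ι) : IsOpenImmersion (gluedι hf i) :=
  inferInstanceAs (IsOpenImmersion ((glueData hf).ι i))

/-- A comparison morphism is a monomorphism. -/
theorem mono_gluedTo (w₀ : (yon S).obj (gluedOver hf) ⟶ W)
    (hw : ∀ i, (yon S).map (gluedOverι hf i) ≫ w₀ = f i) : Mono w₀ := by
  apply Groth.Agent.H50.mono_of_forall_yon
  intro T α β hαβ
  obtain ⟨a, rfl⟩ := (yon S).map_surjective α
  obtain ⟨b, rfl⟩ := (yon S).map_surjective β
  let Sg : Sieve T :=
    { arrows := fun T' φ => φ ≫ a = φ ≫ b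
      downward_closed := by
        intro T' T'' φ hφ ψ
        show (ψ ≫ φ) ≫ a = (ψ ≫ φ) ≫ b
        rw [Category.assoc, hφ, Category.assoc] }
  refine Groth.Agent.H50.hom_ext_of_local _ _ (Sg := Sg) ?_ (fun T' φ hφ => by
    rw [← Functor.map_comp, ← Functor.map_comp]
    exact congrArg _ hφ)
  -- local construction
  have key : ∀ τ : ↥T.left, ∃ (N : Over S) (n : N ⟶ T), IsOpenImmersion n.left ∧
      τ ∈ Set.range n.left ∧ n ≫ a = n ≫ b := by
    intro τ
    obtain ⟨i, x, hx⟩ := exists_mem_range_gluedι hf (a.left τ)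
    obtain ⟨j, y, hy⟩ := exists_mem_range_gluedι hf (b.left τ)
    let O : T.left.Opens := a.left ⁻¹ᵁ (gluedι hf i).opensRange ⊓ b.left ⁻¹ᵁ (gluedι hf j).opensRange
    have hτ : τ ∈ O := ⟨⟨x, hx⟩, ⟨y, hy⟩⟩
    let N : Over S := Over.mk (O.ι ≫ T.hom)
    let n : N ⟶ T := Over.homMk O.ι rfl
    have hra : Set.range (O.ι ≫ a.left) ⊆ Set.range (gluedι hf i) := by
      rintro _ ⟨z, rfl⟩
      exact z.2.1
    have hrb : Set.range (O.ι ≫ b.left) ⊆ Set.range (gluedι hf j) := by
      rintro _ ⟨z, rfl⟩
      exact z.2.2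
    let aN : N ⟶ X i := Over.homMk (IsOpenImmersion.lift (gluedι hf i) (O.ι ≫ a.left) hra) (by
      rw [← gluedι_gluedHom hf i, ← Category.assoc, IsOpenImmersion.lift_fac, Category.assoc]
      have := Over.w a
      simp only [Over.mk_hom] at this ⊢
      rw [this]
      rfl)
    let bN : N ⟶ X j := Over.homMk (IsOpenImmersion.lift (gluedι hf j) (O.ι ≫ b.left) hrb) (by
      rw [← gluedι_gluedHom hf j, ← Category.assoc, IsOpenImmersion.lift_fac, Category.assoc]
      have := Over.w b
      simp only [Over.mk_hom] at this ⊢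
      rw [this]
      rfl)
    have haN : aN ≫ gluedOverι hf i = n ≫ a := by
      ext1
      exact IsOpenImmersion.lift_fac _ _ hra
    have hbN : bN ≫ gluedOverι hf j = n ≫ b := by
      ext1
      exact IsOpenImmersion.lift_fac _ _ hrb
    have h : (yon S).map aN ≫ f i = (yon S).map bN ≫ f j := by
      rw [← hw i, ← hw j, ← Category.assoc, ← Category.assoc, ← Functor.map_comp, ← Functor.map_comp,
        haN, hbN, Functor.map_comp, Functor.map_comp, Category.assoc, Category.assoc, hαβ]
    let l : N ⟶ (hf i).rep.pullback (f j) := (hf i).rep.lift' aN bN h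
    have hl1 : l ≫ (hf i).rep.fst' (f j) = aN := (hf i).rep.lift'_fst aN bN h
    have hl2 : l ≫ (hf i).rep.snd (f j) = bN := (hf i).rep.lift'_snd aN bN h
    refine ⟨N, n, inferInstanceAs (IsOpenImmersion O.ι), ⟨⟨τ, hτ⟩, rfl⟩, ?_⟩
    rw [← haN, ← hbN, ← hl1, ← hl2, Category.assoc, ← glue_condition_over hf i j,
      Functor.relativelyRepresentable.symmetry_fst_assoc, Category.assoc]
  choose N n hno hnτ hn using key
  refine Groth.Agent.H50.mem_J_of_fppf_family N n (fun τ => ?_) (fun τ => ?_) (fun τ => ?_) Sg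
    (fun τ => hn τ)
  · obtain ⟨z, hz⟩ := hnτ τ
    exact ⟨τ, z, hz⟩
  · have := hno τ
    infer_instance
  · have := hno τ
    infer_instance

include hf in
/-- A sheaf over `S` covered by representable open subfunctors is representable. -/
theorem exists_iso_yon
    (hsurj : ∀ (T : Over S) (y : (yon S).obj T ⟶ W), ∃ Sg ∈ J S T, ∀ ⦃T' : Over S⦄ (φ : T' ⟶ T),
      Sg φ → ∃ (i : ι) (x : (yon S).obj T' ⟶ (yon S).obj (X i)), x ≫ f i = (yon S).map φ ≫ y) :
    ∃ (G : Over S) (e : (yon S).obj G ≅ W) (c : ∀ i, X i ⟶ G),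
      (∀ i, (yon S).map (c i) ≫ e.hom = f i) ∧ (∀ i, IsOpenImmersion (c i).left) ∧
      (∀ g : ↥G.left, ∃ i, g ∈ Set.range (c i).left) := by
  obtain ⟨w₀, hw⟩ := exists_gluedTo hf
  have hm : Mono w₀ := mono_gluedTo hf w₀ hw
  have he : Epi w₀ := by
    apply Groth.Agent.H50.epi_of_local_lift
    intro T y
    obtain ⟨Sg, hSg, h⟩ := hsurj T y
    refine ⟨Sg, hSg, fun T' φ hφ => ?_⟩
    obtain ⟨i, x, hx⟩ := h φ hφ
    exact ⟨x ≫ (yon S).map (gluedOverι hf i), by rw [Category.assoc, hw i, hx]⟩
  have hiso : IsIso w₀ := isIso_of_mono_of_epi w₀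
  exact ⟨gluedOver hf, asIso w₀, gluedOverι hf, hw,
    fun i => inferInstanceAs (IsOpenImmersion (gluedι hf i)), exists_mem_range_gluedι hf⟩

end Groth.Agent.H51.ZarGlue
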