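import Groth.Agent.H51.CoprodDesc
import Groth.Agent.H51.ZarGlue

/-!
# A sheaf with an open cover by algebraic spaces is an algebraic space (helper51)
-/

set_option autoImplicit false
universe u
open CategoryTheory CategoryTheory.Limits AlgebraicGeometry Opposite
open AlgSp

namespace Groth.Agent.H51

variable {S : Scheme.{u}}

/-- If the map from a coproduct is a surjection of sheaves, sections lift locally to the summands. -/
theorem exists_local_lift_of_desc {ι : Type u} {Fi : ι → Sp S} {F : Sp S} (f : ∀ i, Fi i ⟶ F)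
    (c : Cofan Fi) (hc : IsColimit c)
    (hsurj : Sheaf.IsLocallySurjective (Cofan.IsColimit.desc hc f)) {Z : Over S}
    (s : (yon S).obj Z ⟶ F) :
    ∃ Sg ∈ J S Z, ∀ ⦃Z' : Over S⦄ (φ : Z' ⟶ Z), Sg φ →
      ∃ (i : ι) (v : (yon S).obj Z' ⟶ Fi i), v ≫ f i = (yon S).map φ ≫ s := by
  have hR := Presheaf.imageSieve_mem (J S) (Cofan.IsColimit.desc hc f).hom ((J S).uliftYonedaEquiv s)
  let Sg : Sieve Z :=
    { arrows := fun Z' φ => ∃ (i : ι) (v : (yon S).obj Z' ⟶ Fi i), v ≫ f i = (yon S).map φ ≫ s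
      downward_closed := by
        rintro Z' Z'' φ ⟨i, v, hv⟩ ψ
        exact ⟨i, (yon S).map ψ ≫ v, by rw [Category.assoc, hv, Functor.map_comp, Category.assoc]⟩ }
  refine ⟨Sg, (J S).transitive hR Sg (fun Z' φ hφ => ?_), fun Z' φ hφ => hφ⟩
  obtain ⟨t, ht⟩ := hφ
  have ht' : (J S).uliftYonedaEquiv.symm t ≫ Cofan.IsColimit.desc hc f = (yon S).map φ ≫ s := by
    apply (J S).uliftYonedaEquiv.injective
    rw [GrothendieckTopology.uliftYonedaEquiv_comp, Equiv.apply_symm_apply,
      ← GrothendieckTopology.uliftYonedaEquiv_naturality]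
    exact ht
  obtain ⟨Sg', hSg', h'⟩ := exists_local_lift_cofan c hc ((J S).uliftYonedaEquiv.symm t)
  refine (J S).superset_covering (fun Z'' φ' hφ' => ?_) hSg'
  obtain ⟨i, x, hx⟩ := h' φ' hφ'
  refine ⟨i, x, ?_⟩
  rw [← Cofan.IsColimit.fac hc f i, ← Category.assoc, hx, Category.assoc, ht', Functor.map_comp,
    Category.assoc]

/-- Morphisms from schemes to a sheaf with an open cover by algebraic spaces are representable. -/
theorem representable_of_openCover {F : Sp S} {ι : Type u} (Fi : ι → Sp S) (f : ∀ i, Fi i ⟶ F)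
    (halg : ∀ i, IsAlgSpace (Fi i)) (hopen : ∀ i, RepWith @IsOpenImmersion (f i))
    (hloc : ∀ {Z : Over S} (s : (yon S).obj Z ⟶ F), ∃ Sg ∈ J S Z, ∀ ⦃Z' : Over S⦄ (φ : Z' ⟶ Z),
      Sg φ → ∃ (i : ι) (v : (yon S).obj Z' ⟶ Fi i), v ≫ f i = (yon S).map φ ≫ s)
    {T : Over S} (ξ : (yon S).obj T ⟶ F) : Representable ξ := by
  intro T' η
  have := AlgSp.repWith_isStableUnderBaseChange (S := S) @IsOpenImmersion
  -- the opens of `T` and `T'`
  have hA := fun i => (hopen i).rep ξ
  choose A sndA fstA sqA using hA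
  have hB := fun i => (hopen i).rep η
  choose B sndB fstB sqB using hB
  have hW := fun i => ((halg i).representable_from_yon (fstA i)) (fstB i)
  choose Wi w b sqW using hW
  have hcomm : ∀ i, (b i ≫ (yon S).map (sndA i)) ≫ ξ = ((yon S).map (w i) ≫ (yon S).map (sndB i)) ≫ η := by
    intro i
    rw [Category.assoc, ← (sqA i).w, ← Category.assoc, (sqW i).w, Category.assoc, (sqB i).w,
      Category.assoc]
  let ψ : ∀ i, (yon S).obj (Wi i) ⟶ pullback ξ η := fun i =>
    pullback.lift (b i ≫ (yon S).map (sndA i)) ((yon S).map (w i) ≫ (yon S).map (sndB i)) (hcomm i)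
  have sqψ : ∀ i, IsPullback (ψ i) (b i) (pullback.fst ξ η) ((yon S).map (sndA i)) := by
    intro i
    refine IsPullback.of_right ?_ (pullback.lift_fst _ _ _) (IsPullback.of_hasPullback ξ η).flip
    rw [pullback.lift_snd]
    have h1 := (sqW i).flip.paste_horiz (sqB i).flip
    rw [(sqA i).w] at h1
    exact h1
  have hψ : ∀ i, RepWith @IsOpenImmersion (ψ i) := fun i =>
    MorphismProperty.of_isPullback (sqψ i).flip
      ((repWith_yon_map_iff @IsOpenImmersion (sndA i)).2 ((hopen i).property ξ (fstA i) (sndA i) (sqA i)))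
  have hsurj : ∀ (Z : Over S) (y : (yon S).obj Z ⟶ pullback ξ η), ∃ Sg ∈ J S Z,
      ∀ ⦃Z' : Over S⦄ (φ : Z' ⟶ Z), Sg φ →
        ∃ (i : ι) (x : (yon S).obj Z' ⟶ (yon S).obj (Wi i)), x ≫ ψ i = (yon S).map φ ≫ y := by
    intro Z y
    obtain ⟨Sg, hSg, h⟩ := hloc (y ≫ pullback.fst ξ η ≫ ξ)
    refine ⟨Sg, hSg, fun Z' φ hφ => ?_⟩
    obtain ⟨i, v, hv⟩ := h φ hφ
    have hv' : v ≫ f i = ((yon S).map φ ≫ y ≫ pullback.snd ξ η) ≫ η := by
      rw [hv]
      simp only [Category.assoc]
      rw [pullback.condition]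
    have hv'' : v ≫ f i = ((yon S).map φ ≫ y ≫ pullback.fst ξ η) ≫ ξ := by
      rw [hv]
      simp only [Category.assoc]
    let xA := (sqA i).lift v ((yon S).map φ ≫ y ≫ pullback.fst ξ η) hv''
    let xB := (sqB i).lift v ((yon S).map φ ≫ y ≫ pullback.snd ξ η) hv'
    have hxAB : xA ≫ fstA i = xB ≫ fstB i := by
      rw [(sqA i).lift_fst, (sqB i).lift_fst]
    refine ⟨i, (sqW i).lift xA xB hxAB, ?_⟩
    apply pullback.hom_ext
    · rw [Category.assoc, pullback.lift_fst, ← Category.assoc, (sqW i).lift_fst, (sqA i).lift_snd]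
      simp only [Category.assoc]
    · rw [Category.assoc, pullback.lift_snd, ← Category.assoc, (sqW i).lift_snd, (sqB i).lift_snd]
      simp only [Category.assoc]
  obtain ⟨G, e, -, -, -, -⟩ := Groth.Agent.H51.ZarGlue.exists_iso_yon hψ hsurj
  obtain ⟨snd, hsnd⟩ := (yon S).map_surjective (e.hom ≫ pullback.snd ξ η)
  refine ⟨G, snd, e.hom ≫ pullback.fst ξ η, ?_⟩
  rw [hsnd]
  exact IsPullback.of_iso (IsPullback.of_hasPullback ξ η) e.symm (Iso.refl _) (Iso.refl _)
    (Iso.refl _) (by simp) (by simp) (by simp) (by simp)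

/-- A sheaf with an open cover by algebraic spaces whose coproduct is an algebraic space is an algebraic space. -/
theorem isAlgSpace_of_openCover (F : Sp S) {ι : Type u} (Fi : ι → Sp S) (f : ∀ i, Fi i ⟶ F)
    (halg : ∀ i, IsAlgSpace (Fi i)) (hopen : ∀ i, RepWith @IsOpenImmersion (f i)) (c : Cofan Fi)
    (hc : IsColimit c) (hsurj : Sheaf.IsLocallySurjective (Cofan.IsColimit.desc hc f))
    (hcop : IsAlgSpace c.pt) : IsAlgSpace F where
  diag := Functor.relativelyRepresentable.diag_of_map_from_obj (fun T ξ =>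
    representable_of_openCover Fi f halg hopen
      (fun s => exists_local_lift_of_desc f c hc hsurj s) ξ)
  atlas := by
    obtain ⟨U, p, hpe, hps⟩ := hcop.atlas
    have hDi : ∀ i, c.inj i ≫ Cofan.IsColimit.desc hc f = f i := Cofan.IsColimit.fac hc f
    have hDe : RepWith @Etale (Cofan.IsColimit.desc hc f) :=
      repWith_desc @Etale c hc _ (fun i => by
        rw [hDi]
        exact MorphismProperty.relative_monotone
          (fun (A B : Over S) (g : A ⟶ B) (hg : IsOpenImmersion g.left) =>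
            (inferInstance : Etale g.left)) _ (hopen i))
    have hDs : RepWith @Surjective (Cofan.IsColimit.desc hc f) := by
      refine ⟨hDe.rep, fun T V ξ fst snd sq => ⟨fun τ => ?_⟩⟩
      obtain ⟨Sg, hSg, h⟩ := exists_local_lift_of_desc f c hc hsurj ξ
      obtain ⟨T', k, hk, -, -, t', ht'⟩ := Groth.Agent.H50.exists_fppf_of_mem_J hSg τ
      obtain ⟨i, v, hv⟩ := h k hk
      have hcomm : (v ≫ c.inj i) ≫ Cofan.IsColimit.desc hc f = (yon S).map k ≫ ξ := by
        rw [Category.assoc, hDi, hv]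
      obtain ⟨l₀, hl₀⟩ := (yon S).map_surjective (sq.lift _ _ hcomm)
      have hl : l₀ ≫ snd = k := by
        apply (yon S).map_injective
        rw [Functor.map_comp, hl₀, sq.lift_snd]
      refine ⟨l₀.left t', ?_⟩
      rw [← ht', ← hl]
      rfl
    have := AlgSp.repWith_isMultiplicative (S := S) @Etale
    have := AlgSp.repWith_isMultiplicative (S := S) @Surjective
    exact ⟨U, p ≫ Cofan.IsColimit.desc hc f, (RepWith @Etale).comp_mem _ _ hpe hDe,
      (RepWith @Surjective).comp_mem _ _ hps hDs⟩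

end Groth.Agent.H51
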