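import Groth.Agent.H51.SumStable

/-!
# A coproduct of algebraic spaces is an algebraic space (helper51)
-/

set_option autoImplicit false
universe u
open CategoryTheory CategoryTheory.Limits AlgebraicGeometry Opposite
open AlgSp

namespace Groth.Agent.H51

variable {S : Scheme.{u}}

/-- A coproduct of morphisms of sheaves restricts to the given morphism over each summand (pullback form). -/
theorem isPullback_inj_of_cofan_map {ι : Type u} {F G : ι → Sp S} (c : Cofan F) (hc : IsColimit c)
    (d : Cofan G) (hd : IsColimit d) (fi : ∀ i, G i ⟶ F i) (f : d.pt ⟶ c.pt)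
    (hf : ∀ i, d.inj i ≫ f = fi i ≫ c.inj i) (i : ι) :
    IsPullback (d.inj i) (fi i) f (c.inj i) := by
  have hmc : Mono (c.inj i) := mono_inj c hc i
  have hmd : Mono (d.inj i) := mono_inj d hd i
  let l : G i ⟶ pullback f (c.inj i) := pullback.lift (d.inj i) (fi i) (hf i)
  have hl1 : l ≫ pullback.fst f (c.inj i) = d.inj i := pullback.lift_fst _ _ _
  have hl2 : l ≫ pullback.snd f (c.inj i) = fi i := pullback.lift_snd _ _ _
  have hm : Mono l := mono_of_mono_fac hl1
  have he : Epi l := by
    apply Groth.Agent.H50.epi_of_local_lift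
    intro X z
    obtain ⟨Sg, hSg, h⟩ := exists_local_lift_cofan d hd (z ≫ pullback.fst f (c.inj i))
    let Z : Sieve X :=
      { arrows := fun X' k => ∃ x : (yon S).obj X' ⟶ G i, x ≫ l = (yon S).map k ≫ z
        downward_closed := by
          rintro X' X'' k ⟨x, hx⟩ k'
          refine ⟨(yon S).map k' ≫ x, ?_⟩
          rw [Category.assoc, hx, Functor.map_comp, Category.assoc] }
    have hfam := fun x : ↥X.left => Groth.Agent.H50.exists_fppf_of_mem_J hSg x
    choose X' k hk hfl hfp x' hx' using hfam
    refine ⟨Z, Groth.Agent.H50.mem_J_of_fppf_family X' k (fun x => ⟨x, x' x, hx' x⟩) hfl hfp Z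
      (fun x => ?_), fun _ _ hz => hz⟩
    obtain ⟨j, y, hy⟩ := h (k x) (hk x)
    by_cases hij : j = i
    · subst hij
      refine ⟨y, ?_⟩
      apply pullback.hom_ext
      · rw [Category.assoc, hl1, hy, Category.assoc]
      · rw [← cancel_mono (c.inj j)]
        simp only [Category.assoc]
        rw [← pullback.condition, ← Category.assoc l, hl1, ← Category.assoc y, hy]
        simp only [Category.assoc]
    · exfalso
      have h1 : (y ≫ fi j) ≫ c.inj j =
          ((yon S).map (k x) ≫ z ≫ pullback.snd f (c.inj i)) ≫ c.inj i := by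
        rw [Category.assoc, ← hf j, ← Category.assoc, hy]
        simp only [Category.assoc]
        rw [pullback.condition]
      exact (isEmpty_of_lifts c hc hij _ _ h1).false (x' x)
  have hiso : IsIso l := isIso_of_mono_of_epi l
  exact IsPullback.of_iso_pullback ⟨hf i⟩ (asIso l) hl1 hl2

/-- A coproduct of algebraic spaces is an algebraic space. -/
theorem isAlgSpace_cofan_pt {ι : Type u} (F : ι → Sp S) (h : ∀ i, IsAlgSpace (F i)) (c : Cofan F)
    (hc : IsColimit c) : IsAlgSpace c.pt where
  diag := by
    refine Functor.relativelyRepresentable.diag_of_map_from_obj (fun T ξ => ?_)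
    obtain ⟨V, g, a, sqD, -, -, -⟩ := exists_decomposition c hc ξ
    exact (repWith_of_summands ⊤ sumStable_top c hc ξ (fun i => (yon S).obj (V i))
      (fun i => (yon S).map (g i)) a (fun i => (sqD i).flip)
      (fun i => ⟨(h i).representable_from_yon (a i), fun _ _ _ _ _ _ => trivial⟩)).rep
  atlas := by
    have hat := fun i => (h i).atlas
    choose U p hpe hps using hat
    obtain ⟨hU⟩ := nonempty_isColimit_yon_sigmaOver U
    let pt : (yon S).obj (sigmaOver U) ⟶ c.pt :=
      Cofan.IsColimit.desc hU (fun i => p i ≫ c.inj i)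
    have hpt : ∀ i, (yon S).map (sigmaOverι U i) ≫ pt = p i ≫ c.inj i := fun i =>
      Cofan.IsColimit.fac hU _ i
    have sq := fun i => isPullback_inj_of_cofan_map c hc _ hU p pt hpt i
    exact ⟨sigmaOver U, pt,
      repWith_of_summands @Etale sumStable_etale c hc pt _ _ p sq hpe,
      repWith_of_summands @Surjective sumStable_surjective c hc pt _ _ p sq hps⟩

end Groth.Agent.H51
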