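import Groth.Agent.H51.EtaleChart
import Groth.Agent.H52.EtLocalInst
import Groth.Agent.H52.LocPOps
import Groth.Agent.H52.LocPBC
import Groth.Agent.H52.Points
import Groth.Prelude.Def_AlgSpCov

/-! Properties smooth local on source-and-target (helper51). -/

set_option autoImplicit false
universe u
open CategoryTheory CategoryTheory.Limits AlgebraicGeometry
open AlgSp

namespace Groth.Agent.H51

variable {S : Scheme.{u}}

theorem isEtaleMor_id (X : Sp S) : IsEtaleMor (𝟙 X) := fun _ φ hφ => by rwa [Category.comp_id]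

theorem locP_smooth_id (X : Sp S) : LocP @Smooth (𝟙 X) := by
  intro U V a b h ha hb comm
  have : Etale h.left := etale_of_isEtaleMor_of_charts (𝟙 X) (isEtaleMor_id X) a b h ha hb comm
  show Smooth h.left
  infer_instance

/-- Smoothness is stable under base change (`fst` is the base change of `g`). -/
theorem locP_smooth_fst_of_isPullback {X Y Y' X' : Sp S} (hX : IsAlgSpace X) (hY : IsAlgSpace Y)
    (hY' : IsAlgSpace Y') {f : X ⟶ Y} {g : Y' ⟶ Y} {fst : X' ⟶ X} {f' : X' ⟶ Y'}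
    (sq : IsPullback fst f' f g) (hg : LocP @Smooth g) : LocP @Smooth fst :=
  Groth.Agent.H52.locP_baseChange Groth.Agent.H52.etLocal_smooth hY' hY hX sq.flip hg

variable {P : MorphismProperty (Sp S)}

theorem IsSmoothLocalST.postcomp (hP : IsSmoothLocalST P) {X Y Z : Sp S} (hX : IsAlgSpace X)
    (hY : IsAlgSpace Y) (hZ : IsAlgSpace Z) (f : X ⟶ Y) (g : Y ⟶ Z) (hf : P f)
    (hg : LocP @Smooth g) : P (f ≫ g) :=
  (hP.locality hX hZ (f ≫ g)).2 fun x =>
    ⟨X, Y, 𝟙 X, g, f, x, hX, hY, locP_smooth_id X, hg, Category.id_comp _, Points.map_id x, hf⟩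

theorem IsSmoothLocalST.localOnSource (hP : IsSmoothLocalST P) :
    IsLocalOnSource (IsSmCover (S := S)) P := by
  intro ι X Xi g hX hXi hcov Y f hY
  refine ⟨fun hf i => hP.precomp (hXi i) hX hY (g i) f (hcov.1 i) hf, fun h => ?_⟩
  refine (hP.locality hX hY f).2 fun x => ?_
  obtain ⟨i, v, hv⟩ := hcov.2 x
  exact ⟨Xi i, Y, g i, 𝟙 Y, g i ≫ f, v, hXi i, hY, hcov.1 i, locP_smooth_id Y,
    (Category.comp_id _).symm, hv, h i⟩

theorem IsSmoothLocalST.localOnBase (hP : IsSmoothLocalST P) :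
    IsLocalOnBase (IsSmCover (S := S)) P := by
  intro ι Y Yi g hY hYi hcov X f hX Xi p q hXi sq
  refine ⟨fun hf i => hP.baseChange hX hY (hXi i) (hYi i) f (g i) (p i) (q i) (sq i) (hcov.1 i) hf,
    fun h => ?_⟩
  refine (hP.locality hX hY f).2 fun x => ?_
  obtain ⟨i, w, hw⟩ := hcov.2 (Points.map f x)
  obtain ⟨z, hz1, hz2⟩ := Groth.Agent.H52.exists_point_of_isPullback (sq i) x w hw.symm
  exact ⟨Xi i, Yi i, q i, g i, p i, z, hXi i, hYi i,
    locP_smooth_fst_of_isPullback hX hY (hYi i) (sq i) (hcov.1 i), hcov.1 i, (sq i).w, hz1, h i⟩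

end Groth.Agent.H51
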