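import Mathlib
import Groth.Agent.H51.QCBC_ALG1
import Groth.Agent.H92.AdeqFlat

/-!
# QCBC pure-algebra piece (ALG2) for helper32: gluing along a finite faithfully flat family
-/

set_option autoImplicit false
universe u
open CategoryTheory Limits TensorProduct

namespace Groth.Agent.H51.QCBC_ALG2

open Groth.Agent.H51.QCBC_ALG1 Groth.Agent.H92.AdeqFlat

section JI2

variable {A : Type u} [CommRing A] {ι : Type} [Fintype ι] [DecidableEq ι]
  (M : ι → Type u) [∀ i, AddCommGroup (M i)] [∀ i, Module A (M i)]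
  (N : Type u) [AddCommGroup N] [Module A N]

lemma sum_sum_map :
    ∑ i, ∑ j, TensorProduct.map ((LinearMap.single A M i).comp (LinearMap.proj i))
      ((LinearMap.single A M j).comp (LinearMap.proj j)) = LinearMap.id := by
  have : ∀ (f g : ι → ((∀ i, M i) →ₗ[A] (∀ i, M i))),
      ∑ i, ∑ j, TensorProduct.map (f i) (g j) = TensorProduct.map (∑ i, f i) (∑ j, g j) := by
    intro f g
    simp only [← TensorProduct.mapBilinear_apply, map_sum, LinearMap.sum_apply]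
    exact Finset.sum_comm
  rw [this, sum_single_comp_proj, TensorProduct.map_id]

lemma eq_zero_of_forall_proj_proj (t : ((∀ i, M i) ⊗[A] (∀ i, M i)) ⊗[A] N)
    (h : ∀ i j, (TensorProduct.map (LinearMap.proj i : (∀ i, M i) →ₗ[A] M i)
      (LinearMap.proj j : (∀ i, M i) →ₗ[A] M j)).rTensor N t = 0) : t = 0 := by
  have h1 : ∑ i, ∑ j, (TensorProduct.map ((LinearMap.single A M i).comp (LinearMap.proj i))
      ((LinearMap.single A M j).comp (LinearMap.proj j))).rTensor N = LinearMap.id := by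
    rw [← LinearMap.rTensor_id, ← sum_sum_map M]
    change _ = LinearMap.rTensorHom N _
    rw [map_sum]
    simp_rw [map_sum]
    rfl
  have h2 := congr_arg (fun f => f t) h1
  simp only [LinearMap.sum_apply, LinearMap.id_apply] at h2
  rw [← h2]
  refine Finset.sum_eq_zero (fun i _ => Finset.sum_eq_zero (fun j _ => ?_))
  rw [TensorProduct.map_comp, LinearMap.rTensor_comp, LinearMap.comp_apply, h i j, map_zero]

end JI2

section Comp

variable {A : Type u} [CommRing A] {I : Type u} (K : Submodule A (I →₀ A))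
  (B₁ B₂ B₁₂ : Type u) [CommRing B₁] [CommRing B₂] [CommRing B₁₂] [Algebra A B₁] [Algebra A B₂]

lemma component_zero (ι₁ : B₁ →+* B₁₂) (ι₂ : B₂ →+* B₁₂)
    (hpo : IsPushout (CommRingCat.ofHom (algebraMap A B₁)) (CommRingCat.ofHom (algebraMap A B₂))
      (CommRingCat.ofHom ι₁) (CommRingCat.ofHom ι₂))
    (c₁ : I →₀ B₁) (c₂ : I →₀ B₂)
    (hc : bc ι₁ c₁ - bc ι₂ c₂ ∈
      Submodule.span B₁₂ (bc (ι₁.comp (algebraMap A B₁)) '' (K : Set (I →₀ A)))) :
    ((Algebra.TensorProduct.includeLeft : B₁ →ₐ[A] B₁ ⊗[A] B₂).toLinearMap.rTensor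
        ((I →₀ A) ⧸ K)) (Θ K B₁ c₁) -
      ((Algebra.TensorProduct.includeRight : B₂ →ₐ[A] B₁ ⊗[A] B₂).toLinearMap.rTensor
        ((I →₀ A) ⧸ K)) (Θ K B₂ c₂) = 0 := by
  have hw : ι₁.comp (algebraMap A B₁) = ι₂.comp (algebraMap A B₂) := by
    have := hpo.w
    exact congrArg CommRingCat.Hom.hom this
  letI : Algebra B₁ B₁₂ := ι₁.toAlgebra
  letI : Algebra B₂ B₁₂ := ι₂.toAlgebra
  letI : Algebra A B₁₂ := (ι₁.comp (algebraMap A B₁)).toAlgebra
  haveI : IsScalarTower A B₁ B₁₂ := IsScalarTower.of_algebraMap_eq fun x => rfl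
  haveI : IsScalarTower A B₂ B₁₂ :=
    IsScalarTower.of_algebraMap_eq fun x => RingHom.congr_fun hw x
  have hP : Algebra.IsPushout A B₁ B₂ B₁₂ := CommRingCat.isPushout_iff_isPushout.mp hpo
  let e := Algebra.IsPushout.equiv A B₁ B₂ B₁₂
  let E : (B₁ ⊗[A] B₂) ≃ₗ[A] B₁₂ := (e.restrictScalars A).toLinearEquiv
  let j₁ : B₁ →ₐ[A] B₁₂ := IsScalarTower.toAlgHom A B₁ B₁₂
  let j₂ : B₂ →ₐ[A] B₁₂ := IsScalarTower.toAlgHom A B₂ B₁₂
  have hE1 : E.toLinearMap.comp
      (Algebra.TensorProduct.includeLeft : B₁ →ₐ[A] B₁ ⊗[A] B₂).toLinearMap = j₁.toLinearMap := by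
    ext x
    change e (x ⊗ₜ 1) = algebraMap B₁ B₁₂ x
    rw [Algebra.IsPushout.equiv_tmul, map_one, mul_one]
  have hE2 : E.toLinearMap.comp
      (Algebra.TensorProduct.includeRight : B₂ →ₐ[A] B₁ ⊗[A] B₂).toLinearMap = j₂.toLinearMap := by
    ext x
    change e (1 ⊗ₜ x) = algebraMap B₂ B₁₂ x
    rw [Algebra.IsPushout.equiv_tmul, map_one, one_mul]
  have hinj : Function.Injective (E.toLinearMap.rTensor ((I →₀ A) ⧸ K)) :=
    (LinearEquiv.rTensor ((I →₀ A) ⧸ K) E).injective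
  apply hinj
  rw [map_zero, map_sub, ← LinearMap.comp_apply, ← LinearMap.comp_apply,
    ← LinearMap.rTensor_comp, ← LinearMap.rTensor_comp, hE1, hE2, ← Θ_map K j₁, ← Θ_map K j₂,
    ← map_sub]
  exact Θ_eq_zero_of_mem K B₁₂ hc

end Comp

variable {A : Type u} [CommRing A] {n : ℕ} (B : Fin n → Type u) [∀ a, CommRing (B a)]
  [∀ a, Algebra A (B a)] [∀ a, Module.Flat A (B a)]

lemma δM_component (Q : Type u) [AddCommGroup Q] [Module A Q] (a b : Fin n)
    (t : (∀ a, B a) ⊗[A] Q) :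
    (TensorProduct.map (LinearMap.proj a : (∀ a, B a) →ₗ[A] B a)
      (LinearMap.proj b : (∀ a, B a) →ₗ[A] B b)).rTensor Q (δM A (∀ a, B a) Q t) =
    ((Algebra.TensorProduct.includeLeft : B a →ₐ[A] B a ⊗[A] B b).toLinearMap.rTensor Q)
        ((LinearMap.proj a : (∀ a, B a) →ₗ[A] B a).rTensor Q t) -
      ((Algebra.TensorProduct.includeRight : B b →ₐ[A] B a ⊗[A] B b).toLinearMap.rTensor Q)
        ((LinearMap.proj b : (∀ a, B a) →ₗ[A] B b).rTensor Q t) := by
  induction t using TensorProduct.induction_on with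
  | zero => simp
  | tmul p q =>
    rw [δM_tmul, LinearMap.rTensor_tmul, LinearMap.rTensor_tmul, LinearMap.rTensor_tmul,
      LinearMap.rTensor_tmul, LinearMap.rTensor_tmul, map_sub, TensorProduct.map_tmul,
      TensorProduct.map_tmul, TensorProduct.sub_tmul]
    rfl
  | add x y hx hy => rw [map_add, map_add, hx, hy, map_add, map_add, map_add, map_add]; abel

theorem exists_glue
    (hsurj : ∀ p : PrimeSpectrum A, ∃ a,
      p ∈ Set.range (PrimeSpectrum.comap (algebraMap A (B a))))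
    (Bab : Fin n → Fin n → Type u) [∀ a b, CommRing (Bab a b)]
    (ι₁ : ∀ a b, B a →+* Bab a b) (ι₂ : ∀ a b, B b →+* Bab a b)
    (hpo : ∀ a b, IsPushout (CommRingCat.ofHom (algebraMap A (B a)))
      (CommRingCat.ofHom (algebraMap A (B b))) (CommRingCat.ofHom (ι₁ a b))
      (CommRingCat.ofHom (ι₂ a b)))
    {I : Type u} (K : Submodule A (I →₀ A)) (c : ∀ a, I →₀ B a)
    (hc : ∀ a b, bc (ι₁ a b) (c a) - bc (ι₂ a b) (c b) ∈
      Submodule.span (Bab a b)
        (bc ((ι₁ a b).comp (algebraMap A (B a))) '' (K : Set (I →₀ A)))) :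
    ∃ c₀ : I →₀ A, ∀ a, bc (algebraMap A (B a)) c₀ - c a ∈
      Submodule.span (B a) (bc (algebraMap A (B a)) '' (K : Set (I →₀ A))) := by
  classical
  haveI := faithfullyFlat_pi B hsurj
  obtain ⟨y, hy⟩ := exists_of_components B ((I →₀ A) ⧸ K) (fun a => Θ K (B a) (c a))
  have hδ : δM A (∀ a, B a) ((I →₀ A) ⧸ K) y = 0 := by
    apply eq_zero_of_forall_proj_proj B ((I →₀ A) ⧸ K)
    intro a b
    rw [δM_component, hy a, hy b]
    exact component_zero K (B a) (B b) (Bab a b) (ι₁ a b) (ι₂ a b) (hpo a b) (c a) (c b) (hc a b)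
  obtain ⟨q₀, hq₀⟩ := (amitsur_exact A (∀ a, B a) ((I →₀ A) ⧸ K) y).mp hδ
  obtain ⟨c₀, rfl⟩ := Submodule.mkQ_surjective K q₀
  refine ⟨c₀, fun a => ?_⟩
  apply mem_of_Θ_eq_zero K (B a)
  rw [map_sub, Θ_bc, ← hy a, ← hq₀, αM_apply, LinearMap.rTensor_tmul]
  exact sub_self _

end Groth.Agent.H51.QCBC_ALG2
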