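import Groth.Agent.H51.FpqcCov2
import Groth.Agent.H52.FibProd
import Groth.Agent.H52.Points
import Groth.Agent.H52.LocPBC
import Groth.Agent.H52.EtLocalInst
import Groth.Agent.H50.Fppf

/-!
# fppf coverings of algebraic spaces: local lifts through schemes (helper51)

* `exists_fppf_lifts`: for an fppf covering `{X_i ⟶ X}` of an algebraic space by algebraic spaces and a map
  `h_T ⟶ X` from a scheme, there are schemes `V_i` flat and locally of finite presentation over `T`, jointly
  surjective, with lifts `h_{V_i} ⟶ X_i`.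
* `exists_finite_affine_cover_of_isOpenMap_family`: finite affine refinement of a jointly surjective family of open maps
  to a quasi-compact scheme.
-/

universe u

open CategoryTheory CategoryTheory.Limits AlgebraicGeometry Opposite

namespace Groth.Agent.H51

variable {S : Scheme.{u}}

theorem exists_fppf_lifts (X : AlgSp.Space S) {ι : Type u}
    (Xi : ι → AlgSp.Space S) (g : ∀ i, Xi i ⟶ X)
    (h : AlgSp.IsFppfCover (fun i => (Xi i).obj) (fun i => (g i).hom))
    (T : Over S) (t : (AlgSp.yon S).obj T ⟶ X.obj) :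
    ∃ (V : ι → Over S) (c : ∀ i, V i ⟶ T) (l : ∀ i, (AlgSp.yon S).obj (V i) ⟶ (Xi i).obj),
      (∀ i, Flat (c i).left) ∧ (∀ i, LocallyOfFinitePresentation (c i).left) ∧
      (∀ x : ↥T.left, ∃ i, x ∈ Set.range (c i).left) ∧
      ∀ i, l i ≫ (g i).hom = (AlgSp.yon S).map (c i) ≫ t := by
  have hT : AlgSp.IsAlgSpace ((AlgSp.yon S).obj T) := ((AlgSp.ofScheme S).obj T).property
  have sq : ∀ i, IsPullback (pullback.fst t (g i).hom) (pullback.snd t (g i).hom) t (g i).hom :=
    fun i => IsPullback.of_hasPullback t (g i).hom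
  have hP : ∀ i, AlgSp.IsAlgSpace (pullback t (g i).hom) := fun i =>
    Groth.Agent.H52.isAlgSpace_of_isPullback (sq i) X.property.diag hT (Xi i).property
  have hatlas := fun i => (hP i).atlas
  choose V a hae has using hatlas
  have hc := fun i => (AlgSp.yon S).map_surjective (a i ≫ pullback.fst t (g i).hom)
  choose c hc using hc
  have := AlgSp.repWith_isMultiplicative (S := S) @Etale
  have hid : AlgSp.RepWith @Etale (𝟙 ((AlgSp.yon S).obj T)) := (AlgSp.RepWith @Etale).id_mem _
  refine ⟨V, c, fun i => a i ≫ pullback.snd t (g i).hom, fun i => ?_, fun i => ?_, fun x => ?_,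
    fun i => ?_⟩
  · have h1 : AlgSp.LocP @Flat (pullback.fst t (g i).hom) :=
      Groth.Agent.H52.locP_baseChange Groth.Agent.H52.etLocal_flat (Xi i).property X.property hT
        (sq i).flip (h.1 i).1
    exact h1 (a i) (𝟙 _) (c i) (hae i) hid (by rw [hc i, Category.comp_id])
  · have h1 : AlgSp.LocP @LocallyOfFinitePresentation (pullback.fst t (g i).hom) :=
      Groth.Agent.H52.locP_baseChange Groth.Agent.H52.etLocal_lfp (Xi i).property X.property hT
        (sq i).flip (h.1 i).2
    exact h1 (a i) (𝟙 _) (c i) (hae i) hid (by rw [hc i, Category.comp_id])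
  · obtain ⟨i, ξ, hξ⟩ := h.2 (AlgSp.Points.ofPt t x)
    rw [AlgSp.Points.ofPt_eq_map_ofScheme] at hξ
    obtain ⟨z, hz1, -⟩ := Groth.Agent.H52.exists_point_of_isPullback (sq i) _ ξ hξ.symm
    obtain ⟨v, rfl⟩ := Groth.Agent.H52.surjective_ofPt_of_surjective (a i) (has i) z
    refine ⟨i, v, ?_⟩
    apply Groth.Agent.H52.ofScheme_injective T
    rw [← Groth.Agent.H52.map_yon_map_ofScheme, hc i, AlgSp.Points.map_comp,
      ← AlgSp.Points.ofPt_eq_map_ofScheme]
    exact hz1
  · rw [hc i, Category.assoc, Category.assoc, pullback.condition]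

/-- A finite affine refinement of a jointly surjective family of open maps to a quasi-compact scheme. -/
theorem exists_finite_affine_cover_of_isOpenMap_family {ι : Type*} {Z : Scheme.{u}} (T : ι → Scheme.{u})
    (s : ∀ i, T i ⟶ Z) (hs : ∀ i, IsOpenMap (s i))
    (hsurj : ∀ z : Z, ∃ i, z ∈ Set.range (s i)) [CompactSpace Z] :
    ∃ (t : Finset Z) (i : t → ι) (V : ∀ k : t, (T (i k)).affineOpens),
      ∀ z : Z, ∃ k : t, z ∈ s (i k) '' ((V k : (T (i k)).Opens) : Set (T (i k))) := by
  have hex : ∀ z : Z, ∃ (i : ι) (V : (T i).affineOpens), z ∈ s i '' ((V : (T i).Opens) : Set (T i)) := by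
    intro z
    obtain ⟨i, x, rfl⟩ := hsurj z
    obtain ⟨V, hV, hxV, -⟩ :=
      TopologicalSpace.Opens.isBasis_iff_nbhd.mp (T i).isBasis_affineOpens
        (show x ∈ (⊤ : (T i).Opens) from trivial)
    exact ⟨i, ⟨V, hV⟩, x, hxV, rfl⟩
  choose i V hV using hex
  obtain ⟨t, ht⟩ := CompactSpace.elim_nhds_subcover
    (fun z => s (i z) '' ((V z : (T (i z)).Opens) : Set (T (i z))))
    (fun z => (hs _ _ (V z : (T (i z)).Opens).isOpen).mem_nhds (hV z))
  refine ⟨t, fun k => i k.1, fun k => V k.1, fun z => ?_⟩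
  have hz : z ∈ ⋃ x ∈ t, s (i x) '' ((V x : (T (i x)).Opens) : Set (T (i x))) := by rw [ht]; trivial
  simp only [Set.mem_iUnion] at hz
  obtain ⟨x, hx, hz⟩ := hz
  exact ⟨⟨x, hx⟩, hz⟩

end Groth.Agent.H51
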