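import Groth.Agent.H51.FppfCov
import Groth.Agent.H52.LocPOps
import Groth.Agent.H52.Decent
import Groth.Agent.H52.SrcFlat

/-!
# Chart lifts through jointly surjective families; flatness is fpqc local on the source (helper51)
-/

universe u

open CategoryTheory CategoryTheory.Limits AlgebraicGeometry Opposite AlgSp MorphismProperty

namespace Groth.Agent.H51

variable {S : Scheme.{u}}

/-- An fpqc covering is jointly surjective on points. -/
theorem surjective_of_isFpqcCover {ι : Type u} {X : Sp S} (Xi : ι → Sp S) (g : ∀ i, Xi i ⟶ X)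
    (h : IsFpqcCover Xi g) (x : Points X) : ∃ i, x ∈ Set.range (Points.map (g i)) := by
  induction x using Points.ind with
  | h p =>
  have hA : IsAffine p.pt.left := by
    change IsAffine (Spec (CommRingCat.of p.K))
    infer_instance
  obtain ⟨m, W, c, hW, hc, hs, hl⟩ := h.2 p.pt hA p.toHom
  let s : ↥(Spec (CommRingCat.of p.K)) := IsLocalRing.closedPoint p.K
  obtain ⟨j, w, hw⟩ := hs s
  obtain ⟨i, l, hl'⟩ := hl j
  refine ⟨i, Points.ofPt l w, ?_⟩
  rw [Points.map_ofPt, hl', Groth.Agent.H52.ofPt_yon_map_comp, Points.ofPt_toHom]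

/-- For a jointly surjective family `{X_i ⟶ X}` of algebraic spaces and `h_T ⟶ X` from a scheme, there are schemes
`V_i` over `T`, jointly surjective, with lifts `h_{V_i} ⟶ X_i`; `V_i ⟶ T` inherits every etale local property of `X_i ⟶ X`, and
the lifts are etale when `h_T ⟶ X` is. -/
theorem exists_chart_lifts {X : Sp S} (hX : IsAlgSpace X) {ι : Type u}
    (Xi : ι → Sp S) (g : ∀ i, Xi i ⟶ X) (hXi : ∀ i, IsAlgSpace (Xi i))
    (hsurj : ∀ x : Points X, ∃ i, x ∈ Set.range (Points.map (g i)))
    (T : Over S) (t : (yon S).obj T ⟶ X) :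
    ∃ (V : ι → Over S) (c : ∀ i, V i ⟶ T) (l : ∀ i, (yon S).obj (V i) ⟶ Xi i),
      (∀ i, l i ≫ g i = (yon S).map (c i) ≫ t) ∧
      (∀ x : ↥T.left, ∃ i, x ∈ Set.range (c i).left) ∧
      (∀ (P : MorphismProperty Scheme.{u}), Groth.Agent.H52.EtLocal P → ∀ i, LocP P (g i) → P (c i).left) ∧
      (RepWith @Etale t → ∀ i, RepWith @Etale (l i)) := by
  have hT : IsAlgSpace ((yon S).obj T) := ((AlgSp.ofScheme S).obj T).property
  have sq : ∀ i, IsPullback (pullback.fst t (g i)) (pullback.snd t (g i)) t (g i) :=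
    fun i => IsPullback.of_hasPullback t (g i)
  have hP : ∀ i, IsAlgSpace (pullback t (g i)) := fun i =>
    Groth.Agent.H52.isAlgSpace_of_isPullback (sq i) hX.diag hT (hXi i)
  have hatlas := fun i => (hP i).atlas
  choose V a hae has using hatlas
  have hc := fun i => (yon S).map_surjective (a i ≫ pullback.fst t (g i))
  choose c hc using hc
  have := AlgSp.repWith_isMultiplicative (S := S) @Etale
  have := AlgSp.repWith_isStableUnderBaseChange (S := S) @Etale
  have hid : RepWith @Etale (𝟙 ((yon S).obj T)) := (RepWith @Etale).id_mem _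
  refine ⟨V, c, fun i => a i ≫ pullback.snd t (g i), fun i => ?_, fun x => ?_, fun P hP' i hi => ?_,
    fun ht i => ?_⟩
  · rw [hc i, Category.assoc, Category.assoc, pullback.condition]
  · obtain ⟨i, ξ, hξ⟩ := hsurj (Points.ofPt t x)
    rw [Points.ofPt_eq_map_ofScheme] at hξ
    obtain ⟨z, hz1, -⟩ := Groth.Agent.H52.exists_point_of_isPullback (sq i) _ ξ hξ.symm
    obtain ⟨v, rfl⟩ := Groth.Agent.H52.surjective_ofPt_of_surjective (a i) (has i) z
    refine ⟨i, v, ?_⟩
    apply Groth.Agent.H52.ofScheme_injective T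
    rw [← Groth.Agent.H52.map_yon_map_ofScheme, hc i, Points.map_comp,
      ← Points.ofPt_eq_map_ofScheme]
    exact hz1
  · have h1 : LocP P (pullback.fst t (g i)) :=
      Groth.Agent.H52.locP_baseChange hP' (hXi i) hX hT (sq i).flip hi
    exact h1 (a i) (𝟙 _) (c i) (hae i) hid (by rw [hc i, Category.comp_id])
  · exact (RepWith @Etale).comp_mem _ _ (hae i) (MorphismProperty.of_isPullback (sq i) ht)

/-- `LocP @Flat` is local on the source for jointly surjective families of flat morphisms. -/
theorem locP_flat_of_jointly_surjective_flat {X Y : Sp S} (hX : IsAlgSpace X) {ι : Type u}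
    (Xi : ι → Sp S) (g : ∀ i, Xi i ⟶ X) (hXi : ∀ i, IsAlgSpace (Xi i))
    (hflat : ∀ i, LocP @Flat (g i))
    (hsurj : ∀ x : Points X, ∃ i, x ∈ Set.range (Points.map (g i)))
    (f : X ⟶ Y) (h : ∀ i, LocP @Flat (g i ≫ f)) : LocP @Flat f := by
  intro U V a b k ha hb comm
  obtain ⟨V', c, l, hl, hs, hP, het⟩ := exists_chart_lifts hX Xi g hXi hsurj U a
  refine Groth.Agent.H52.flat_of_comp_of_flat_family (fun i => (c i).left) k.left
    (fun i => hP @Flat Groth.Agent.H52.etLocal_flat i (hflat i)) hs (fun i => ?_)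
  rw [← Over.comp_left]
  refine h i (l i) b (c i ≫ k) (het ha i) hb ?_
  rw [← Category.assoc, hl i, Category.assoc, comm, Functor.map_comp, Category.assoc]

theorem isLocalOnSource_fpqc_locP_flat :
    IsLocalOnSource (IsFpqcCover (S := S)) (LocP @Flat) := by
  intro ι X Xi g hX hXi hg Y f hY
  constructor
  · intro hf i
    exact Groth.Agent.H52.locP_comp Groth.Agent.H52.etLocal_flat hX (g i) f (hg.1 i) hf
  · intro h
    exact locP_flat_of_jointly_surjective_flat hX Xi g hXi hg.1 (surjective_of_isFpqcCover Xi g hg) f h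

end Groth.Agent.H51
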