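import Groth.Agent.H51.ChartLifts2
import Groth.Agent.H51.EtaleIff
import Mathlib.AlgebraicGeometry.Sites.Fpqc
import Mathlib.AlgebraicGeometry.Sites.Etale

/-!
# `LocP P` is τ-local on the source when `P` is τ-local at the source for schemes (helper51)
-/

universe u

open CategoryTheory CategoryTheory.Limits AlgebraicGeometry Opposite AlgSp MorphismProperty

namespace Groth.Agent.H51

variable {S : Scheme.{u}}

theorem singleton_mem_precoverage_of_etale (Q : MorphismProperty Scheme.{u})
    (hQ : ∀ ⦃A B : Scheme.{u}⦄ (q : A ⟶ B), Etale q → Q q) {A B : Scheme.{u}} (q : A ⟶ B)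
    (h1 : Etale q) (h2 : Surjective q) : Presieve.singleton q ∈ Scheme.precoverage Q B := by
  rw [Scheme.singleton_mem_precoverage_iff]
  exact ⟨h2.surj, hQ q h1⟩

/-- Smooth case. -/
theorem isLocalOnSource_smooth_locP (P : MorphismProperty Scheme.{u})
    [P.IsLocalAtSource (Scheme.precoverage @Smooth)] :
    IsLocalOnSource (IsSmCover (S := S)) (LocP P) := by
  have : MorphismProperty.ContainsIdentities (@Smooth : MorphismProperty Scheme.{u}) :=
    ⟨fun X => (inferInstance : Smooth (𝟙 X))⟩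
  refine isLocalOnSource_locP_of_precoverage P (Scheme.precoverage @Smooth) _
    (fun q h1 h2 => singleton_mem_precoverage_of_etale @Smooth
      (fun A B q hq => by have := hq; exact (inferInstance : Smooth q)) q h1 h2) ?_ ?_
  · intro ι X Xi g hX hXi hg i U'' U' a'' b' q ha'' hb' comm
    exact ⟨_, pairF_mem_precoverage @Smooth q.left (hg.1 i a'' b' q ha'' hb' comm), pairF_mem q.left⟩
  · intro ι X Xi g hX hXi hg U a ha
    obtain ⟨V, c, l, hl, hs, hP, het⟩ := exists_chart_lifts hX Xi g hXi hg.2 U a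
    refine ⟨ι, V, c, ?_, fun i => ⟨i, l i, het ha i, hl i⟩⟩
    rw [Scheme.ofArrows_mem_precoverage_iff]
    exact ⟨hs, fun i => hP @Smooth Groth.Agent.H52.etLocal_smooth i (hg.1 i)⟩

/-- Etale case. -/
theorem isLocalOnSource_etale_locP' (P : MorphismProperty Scheme.{u})
    [P.IsLocalAtSource Scheme.etalePrecoverage] :
    IsLocalOnSource (IsEtCover (S := S)) (LocP P) := by
  refine isLocalOnSource_locP_of_precoverage P Scheme.etalePrecoverage _
    (fun q h1 h2 => singleton_mem_precoverage_of_etale @Etale (fun A B q hq => hq) q h1 h2) ?_ ?_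
  · intro ι X Xi g hX hXi hg i U'' U' a'' b' q ha'' hb' comm
    exact ⟨_, pairF_mem_precoverage @Etale q.left
      (etale_of_isEtaleMor_of_charts (g i) (hg.1 i) a'' b' q ha'' hb' comm), pairF_mem q.left⟩
  · intro ι X Xi g hX hXi hg U a ha
    obtain ⟨V, c, l, hl, hs, hP, het⟩ := exists_chart_lifts hX Xi g hXi hg.2 U a
    refine ⟨ι, V, c, ?_, fun i => ⟨i, l i, het ha i, hl i⟩⟩
    change _ ∈ Scheme.precoverage @Etale _
    rw [Scheme.ofArrows_mem_precoverage_iff]
    exact ⟨hs, fun i => hP @Etale Groth.Agent.H52.etLocal_etale i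
      (locP_etale_of_isEtaleMor (g i) (hg.1 i))⟩

/-- fppf case. -/
theorem isLocalOnSource_fppf_locP (P : MorphismProperty Scheme.{u})
    [P.IsLocalAtSource Scheme.fppfPrecoverage] :
    IsLocalOnSource (IsFppfCover (S := S)) (LocP P) := by
  have : MorphismProperty.ContainsIdentities
      (@Flat ⊓ @LocallyOfFinitePresentation : MorphismProperty Scheme.{u}) :=
    ⟨fun X => ⟨(inferInstance : Flat (𝟙 X)), (inferInstance : LocallyOfFinitePresentation (𝟙 X))⟩⟩
  refine isLocalOnSource_locP_of_precoverage P Scheme.fppfPrecoverage _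
    (fun q h1 h2 => singleton_mem_precoverage_of_etale (@Flat ⊓ @LocallyOfFinitePresentation)
      (fun A B q hq => by have := hq; exact ⟨inferInstance, inferInstance⟩) q h1 h2) ?_ ?_
  · intro ι X Xi g hX hXi hg i U'' U' a'' b' q ha'' hb' comm
    exact ⟨_, pairF_mem_precoverage (@Flat ⊓ @LocallyOfFinitePresentation) q.left
      ⟨(hg.1 i).1 a'' b' q ha'' hb' comm, (hg.1 i).2 a'' b' q ha'' hb' comm⟩, pairF_mem q.left⟩
  · intro ι X Xi g hX hXi hg U a ha
    obtain ⟨V, c, l, hl, hs, hP, het⟩ := exists_chart_lifts hX Xi g hXi hg.2 U a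
    refine ⟨ι, V, c, ?_, fun i => ⟨i, l i, het ha i, hl i⟩⟩
    change _ ∈ Scheme.precoverage (@Flat ⊓ @LocallyOfFinitePresentation) _
    rw [Scheme.ofArrows_mem_precoverage_iff]
    exact ⟨hs, fun i => ⟨hP @Flat Groth.Agent.H52.etLocal_flat i (hg.1 i).1,
      hP @LocallyOfFinitePresentation Groth.Agent.H52.etLocal_lfp i (hg.1 i).2⟩⟩

end Groth.Agent.H51
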