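import Groth.Agent.H51.SmoothST
import Groth.Agent.H52.Topology

/-! Converse: source-local + base-local + postcomposition gives smooth local on source-and-target (helper51). -/

set_option autoImplicit false
universe u
open CategoryTheory CategoryTheory.Limits AlgebraicGeometry
open AlgSp

namespace Groth.Agent.H51

variable {S : Scheme.{u}}

/-- Two-element families of sheaves. -/
def pairObj (A B : Sp S) : ULift.{u} Bool → Sp S
  | ⟨true⟩ => A
  | ⟨false⟩ => B

/-- Two-element families of morphisms with a common target. -/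
def pairHom {A B X : Sp S} (a : A ⟶ X) (b : B ⟶ X) : ∀ i, pairObj A B i ⟶ X
  | ⟨true⟩ => a
  | ⟨false⟩ => b

/-- Two-element families of morphisms. -/
def pairMap {A B A' B' : Sp S} (a : A ⟶ A') (b : B ⟶ B') : ∀ i, pairObj A B i ⟶ pairObj A' B' i
  | ⟨true⟩ => a
  | ⟨false⟩ => b

theorem isAlgSpace_pairObj {A B : Sp S} (hA : IsAlgSpace A) (hB : IsAlgSpace B) :
    ∀ i, IsAlgSpace (pairObj A B i)
  | ⟨true⟩ => hA
  | ⟨false⟩ => hB

/-- A morphism together with the identity is a covering. -/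
theorem isCover_pair (Q : MorphismProperty (Sp S)) {A X : Sp S} (a : A ⟶ X) (ha : Q a)
    (hid : Q (𝟙 X)) : IsCover Q (pairObj A X) (pairHom a (𝟙 X)) := by
  refine ⟨?_, fun x => ⟨⟨false⟩, x, Points.map_id x⟩⟩
  rintro ⟨_ | _⟩
  · exact hid
  · exact ha

/-- Source-local, base-local and stable under smooth postcomposition implies smooth local on source-and-target. -/
theorem isSmoothLocalST_of_local (P : MorphismProperty (Sp S))
    (h1 : IsLocalOnSource (IsSmCover (S := S)) P)
    (h2 : IsLocalOnBase (IsSmCover (S := S)) P)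
    (h3 : ∀ ⦃X Y Z : Sp S⦄, IsAlgSpace X → IsAlgSpace Y → IsAlgSpace Z → ∀ (f : X ⟶ Y) (g : Y ⟶ Z),
      P f → LocP @Smooth g → P (f ≫ g)) : IsSmoothLocalST P where
  precomp := by
    intro X Y Z hX hY hZ f g hf hg
    exact (h1 (pairObj X Y) (pairHom f (𝟙 Y)) hY (isAlgSpace_pairObj hX hY)
      (isCover_pair _ f hf (locP_smooth_id Y)) g hZ).1 hg ⟨true⟩
  baseChange := by
    intro X Y X' Y' hX hY hX' hY' f g f' g' sq hg hf
    refine (h2 (pairObj Y' Y) (pairHom g (𝟙 Y)) hY (isAlgSpace_pairObj hY' hY)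
      (isCover_pair _ g hg (locP_smooth_id Y)) f hX (pairObj X' X) (pairMap f' f)
      (pairHom g' (𝟙 X)) (isAlgSpace_pairObj hX' hX) ?_).1 hf ⟨true⟩
    rintro ⟨_ | _⟩
    · show IsPullback (𝟙 X) f f (𝟙 Y)
      exact IsPullback.of_horiz_isIso ⟨by simp⟩
    · exact sq
  locality := by
    intro X Y hX hY f
    constructor
    · intro hf x
      exact ⟨X, Y, 𝟙 X, 𝟙 Y, f, x, hX, hY, locP_smooth_id X, locP_smooth_id Y, by simp,
        Points.map_id x, hf⟩
    · intro H
      choose U V a b h v hU hV ha hb hcomm hv hPh using H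
      obtain ⟨U₀, a₀, ha₀e, ha₀s⟩ := hX.atlas
      have hsurj := Groth.Agent.H52.surjective_ofPt_of_surjective a₀ ha₀s
      refine (h1 (fun u₀ : ↥U₀.left => U (Points.ofPt a₀ u₀)) (fun u₀ => a (Points.ofPt a₀ u₀)) hX
        (fun _ => hU _) ⟨fun _ => ha _, fun x => ?_⟩ f hY).2 fun u₀ => ?_
      · obtain ⟨u₀, rfl⟩ := hsurj x
        exact ⟨u₀, v _, hv _⟩
      · rw [hcomm]
        exact h3 (hU _) (hV _) hY _ _ (hPh _) (hb _)

end Groth.Agent.H51
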