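import Mathlib
import Groth.Prelude

/-!
# (GLUE) for helper95 (S7894): gluing local lifts that are locally unique
-/

set_option autoImplicit false
universe u
open CategoryTheory CategoryTheory.Limits AlgebraicGeometry

namespace Groth.Agent.H51.FB

theorem GLUE {X Y T : Scheme.{u}} (f : X ⟶ Y) (g : T ⟶ Y) {ι : Type*} (U : ι → Y.Opens)
    (hU : ⨆ i, U i = ⊤)
    (hex : ∀ i, ∃ h : (g ⁻¹ᵁ U i).toScheme ⟶ X, h ≫ f = (g ⁻¹ᵁ U i).ι ≫ g)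
    (huniq : ∀ (W : T.Opens) (h₁ h₂ : W.toScheme ⟶ X), (∃ i, W ≤ g ⁻¹ᵁ U i) →
      h₁ ≫ f = W.ι ≫ g → h₂ ≫ f = W.ι ≫ g → h₁ = h₂) :
    ∃! h : T ⟶ X, h ≫ f = g := by
  choose h hh using hex
  have hcov : TopologicalSpace.IsOpenCover (fun i => g ⁻¹ᵁ U i) :=
    g.iSup_preimage_eq_top hU
  have key : ∀ i j : ι, pullback.fst (g ⁻¹ᵁ U i).ι (g ⁻¹ᵁ U j).ι ≫ h i =
      pullback.snd (g ⁻¹ᵁ U i).ι (g ⁻¹ᵁ U j).ι ≫ h j := by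
    intro i j
    let W : T.Opens := g ⁻¹ᵁ U i ⊓ g ⁻¹ᵁ U j
    have hr : Set.range (pullback.fst (g ⁻¹ᵁ U i).ι (g ⁻¹ᵁ U j).ι ≫ (g ⁻¹ᵁ U i).ι).base ⊆
        Set.range W.ι.base := by
      rintro _ ⟨z, rfl⟩
      rw [Scheme.Opens.range_ι]
      refine ⟨?_, ?_⟩
      · exact ((pullback.fst (g ⁻¹ᵁ U i).ι (g ⁻¹ᵁ U j).ι).base z).2
      · rw [pullback.condition]
        exact ((pullback.snd (g ⁻¹ᵁ U i).ι (g ⁻¹ᵁ U j).ι).base z).2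
    let p := IsOpenImmersion.lift W.ι
      (pullback.fst (g ⁻¹ᵁ U i).ι (g ⁻¹ᵁ U j).ι ≫ (g ⁻¹ᵁ U i).ι) hr
    have hp : p ≫ W.ι = pullback.fst _ _ ≫ (g ⁻¹ᵁ U i).ι := IsOpenImmersion.lift_fac _ _ _
    have h1 : pullback.fst (g ⁻¹ᵁ U i).ι (g ⁻¹ᵁ U j).ι =
        p ≫ T.homOfLE (inf_le_left : W ≤ g ⁻¹ᵁ U i) := by
      rw [← cancel_mono (g ⁻¹ᵁ U i).ι, Category.assoc, Scheme.homOfLE_ι, hp]
    have h2 : pullback.snd (g ⁻¹ᵁ U i).ι (g ⁻¹ᵁ U j).ι =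
        p ≫ T.homOfLE (inf_le_right : W ≤ g ⁻¹ᵁ U j) := by
      rw [← cancel_mono (g ⁻¹ᵁ U j).ι, Category.assoc, ← pullback.condition,
        Scheme.homOfLE_ι, hp]
    rw [h1, h2, Category.assoc, Category.assoc]
    congr 1
    apply huniq W _ _ ⟨i, inf_le_left⟩
    · rw [Category.assoc, hh, Scheme.homOfLE_ι_assoc]
    · rw [Category.assoc, hh, Scheme.homOfLE_ι_assoc]
  let 𝒰 : T.OpenCover := T.openCoverOfIsOpenCover (fun i => g ⁻¹ᵁ U i) hcov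
  have hι : ∀ (i : ι) (k : T ⟶ X), 𝒰.f i ≫ k = (g ⁻¹ᵁ U i).ι ≫ k := fun _ _ => rfl
  have hgl : ∀ i : ι, (g ⁻¹ᵁ U i).ι ≫ 𝒰.glueMorphisms h key = h i :=
    fun i => 𝒰.ι_glueMorphisms h key i
  refine ⟨𝒰.glueMorphisms h key, ?_, ?_⟩
  · apply 𝒰.hom_ext
    intro i
    change (g ⁻¹ᵁ U i).ι ≫ _ ≫ f = (g ⁻¹ᵁ U i).ι ≫ g
    rw [← Category.assoc, hgl, hh]
  · intro h' hh'
    apply 𝒰.hom_ext
    intro i
    change (g ⁻¹ᵁ U i).ι ≫ h' = (g ⁻¹ᵁ U i).ι ≫ _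
    rw [hgl]
    apply huniq (g ⁻¹ᵁ U i) _ _ ⟨i, le_rfl⟩
    · rw [Category.assoc, hh']
    · exact hh i

end Groth.Agent.H51.FB
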