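import Groth.Agent.H51.QuotKer
import Mathlib.CategoryTheory.Sites.RegularEpi
import Mathlib.CategoryTheory.Sites.LocallyBijective
import Mathlib.CategoryTheory.Sites.LocallySurjective

/-!
# Quotient sheaves `U/R` for a general precoverage: recognising a quotient (helper51)

* `isIso_coequalizer_desc`: in a regular-epi category, if `q` is an epimorphism whose kernel pair is covered
  (through an epimorphism) by `f, g : R ⇉ U`, then the comparison `coeq(f, g) ⟶ M` is an isomorphism;
* `isPullback_yM`, `isPullback_repMap`: `h` of a pullback square of schemes over `S` is a pullback square of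
  (sheafified) representables, for every precoverage;
* `epi_repMap_of_local_lift`: `h_q` is an epimorphism of sheaves as soon as points lift locally;
* `exists_local_lift_of_epi_repMap`: conversely.
-/

set_option autoImplicit false
universe u
open CategoryTheory CategoryTheory.Limits AlgebraicGeometry Opposite

namespace Groth.Agent.H51.QuotGen

open Groth.Agent.H51.QuotKer

section Cat

variable {C : Type*} [Category C] [IsRegularEpiCategory C]

/-- If `q` is an epimorphism with kernel pair `(p1, p2)` and `e : R ⟶ P` is an epimorphism, then `q` is a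
coequalizer of `(e ≫ p1, e ≫ p2)`. -/
noncomputable def isColimitOfEpiKernelPair {R P U M : C} (f g : R ⟶ U) (q : U ⟶ M) [Epi q]
    (p1 p2 : P ⟶ U) (hk : IsPullback p1 p2 q q) (e : R ⟶ P) [Epi e] (h1 : e ≫ p1 = f)
    (h2 : e ≫ p2 = g) (w : f ≫ q = g ≫ q) : IsColimit (Cofork.ofπ q w) := by
  have hr : IsRegularEpi q := IsRegularEpiCategory.regularEpiOfEpi q
  haveI : HasPullback q q := hk.hasPullback
  have he : EffectiveEpi q := (isRegularEpi_iff_effectiveEpi q).1 hr
  have hcol : IsColimit (Cofork.ofπ q hk.w) := isColimitCoforkOfEffectiveEpi q hk.cone hk.isLimit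
  refine Cofork.IsColimit.mk' _ (fun c => ?_)
  have hc : p1 ≫ c.π = p2 ≫ c.π := by
    rw [← cancel_epi e, ← Category.assoc, ← Category.assoc, h1, h2]
    exact c.condition
  refine ⟨Cofork.IsColimit.desc hcol c.π hc, Cofork.IsColimit.π_desc hcol, fun {m} hm => ?_⟩
  rw [← cancel_epi q]
  have h3 : q ≫ Cofork.IsColimit.desc hcol c.π hc = c.π := Cofork.IsColimit.π_desc hcol
  rw [h3]
  exact hm

theorem isIso_coequalizer_desc {R P U M : C} (f g : R ⟶ U) [HasCoequalizer f g] (q : U ⟶ M) [Epi q]
    (p1 p2 : P ⟶ U) (hk : IsPullback p1 p2 q q) (e : R ⟶ P) [Epi e] (h1 : e ≫ p1 = f)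
    (h2 : e ≫ p2 = g) (w : f ≫ q = g ≫ q) : IsIso (coequalizer.desc q w) := by
  have hcol := isColimitOfEpiKernelPair f g q p1 p2 hk e h1 h2 w
  let i := (colimit.isColimit (parallelPair f g)).coconePointUniqueUpToIso hcol
  have hi : coequalizer.π f g ≫ i.hom = q :=
    IsColimit.comp_coconePointUniqueUpToIso_hom _ hcol WalkingParallelPair.one
  have : coequalizer.desc q w = i.hom := by
    apply coequalizer.hom_ext
    rw [coequalizer.π_desc, hi]
  rw [this]
  infer_instance

end Cat

variable {S : Scheme.{u}}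

/-- `h` of a pullback square in `Over S` is a pullback square of presheaves (lifted one universe). -/
theorem isPullback_yM {A B C D : Over S} {a : A ⟶ B} {b : A ⟶ C} {c : B ⟶ D} {d : C ⟶ D}
    (sq : IsPullback a b c d) : IsPullback (yM a) (yM b) (yM c) (yM d) := by
  refine IsPullback.of_forall_isPullback_app (fun T => ?_)
  rw [Types.isPullback_iff]
  refine ⟨?_, ?_, ?_⟩
  · ext ⟨x⟩
    exact ULift.ext _ _ (by
      change (x ≫ a) ≫ c = (x ≫ b) ≫ d
      rw [Category.assoc, Category.assoc, sq.w])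
  · rintro ⟨x⟩ ⟨y⟩ ⟨h1, h2⟩
    congr 1
    exact sq.hom_ext (congr_arg ULift.down h1) (congr_arg ULift.down h2)
  · rintro ⟨x⟩ ⟨y⟩ hxy
    have h : x ≫ c = y ≫ d := congr_arg ULift.down hxy
    exact ⟨⟨sq.lift x y h⟩, ULift.ext _ _ (sq.lift_fst x y h), ULift.ext _ _ (sq.lift_snd x y h)⟩

variable (K : Precoverage Scheme.{u})

/-- `h` of a pullback square in `Over S` is a pullback square of sheafified representables. -/
theorem isPullback_repMap {A B C D : Over S} {a : A ⟶ B} {b : A ⟶ C} {c : B ⟶ D} {d : C ⟶ D}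
    (sq : IsPullback a b c d) :
    IsPullback (QuotSh.repMap K a) (QuotSh.repMap K b) (QuotSh.repMap K c) (QuotSh.repMap K d) :=
  (isPullback_yM sq).map (presheafToSheaf (QuotSh.J K S) (Type (u + 1)))

/-- `h_q` is an epimorphism of sheaves as soon as points of the target lift locally. -/
theorem epi_repMap_of_local_lift {U M : Over S} (q : U ⟶ M)
    (h : ∀ (T : Over S) (a : T ⟶ M), ∃ Sg ∈ QuotSh.J K S T, ∀ ⦃T' : Over S⦄ (f : T' ⟶ T), Sg f →
      ∃ x : T' ⟶ U, x ≫ q = f ≫ a) : Epi (QuotSh.repMap K q) := by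
  have hls : Presheaf.IsLocallySurjective (QuotSh.J K S) (yM q) := by
    constructor
    rintro T ⟨a⟩
    obtain ⟨Sg, hSg, hlift⟩ := h T a
    refine (QuotSh.J K S).superset_covering ?_ hSg
    intro T' f hf
    obtain ⟨x, hx⟩ := hlift f hf
    exact ⟨⟨x⟩, ULift.ext _ _ hx⟩
  have h2 : Sheaf.IsLocallySurjective (QuotSh.repMap K q) :=
    (Presheaf.isLocallySurjective_presheafToSheaf_map_iff (QuotSh.J K S) (yM q)).2 hls
  exact (Sheaf.isLocallySurjective_iff_epi _).1 h2

/-- If `h_q` is an epimorphism of sheaves, points of the target lift locally. -/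
theorem exists_local_lift_of_epi_repMap {U M : Over S} (q : U ⟶ M) [Epi (QuotSh.repMap K q)]
    {T : Over S} (a : T ⟶ M) : ∃ Sg ∈ QuotSh.J K S T, ∀ ⦃T' : Over S⦄ (f : T' ⟶ T), Sg f →
      ∃ x : T' ⟶ U, x ≫ q = f ≫ a := by
  have h2 : Sheaf.IsLocallySurjective (QuotSh.repMap K q) :=
    (Sheaf.isLocallySurjective_iff_epi _).2 inferInstance
  have hls : Presheaf.IsLocallySurjective (QuotSh.J K S) (yM q) :=
    (Presheaf.isLocallySurjective_presheafToSheaf_map_iff (QuotSh.J K S) (yM q)).1 h2
  refine ⟨Presheaf.imageSieve (yM q) (⟨a⟩ : (yP M).obj (op T)),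
    Presheaf.imageSieve_mem (QuotSh.J K S) (yM q) _, ?_⟩
  rintro T' f ⟨⟨x⟩, hx⟩
  exact ⟨x, congr_arg ULift.down hx⟩

end Groth.Agent.H51.QuotGen
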