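import Mathlib
import Groth.Prelude.Def_EtModW
import Groth.Agent.H38.CM_Defs

/-!
# (G) for helper38: pulling back strata adapted to a predicate
-/

set_option autoImplicit false
universe u
open CategoryTheory CategoryTheory.Limits AlgebraicGeometry Opposite
open Groth.Agent.H38.CMDefs

namespace Groth.Agent.H51.CM_G

/-- `AdaptedP` from a family indexed by any finite type. -/
lemma adaptedP_of_finite {Y : Scheme.{u}} (P : ∀ {T : Scheme.{u}}, (T ⟶ Y) → Prop) (S : Set Y)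
    (ι : Type) [Finite ι] (T : ι → Scheme.{u}) (g : ∀ i, T i ⟶ Y)
    (h1 : ∀ i, IsImmersion (g i))
    (h2 : ∀ i, Topology.IsConstructible ((Subtype.val : S → Y) ⁻¹' Set.range (g i)))
    (h3 : Pairwise (fun i j => Disjoint (Set.range (g i)) (Set.range (g j))))
    (h4 : (⋃ i, Set.range (g i)) = S) (h5 : ∀ i, P (g i)) : AdaptedP P S := by
  obtain ⟨n, ⟨e⟩⟩ := Finite.exists_equiv_fin ι
  refine ⟨n, fun k => T (e.symm k), fun k => g (e.symm k), fun k => h1 _, fun k => h2 _, ?_, ?_,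
    fun k => h5 _⟩
  · intro a b hab
    exact h3 (e.symm.injective.ne hab)
  · rw [← h4]
    exact e.symm.surjective.iUnion_comp (fun i => Set.range (g i))

/-- A single stratum. -/
lemma exists_stratum {X Y T : Scheme.{u}} (f : X ⟶ Y) (W : X.Opens) (C : Set X) (hC : IsClosed C)
    (g : T ⟶ Y) [IsImmersion g] :
    ∃ (T' : Scheme.{u}) (s : T' ⟶ X) (k : T' ⟶ T), IsImmersion s ∧
      Set.range s = (W : Set X) ∩ C ∩ f ⁻¹' (Set.range g) ∧ s ≫ f = k ≫ g := by
  let q : pullback (W.ι ≫ f) g ⟶ X := pullback.fst (W.ι ≫ f) g ≫ W.ι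
  let C' : TopologicalSpace.Closeds ↥(pullback (W.ι ≫ f) g) :=
    ⟨q ⁻¹' C, hC.preimage q.continuous⟩
  let I := Scheme.IdealSheafData.vanishingIdeal C'
  have hq : Set.range q = (W : Set X) ∩ f ⁻¹' (Set.range g) := by
    have h1 : Set.range q = W.ι '' Set.range (pullback.fst (W.ι ≫ f) g) := by
      rw [← Set.range_comp]; rfl
    rw [h1, Scheme.Pullback.range_fst]
    ext x
    constructor
    · rintro ⟨y, hy, rfl⟩
      exact ⟨y.2, hy⟩
    · rintro ⟨hxW, hx⟩
      exact ⟨⟨x, hxW⟩, hx, rfl⟩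
  refine ⟨I.subscheme, I.subschemeι ≫ q, I.subschemeι ≫ pullback.snd _ _, inferInstance, ?_, ?_⟩
  · have h2 : Set.range (I.subschemeι ≫ q) = q '' Set.range I.subschemeι := by
      rw [← Set.range_comp]; rfl
    rw [h2, I.range_subschemeι, Scheme.IdealSheafData.coe_support_vanishingIdeal]
    change q '' (q ⁻¹' C) = _
    rw [Set.image_preimage_eq_inter_range, hq]
    ext x
    simp only [Set.mem_inter_iff]
    tauto
  · simp only [q, Category.assoc, pullback.condition]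

/-- Basic opens of an affine open are constructible in it. -/
lemma isConstructible_basicOpen {X : Scheme.{u}} (U : X.Opens) (hU : IsAffineOpen U)
    (h : Γ(X, U)) :
    Topology.IsConstructible ((Subtype.val : ↥(U : Set X) → X) ⁻¹' (X.basicOpen h : Set X)) := by
  have : IsAffine U.toScheme := hU
  have hle : X.basicOpen h ≤ U := X.basicOpen_le h
  have : IsAffine (X.basicOpen h).toScheme := hU.basicOpen h
  let j : (X.basicOpen h).toScheme ⟶ U.toScheme := X.homOfLE hle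
  have hj : ∀ y : (X.basicOpen h).toScheme, ((j y).1 : X) = y.1 := fun y =>
    congr($(X.homOfLE_ι hle) y)
  have hr : ((Subtype.val : ↥(U : Set X) → X) ⁻¹' (X.basicOpen h : Set X)) =
      (Set.range j : Set ↥U.toScheme) := by
    ext ⟨x, hxU⟩
    constructor
    · intro hx
      exact ⟨⟨x, hx⟩, Subtype.ext (hj ⟨x, hx⟩)⟩
    · rintro ⟨y, hy⟩
      have : y.1 = x := (hj y).symm.trans (congrArg Subtype.val hy)
      exact this ▸ y.2
  rw [hr]
  exact IsCompact.isConstructible (X := ↥U.toScheme) (isCompact_range j.continuous)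
    j.isOpenEmbedding.isOpen_range

/-- Constructibility of the pulled-back stratum inside an affine open. -/
lemma isConstructible_pull {X Y : Scheme.{u}} (f : X ⟶ Y) (U : X.Opens) (hU : IsAffineOpen U)
    (h : Γ(X, U)) (V : Y.Opens) (hle : X.basicOpen h ≤ f ⁻¹ᵁ V) (R : Set Y)
    (hR : Topology.IsConstructible ((Subtype.val : ↥(V : Set Y) → Y) ⁻¹' R)) :
    Topology.IsConstructible
      ((Subtype.val : ↥(U : Set X) → X) ⁻¹' ((X.basicOpen h : Set X) ∩ f ⁻¹' R)) := by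
  have : IsAffine U.toScheme := hU
  have hWU : X.basicOpen h ≤ U := X.basicOpen_le h
  have : IsAffine (X.basicOpen h).toScheme := hU.basicOpen h
  let j : (X.basicOpen h).toScheme ⟶ U.toScheme := X.homOfLE hWU
  let φ : (X.basicOpen h).toScheme ⟶ V.toScheme := f.resLE V (X.basicOpen h) hle
  have hj : ∀ y : (X.basicOpen h).toScheme, ((j y).1 : X) = y.1 := fun y =>
    congr($(X.homOfLE_ι hWU) y)
  have hφ : ∀ y : (X.basicOpen h).toScheme, ((φ y).1 : Y) = f y.1 := fun y =>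
    congr($(f.resLE_comp_ι hle) y)
  have hA : Topology.IsConstructible
      (φ ⁻¹' ((Subtype.val : ↥(V : Set Y) → Y) ⁻¹' R) : Set ↥(X.basicOpen h).toScheme) :=
    φ.isConstructible_preimage hR
  have hretro : IsRetrocompact (Set.range j : Set ↥U.toScheme) :=
    IsCompact.isRetrocompact (X := ↥U.toScheme) (isCompact_range j.continuous)
      j.isOpenEmbedding.isOpen_range
  have hB := hA.image_of_isOpenEmbedding j.isOpenEmbedding hretro
  have hset : ((Subtype.val : ↥(U : Set X) → X) ⁻¹' ((X.basicOpen h : Set X) ∩ f ⁻¹' R)) =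
      (j '' (φ ⁻¹' ((Subtype.val : ↥(V : Set Y) → Y) ⁻¹' R)) : Set ↥U.toScheme) := by
    ext ⟨x, hxU⟩
    constructor
    · rintro ⟨hxW, hxR⟩
      refine ⟨⟨x, hxW⟩, ?_, Subtype.ext (hj ⟨x, hxW⟩)⟩
      change ((φ ⟨x, hxW⟩).1 : Y) ∈ R
      rw [hφ]
      exact hxR
    · rintro ⟨y, hy, hyx⟩
      have hyx' : y.1 = x := (hj y).symm.trans (congrArg Subtype.val hyx)
      refine ⟨hyx' ▸ y.2, ?_⟩
      change f x ∈ R
      rw [← hyx', ← hφ]
      exact hy
  rw [hset]
  exact hB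

/-- A finite cover of an affine open by basic opens mapping into affine opens. -/
lemma exists_cover {X Y : Scheme.{u}} (f : X ⟶ Y) (U : X.Opens) (hU : IsAffineOpen U) :
    ∃ (m : ℕ) (h : Fin m → Γ(X, U)) (V : Fin m → Y.Opens), (∀ β, IsAffineOpen (V β)) ∧
      (∀ β, X.basicOpen (h β) ≤ f ⁻¹ᵁ V β) ∧
      (U : Set X) ⊆ ⋃ β, (X.basicOpen (h β) : Set X) := by
  have key : ∀ x : U, ∃ (V : Y.Opens) (h : Γ(X, U)), IsAffineOpen V ∧
      X.basicOpen h ≤ f ⁻¹ᵁ V ∧ (x : X) ∈ X.basicOpen h := by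
    intro x
    let V : Y.Opens := (Y.affineCover.f (Y.affineCover.idx (f x))).opensRange
    have hV : IsAffineOpen V := isAffineOpen_opensRange _
    have hxV : f x ∈ V := Y.affineCover.covers (f x)
    obtain ⟨h, h1, h2⟩ := hU.exists_basicOpen_le (V := f ⁻¹ᵁ V) ⟨x, hxV⟩ x.2
    exact ⟨V, h, hV, h1, h2⟩
  choose V h hV hle hx using key
  obtain ⟨t, ht⟩ := hU.isCompact.elim_finite_subcover
    (fun x : U => (X.basicOpen (h x) : Set X)) (fun x => (X.basicOpen (h x)).isOpen)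
    (fun x hxU => Set.mem_iUnion.mpr ⟨⟨x, hxU⟩, hx ⟨x, hxU⟩⟩)
  let e := t.equivFin
  refine ⟨t.card, fun β => h (e.symm β), fun β => V (e.symm β), fun β => hV _, fun β => hle _, ?_⟩
  intro x hxU
  obtain ⟨y, hy⟩ := Set.mem_iUnion.mp (ht hxU)
  obtain ⟨hyt, hxy⟩ := Set.mem_iUnion.mp hy
  refine Set.mem_iUnion.mpr ⟨e ⟨y, hyt⟩, ?_⟩
  simpa using hxy

theorem adaptedP_pull {X Y : Scheme.{u}} (f : X ⟶ Y) (P : ∀ {T : Scheme.{u}}, (T ⟶ Y) → Prop)
    (hP : ∀ {T T' : Scheme.{u}} (g : T ⟶ Y) (h : T' ⟶ T), P g → P (h ≫ g))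
    (hY : ∀ V : Y.Opens, IsAffineOpen V → AdaptedP P (V : Set Y)) (U : X.Opens)
    (hU : IsAffineOpen U) :
    AdaptedP (fun {T : Scheme.{u}} (g' : T ⟶ X) => P (g' ≫ f)) (U : Set X) := by
  classical
  obtain ⟨m, h, V, hV, hle, hcov⟩ := exists_cover f U hU
  have hstr := fun β => hY (V β) (hV β)
  choose n T g hg1 hg2 hg3 hg4 hg5 using hstr
  -- the closed sets used for disjointification
  let W : Fin m → X.Opens := fun β => X.basicOpen (h β)
  let C : Fin m → Set X := fun β => (⋃ β' ∈ {β' : Fin m | β' < β}, (W β' : Set X))ᶜ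
  have hC : ∀ β, IsClosed (C β) := fun β =>
    (isOpen_biUnion fun β' _ => (W β').isOpen).isClosed_compl
  have hstrat := fun (p : Σ β : Fin m, Fin (n β)) =>
    haveI := hg1 p.1 p.2
    exists_stratum f (W p.1) (C p.1) (hC p.1) (g p.1 p.2)
  choose T' s k hs1 hs2 hs3 using hstrat
  have hWU : ∀ β, (W β : Set X) ⊆ U := fun β => X.basicOpen_le (h β)
  refine adaptedP_of_finite _ _ (Σ β : Fin m, Fin (n β)) T' s hs1 ?_ ?_ ?_ ?_
  · -- constructible
    rintro ⟨β, i⟩
    rw [hs2]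
    have e1 : (Subtype.val : ↥(U : Set X) → X) ⁻¹'
        ((W β : Set X) ∩ C β ∩ f ⁻¹' Set.range (g β i)) =
        ((Subtype.val : ↥(U : Set X) → X) ⁻¹' ((W β : Set X) ∩ f ⁻¹' Set.range (g β i))) ∩
        (⋃ β' ∈ {β' : Fin m | β' < β},
          (Subtype.val : ↥(U : Set X) → X) ⁻¹' (W β' : Set X))ᶜ := by
      ext x
      simp only [C, Set.mem_preimage, Set.mem_inter_iff, Set.mem_compl_iff, Set.mem_iUnion,
        Set.mem_ofPred_eq]
      tauto
    rw [e1]
    refine (isConstructible_pull f U hU (h β) (V β) (hle β) _ (hg2 β i)).inter ?_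
    refine Topology.IsConstructible.compl ?_
    refine Topology.IsConstructible.biUnion (Set.toFinite _) fun β' _ => ?_
    exact isConstructible_basicOpen U hU (h β')
  · -- pairwise disjoint
    have aux : ∀ (β β' : Fin m) (i : Fin (n β)) (i' : Fin (n β')), β' < β →
        Disjoint (Set.range (s ⟨β, i⟩)) (Set.range (s ⟨β', i'⟩)) := by
      intro β β' i i' hlt
      rw [hs2, hs2, Set.disjoint_left]
      rintro x ⟨⟨_, hxC⟩, _⟩ ⟨⟨hxW', _⟩, _⟩
      exact hxC (Set.mem_biUnion (show β' ∈ {β'' : Fin m | β'' < β} from hlt) hxW')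
    rintro ⟨β, i⟩ ⟨β', i'⟩ hne
    rcases lt_trichotomy β β' with hlt | heq | hgt
    · exact (aux β' β i' i hlt).symm
    · subst heq
      have hii : i ≠ i' := fun hii => hne (by rw [hii])
      change Disjoint (Set.range (s ⟨β, i⟩)) (Set.range (s ⟨β, i'⟩))
      rw [hs2, hs2, Set.disjoint_left]
      rintro x ⟨_, hx1⟩ ⟨_, hx2⟩
      exact Set.disjoint_left.mp (hg3 β hii) hx1 hx2
    · exact aux β β' i i' hgt
  · -- union
    apply Set.Subset.antisymm
    · intro x hx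
      obtain ⟨⟨β, i⟩, hxi⟩ := Set.mem_iUnion.mp hx
      rw [hs2] at hxi
      exact hWU β hxi.1.1
    · intro x hxU
      obtain ⟨β₀, hβ₀⟩ := Set.mem_iUnion.mp (hcov hxU)
      let F : Finset (Fin m) := Finset.univ.filter fun β => x ∈ W β
      have hF : F.Nonempty := ⟨β₀, Finset.mem_filter.mpr ⟨Finset.mem_univ _, hβ₀⟩⟩
      let β := F.min' hF
      have hβ : x ∈ W β := (Finset.mem_filter.mp (F.min'_mem hF)).2
      have hxC : x ∈ C β := by
        intro hx'
        obtain ⟨β', hβ'⟩ := Set.mem_iUnion.mp hx'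
        obtain ⟨hlt, hxβ'⟩ := Set.mem_iUnion.mp hβ'
        have : β ≤ β' := F.min'_le β' (Finset.mem_filter.mpr ⟨Finset.mem_univ _, hxβ'⟩)
        exact absurd hlt (not_lt.mpr this)
      have hfx : f x ∈ (V β : Set Y) := hle β hβ
      rw [← hg4 β] at hfx
      obtain ⟨i, hi⟩ := Set.mem_iUnion.mp hfx
      refine Set.mem_iUnion.mpr ⟨⟨β, i⟩, ?_⟩
      rw [hs2]
      exact ⟨⟨hβ, hxC⟩, hi⟩
  · -- the predicate
    rintro ⟨β, i⟩
    rw [hs3]
    exact hP _ _ (hg5 β i)

end Groth.Agent.H51.CM_G
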