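import Mathlib

set_option autoImplicit false

universe u

open TensorProduct

namespace Groth.Agent.H51.IrrN0

/-- (N0) triviality of the generic geometric fibre spreads out. -/
theorem subsingleton_spread {A B : Type u} [CommRing A] [IsDomain A] [CommRing B] [Algebra A B]
    {Ω : Type u} [Field Ω] [Algebra A Ω]
    (hinj : Function.Injective (algebraMap A Ω)) (h : Subsingleton (Ω ⊗[A] B)) :
    ∃ a : A, a ≠ 0 ∧ ∀ (K : Type u) [Field K] [Algebra A K], algebraMap A K a ≠ 0 →
      Subsingleton (K ⊗[A] B) := by
  classical
  -- Ω is flat over A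
  have hflat : Module.Flat A Ω := by
    letI : Algebra (FractionRing A) Ω := (IsFractionRing.lift hinj).toAlgebra
    haveI : IsScalarTower A (FractionRing A) Ω :=
      IsScalarTower.of_algebraMap_eq fun x => by
        change _ = (IsFractionRing.lift hinj) (algebraMap A (FractionRing A) x)
        rw [IsFractionRing.lift_algebraMap]
    haveI : Module.Flat A (FractionRing A) := IsLocalization.flat _ (nonZeroDivisors A)
    exact Module.Flat.trans A (FractionRing A) Ω
  have key : ∃ a : A, a ≠ 0 ∧ algebraMap A B a = 0 := by
    by_contra hcon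
    push_neg at hcon
    have hinjB : Function.Injective (Algebra.linearMap A B) := by
      rw [← LinearMap.ker_eq_bot, LinearMap.ker_eq_bot']
      intro a ha
      by_contra hne
      exact hcon a hne ha
    have h2 : Function.Injective ((Algebra.linearMap A B).lTensor Ω) :=
      Module.Flat.lTensor_preserves_injective_linearMap _ hinjB
    have h3 : Subsingleton (Ω ⊗[A] A) := h2.subsingleton
    have h4 : Subsingleton Ω := (TensorProduct.rid A Ω).symm.injective.subsingleton
    exact not_subsingleton Ω h4
  obtain ⟨a, ha, hab⟩ := key
  refine ⟨a, ha, fun K _ _ hK => ?_⟩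
  apply subsingleton_of_zero_eq_one
  rw [Algebra.TensorProduct.one_def]
  have h1 : (1 : K) = a • (algebraMap A K a)⁻¹ := by
    rw [Algebra.smul_def, mul_inv_cancel₀ hK]
  rw [h1, TensorProduct.smul_tmul, Algebra.smul_def, hab, zero_mul, TensorProduct.tmul_zero]

end Groth.Agent.H51.IrrN0
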