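import Mathlib

/-!
# (HFI) for helper46 (S11178): `Hom(F, I)` is injective for `F` flat and `I` injective
-/

set_option autoImplicit false
universe u
open CategoryTheory CochainComplex.HomComplex

namespace Groth.Agent.H51.FI

variable {A : Type u} [CommRing A]

theorem injective_linearMap_of_flat (F I : Type u) [AddCommGroup F] [Module A F]
    [AddCommGroup I] [Module A I] [Module.Flat A F] [Module.Injective A I] :
    Module.Injective A (F →ₗ[A] I) := by
  refine ⟨fun X Y _ _ _ _ f hf g => ?_⟩
  have hinj : Function.Injective (f.rTensor F) :=
    Module.Flat.rTensor_preserves_injective_linearMap (M := F) f hf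
  obtain ⟨h', hh'⟩ := Module.Injective.extension_property A I _ _ (f.rTensor F) hinj
    (TensorProduct.lift g)
  refine ⟨TensorProduct.curry h', fun x => ?_⟩
  ext m
  have := congr($hh' (x ⊗ₜ[A] m))
  simpa using this

end Groth.Agent.H51.FI
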