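import Mathlib
import Groth.Agent.H47.GNAtDefs
import Groth.Agent.H10.DevX
import Groth.Agent.H25.NormalElem

set_option autoImplicit false
set_option linter.style.haveILetI false

universe u

open TensorProduct IsLocalRing
open Groth.Agent.H47.GNAtDefs

namespace Groth.Agent.H51.GU10D

attribute [local instance] Algebra.TensorProduct.rightAlgebra

set_option maxHeartbeats 3200000 in
set_option synthInstance.maxHeartbeats 400000 in
theorem core {S A C₀ C : Type u} [CommRing S] [CommRing A] [Algebra S A] [CommRing C₀]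
    [Algebra S C₀] [CommRing C] [Algebra A C] [Algebra C₀ C] [Algebra S C] [IsScalarTower S A C]
    [IsScalarTower S C₀ C] [Algebra.IsPushout S A C₀ C] (q : Ideal C) [q.IsPrime]
    (hGN : GNAt A q)
    (p₀ : Ideal S) [p₀.IsPrime] (hp₀ : p₀ = (q.comap (algebraMap A C)).comap (algebraMap S A))
    (K : Type u) [Field K] [Algebra S K] [Algebra p₀.ResidueField K]
    [IsScalarTower S p₀.ResidueField K] (hfin : Module.Finite p₀.ResidueField K)
    (E : Type u) [CommRing E] [Algebra C₀ E] [Algebra K E]
    [Algebra S E] [IsScalarTower S C₀ E] [IsScalarTower S K E] [Algebra.IsPushout S C₀ K E]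
    (n : Ideal E) [n.IsPrime] (Ω : Type u) [Field Ω] (ψE : E →+* Ω) (ψC : C →+* Ω)
    (hcompat : ∀ c : C₀, ψE (algebraMap C₀ E c) = ψC (algebraMap C₀ C c))
    (hkE : RingHom.ker ψE = n) (hkC : RingHom.ker ψC = q) :
    IsDomain (Localization.AtPrime n) ∧ IsIntegrallyClosed (Localization.AtPrime n) := by
  haveI hpprime : (q.comap (algebraMap A C)).IsPrime := Ideal.IsPrime.comap _
  have hq_iff : ∀ c : C, c ∈ q ↔ ψC c = 0 := fun c => by
    have : c ∈ RingHom.ker ψC ↔ ψC c = 0 := RingHom.mem_ker
    rwa [hkC] at this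
  have hψS : ∀ s : S, ψE (algebraMap S E s) = ψC (algebraMap S C s) := fun s => by
    rw [IsScalarTower.algebraMap_apply S C₀ E, hcompat, ← IsScalarTower.algebraMap_apply S C₀ C]
  let ιp : (q.comap (algebraMap A C)).ResidueField →+* Ω :=
    Ideal.ResidueField.lift _ (ψC.comp (algebraMap A C))
      (fun a ha => by
        rw [RingHom.mem_ker, RingHom.comp_apply, ← RingHom.mem_ker, hkC]
        exact ha)
      (fun a ha => by
        change IsUnit (ψC (algebraMap A C a))
        rw [isUnit_iff_ne_zero]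
        intro h0
        apply ha
        change algebraMap A C a ∈ q
        rw [← hkC]
        exact h0)
  have hιp : ∀ a : A, ιp (algebraMap A _ a) = ψC (algebraMap A C a) := fun a =>
    Ideal.ResidueField.lift_algebraMap _ _ _ _ a
  let j : p₀.ResidueField →+* (q.comap (algebraMap A C)).ResidueField :=
    Ideal.ResidueField.map p₀ _ (algebraMap S A) hp₀
  have hj : ∀ s : S, j (algebraMap S _ s) = algebraMap A _ (algebraMap S A s) := fun s =>
    Ideal.ResidueField.map_algebraMap _ _ _ _ s
  letI algKΩ : Algebra K Ω := (ψE.comp (algebraMap K E)).toAlgebra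
  letI algpΩ : Algebra (q.comap (algebraMap A C)).ResidueField Ω := ιp.toAlgebra
  letI algp₀p : Algebra p₀.ResidueField (q.comap (algebraMap A C)).ResidueField := j.toAlgebra
  letI algp₀Ω : Algebra p₀.ResidueField Ω :=
    ((algebraMap K Ω).comp (algebraMap p₀.ResidueField K)).toAlgebra
  haveI t1 : IsScalarTower p₀.ResidueField K Ω := IsScalarTower.of_algebraMap_eq fun x => rfl
  haveI t2 : IsScalarTower p₀.ResidueField (q.comap (algebraMap A C)).ResidueField Ω :=
    IsScalarTower.of_algebraMap_eq' (by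
      apply Ideal.ResidueField.ringHom_ext
      ext s
      change ψE (algebraMap K E (algebraMap p₀.ResidueField K (algebraMap S _ s))) =
        ιp (j (algebraMap S _ s))
      rw [← IsScalarTower.algebraMap_apply S p₀.ResidueField K,
        ← IsScalarTower.algebraMap_apply S K E, hψS, hj, hιp,
        ← IsScalarTower.algebraMap_apply S A C])
  -- the finite subfield `L`
  obtain ⟨G, hG⟩ := (Module.finite_def.mp hfin)
  let L : IntermediateField (q.comap (algebraMap A C)).ResidueField Ω :=
    IntermediateField.adjoin _ ((algebraMap K Ω) '' (G : Set K))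
  haveI : Finite ((algebraMap K Ω) '' (G : Set K)) := (G.finite_toSet.image _).to_subtype
  haveI hLfin : FiniteDimensional (q.comap (algebraMap A C)).ResidueField L := by
    refine IntermediateField.finiteDimensional_adjoin ?_
    rintro _ ⟨g, -, rfl⟩
    have h1 : IsIntegral p₀.ResidueField g := Algebra.IsIntegral.isIntegral g
    have h2 : IsIntegral p₀.ResidueField (algebraMap K Ω g) := h1.algebraMap
    exact h2.tower_top
  have hKL : ∀ k : K, algebraMap K Ω k ∈ L := by
    intro k
    have hk : k ∈ Submodule.span p₀.ResidueField (G : Set K) := by rw [hG]; trivial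
    refine Submodule.span_induction ?_ ?_ ?_ ?_ hk
    · intro g hg
      exact IntermediateField.subset_adjoin _ _ ⟨g, hg, rfl⟩
    · rw [map_zero]
      exact zero_mem _
    · intro x y _ _ hx hy
      rw [map_add]
      exact add_mem hx hy
    · intro c x _ hx
      rw [Algebra.smul_def, map_mul, ← IsScalarTower.algebraMap_apply p₀.ResidueField K Ω,
        IsScalarTower.algebraMap_apply p₀.ResidueField (q.comap (algebraMap A C)).ResidueField Ω]
      exact mul_mem (L.algebraMap_mem _) hx
  -- algebra structures on `L`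
  letI algKL : Algebra K L := ((algebraMap K Ω).codRestrict L hKL).toAlgebra
  letI algAL : Algebra A L := ((algebraMap (q.comap (algebraMap A C)).ResidueField L).comp
    (algebraMap A (q.comap (algebraMap A C)).ResidueField)).toAlgebra
  haveI tApL : IsScalarTower A (q.comap (algebraMap A C)).ResidueField L :=
    IsScalarTower.of_algebraMap_eq fun x => rfl
  letI algSL : Algebra S L := ((algebraMap K L).comp (algebraMap S K)).toAlgebra
  haveI tSKL : IsScalarTower S K L := IsScalarTower.of_algebraMap_eq fun x => rfl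
  have hvalK : ∀ k : K, ((algebraMap K L k : L) : Ω) = ψE (algebraMap K E k) := fun k => rfl
  have hvalA : ∀ a : A, ((algebraMap A L a : L) : Ω) = ψC (algebraMap A C a) := fun a => by
    change ιp (algebraMap A _ a) = _
    exact hιp a
  haveI tSAL : IsScalarTower S A L := IsScalarTower.of_algebraMap_eq fun x => by
    apply Subtype.ext
    rw [hvalA]
    change ψE (algebraMap K E (algebraMap S K x)) = _
    rw [← IsScalarTower.algebraMap_apply S K E, hψS, ← IsScalarTower.algebraMap_apply S A C]
  -- the model `E ⊗[K] L`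
  letI algAEL : Algebra A (E ⊗[K] L) :=
    ((algebraMap L (E ⊗[K] L)).comp (algebraMap A L)).toAlgebra
  haveI tALEL : IsScalarTower A L (E ⊗[K] L) := IsScalarTower.of_algebraMap_eq fun x => rfl
  haveI tSLEL : IsScalarTower S L (E ⊗[K] L) := IsScalarTower.of_algebraMap_eq fun x => by
    rw [Algebra.TensorProduct.algebraMap_apply, IsScalarTower.algebraMap_apply S K E,
      IsScalarTower.algebraMap_apply S K L]
    change (algebraMap K E (algebraMap S K x)) ⊗ₜ[K] (1 : L) =
      (1 : E) ⊗ₜ[K] (algebraMap K L (algebraMap S K x))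
    rw [Algebra.algebraMap_eq_smul_one, TensorProduct.smul_tmul, ← Algebra.algebraMap_eq_smul_one]
  haveI tKLEL : IsScalarTower K L (E ⊗[K] L) := IsScalarTower.of_algebraMap_eq fun x => by
    rw [Algebra.TensorProduct.algebraMap_apply]
    change (algebraMap K E x) ⊗ₜ[K] (1 : L) = (1 : E) ⊗ₜ[K] (algebraMap K L x)
    rw [Algebra.algebraMap_eq_smul_one, TensorProduct.smul_tmul, ← Algebra.algebraMap_eq_smul_one]
  haveI tSAEL : IsScalarTower S A (E ⊗[K] L) := IsScalarTower.of_algebraMap_eq fun x => by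
    rw [IsScalarTower.algebraMap_apply S L (E ⊗[K] L), IsScalarTower.algebraMap_apply S A L]
    rfl
  let fA : A →ₐ[S] (E ⊗[K] L) := IsScalarTower.toAlgHom S A (E ⊗[K] L)
  let fC₀ : C₀ →ₐ[S] (E ⊗[K] L) := IsScalarTower.toAlgHom S C₀ (E ⊗[K] L)
  let φC : C →ₐ[S] (E ⊗[K] L) := Algebra.pushoutDesc C fA fC₀ (fun _ _ => mul_comm _ _)
  letI algCEL : Algebra C (E ⊗[K] L) := φC.toRingHom.toAlgebra
  have hφA : ∀ x : A, φC (algebraMap A C x) = algebraMap A (E ⊗[K] L) x := fun x =>
    Algebra.pushoutDesc_left C fA fC₀ _ x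
  have hφC₀ : ∀ x : C₀, φC (algebraMap C₀ C x) = algebraMap C₀ (E ⊗[K] L) x := fun x =>
    Algebra.pushoutDesc_right C fA fC₀ _ x
  haveI tACEL : IsScalarTower A C (E ⊗[K] L) := IsScalarTower.of_algebraMap_eq fun x =>
    (hφA x).symm
  haveI tC₀CEL : IsScalarTower C₀ C (E ⊗[K] L) := IsScalarTower.of_algebraMap_eq fun x =>
    (hφC₀ x).symm
  haveI tSCEL : IsScalarTower S C (E ⊗[K] L) := IsScalarTower.of_algebraMap_eq fun x =>
    (φC.commutes x).symm
  haveI p1 : Algebra.IsPushout S K C₀ E := Algebra.IsPushout.symm inferInstance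
  have p2 : Algebra.IsPushout S L C₀ (E ⊗[K] L) :=
    (Algebra.IsPushout.comp_iff S K C₀ E (T := L) (T' := E ⊗[K] L)).mpr inferInstance
  have p3 : Algebra.IsPushout A L C (E ⊗[K] L) :=
    (Algebra.IsPushout.comp_iff S A C₀ C (T := L) (T' := E ⊗[K] L)).mp p2
  haveI p4 : Algebra.IsPushout A C L (E ⊗[K] L) := p3.symm
  -- the prime
  let ψE' : E →ₐ[K] Ω := { ψE with commutes' := fun x => rfl }
  let valL : L →ₐ[K] Ω := { L.val.toRingHom with commutes' := fun x => rfl }
  let μ : (E ⊗[K] L) →ₐ[K] Ω :=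
    Algebra.TensorProduct.lift ψE' valL (fun _ _ => Commute.all _ _)
  have hμ : ∀ (e : E) (l : L), μ (e ⊗ₜ[K] l) = ψE e * (l : Ω) := fun e l => by
    change Algebra.TensorProduct.lift ψE' valL _ (e ⊗ₜ[K] l) = _
    rw [Algebra.TensorProduct.lift_tmul]
    rfl
  let N : Ideal (E ⊗[K] L) := RingHom.ker μ.toRingHom
  haveI : N.IsPrime := RingHom.ker_isPrime _
  have hNn : N.comap (algebraMap E (E ⊗[K] L)) = n := by
    ext e
    rw [Ideal.mem_comap, ← hkE, RingHom.mem_ker]
    change μ (algebraMap E (E ⊗[K] L) e) = 0 ↔ _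
    rw [Algebra.TensorProduct.algebraMap_apply, Algebra.algebraMap_self_apply, hμ]
    change ψE e * ((1 : L) : Ω) = 0 ↔ _
    rw [OneMemClass.coe_one, mul_one, RingHom.mem_ker]
  have hSΩ : ∀ x : S, algebraMap K Ω (algebraMap S K x) = ψC (algebraMap S C x) := fun x => by
    change ψE (algebraMap K E (algebraMap S K x)) = _
    rw [← IsScalarTower.algebraMap_apply S K E, hψS]
  letI algSΩ : Algebra S Ω := ((algebraMap K Ω).comp (algebraMap S K)).toAlgebra
  haveI tSKΩ : IsScalarTower S K Ω := IsScalarTower.of_algebraMap_eq fun x => rfl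
  have hμC : ∀ c : C, μ (algebraMap C (E ⊗[K] L) c) = ψC c := by
    let g₁ : C →ₐ[S] Ω := (μ.restrictScalars S).comp φC
    let g₂ : C →ₐ[S] Ω := { ψC with commutes' := fun x => (hSΩ x).symm }
    have hg : g₁ = g₂ := by
      apply Algebra.IsPushout.algHom_ext (R := S) (S := A) (R' := C₀) C
      · ext x
        change μ (φC (algebraMap C₀ C x)) = ψC (algebraMap C₀ C x)
        rw [hφC₀, Algebra.TensorProduct.algebraMap_apply, hμ, hcompat]
        change _ * ((1 : L) : Ω) = _
        rw [OneMemClass.coe_one, mul_one]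
      · ext x
        change μ (φC (algebraMap A C x)) = ψC (algebraMap A C x)
        rw [hφA]
        change μ (algebraMap L (E ⊗[K] L) (algebraMap A L x)) = _
        rw [Algebra.TensorProduct.right_algebraMap_apply, hμ, map_one, one_mul, hvalA]
    intro c
    exact congrArg (fun g : C →ₐ[S] Ω => g c) hg
  have hNq : N.comap (algebraMap C (E ⊗[K] L)) = q := by
    ext c
    rw [Ideal.mem_comap, hq_iff]
    change μ (algebraMap C (E ⊗[K] L) c) = 0 ↔ _
    rw [hμC]
  have hEL := hGN L hLfin (E ⊗[K] L) N hNq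
  have hdesc := Groth.Agent.H25.NormalElem.isDomain_isIntegrallyClosed_comap_of_flat E (E ⊗[K] L) N hEL
  subst hNn
  exact hdesc

/-- (D) descent of geometric normality of a fibre at a point along ANY base change. -/
theorem gnAt_descend {S A C₀ C : Type u} [CommRing S] [CommRing A] [Algebra S A] [CommRing C₀]
    [Algebra S C₀] [CommRing C] [Algebra A C] [Algebra C₀ C] [Algebra S C] [IsScalarTower S A C]
    [IsScalarTower S C₀ C] [Algebra.IsPushout S A C₀ C] (q : Ideal C) [q.IsPrime]
    (hGN : GNAt A q) : GNAt S (q.comap (algebraMap C₀ C)) := by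
  intro K _ _ _ _ hfin E _ _ _ _ _ _ _ n _ hn
  obtain ⟨N₁, hN₁, hN₁E, hN₁C⟩ :=
    Groth.Agent.H10.DevX.exists_prime_tensor_liesOver C₀ E C n q hn
  haveI := hN₁
  let ψE : E →+* N₁.ResidueField := (algebraMap (E ⊗[C₀] C) N₁.ResidueField).comp
    (Algebra.TensorProduct.includeLeft : E →ₐ[C₀] E ⊗[C₀] C).toRingHom
  let ψC : C →+* N₁.ResidueField := (algebraMap (E ⊗[C₀] C) N₁.ResidueField).comp
    (Algebra.TensorProduct.includeRight : C →ₐ[C₀] E ⊗[C₀] C).toRingHom
  have hcompat : ∀ c : C₀, ψE (algebraMap C₀ E c) = ψC (algebraMap C₀ C c) := by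
    intro c
    change algebraMap (E ⊗[C₀] C) N₁.ResidueField
        ((Algebra.TensorProduct.includeLeft : E →ₐ[C₀] E ⊗[C₀] C) (algebraMap C₀ E c)) =
      algebraMap (E ⊗[C₀] C) N₁.ResidueField
        ((Algebra.TensorProduct.includeRight : C →ₐ[C₀] E ⊗[C₀] C) (algebraMap C₀ C c))
    rw [AlgHom.commutes, AlgHom.commutes]
  have hkE : RingHom.ker ψE = n := by
    rw [← hN₁E, ← RingHom.comap_ker, Ideal.ker_algebraMap_residueField]
  have hkC : RingHom.ker ψC = q := by
    rw [← hN₁C, ← RingHom.comap_ker, Ideal.ker_algebraMap_residueField]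
  have hp₀ : (q.comap (algebraMap C₀ C)).comap (algebraMap S C₀) =
      (q.comap (algebraMap A C)).comap (algebraMap S A) := by
    rw [Ideal.comap_comap, Ideal.comap_comap, ← IsScalarTower.algebraMap_eq,
      ← IsScalarTower.algebraMap_eq]
  exact core (S := S) (A := A) (C₀ := C₀) q hGN _ hp₀ K hfin E n N₁.ResidueField ψE ψC hcompat
    hkE hkC

end Groth.Agent.H51.GU10D
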