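import Groth.Agent.H50.OpenSub
import Groth.Agent.H52.FibProd
import Groth.Prelude.Def_AlgSpCov

/-!
# The largest open subspace over which a morphism has a property local on the base (helper51)

Generic in the class `Q` of covering morphisms (`IsCover Q`).
-/

universe u

open CategoryTheory CategoryTheory.Limits AlgebraicGeometry Opposite AlgSp MorphismProperty

namespace Groth.Agent.H51

open Groth.Agent.H50

variable {S : Scheme.{u}}

/-- The pullback of `k ≫ ι` along a monomorphism `ι`. -/
theorem isPullback_id_of_mono {C : Type*} [Category C] {A B D : C} (k : A ⟶ B) (ι : B ⟶ D) [Mono ι] :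
    IsPullback (𝟙 A) k (k ≫ ι) ι := by
  refine ⟨⟨by simp⟩, ⟨PullbackCone.IsLimit.mk _ (fun s => s.fst) (fun s => by simp) (fun s => ?_)
    (fun s m h1 _ => by simpa using h1)⟩⟩
  rw [← cancel_mono ι, Category.assoc]
  exact s.condition

/-- A morphism of sheaves whose points all land in `W` factors through the subsheaf attached to `W`. -/
theorem exists_factor_openSubι {A X : Sp S} (W : Set (Points X)) (j : A ⟶ X)
    (h : Set.range (Points.map j) ⊆ W) : ∃ k : A ⟶ openSub X W, k ≫ openSubι X W = j := by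
  have hle : Subfunctor.range j.hom ≤ openSubfunctor X W := by
    rintro T _ ⟨ξ, rfl⟩
    induction T using Opposite.rec with
    | op T =>
    intro t
    have e : yonEquiv.symm (j.hom.app (op T) ξ) = yonEquiv.symm ξ ≫ j :=
      ((J S).uliftYonedaEquiv_symm_naturality_right T j ξ).symm
    rw [e, ← Points.map_ofPt]
    exact h ⟨_, rfl⟩
  exact ⟨⟨Subfunctor.lift j.hom hle⟩, rfl⟩

theorem map_openSubι_mem (X : Sp S) (W : Set (Points X)) (z : Points (openSub X W)) :
    Points.map (openSubι X W) z ∈ W := by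
  have h : Points.map (openSubι X W) z ∈ Set.range (Points.map (openSubι X W)) := ⟨z, rfl⟩
  rwa [range_map_openSubι] at h

theorem mono_of_repWith_isOpenImmersion {A B : Sp S} {j : A ⟶ B} (hj : RepWith @IsOpenImmersion j) :
    Mono j :=
  mono_of_repWith (fun _ _ g (hg : IsOpenImmersion g) => (inferInstance : Mono g)) hj

/-- The covering notion attached to a class of morphisms. -/
abbrev coverOf (Q : MorphismProperty (Sp S)) : CovNotion S := fun _ _ Y g => IsCover Q Y g

/-- The hypotheses on the class `Q` of covering morphisms. -/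
structure CoverClass (Q : MorphismProperty (Sp S)) : Prop where
  of_open : ∀ ⦃A B : Sp S⦄ (j : A ⟶ B), IsAlgSpace A → IsAlgSpace B → RepWith @IsOpenImmersion j → Q j
  baseChange : ∀ ⦃A B A' B' : Sp S⦄ {g : A ⟶ B} {h : B' ⟶ B} {fst : A' ⟶ A} {snd : A' ⟶ B'},
    IsAlgSpace A → IsAlgSpace B → IsAlgSpace B' → IsAlgSpace A' → IsPullback fst snd g h → Q g → Q snd
  comp : ∀ ⦃A B C : Sp S⦄ (a : A ⟶ B) (b : B ⟶ C), IsAlgSpace A → IsAlgSpace B → IsAlgSpace C →
    Q a → Q b → Q (a ≫ b)
  isOpen_range : ∀ ⦃A B : Sp S⦄ (g : A ⟶ B), IsAlgSpace A → IsAlgSpace B → Q g →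
    IsOpen (Set.range (Points.map g))

section

variable {Q : MorphismProperty (Sp S)} (hQ : CoverClass Q) {P : MorphismProperty (Sp S)}
  (hP : IsLocalOnBase (coverOf Q) P)

include hQ hP

/-- Key lemma: if `g : Y' ⟶ Y` is in `Q` with image inside the open `V` and `f'` is the base change of `f` along `g`, then
`P` for the restriction of `f` over `V` implies `P f'`; the converse holds when the image is all of `V`. -/
theorem P_baseChange_of_P_restrict {X Y Y' X' : Sp S} (hX : IsAlgSpace X) (hY : IsAlgSpace Y)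
    (hY' : IsAlgSpace Y') (hX' : IsAlgSpace X') (f : X ⟶ Y) {V : Set (Points Y)} (hV : IsOpen V)
    (g : Y' ⟶ Y) (g' : X' ⟶ X) (f' : X' ⟶ Y') (sq : IsPullback g' f' f g) (hg : Q g)
    (hsub : Set.range (Points.map g) ⊆ V) :
    (P (pullback.snd f (openSubι Y V)) → P f') ∧
      (Set.range (Points.map g) = V → P f' → P (pullback.snd f (openSubι Y V))) := by
  have hYV : IsAlgSpace (openSub Y V) := isAlgSpace_openSub hV hY
  have sqV := IsPullback.of_hasPullback f (openSubι Y V)
  have hXV : IsAlgSpace (pullback f (openSubι Y V)) :=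
    Groth.Agent.H52.isAlgSpace_of_isPullback sqV hY.diag hX hYV
  obtain ⟨k, hk⟩ := exists_factor_openSubι V g hsub
  -- `k` is a base change of `g`
  have sqk : IsPullback (𝟙 Y') k g (openSubι Y V) := by
    rw [← hk]
    exact isPullback_id_of_mono k (openSubι Y V)
  have hQk : Q k := hQ.baseChange hY' hY hYV hY' sqk hg
  -- `f'` is the base change of the restriction along `k`
  let m : X' ⟶ pullback f (openSubι Y V) := pullback.lift g' (f' ≫ k) (by
    rw [Category.assoc, hk]; exact sq.w)
  have hm1 : m ≫ pullback.fst f (openSubι Y V) = g' := pullback.lift_fst _ _ _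
  have hm2 : m ≫ pullback.snd f (openSubι Y V) = f' ≫ k := pullback.lift_snd _ _ _
  have sqm : IsPullback m f' (pullback.snd f (openSubι Y V)) k := by
    refine IsPullback.of_right ?_ hm2 sqV
    rw [hm1, hk]
    exact sq
  constructor
  · intro hPV
    -- the two-element cover `{k, 𝟙}` of `openSub Y V`
    let Yi : ULift.{u} Bool → Sp S := fun b => cond b.down Y' (openSub Y V)
    let gi : ∀ b, Yi b ⟶ openSub Y V := fun b => match b with
      | ⟨true⟩ => k
      | ⟨false⟩ => 𝟙 _
    let Xi : ULift.{u} Bool → Sp S := fun b => cond b.down X' (pullback f (openSubι Y V))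
    let pi : ∀ b, Xi b ⟶ Yi b := fun b => match b with
      | ⟨true⟩ => f'
      | ⟨false⟩ => pullback.snd f (openSubι Y V)
    let qi : ∀ b, Xi b ⟶ pullback f (openSubι Y V) := fun b => match b with
      | ⟨true⟩ => m
      | ⟨false⟩ => 𝟙 _
    have hYi : ∀ b, IsAlgSpace (Yi b) := by rintro ⟨_ | _⟩ <;> assumption
    have hXi : ∀ b, IsAlgSpace (Xi b) := by rintro ⟨_ | _⟩ <;> assumption
    have hcov : IsCover Q Yi gi := by
      refine ⟨?_, fun y => ⟨⟨false⟩, y, Points.map_id y⟩⟩
      rintro ⟨_ | _⟩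
      · exact hQ.of_open _ hYV hYV (by
          have := AlgSp.repWith_isMultiplicative (S := S) @IsOpenImmersion
          exact (RepWith @IsOpenImmersion).id_mem _)
      · exact hQk
    have hsq : ∀ b, IsPullback (qi b) (pi b) (pullback.snd f (openSubι Y V)) (gi b) := by
      rintro ⟨_ | _⟩
      · exact IsPullback.of_horiz_isIso ⟨by simp [qi, pi, gi]⟩
      · exact sqm
    exact (hP Yi gi hYV hYi hcov (pullback.snd f (openSubι Y V)) hXV Xi pi qi hXi hsq).1 hPV ⟨true⟩
  · intro hrange hPf'
    have hcov : IsCover Q (fun _ : PUnit.{u+1} => Y') (fun _ => k) := by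
      refine ⟨fun _ => hQk, fun y => ⟨PUnit.unit, ?_⟩⟩
      have hy : Points.map (openSubι Y V) y ∈ Set.range (Points.map (openSubι Y V)) := ⟨y, rfl⟩
      rw [range_map_openSubι Y V] at hy
      obtain ⟨y', hy'⟩ := (hrange ▸ hy : Points.map (openSubι Y V) y ∈ Set.range (Points.map g))
      obtain ⟨z, hz1, hz2⟩ := Groth.Agent.H52.exists_point_of_isPullback sqk y' y hy'
      exact ⟨z, hz2⟩
    exact (hP (fun _ : PUnit.{u+1} => Y') (fun _ => k) hYV (fun _ => hY') hcov
      (pullback.snd f (openSubι Y V)) hXV (fun _ => X') (fun _ => f') (fun _ => m) (fun _ => hX')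
      (fun _ => sqm)).2 (fun _ => hPf')

/-- `f` has `P` over the open set `V`: for every open immersion with image `V`, the base change has `P`. -/
def HasPOver (P : MorphismProperty (Sp S)) {X Y : AlgSp.Space S} (f : X ⟶ Y) (V : Set (Points Y.obj)) : Prop :=
  ∀ (W₀ X₀ : AlgSp.Space S) (j₀ : W₀ ⟶ Y) (j₀' : X₀ ⟶ X) (f₀ : X₀ ⟶ W₀),
    RepWith @IsOpenImmersion j₀.hom → Set.range (Points.map j₀.hom) = V →
    IsPullback j₀'.hom f₀.hom f.hom j₀.hom → P f₀.hom

theorem hasPOver_iff {X Y : AlgSp.Space S} (f : X ⟶ Y) {V : Set (Points Y.obj)} (hV : IsOpen V) :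
    HasPOver P f V ↔ P (pullback.snd f.hom (openSubι Y.obj V)) := by
  have hYV : IsAlgSpace (openSub Y.obj V) := isAlgSpace_openSub hV Y.property
  have sqV := IsPullback.of_hasPullback f.hom (openSubι Y.obj V)
  have hXV : IsAlgSpace (pullback f.hom (openSubι Y.obj V)) :=
    Groth.Agent.H52.isAlgSpace_of_isPullback sqV Y.property.diag X.property hYV
  constructor
  · intro h
    exact h ⟨_, hYV⟩ ⟨_, hXV⟩ (ObjectProperty.homMk (openSubι Y.obj V))
      (ObjectProperty.homMk (pullback.fst f.hom (openSubι Y.obj V)))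
      (ObjectProperty.homMk (pullback.snd f.hom (openSubι Y.obj V)))
      (repWith_isOpenImmersion_openSubι hV) (range_map_openSubι Y.obj V) sqV
  · intro h W₀ X₀ j₀ j₀' f₀ hj₀ hr sq
    exact (P_baseChange_of_P_restrict hQ hP X.property Y.property W₀.property X₀.property f.hom hV
      j₀.hom j₀'.hom f₀.hom sq (hQ.of_open _ W₀.property Y.property hj₀) hr.le).1 h

omit hQ hP in
/-- Restriction of the key lemma to two nested open subsets. -/
theorem exists_isPullback_restrict {X Y : Sp S} (f : X ⟶ Y) {V V' : Set (Points Y)} (hle : V' ⊆ V) :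
    ∃ (k : openSub Y V' ⟶ openSub Y V) (m : pullback f (openSubι Y V') ⟶ pullback f (openSubι Y V)),
      k ≫ openSubι Y V = openSubι Y V' ∧ IsPullback (𝟙 _) k (openSubι Y V') (openSubι Y V) ∧
      IsPullback m (pullback.snd f (openSubι Y V')) (pullback.snd f (openSubι Y V)) k := by
  obtain ⟨k, hk⟩ := exists_factor_openSubι V (openSubι Y V') (by rw [range_map_openSubι]; exact hle)
  have sqk : IsPullback (𝟙 _) k (openSubι Y V') (openSubι Y V) := by
    rw [← hk]
    exact isPullback_id_of_mono k (openSubι Y V)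
  have sqV := IsPullback.of_hasPullback f (openSubι Y V)
  have sqV' := IsPullback.of_hasPullback f (openSubι Y V')
  let m : pullback f (openSubι Y V') ⟶ pullback f (openSubι Y V) :=
    pullback.lift (pullback.fst _ _) (pullback.snd _ _ ≫ k) (by
      rw [Category.assoc, hk]; exact pullback.condition)
  have hm1 : m ≫ pullback.fst f (openSubι Y V) = pullback.fst _ _ := pullback.lift_fst _ _ _
  have hm2 : m ≫ pullback.snd f (openSubι Y V) = pullback.snd _ _ ≫ k := pullback.lift_snd _ _ _
  refine ⟨k, m, hk, sqk, ?_⟩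
  refine IsPullback.of_right ?_ hm2 sqV
  rw [hm1, hk]
  exact sqV'

/-- The largest open subset over which `f` has `P`, with its properties. -/
theorem exists_largest_open {X Y : AlgSp.Space S} (f : X ⟶ Y) :
    ∃ W : TopologicalSpace.Opens (Points Y.obj),
      HasPOver P f (W : Set (Points Y.obj)) ∧
      (∀ V : TopologicalSpace.Opens (Points Y.obj), HasPOver P f (V : Set (Points Y.obj)) → V ≤ W) ∧
      (∀ (Y' X' : AlgSp.Space S) (g : Y' ⟶ Y) (g' : X' ⟶ X) (f' : X' ⟶ Y'),
        Q g.hom → IsPullback g'.hom f'.hom f.hom g.hom → P f'.hom →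
        Set.range (Points.map g.hom) ⊆ (W : Set (Points Y.obj))) ∧
      (∀ (Y' X' : AlgSp.Space S) (g : Y' ⟶ Y) (g' : X' ⟶ X) (f' : X' ⟶ Y'),
        Q g.hom → IsPullback g'.hom f'.hom f.hom g.hom →
        ∀ W' : TopologicalSpace.Opens (Points Y'.obj),
          HasPOver P f' (W' : Set (Points Y'.obj)) →
          (∀ V' : TopologicalSpace.Opens (Points Y'.obj),
            HasPOver P f' (V' : Set (Points Y'.obj)) → V' ≤ W') →
          (W' : Set (Points Y'.obj)) = Points.map g.hom ⁻¹' (W : Set (Points Y.obj))) := by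
  have instBC := AlgSp.repWith_isStableUnderBaseChange (S := S) @IsOpenImmersion
  let W : TopologicalSpace.Opens (Points Y.obj) :=
    sSup {V | HasPOver P f (V : Set (Points Y.obj))}
  have hmax : ∀ V : TopologicalSpace.Opens (Points Y.obj),
      HasPOver P f (V : Set (Points Y.obj)) → V ≤ W := fun V hV => le_sSup hV
  -- (3)
  have h3 : ∀ (Y' X' : AlgSp.Space S) (g : Y' ⟶ Y) (g' : X' ⟶ X) (f' : X' ⟶ Y'),
      Q g.hom → IsPullback g'.hom f'.hom f.hom g.hom → P f'.hom →
      Set.range (Points.map g.hom) ⊆ (W : Set (Points Y.obj)) := by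
    intro Y' X' g g' f' hg sq hPf'
    have hopen : IsOpen (Set.range (Points.map g.hom)) :=
      hQ.isOpen_range g.hom Y'.property Y.property hg
    have h := (P_baseChange_of_P_restrict hQ hP X.property Y.property Y'.property X'.property f.hom hopen
      g.hom g'.hom f'.hom sq hg le_rfl).2 rfl hPf'
    exact hmax ⟨_, hopen⟩ ((hasPOver_iff hQ hP f hopen).2 h)
  -- (1)
  have h1 : HasPOver P f (W : Set (Points Y.obj)) := by
    rw [hasPOver_iff hQ hP f W.isOpen]
    have hYW : IsAlgSpace (openSub Y.obj (W : Set (Points Y.obj))) :=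
      isAlgSpace_openSub W.isOpen Y.property
    have sqW := IsPullback.of_hasPullback f.hom (openSubι Y.obj (W : Set (Points Y.obj)))
    have hXW : IsAlgSpace (pullback f.hom (openSubι Y.obj (W : Set (Points Y.obj)))) :=
      Groth.Agent.H52.isAlgSpace_of_isPullback sqW Y.property.diag X.property hYW
    obtain ⟨U, p, hpe, hps⟩ := hYW.atlas
    have hmem : ∀ u : ↥U.left, ∃ V : TopologicalSpace.Opens (Points Y.obj),
        HasPOver P f (V : Set (Points Y.obj)) ∧
          Points.ofPt (p ≫ openSubι Y.obj (W : Set (Points Y.obj))) u ∈ V := by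
      intro u
      have h0 : Points.ofPt (p ≫ openSubι Y.obj (W : Set (Points Y.obj))) u ∈ W :=
        ofPt_comp_openSubι_mem Y.obj _ p u
      obtain ⟨V, hV, huV⟩ := TopologicalSpace.Opens.mem_sSup.1 h0
      exact ⟨V, hV, huV⟩
    choose V hVP hVu using hmem
    have hVW : ∀ u, ((V u : TopologicalSpace.Opens (Points Y.obj)) : Set (Points Y.obj)) ⊆ W :=
      fun u => hmax (V u) (hVP u)
    have hdata := fun u => exists_isPullback_restrict f.hom (hVW u)
    choose k m hk sqk sqm using hdata
    have hYV : ∀ u, IsAlgSpace (openSub Y.obj ((V u : TopologicalSpace.Opens _) : Set (Points Y.obj))) :=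
      fun u => isAlgSpace_openSub (V u).isOpen Y.property
    have hXV : ∀ u, IsAlgSpace (pullback f.hom (openSubι Y.obj ((V u : TopologicalSpace.Opens _) : Set (Points Y.obj)))) :=
      fun u => Groth.Agent.H52.isAlgSpace_of_isPullback (IsPullback.of_hasPullback _ _) Y.property.diag
        X.property (hYV u)
    have hcov : IsCover Q (fun u : ↥U.left => openSub Y.obj ((V u : TopologicalSpace.Opens _) : Set (Points Y.obj))) k := by
      refine ⟨fun u => ?_, fun y => ?_⟩
      · refine hQ.of_open _ (hYV u) hYW ?_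
        exact MorphismProperty.of_isPullback (P := RepWith @IsOpenImmersion) (sqk u)
          (repWith_isOpenImmersion_openSubι (V u).isOpen)
      · obtain ⟨u, rfl⟩ := Groth.Agent.H52.surjective_ofPt_of_surjective p hps y
        refine ⟨u, ?_⟩
        have h2 : Points.map (openSubι Y.obj (W : Set (Points Y.obj))) (Points.ofPt p u) ∈
            Set.range (Points.map (openSubι Y.obj ((V u : TopologicalSpace.Opens _) : Set (Points Y.obj)))) := by
          rw [range_map_openSubι, Points.map_ofPt]
          exact hVu u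
        obtain ⟨y', hy'⟩ := h2
        obtain ⟨z, -, hz2⟩ := Groth.Agent.H52.exists_point_of_isPullback (sqk u) y' _ hy'
        exact ⟨z, hz2⟩
    exact (hP _ k hYW hYV hcov _ hXW _ (fun u => pullback.snd f.hom (openSubι Y.obj _)) m hXV sqm).2
      (fun u => (hasPOver_iff hQ hP f (V u).isOpen).1 (hVP u))
  refine ⟨W, h1, hmax, h3, ?_⟩
  -- (4)
  intro Y' X' g g' f' hg sq W' hW' hW'max
  have hPW : P (pullback.snd f.hom (openSubι Y.obj (W : Set (Points Y.obj)))) :=
    (hasPOver_iff hQ hP f W.isOpen).1 h1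
  -- general fact: restriction of `f'` over an open `V'` is the base change of `f` along `ι ≫ g`
  have hgen : ∀ V' : Set (Points Y'.obj), IsOpen V' →
      IsAlgSpace (openSub Y'.obj V') ∧ IsAlgSpace (pullback f'.hom (openSubι Y'.obj V')) ∧
      Q (openSubι Y'.obj V' ≫ g.hom) ∧
      IsPullback (pullback.fst f'.hom (openSubι Y'.obj V') ≫ g'.hom)
        (pullback.snd f'.hom (openSubι Y'.obj V')) f.hom (openSubι Y'.obj V' ≫ g.hom) := by
    intro V' hV'
    have hYV' : IsAlgSpace (openSub Y'.obj V') := isAlgSpace_openSub hV' Y'.property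
    have sqV' := IsPullback.of_hasPullback f'.hom (openSubι Y'.obj V')
    have hXV' : IsAlgSpace (pullback f'.hom (openSubι Y'.obj V')) :=
      Groth.Agent.H52.isAlgSpace_of_isPullback sqV' Y'.property.diag X'.property hYV'
    refine ⟨hYV', hXV', ?_, sqV'.paste_horiz sq⟩
    exact hQ.comp _ _ hYV' Y'.property Y.property
      (hQ.of_open _ hYV' Y'.property (repWith_isOpenImmersion_openSubι hV')) hg
  apply Set.Subset.antisymm
  · -- W' ⊆ g⁻¹ W
    intro y' hy'
    obtain ⟨hYV', hXV', hQ', sq'⟩ := hgen (W' : Set (Points Y'.obj)) W'.isOpen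
    have hPf'' := (hasPOver_iff hQ hP f' W'.isOpen).1 hW'
    have hsub := h3 ⟨_, hYV'⟩ ⟨_, hXV'⟩ (ObjectProperty.homMk (openSubι Y'.obj _ ≫ g.hom))
      (ObjectProperty.homMk (pullback.fst f'.hom (openSubι Y'.obj _) ≫ g'.hom))
      (ObjectProperty.homMk (pullback.snd f'.hom (openSubι Y'.obj _))) hQ' sq' hPf''
    have : y' ∈ Set.range (Points.map (openSubι Y'.obj (W' : Set (Points Y'.obj)))) := by
      rw [range_map_openSubι]; exact hy'
    obtain ⟨z, rfl⟩ := this
    show Points.map g.hom _ ∈ W
    apply hsub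
    exact ⟨z, Points.map_comp _ _ z⟩
  · -- g⁻¹ W ⊆ W'
    let V'' : TopologicalSpace.Opens (Points Y'.obj) :=
      ⟨Points.map g.hom ⁻¹' (W : Set (Points Y.obj)), W.isOpen.preimage (Points.continuous_map g.hom)⟩
    obtain ⟨hYV', hXV', hQ', sq'⟩ := hgen (V'' : Set (Points Y'.obj)) V''.isOpen
    have hsub : Set.range (Points.map (openSubι Y'.obj (V'' : Set (Points Y'.obj)) ≫ g.hom)) ⊆
        (W : Set (Points Y.obj)) := by
      rintro _ ⟨z, rfl⟩
      rw [Points.map_comp]
      exact map_openSubι_mem Y'.obj _ z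
    have hPf'' := (P_baseChange_of_P_restrict hQ hP X.property Y.property hYV' hXV' f.hom W.isOpen
      _ _ _ sq' hQ' hsub).1 hPW
    exact hW'max V'' ((hasPOver_iff hQ hP f' V''.isOpen).2 hPf'')

end

end Groth.Agent.H51
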