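import Groth.Agent.H51.Proper
import Groth.Agent.H51.LargestOpen
import Groth.Agent.H52.QC
import Groth.Agent.S10301
import Groth.Agent.S9906
import Groth.Prelude.Def_AlgSpInf

/-!
# Thickenings of algebraic spaces: topological invariance (helper51)
-/

set_option autoImplicit false
universe u
open CategoryTheory CategoryTheory.Limits AlgebraicGeometry
open AlgSp

namespace Groth.Agent.H51

variable {S : Scheme.{u}}

/-- A surjective closed immersion of schemes is a universal homeomorphism. -/
theorem thick_le_isUnivHomeo : (AlgSp.thick.{u}) ≤ FlatMor.IsUnivHomeo := by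
  intro X Y f hf
  intro X' Y' i₁ i₂ f' sq
  have h' : AlgSp.thick f' := MorphismProperty.of_isPullback sq.flip hf
  have h1 : IsClosedImmersion f' := h'.1
  have h2 : Surjective f' := h'.2
  show IsHomeomorph _
  have hemb : Topology.IsClosedEmbedding f' := f'.isClosedEmbedding
  exact (isHomeomorph_iff_isEmbedding_surjective).2 ⟨hemb.isEmbedding, f'.surjective⟩

/-- A thickening of algebraic spaces is a universal homeomorphism. -/
theorem isUnivHomeoMor_of_isThickMor {X X' : AlgSp.Space S} (i : X ⟶ X') (hi : IsThickMor i.hom) :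
    IsUnivHomeoMor i.hom :=
  (Groth.Agent.S10301.result i hi.1).1 (repWith_mono thick_le_isUnivHomeo hi)

theorem repWith_isClosedImmersion_of_isThickMor {F G : Sp S} {i : F ⟶ G} (hi : IsThickMor i) :
    RepWith @IsClosedImmersion i :=
  repWith_mono (fun _ _ _ h => h.1) hi

theorem repWith_surjective_of_isThickMor {F G : Sp S} {i : F ⟶ G} (hi : IsThickMor i) :
    RepWith @Surjective i :=
  repWith_mono (fun _ _ _ h => h.2) hi

theorem isSurjectiveMor_of_isThickMor {X X' : AlgSp.Space S} (i : X ⟶ X') (hi : IsThickMor i.hom) :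
    IsSurjectiveMor i.hom :=
  (Groth.Agent.S9906.result i hi.1).1 (repWith_surjective_of_isThickMor hi)

/-- A universal homeomorphism induces a homeomorphism on points. -/
theorem isHomeomorph_of_isUnivHomeoMor {F G : Sp S} (hG : IsAlgSpace G) {f : F ⟶ G}
    (hf : IsUnivHomeoMor f) : IsHomeomorph (Points.map f) :=
  hf hG (𝟙 G) (𝟙 F) f (IsPullback.of_horiz_isIso ⟨by simp⟩)

/-- `UnivSp` of a universal homeomorphism, for any property implied by being a homeomorphism on points. -/
theorem univSp_of_isUnivHomeoMor (Q : MorphismProperty (Sp S))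
    (hQ : ∀ ⦃A B : Sp S⦄ (a : A ⟶ B), IsHomeomorph (Points.map a) → Q a)
    {F G : Sp S} {f : F ⟶ G} (hf : IsUnivHomeoMor f) : UnivSp Q f :=
  fun _ _ hZ g fst snd sq => hQ snd (hf hZ g fst snd sq)

/-- Composition for `UnivSp`. -/
theorem univSp_comp (Q : MorphismProperty (Sp S))
    (hQ : ∀ ⦃A B C : Sp S⦄ (a : A ⟶ B) (b : B ⟶ C), Q a → Q b → Q (a ≫ b))
    {F G H : Sp S} (hG : IsAlgSpace G) (hH : IsAlgSpace H) {f : F ⟶ G}
    {g : G ⟶ H} (hf : UnivSp Q f) (hg : UnivSp Q g) : UnivSp Q (f ≫ g) := by
  intro Z Z' hZ k fst snd sq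
  have sqG := IsPullback.of_hasPullback g k
  have hGZ : IsAlgSpace (pullback g k) :=
    Groth.Agent.H52.isAlgSpace_of_isPullback sqG hH.diag hG hZ
  have h2 : Q (pullback.snd g k) := hg hZ k _ _ sqG
  have hw : (fst ≫ f) ≫ g = snd ≫ k := by rw [Category.assoc]; exact sq.w
  have sq1 : IsPullback fst (pullback.lift (fst ≫ f) snd hw) f (pullback.fst g k) := by
    refine IsPullback.of_bot ?_ (pullback.lift_fst _ _ _).symm sqG
    rw [pullback.lift_snd]
    exact sq
  have h1 : Q (pullback.lift (fst ≫ f) snd hw) := hf hGZ _ _ _ sq1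
  have e : snd = pullback.lift (fst ≫ f) snd hw ≫ pullback.snd g k := (pullback.lift_snd _ _ _).symm
  rw [e]
  exact hQ _ _ h1 h2

/-- Cancelling a surjective morphism on the source, for `UnivSp`. -/
theorem univSp_of_comp_surjective (Q : MorphismProperty (Sp S))
    (hQ : ∀ ⦃A B C : Sp S⦄ (l : A ⟶ B) (b : B ⟶ C), Function.Surjective (Points.map l) →
      Q (l ≫ b) → Q b)
    {X Y B : Sp S} (f : X ⟶ Y) (q : Y ⟶ B) (hp : UnivSp Q (f ≫ q))
    (hf : Function.Surjective (Points.map f)) : UnivSp Q q := by
  intro Z Z' hZ g fst snd sq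
  have sqp : IsPullback (pullback.fst (f ≫ q) g) (pullback.snd (f ≫ q) g) (f ≫ q) g :=
    IsPullback.of_hasPullback (f ≫ q) g
  have hcl : Q (pullback.snd (f ≫ q) g) := hp hZ g _ _ sqp
  let l : pullback (f ≫ q) g ⟶ Z' :=
    sq.lift (pullback.fst (f ≫ q) g ≫ f) (pullback.snd (f ≫ q) g)
      (by rw [Category.assoc]; exact sqp.w)
  have sql : IsPullback l (pullback.fst (f ≫ q) g) fst f :=
    Groth.Agent.H52.isPullback_lift_of_comp_left sq sqp l (sq.lift_fst _ _ _) (sq.lift_snd _ _ _)
  have hl : Function.Surjective (Points.map l) :=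
    Groth.Agent.H52.surjective_map_fst_of_isPullback sql hf
  have e : pullback.snd (f ≫ q) g = l ≫ snd := (sq.lift_snd _ _ _).symm
  rw [e] at hcl
  exact hQ l snd hl hcl

theorem isClosedMor_of_comp_surjective ⦃A B C : Sp S⦄ (l : A ⟶ B) (b : B ⟶ C)
    (hl : Function.Surjective (Points.map l)) (h : IsClosedMor (l ≫ b)) : IsClosedMor b := by
  intro K hK
  have e : Points.map b '' K = Points.map (l ≫ b) '' (Points.map l ⁻¹' K) := by
    have e2 : Points.map (l ≫ b) = Points.map b ∘ Points.map l := by
      funext x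
      rw [Function.comp_apply, ← Points.map_comp]
    rw [e2, Set.image_comp, Set.image_preimage_eq _ hl]
  rw [e]
  exact h _ (hK.preimage (Points.continuous_map l))

theorem isOpenMor_of_comp_surjective ⦃A B C : Sp S⦄ (l : A ⟶ B) (b : B ⟶ C)
    (hl : Function.Surjective (Points.map l)) (h : IsOpenMor (l ≫ b)) : IsOpenMor b := by
  intro K hK
  have e : Points.map b '' K = Points.map (l ≫ b) '' (Points.map l ⁻¹' K) := by
    have e2 : Points.map (l ≫ b) = Points.map b ∘ Points.map l := by
      funext x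
      rw [Function.comp_apply, ← Points.map_comp]
    rw [e2, Set.image_comp, Set.image_preimage_eq _ hl]
  rw [e]
  exact h _ (hK.preimage (Points.continuous_map l))

theorem injective_of_comp_surjective ⦃A B C : Sp S⦄ (l : A ⟶ B) (b : B ⟶ C)
    (hl : Function.Surjective (Points.map l)) (h : Function.Injective (Points.map (l ≫ b))) :
    Function.Injective (Points.map b) := by
  have e2 : Points.map (l ≫ b) = Points.map b ∘ Points.map l := by
    funext x
    rw [Function.comp_apply, ← Points.map_comp]
  rw [e2] at h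
  exact Function.Injective.of_comp_right h hl

theorem isClosedMor_comp ⦃A B C : Sp S⦄ (a : A ⟶ B) (b : B ⟶ C) (ha : IsClosedMor a)
    (hb : IsClosedMor b) : IsClosedMor (a ≫ b) := by
  have e2 : Points.map (a ≫ b) = Points.map b ∘ Points.map a := by
    funext x
    rw [Function.comp_apply, ← Points.map_comp]
  show IsClosedMap _
  rw [e2]
  exact IsClosedMap.comp hb ha

theorem isOpenMor_comp ⦃A B C : Sp S⦄ (a : A ⟶ B) (b : B ⟶ C) (ha : IsOpenMor a)
    (hb : IsOpenMor b) : IsOpenMor (a ≫ b) := by
  have e2 : Points.map (a ≫ b) = Points.map b ∘ Points.map a := by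
    funext x
    rw [Function.comp_apply, ← Points.map_comp]
  show IsOpenMap _
  rw [e2]
  exact IsOpenMap.comp hb ha

theorem injective_comp ⦃A B C : Sp S⦄ (a : A ⟶ B) (b : B ⟶ C)
    (ha : Function.Injective (Points.map a)) (hb : Function.Injective (Points.map b)) :
    Function.Injective (Points.map (a ≫ b)) := by
  have e2 : Points.map (a ≫ b) = Points.map b ∘ Points.map a := by
    funext x
    rw [Function.comp_apply, ← Points.map_comp]
  rw [e2]
  exact hb.comp ha

end Groth.Agent.H51
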