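import Groth.Agent.H51.ZarGlueRep
import Groth.Agent.H52.FibProd

/-!
# Representability with a target-local property can be tested on affine schemes (helper51)
-/

set_option autoImplicit false
universe u
open CategoryTheory CategoryTheory.Limits AlgebraicGeometry Opposite
open AlgSp

namespace Groth.Agent.H51.ZarGlue

variable {S : Scheme.{u}}

/-- If the base change of `f` to every affine scheme is representable with `Q`, for `Q` local on the target, then `f` is
representable with `Q`. -/
theorem repWith_of_affine_test (Q : MorphismProperty Scheme.{u}) [IsZariskiLocalAtTarget Q]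
    {F G : Sp S} (f : F ⟶ G)
    (hf : ∀ ⦃Z : Over S⦄, IsAffine Z.left → ∀ (g : (yon S).obj Z ⟶ G),
      ∃ (W : Over S) (i : W ⟶ Z) (fst : (yon S).obj W ⟶ F),
        IsPullback fst ((yon S).map i) f g ∧ Q i.left) : RepWith Q f := by
  have : Q.RespectsIso := inferInstance
  have : (Q.inverseImage (Over.forget S)).RespectsIso := inferInstance
  refine MorphismProperty.relative.of_exists (fun T g => ?_)
  let 𝒰 : Scheme.OpenCover.{u} T.left := T.left.affineCover
  have hx := fun a => hf (Z := coverOver T 𝒰 a)
    (inferInstanceAs (IsAffine (𝒰.X a))) ((yon S).map (coverOverι T 𝒰 a) ≫ g)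
  choose Wa i fst sqa hQ using hx
  have hcomm : ∀ a, fst a ≫ f = (yon S).map (i a ≫ coverOverι T 𝒰 a) ≫ g := by
    intro a
    rw [(sqa a).w, Functor.map_comp, Category.assoc]
  let φ : ∀ a, (yon S).obj (Wa a) ⟶ pullback f g := fun a =>
    pullback.lift (fst a) ((yon S).map (i a ≫ coverOverι T 𝒰 a)) (hcomm a)
  have sq : ∀ a, IsPullback (φ a) ((yon S).map (i a)) (pullback.snd f g)
      ((yon S).map (coverOverι T 𝒰 a)) := by
    intro a
    exact Groth.Agent.H52.isPullback_lift_of_comp_right (IsPullback.of_hasPullback f g) (sqa a)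
      (φ a) (pullback.lift_fst _ _ _) (by rw [pullback.lift_snd, Functor.map_comp])
  obtain ⟨G', e, snd, c, he, hc, hsq⟩ :=
    exists_iso_yon_of_openCover (pullback.snd f g) 𝒰 Wa i φ sq
  refine ⟨G', e.hom ≫ pullback.fst f g, snd, ?_, ?_⟩
  · rw [← he]
    exact IsPullback.of_iso (IsPullback.of_hasPullback f g) e.symm (Iso.refl _) (Iso.refl _)
      (Iso.refl _) (by simp) (by simp) (by simp) (by simp)
  · show Q snd.left
    exact of_openCover_of_isPullback Q snd.left 𝒰
      (fun a => (c a).left) (fun a => (i a).left) hsq hQ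

end Groth.Agent.H51.ZarGlue
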