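import Groth.Agent.H52.FibProd
import Groth.Agent.H52.Points
import Groth.Agent.S9962
import Groth.Prelude.Def_AlgSpCov

/-!
# Open and universally open morphisms are fppf local on the source (helper51)
-/

universe u

open CategoryTheory CategoryTheory.Limits AlgebraicGeometry Opposite AlgSp MorphismProperty

namespace Groth.Agent.H51

variable {S : Scheme.{u}}

theorem isOpenMap_of_jointly_surjective {ι : Type*} {α β : Type*} {γ : ι → Type*}
    [TopologicalSpace α] [TopologicalSpace β] [∀ i, TopologicalSpace (γ i)] (p : ∀ i, γ i → α)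
    (hp : ∀ i, Continuous (p i)) (hs : ∀ a, ∃ i c, p i c = a) (s : α → β)
    (h : ∀ i, IsOpenMap (s ∘ p i)) : IsOpenMap s := by
  intro W hW
  have e : s '' W = ⋃ i, (s ∘ p i) '' (p i ⁻¹' W) := by
    ext b
    simp only [Set.mem_image, Set.mem_iUnion, Set.mem_preimage, Function.comp_apply]
    constructor
    · rintro ⟨a, ha, rfl⟩
      obtain ⟨i, c, rfl⟩ := hs a
      exact ⟨i, c, ha, rfl⟩
    · rintro ⟨i, c, hc, rfl⟩
      exact ⟨p i c, hc, rfl⟩
  rw [e]
  exact isOpen_iUnion fun i => h i _ (hW.preimage (hp i))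

/-- Composition of universally open morphisms of algebraic spaces. -/
theorem isUnivOpenMor_comp {F G H : Sp S} (hG : IsAlgSpace G) (hH : IsAlgSpace H) {f : F ⟶ G}
    {g : G ⟶ H} (hf : IsUnivOpenMor f) (hg : IsUnivOpenMor g) :
    IsUnivOpenMor (f ≫ g) := by
  intro Z Z' hZ k fst snd sq
  have sqG := IsPullback.of_hasPullback g k
  have hGZ : IsAlgSpace (pullback g k) :=
    Groth.Agent.H52.isAlgSpace_of_isPullback sqG hH.diag hG hZ
  have h2 : IsOpenMap (Points.map (pullback.snd g k)) := hg hZ k _ _ sqG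
  have hw : (fst ≫ f) ≫ g = snd ≫ k := by rw [Category.assoc]; exact sq.w
  have sq1 : IsPullback fst (pullback.lift (fst ≫ f) snd hw) f (pullback.fst g k) := by
    refine IsPullback.of_bot ?_ (pullback.lift_fst _ _ _).symm sqG
    rw [pullback.lift_snd]
    exact sq
  have h1 : IsOpenMap (Points.map (pullback.lift (fst ≫ f) snd hw)) := hf hGZ _ _ _ sq1
  have e : Points.map snd =
      Points.map (pullback.snd g k) ∘ Points.map (pullback.lift (fst ≫ f) snd hw) := by
    funext x
    rw [Function.comp_apply, ← Points.map_comp, pullback.lift_snd]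
  show IsOpenMap (Points.map snd)
  rw [e]
  exact h2.comp h1

theorem isUnivOpenMor_of_fppf {X Y : Sp S} (hX : IsAlgSpace X) (hY : IsAlgSpace Y) (f : X ⟶ Y)
    (h : LocP @Flat f ∧ LocP @LocallyOfFinitePresentation f) : IsUnivOpenMor f :=
  Groth.Agent.S9962.result (X := ⟨X, hX⟩) (Y := ⟨Y, hY⟩) (ObjectProperty.homMk f) h.1 h.2

theorem isOpenMor_of_isUnivOpenMor {X Y : Sp S} (hY : IsAlgSpace Y) (f : X ⟶ Y)
    (h : IsUnivOpenMor f) : IsOpenMor f :=
  h hY (𝟙 Y) (𝟙 X) f (IsPullback.of_horiz_isIso ⟨by simp⟩)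

theorem isLocalOnSource_fppf_isOpenMor :
    IsLocalOnSource (IsFppfCover (S := S)) IsOpenMor := by
  intro ι X Xi g hX hXi hg Y f hY
  constructor
  · intro hf i
    have h1 : IsOpenMor (g i) :=
      isOpenMor_of_isUnivOpenMor hX (g i) (isUnivOpenMor_of_fppf (hXi i) hX (g i) (hg.1 i))
    have e : Points.map (g i ≫ f) = Points.map f ∘ Points.map (g i) := by
      funext x
      rw [Function.comp_apply, ← Points.map_comp]
    show IsOpenMap (Points.map (g i ≫ f))
    rw [e]
    exact IsOpenMap.comp hf h1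
  · intro h
    refine isOpenMap_of_jointly_surjective (fun i => Points.map (g i))
      (fun i => Points.continuous_map _) (fun x => ?_) _ (fun i => ?_)
    · obtain ⟨i, ξ, hξ⟩ := hg.2 x
      exact ⟨i, ξ, hξ⟩
    · have e : Points.map f ∘ Points.map (g i) = Points.map (g i ≫ f) := by
        funext x
        rw [Function.comp_apply, ← Points.map_comp]
      rw [e]
      exact h i

theorem isLocalOnSource_fppf_isUnivOpenMor :
    IsLocalOnSource (IsFppfCover (S := S)) IsUnivOpenMor := by
  intro ι X Xi g hX hXi hg Y f hY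
  constructor
  · intro hf i
    exact isUnivOpenMor_comp hX hY (isUnivOpenMor_of_fppf (hXi i) hX (g i) (hg.1 i)) hf
  · intro h Z Z' hZ k fst snd sq
    have sqi := fun i => IsPullback.of_hasPullback (g i) fst
    refine isOpenMap_of_jointly_surjective (fun i => Points.map (pullback.snd (g i) fst))
      (fun i => Points.continuous_map _) (fun z' => ?_) _ (fun i => ?_)
    · obtain ⟨i, ξ, hξ⟩ := hg.2 (Points.map fst z')
      obtain ⟨w, -, hw⟩ := Groth.Agent.H52.exists_point_of_isPullback (sqi i) ξ z' hξ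
      exact ⟨i, w, hw⟩
    · have e : Points.map snd ∘ Points.map (pullback.snd (g i) fst) =
          Points.map (pullback.snd (g i) fst ≫ snd) := by
        funext x
        rw [Function.comp_apply, ← Points.map_comp]
      rw [e]
      exact h i hZ k (pullback.fst (g i) fst) (pullback.snd (g i) fst ≫ snd) ((sqi i).paste_vert sq)

end Groth.Agent.H51
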