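import Groth.Agent.H52.Fpqc
import Mathlib.AlgebraicGeometry.Morphisms.LocalFlatDescent

/-!
# Descent of properties of morphisms of schemes along standard fpqc coverings (helper51)
-/

universe u

open CategoryTheory CategoryTheory.Limits AlgebraicGeometry Opposite

namespace Groth.Agent.H51

/-- A property of morphisms of schemes that is Zariski local on the target and descends along fpqc morphisms descends along
a standard fpqc covering (finitely many flat morphisms from affine schemes, jointly surjective onto an affine scheme). -/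
theorem descend_of_flat_family (P : MorphismProperty Scheme.{u}) [IsZariskiLocalAtTarget P]
    [P.DescendsAlong (@Surjective ⊓ @Flat ⊓ @QuasiCompact)]
    {Z U : Scheme.{u}} [IsAffine Z] (k : U ⟶ Z) {σ : Type} [Finite σ]
    (W : σ → Scheme.{u}) [∀ j, IsAffine (W j)] (c : ∀ j, W j ⟶ Z) [∀ j, Flat (c j)]
    (hs : ∀ z : ↥Z, ∃ j w, c j w = z)
    (h : ∀ j, ∃ (T : Scheme.{u}) (fst : T ⟶ U) (snd : T ⟶ W j), IsPullback fst snd k (c j) ∧ P snd) :
    P k := by
  let p : ∐ W ⟶ Z := Sigma.desc c
  have hp1 : Surjective p := ⟨fun z => by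
    obtain ⟨j, w, rfl⟩ := hs z
    exact ⟨Sigma.ι W j w, by rw [← Scheme.Hom.comp_apply, Sigma.ι_desc]⟩⟩
  have hp2 : QuasiCompact p := (HasAffineProperty.iff_of_isAffine (P := @QuasiCompact)).mpr inferInstance
  have hp3 : Flat p := by
    rw [IsZariskiLocalAtSource.iff_of_openCover (P := @Flat) (sigmaOpenCover W)]
    intro j
    change Flat (Sigma.ι W j ≫ Sigma.desc c)
    rw [Sigma.ι_desc]
    infer_instance
  refine MorphismProperty.of_pullback_fst_of_descendsAlong
    (Q := @Surjective ⊓ @Flat ⊓ @QuasiCompact) (f := p) (g := k) ⟨⟨hp1, hp3⟩, hp2⟩ ?_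
  rw [IsZariskiLocalAtTarget.iff_of_openCover (P := P) (sigmaOpenCover W)]
  intro j
  obtain ⟨T, fst, snd, sq, hsnd⟩ := h j
  have sq1 := IsPullback.of_hasPullback (pullback.fst p k) ((sigmaOpenCover W).f j)
  have sq2 : IsPullback (pullback.snd p k) (pullback.fst p k) k p := (IsPullback.of_hasPullback p k).flip
  have big := sq1.paste_horiz sq2
  have e : (sigmaOpenCover W).f j ≫ p = c j := Sigma.ι_desc _ _
  rw [e] at big
  -- two pullbacks of the same cospan
  have hiso : pullback.snd (pullback.fst p k) ((sigmaOpenCover W).f j) =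
      (big.isoIsPullback _ _ sq).hom ≫ snd := (IsPullback.isoIsPullback_hom_snd _ _ big sq).symm
  change P (pullback.snd (pullback.fst p k) ((sigmaOpenCover W).f j))
  rw [hiso]
  exact (P.cancel_left_of_respectsIso (big.isoIsPullback _ _ sq).hom snd).mpr hsnd

end Groth.Agent.H51
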