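import Groth.Agent.H51.Thick
import Groth.Agent.H52.SepBC
import Groth.Agent.S9901
import Groth.Agent.S9937
import Groth.Agent.S9912
import Groth.Agent.S9915
import Groth.Agent.S9936
import Groth.Agent.S10280
import Groth.Agent.S10279

/-!
# Thickenings of algebraic spaces: separation (helper51)
-/

set_option autoImplicit false
universe u
open CategoryTheory CategoryTheory.Limits AlgebraicGeometry
open AlgSp

namespace Groth.Agent.H51

variable {S : Scheme.{u}}

/-- Base change of a property of the diagonal. -/
theorem repWith_diagonal_of_isPullback (P : MorphismProperty Scheme.{u}) {X Y X' Y' : Sp S}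
    {f : X ⟶ Y} {p : Y' ⟶ Y} {u : X' ⟶ X} {f' : X' ⟶ Y'} (sq : IsPullback u f' f p)
    (h : RepWith P (pullback.diagonal f)) : RepWith P (pullback.diagonal f') := by
  have inst := AlgSp.repWith_isStableUnderBaseChange (S := S) P
  have sqd := Groth.Agent.H52.isPullback_diagonal_of_isPullback sq
    (pullback.map f' f' f f u u p sq.w.symm sq.w.symm) (pullback.lift_fst _ _ _)
    (pullback.lift_snd _ _ _)
  exact MorphismProperty.of_isPullback sqd.flip h

/-- A property of the diagonal passes to a factor through a monomorphism. -/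
theorem repWith_diagonal_of_comp_mono (P : MorphismProperty Scheme.{u}) {X Y Y' : Sp S}
    (f : X ⟶ Y) (j : Y ⟶ Y') [Mono j] (h : RepWith P (pullback.diagonal (f ≫ j))) :
    RepWith P (pullback.diagonal f) :=
  repWith_diagonal_of_isPullback P (isPullback_id_of_mono f j) h

/-- Composition for a property of the diagonal, for morphisms of algebraic spaces. -/
theorem isSeparatedMor_comp {X Y Z : AlgSp.Space S} (f : X ⟶ Y) (g : Y ⟶ Z)
    (hf : IsSeparatedMor f.hom) (hg : IsSeparatedMor g.hom) : IsSeparatedMor (f.hom ≫ g.hom) := by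
  have inst2 := AlgSp.repWith_isMultiplicative (S := S) @IsClosedImmersion
  show RepWith @IsClosedImmersion (pullback.diagonal (f.hom ≫ g.hom))
  rw [diagonal_comp_eq]
  exact (RepWith @IsClosedImmersion).comp_mem _ _ hf
    ((Groth.Agent.S9901.result f f g).2.2.2.2.2.1 hg)

theorem isQuasiSeparatedMor_comp {X Y Z : AlgSp.Space S} (f : X ⟶ Y) (g : Y ⟶ Z)
    (hf : IsQuasiSeparatedMor f.hom) (hg : IsQuasiSeparatedMor g.hom) :
    IsQuasiSeparatedMor (f.hom ≫ g.hom) := by
  have inst2 := AlgSp.repWith_isMultiplicative (S := S) @QuasiCompact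
  show RepWith @QuasiCompact (pullback.diagonal (f.hom ≫ g.hom))
  rw [diagonal_comp_eq]
  exact (RepWith @QuasiCompact).comp_mem _ _ hf
    ((Groth.Agent.S9901.result f f g).2.2.2.2.2.2 hg)

/-- The diagonal of `f'` precomposed with `i`. -/
theorem comp_diagonal_eq {C : Type*} [Category C] [HasPullbacks C] {X X' Y' : C} (i : X ⟶ X')
    (f' : X' ⟶ Y') :
    i ≫ pullback.diagonal f' = pullback.diagonal (i ≫ f') ≫
      pullback.map (i ≫ f') (i ≫ f') f' f' i i (𝟙 Y') ((Category.comp_id _).trans rfl)
        ((Category.comp_id _).trans rfl) := by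
  apply pullback.hom_ext
  · rw [Category.assoc, pullback.diagonal_fst, Category.comp_id, Category.assoc, pullback.lift_fst,
      pullback.diagonal_fst_assoc]
  · rw [Category.assoc, pullback.diagonal_snd, Category.comp_id, Category.assoc, pullback.lift_snd,
      pullback.diagonal_snd_assoc]

end Groth.Agent.H51
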