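import Groth.Prelude.Def_AlgSpGpd

/-! Generalized-element calculus for groupoids in fppf sheaves `AlgSp.GroupoidSp` (helper51). -/

set_option autoImplicit false
universe u
open CategoryTheory CategoryTheory.Limits AlgebraicGeometry
open AlgSp

namespace Groth.Agent.H51.Gpd

variable {S : Scheme.{u}} {B : AlgSp.Sp S} (G : AlgSp.GroupoidSp B)

/-- composition of `T`-valued arrows -/
noncomputable def comp {T : AlgSp.Sp S} (α β : T ⟶ G.R) (h : α ≫ G.s = β ≫ G.t) : T ⟶ G.R :=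
  pullback.lift α β h ≫ G.c

theorem comp_congr {T : AlgSp.Sp S} {α α' β β' : T ⟶ G.R} (hα : α = α') (hβ : β = β')
    (h : α ≫ G.s = β ≫ G.t) (h' : α' ≫ G.s = β' ≫ G.t) : comp G α β h = comp G α' β' h' := by
  subst hα hβ; rfl

theorem precomp {T T' : AlgSp.Sp S} (u : T' ⟶ T) (α β : T ⟶ G.R) (h : α ≫ G.s = β ≫ G.t) :
    u ≫ comp G α β h = comp G (u ≫ α) (u ≫ β) (by rw [Category.assoc, h, Category.assoc]) := by
  unfold comp
  rw [← Category.assoc]
  congr 1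
  apply pullback.hom_ext
  · rw [Category.assoc, pullback.lift_fst, pullback.lift_fst]
  · rw [Category.assoc, pullback.lift_snd, pullback.lift_snd]

theorem c_eq : G.c = comp G (pullback.fst G.s G.t) (pullback.snd G.s G.t) pullback.condition := by
  unfold comp
  have : pullback.lift (pullback.fst G.s G.t) (pullback.snd G.s G.t) pullback.condition = 𝟙 _ := by
    apply pullback.hom_ext
    · rw [pullback.lift_fst, Category.id_comp]
    · rw [pullback.lift_snd, Category.id_comp]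
  rw [this, Category.id_comp]

theorem lift_c {T : AlgSp.Sp S} (α β : T ⟶ G.R) (h : α ≫ G.s = β ≫ G.t) :
    pullback.lift α β h ≫ G.c = comp G α β h := rfl

theorem comp_s {T : AlgSp.Sp S} (α β : T ⟶ G.R) (h : α ≫ G.s = β ≫ G.t) :
    comp G α β h ≫ G.s = β ≫ G.s := G.comp_s α β h

theorem comp_t {T : AlgSp.Sp S} (α β : T ⟶ G.R) (h : α ≫ G.s = β ≫ G.t) :
    comp G α β h ≫ G.t = α ≫ G.t := G.comp_t α β h

theorem assoc {T : AlgSp.Sp S} (α β γ : T ⟶ G.R) (h₁ : α ≫ G.s = β ≫ G.t)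
    (h₂ : β ≫ G.s = γ ≫ G.t) :
    comp G (comp G α β h₁) γ ((comp_s G α β h₁).trans h₂) =
      comp G α (comp G β γ h₂) (h₁.trans (comp_t G β γ h₂).symm) := G.assoc α β γ h₁ h₂

/-- `α ∘ e = α` for any identity arrow given as `u ≫ e` with `u = s α` -/
theorem comp_e {T : AlgSp.Sp S} (α : T ⟶ G.R) (u : T ⟶ G.U) (hu : u = α ≫ G.s) :
    comp G α (u ≫ G.e) (by rw [Category.assoc, G.e_t, Category.comp_id, hu]) = α := by
  subst hu
  exact (comp_congr G rfl (Category.assoc _ _ _) _ _).trans (G.comp_e α)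

theorem e_comp {T : AlgSp.Sp S} (α : T ⟶ G.R) (u : T ⟶ G.U) (hu : u = α ≫ G.t) :
    comp G (u ≫ G.e) α (by rw [Category.assoc, G.e_s, Category.comp_id, hu]) = α := by
  subst hu
  exact (comp_congr G (Category.assoc _ _ _) rfl _ _).trans (G.e_comp α)

theorem comp_i {T : AlgSp.Sp S} (α : T ⟶ G.R) :
    comp G α (α ≫ G.i) (by rw [Category.assoc, G.i_t]) = (α ≫ G.t) ≫ G.e :=
  (G.comp_i α).trans (Category.assoc _ _ _).symm

theorem i_comp {T : AlgSp.Sp S} (α : T ⟶ G.R) :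
    comp G (α ≫ G.i) α (by rw [Category.assoc, G.i_s]) = (α ≫ G.s) ≫ G.e :=
  (G.i_comp α).trans (Category.assoc _ _ _).symm

/-- `α⁻¹ ∘ (α ∘ β) = β` -/
theorem i_comp_comp {T : AlgSp.Sp S} (α β : T ⟶ G.R) (h : α ≫ G.s = β ≫ G.t) :
    comp G (α ≫ G.i) (comp G α β h) (by rw [Category.assoc, G.i_s, comp_t]) = β := by
  rw [← assoc G (α ≫ G.i) α β (by rw [Category.assoc, G.i_s]) h]
  exact (comp_congr G (i_comp G α) rfl _ _).trans (e_comp G β (α ≫ G.s) h)

/-- `α ∘ (α⁻¹ ∘ β) = β` -/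
theorem comp_i_comp {T : AlgSp.Sp S} (α β : T ⟶ G.R) (h : α ≫ G.t = β ≫ G.t) :
    comp G α (comp G (α ≫ G.i) β (by rw [Category.assoc, G.i_s, h]))
      (by rw [comp_t, Category.assoc, G.i_t]) = β := by
  rw [← assoc G α (α ≫ G.i) β (by rw [Category.assoc, G.i_t]) (by rw [Category.assoc, G.i_s, h])]
  exact (comp_congr G (comp_i G α) rfl _ _).trans (e_comp G β (α ≫ G.t) h)

/-- `(α ∘ β) ∘ β⁻¹ = α` -/
theorem comp_comp_i {T : AlgSp.Sp S} (α β : T ⟶ G.R) (h : α ≫ G.s = β ≫ G.t) :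
    comp G (comp G α β h) (β ≫ G.i) (by rw [comp_s, Category.assoc, G.i_t]) = α := by
  rw [assoc G α β (β ≫ G.i) h (by rw [Category.assoc, G.i_t])]
  exact (comp_congr G rfl (comp_i G β) _ _).trans (comp_e G α (β ≫ G.t) h.symm)

/-- `(α ∘ β⁻¹) ∘ β = α` -/
theorem comp_i_comp' {T : AlgSp.Sp S} (α β : T ⟶ G.R) (h : α ≫ G.s = β ≫ G.s) :
    comp G (comp G α (β ≫ G.i) (by rw [Category.assoc, G.i_t, h])) β
      (by rw [comp_s, Category.assoc, G.i_s]) = α := by
  rw [assoc G α (β ≫ G.i) β (by rw [Category.assoc, G.i_t, h]) (by rw [Category.assoc, G.i_s])]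
  exact (comp_congr G rfl (i_comp G β) _ _).trans (comp_e G α (β ≫ G.s) h.symm)

end Groth.Agent.H51.Gpd
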