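import Groth.Agent.H51.FpqcIso
import Groth.Agent.H52.FibProd
import Groth.Agent.S10505
import Groth.Agent.S10506

/-!
# Etale surjective morphisms are fpqc covers; right-cancellation of pullback squares (helper51)
-/

universe u

open CategoryTheory CategoryTheory.Limits AlgebraicGeometry Opposite AlgSp MorphismProperty

namespace Groth.Agent.H51

variable {S : Scheme.{u}}

theorem locP_mono {P Q : MorphismProperty Scheme.{u}} (hle : P ≤ Q) {F G : Sp S} {f : F ⟶ G}
    (hf : LocP P f) : LocP Q f :=
  fun _ _ a b h ha hb comm => hle _ (hf a b h ha hb comm)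

/-- A surjective etale morphism of algebraic spaces is (as a one-element family) an fpqc cover. -/
theorem isFpqcCover_of_etale_surjective {B D : AlgSp.Space S} (bd : B ⟶ D)
    (het : IsEtaleMor bd.hom) (hsurj : IsSurjectiveMor bd.hom) :
    IsFpqcCover (fun _ : PUnit.{u+1} => B.obj) (fun _ => bd.hom) := by
  have hle := locP_etale_of_isEtaleMor bd.hom het
  refine Groth.Agent.S10505.result D (fun _ : PUnit.{u+1} => B) (fun _ => bd) ⟨fun _ => ⟨?_, ?_⟩, ?_⟩
  · exact locP_mono (fun _ _ f (hf : Etale f) => (inferInstance : Flat f)) hle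
  · exact locP_mono (fun _ _ f (hf : Etale f) => (inferInstance : LocallyOfFinitePresentation f)) hle
  · intro x
    exact ⟨PUnit.unit, hsurj x⟩

/-- Right cancellation of cartesian squares along an etale surjective base change. -/
theorem isPullback_of_isPullback_comp_of_surjective_etale {A B C D E F : AlgSp.Space S} (ac : A ⟶ C)
    (ab : A ⟶ B) (cd : C ⟶ D) (bd : B ⟶ D) (ce : C ⟶ E) (df : D ⟶ F) (ef : E ⟶ F)
    (hl : IsPullback ac.hom ab.hom cd.hom bd.hom) (hcomm : cd ≫ df = ce ≫ ef)
    (hout : IsPullback (ac ≫ ce).hom ab.hom ef.hom (bd ≫ df).hom) (hsurj : IsSurjectiveMor bd.hom)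
    (het : IsEtaleMor bd.hom) : IsPullback ce.hom cd.hom ef.hom df.hom := by
  have hcomm' : ce.hom ≫ ef.hom = cd.hom ≫ df.hom := by
    have := congrArg (fun m => m.hom) hcomm
    exact this.symm
  -- P = E ×_F D
  let P : Sp S := pullback ef.hom df.hom
  have hPsq : IsPullback (pullback.fst ef.hom df.hom) (pullback.snd ef.hom df.hom) ef.hom df.hom :=
    IsPullback.of_hasPullback _ _
  have hP : IsAlgSpace P :=
    Groth.Agent.H52.isAlgSpace_of_isPullback hPsq F.property.diag E.property D.property
  let k : C.obj ⟶ P := pullback.lift ce.hom cd.hom hcomm'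
  -- P' = P ×_D B
  let P' : Sp S := pullback (pullback.snd ef.hom df.hom) bd.hom
  have hP'sq : IsPullback (pullback.fst (pullback.snd ef.hom df.hom) bd.hom)
      (pullback.snd (pullback.snd ef.hom df.hom) bd.hom) (pullback.snd ef.hom df.hom) bd.hom :=
    IsPullback.of_hasPullback _ _
  have hP' : IsAlgSpace P' :=
    Groth.Agent.H52.isAlgSpace_of_isPullback hP'sq D.property.diag hP B.property
  -- the map A ⟶ P'
  have hk2 : k ≫ pullback.snd ef.hom df.hom = cd.hom := pullback.lift_snd _ _ _
  have hk1 : k ≫ pullback.fst ef.hom df.hom = ce.hom := pullback.lift_fst _ _ _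
  let k' : A.obj ⟶ P' := pullback.lift (ac.hom ≫ k) ab.hom (by
    rw [Category.assoc, hk2]; exact hl.w)
  have hk'1 : k' ≫ pullback.fst _ _ = ac.hom ≫ k := pullback.lift_fst _ _ _
  have hk'2 : k' ≫ pullback.snd _ _ = ab.hom := pullback.lift_snd _ _ _
  -- the square A → C, A → P', C → P, P' → P is cartesian
  have sqk : IsPullback ac.hom k' k (pullback.fst (pullback.snd ef.hom df.hom) bd.hom) := by
    refine IsPullback.of_bot ?_ hk'1.symm hP'sq
    rw [hk'2, hk2]
    exact hl
  -- P' is also the pullback E ×_F B, so k' is an isomorphism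
  have hbig : IsPullback (pullback.fst (pullback.snd ef.hom df.hom) bd.hom ≫ pullback.fst ef.hom df.hom)
      (pullback.snd (pullback.snd ef.hom df.hom) bd.hom) ef.hom (bd.hom ≫ df.hom) :=
    hP'sq.paste_horiz hPsq
  have hk'iso : IsIso k' := by
    have hout' : IsPullback (ac.hom ≫ ce.hom) ab.hom ef.hom (bd.hom ≫ df.hom) := hout
    have : k' = (hout'.isoIsPullback _ _ hbig).hom := by
      apply hbig.hom_ext
      · rw [IsPullback.isoIsPullback_hom_fst, ← Category.assoc, hk'1, Category.assoc, hk1]
      · rw [IsPullback.isoIsPullback_hom_snd, hk'2]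
    rw [this]
    infer_instance
  -- fpqc cover
  let Psp : AlgSp.Space S := ⟨P, hP⟩
  let P'sp : AlgSp.Space S := ⟨P', hP'⟩
  have hcov0 := isFpqcCover_of_etale_surjective bd het hsurj
  have hcov : IsFpqcCover (fun _ : PUnit.{u+1} => P') (fun _ => pullback.fst (pullback.snd ef.hom df.hom) bd.hom) :=
    Groth.Agent.S10506.result (X := D) (X' := Psp) (ObjectProperty.homMk (pullback.snd ef.hom df.hom))
      (fun _ : PUnit.{u+1} => B) (fun _ => bd) (fun _ => P'sp)
      (fun _ => ObjectProperty.homMk (pullback.fst (pullback.snd ef.hom df.hom) bd.hom))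
      (fun _ => ObjectProperty.homMk (pullback.snd (pullback.snd ef.hom df.hom) bd.hom))
      (fun _ => hP'sq) hcov0
  have hkiso : IsIso k :=
    (isLocalOnBase_fpqc_isomorphisms (fun _ : PUnit.{u+1} => P') (fun _ => pullback.fst _ _) hP (fun _ => hP')
      hcov k C.property (fun _ => A.obj) (fun _ => k') (fun _ => ac.hom) (fun _ => A.property)
      (fun _ => sqk)).2 (fun _ => hk'iso)
  exact IsPullback.of_iso_pullback ⟨hcomm'⟩ (asIso k) hk1 hk2

end Groth.Agent.H51
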