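import Groth.Agent.H51.LargestOpen
import Groth.Agent.H51.SrcOpen
import Groth.Agent.H51.EtaleMono
import Groth.Agent.H51.EtCoverIso
import Groth.Agent.H50.Etale
import Groth.Agent.H52.LocPBC
import Groth.Agent.H52.LocPOps
import Groth.Agent.H52.EtLocalInst

/-!
# The three classes of covering morphisms (fppf, smooth, etale) for `LargestOpen` (helper51)
-/

universe u

open CategoryTheory CategoryTheory.Limits AlgebraicGeometry Opposite AlgSp MorphismProperty

namespace Groth.Agent.H51

variable {S : Scheme.{u}}

theorem locP_of_repWith_isOpenImmersion (P : MorphismProperty Scheme.{u}) [P.IsStableUnderComposition]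
    (hP : ∀ ⦃A B : Scheme.{u}⦄ (g : A ⟶ B), Etale g → P g) {A B : Sp S} (j : A ⟶ B)
    (hj : RepWith @IsOpenImmersion j) : LocP P j :=
  Groth.Agent.H50.locP_of_repWith hP (repWith_mono (fun A B g (hg : IsOpenImmersion g) =>
    hP g (inferInstance : Etale g)) hj)

theorem isOpen_range_of_fppf {A B : Sp S} (hA : IsAlgSpace A) (hB : IsAlgSpace B) (g : A ⟶ B)
    (h1 : LocP @Flat g) (h2 : LocP @LocallyOfFinitePresentation g) :
    IsOpen (Set.range (Points.map g)) :=
  (isOpenMor_of_isUnivOpenMor hB g (isUnivOpenMor_of_fppf hA hB g ⟨h1, h2⟩) : IsOpenMap _).isOpen_range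

theorem coverClass_fppf :
    CoverClass (S := S) (fun _ _ f => LocP @Flat f ∧ LocP @LocallyOfFinitePresentation f) where
  of_open := fun A B j _ _ hj =>
    ⟨locP_of_repWith_isOpenImmersion @Flat (fun _ _ g (hg : Etale g) => (inferInstance : Flat g)) j hj,
     locP_of_repWith_isOpenImmersion @LocallyOfFinitePresentation
      (fun _ _ g (hg : Etale g) => (inferInstance : LocallyOfFinitePresentation g)) j hj⟩
  baseChange := fun A B A' B' g h fst snd hA hB hB' _ sq hg =>
    ⟨Groth.Agent.H52.locP_baseChange Groth.Agent.H52.etLocal_flat hA hB hB' sq hg.1,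
     Groth.Agent.H52.locP_baseChange Groth.Agent.H52.etLocal_lfp hA hB hB' sq hg.2⟩
  comp := fun A B C a b _ hB _ ha hb =>
    ⟨Groth.Agent.H52.locP_comp Groth.Agent.H52.etLocal_flat hB a b ha.1 hb.1,
     Groth.Agent.H52.locP_comp Groth.Agent.H52.etLocal_lfp hB a b ha.2 hb.2⟩
  isOpen_range := fun A B g hA hB hg => isOpen_range_of_fppf hA hB g hg.1 hg.2

theorem coverClass_smooth : CoverClass (S := S) (LocP @Smooth) where
  of_open := fun A B j _ _ hj =>
    locP_of_repWith_isOpenImmersion @Smooth (fun _ _ g (hg : Etale g) => (inferInstance : Smooth g)) j hj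
  baseChange := fun A B A' B' g h fst snd hA hB hB' _ sq hg =>
    Groth.Agent.H52.locP_baseChange Groth.Agent.H52.etLocal_smooth hA hB hB' sq hg
  comp := fun A B C a b _ hB _ ha hb =>
    Groth.Agent.H52.locP_comp Groth.Agent.H52.etLocal_smooth hB a b ha hb
  isOpen_range := fun A B g hA hB hg => isOpen_range_of_fppf hA hB g
    (locP_mono (fun _ _ k (hk : Smooth k) => (inferInstance : Flat k)) hg)
    (locP_mono (fun _ _ k (hk : Smooth k) => (inferInstance : LocallyOfFinitePresentation k)) hg)

theorem coverClass_etale : CoverClass (S := S) IsEtaleMor where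
  of_open := fun A B j _ _ hj => isEtaleMor_of_repWith_isOpenImmersion j hj
  baseChange := fun A B A' B' g h fst snd hA hB hB' hA' sq hg =>
    isEtaleMor_snd_of_isPullback hA hB hB' hA' sq hg
  comp := fun A B C a b _ _ _ ha hb => fun U φ hφ => by
    rw [← Category.assoc]
    exact hb _ (ha φ hφ)
  isOpen_range := fun A B g hA hB hg => by
    have h := locP_etale_of_isEtaleMor g hg
    exact isOpen_range_of_fppf hA hB g
      (locP_mono (fun _ _ k (hk : Etale k) => (inferInstance : Flat k)) h)
      (locP_mono (fun _ _ k (hk : Etale k) => (inferInstance : LocallyOfFinitePresentation k)) h)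

end Groth.Agent.H51
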