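import Groth.Agent.H51.Proper
import Groth.Agent.H51.EtaleChart
import Groth.Agent.S9917
import Mathlib.AlgebraicGeometry.Morphisms.Proper

/-! Affine, integral and finite morphisms of algebraic spaces (helper51). -/

set_option autoImplicit false
universe u
open CategoryTheory CategoryTheory.Limits AlgebraicGeometry
open AlgSp

namespace Groth.Agent.H51

variable {S : Scheme.{u}}

/-- An affine morphism of algebraic spaces is separated. -/
theorem isSeparatedMor_of_isAffineMor {X Y : AlgSp.Space S} (f : X ⟶ Y)
    (hf : IsAffineMor f.hom) : IsSeparatedMor f.hom := by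
  refine (Groth.Agent.S9903.result f).1.2 fun Z hZ g P fst snd sq => ?_
  obtain ⟨W, i, fst0, sq0, hW⟩ := hf hZ g
  have : IsAffine Z.left := hZ
  have : IsAffine W.left := hW
  have h1 : IsSeparatedMor ((yon S).map i) := (isSeparatedMor_yon_map_iff i).2 inferInstance
  have e : snd = (sq.isoIsPullback _ _ sq0).hom ≫ (yon S).map i :=
    (IsPullback.isoIsPullback_hom_snd _ _ sq sq0).symm
  have inst1 := AlgSp.repWith_isStableUnderBaseChange (S := S) @IsClosedImmersion
  have inst2 : (AlgSp.RepWith (S := S) @IsClosedImmersion).diagonal.RespectsIso := inferInstance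
  show (AlgSp.RepWith (S := S) @IsClosedImmersion).diagonal snd
  rw [e]
  exact (MorphismProperty.cancel_left_of_respectsIso
    (AlgSp.RepWith (S := S) @IsClosedImmersion).diagonal _ _).2 h1

/-- An affine morphism of algebraic spaces is quasi-compact. -/
theorem isQuasiCompactMor_of_isAffineMor {X Y : AlgSp.Space S} (f : X ⟶ Y)
    (hf : IsAffineMor f.hom) : IsQuasiCompactMor f.hom := by
  refine (Groth.Agent.S9917.result f).2 fun Z hZ g P fst snd sq => ?_
  obtain ⟨W, i, fst0, sq0, hW⟩ := hf hZ g
  have : IsAffine W.left := hW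
  have inst1 := AlgSp.repWith_isStableUnderBaseChange (S := S) @Etale
  have inst2 := AlgSp.repWith_isMultiplicative (S := S) @Etale
  have inst3 := AlgSp.repWith_isStableUnderBaseChange (S := S) @Surjective
  have inst4 := AlgSp.repWith_isMultiplicative (S := S) @Surjective
  refine ⟨W, (sq.isoIsPullback _ _ sq0).inv, MorphismProperty.of_isIso _ _,
    MorphismProperty.of_isIso _ _, ?_⟩
  show CompactSpace W.left
  infer_instance

/-- An integral morphism of algebraic spaces is universally closed. -/
theorem isUnivClosedMor_of_isIntegralMor {X Y : Sp S} (f : X ⟶ Y)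
    (hf : IsIntegralMor f) : IsUnivClosedMor f := by
  apply Groth.Agent.H52.isUnivClosedMor_of_affine
  intro Z hZ g P fst snd sq
  obtain ⟨W, i, fst0, sq0, hW, hi⟩ := hf hZ g
  have : IsIntegralHom i.left := hi
  have h1 : IsClosedMap (Points.map ((yon S).map i)) :=
    (Groth.Agent.H52.isClosedMap_map_yon_map_iff i).2 i.left.isClosedMap
  have e : snd = (sq.isoIsPullback _ _ sq0).hom ≫ (yon S).map i :=
    (IsPullback.isoIsPullback_hom_snd _ _ sq sq0).symm
  have e2 : Points.map snd = Points.map ((yon S).map i) ∘
      Points.map (sq.isoIsPullback _ _ sq0).hom := by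
    conv_lhs => rw [e]
    exact funext (Points.map_comp _ _)
  rw [e2]
  exact h1.comp (Groth.Agent.H52.homeoOfIso (sq.isoIsPullback _ _ sq0)).isClosedMap

/-- Universal closedness of a morphism of schemes from that of the associated morphism of sheaves. -/
theorem universallyClosed_of_isUnivClosedMor_yon_map {W Z : Over S} (i : W ⟶ Z)
    (h : IsUnivClosedMor ((yon S).map i)) : UniversallyClosed i.left := by
  let A : AlgSp.Space S := ⟨(yon S).obj W, IsAlgSpace.yon_obj W⟩
  let B : AlgSp.Space S := ⟨(yon S).obj Z, IsAlgSpace.yon_obj Z⟩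
  let φ : A ⟶ B := ObjectProperty.homMk ((yon S).map i)
  have h1 : RepWith @UniversallyClosed ((yon S).map i) :=
    (Groth.Agent.S9922.result φ (representable_yon_map i)).2 h
  exact (repWith_yon_map_iff _ _).1 h1

/-- A finite morphism of algebraic spaces is locally of finite type. -/
theorem locP_lft_of_isFiniteMor {X Y : Sp S} (f : X ⟶ Y) (hf : IsFiniteMor f) :
    LocP @LocallyOfFiniteType f := by
  intro U V a b h ha hb hcomm
  have instE1 := AlgSp.repWith_isStableUnderBaseChange (S := S) @Etale
  have instE2 := AlgSp.repWith_isMultiplicative (S := S) @Etale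
  let 𝒰 := V.left.affineCover.pullback₁ h.left
  rw [IsZariskiLocalAtSource.iff_of_openCover (P := @LocallyOfFiniteType) 𝒰]
  intro j
  -- the affine piece of V
  let Vj : Over S := Over.mk (V.left.affineCover.f j ≫ V.hom)
  let ιj : Vj ⟶ V := Over.homMk (V.left.affineCover.f j) rfl
  have hVj : IsAffine Vj.left := inferInstanceAs (IsAffine (V.left.affineCover.X j))
  obtain ⟨W, i, fstW, sqW, hW, hi⟩ := hf hVj ((yon S).map ιj ≫ b)
  have hi' : IsFinite i.left := hi
  -- the piece of U
  let Uj : Over S := Over.mk (pullback.fst h.left (V.left.affineCover.f j) ≫ U.hom)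
  let pU : Uj ⟶ U := Over.homMk (pullback.fst h.left (V.left.affineCover.f j)) rfl
  let pV : Uj ⟶ Vj := Over.homMk (pullback.snd h.left (V.left.affineCover.f j)) (by
    show pullback.snd h.left (V.left.affineCover.f j) ≫ V.left.affineCover.f j ≫ V.hom =
      pullback.fst h.left (V.left.affineCover.f j) ≫ U.hom
    rw [← Category.assoc, ← pullback.condition, Category.assoc, Over.w h])
  have hpp : pU ≫ h = pV ≫ ιj := by
    ext
    exact pullback.condition
  have hιe : Etale ιj.left := inferInstanceAs (Etale (V.left.affineCover.f j))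
  have hpUe : Etale pU.left :=
    inferInstanceAs (Etale (pullback.fst h.left (V.left.affineCover.f j)))
  have hgj : RepWith @Etale ((yon S).map ιj ≫ b) :=
    (RepWith @Etale).comp_mem _ _ ((repWith_yon_map_iff _ _).2 hιe) hb
  have hfstW : RepWith @Etale fstW := MorphismProperty.of_isPullback sqW.flip hgj
  have haj : RepWith @Etale ((yon S).map pU ≫ a) :=
    (RepWith @Etale).comp_mem _ _ ((repWith_yon_map_iff _ _).2 hpUe) ha
  have hw : ((yon S).map pU ≫ a) ≫ f = (yon S).map pV ≫ (yon S).map ιj ≫ b := by
    rw [Category.assoc, hcomm, ← Category.assoc, ← Functor.map_comp, hpp, Functor.map_comp,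
      Category.assoc]
  obtain ⟨l, hl⟩ := (yon S).map_surjective (sqW.lift _ _ hw)
  have hl1 : (yon S).map l ≫ fstW = (yon S).map pU ≫ a := by rw [hl, sqW.lift_fst]
  have hl2 : l ≫ i = pV := by
    apply (yon S).map_injective
    rw [Functor.map_comp, hl, sqW.lift_snd]
  have hle : Etale l.left :=
    etale_of_isEtaleMor_of_charts (𝟙 X) (fun _ φ hφ => by rwa [Category.comp_id])
      ((yon S).map pU ≫ a) fstW l haj hfstW (by rw [Category.comp_id, hl1])
  have hfac : pU.left ≫ h.left = l.left ≫ i.left ≫ ιj.left := by
    have h1 : (pU ≫ h).left = (l ≫ i ≫ ιj).left := by rw [hpp, ← hl2, Category.assoc]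
    simpa only [Over.comp_left] using h1
  have h1 : LocallyOfFiniteType ιj.left :=
    inferInstanceAs (LocallyOfFiniteType (V.left.affineCover.f j))
  have h2 : LocallyOfFiniteType i.left := inferInstance
  have h3 : LocallyOfFiniteType l.left := inferInstance
  show LocallyOfFiniteType (pU.left ≫ h.left)
  rw [hfac]
  infer_instance

end Groth.Agent.H51
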