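import Groth.Agent.H51.Proper
import Groth.Agent.H50.Points

/-!
# Inverse images of closed subspaces proper over the base (helper51)
-/

universe u

open CategoryTheory CategoryTheory.Limits AlgebraicGeometry Opposite AlgSp MorphismProperty

namespace Groth.Agent.H51

variable {S : Scheme.{u}}

/-- In a cartesian square, the image on points of the base change is the preimage of the image. -/
theorem range_map_eq_preimage_of_isPullback {Z' Z X' X : Sp S} {q : Z' ⟶ Z} {i' : Z' ⟶ X'} {i : Z ⟶ X}
    {g' : X' ⟶ X} (sq : IsPullback q i' i g') :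
    Set.range (Points.map i') = Points.map g' ⁻¹' Set.range (Points.map i) := by
  ext x
  constructor
  · rintro ⟨z, rfl⟩
    refine ⟨Points.map q z, ?_⟩
    rw [← Points.map_comp, ← Points.map_comp, sq.w]
  · rintro ⟨z, hz⟩
    obtain ⟨z', -, hz'⟩ := Groth.Agent.H50.exists_point_of_isPullback sq z x hz
    exact ⟨z', hz'⟩

end Groth.Agent.H51
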