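import Groth.Agent.H51.LargestOpenInst
import Groth.Agent.H51.ClosedProper
import Groth.Agent.S10194
import Groth.Agent.S10195

/-!
# Open subspaces with the same points are isomorphic (helper51)
-/

set_option autoImplicit false
universe u
open CategoryTheory CategoryTheory.Limits AlgebraicGeometry
open AlgSp

namespace Groth.Agent.H51

variable {S : Scheme.{u}}

/-- The image of an open immersion of algebraic spaces is open. -/
theorem isOpen_range_of_repWith_isOpenImmersion {A B : Sp S} (hA : IsAlgSpace A) (hB : IsAlgSpace B)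
    (j : A ⟶ B) (hj : RepWith @IsOpenImmersion j) : IsOpen (Set.range (Points.map j)) :=
  coverClass_fppf.isOpen_range j hA hB (coverClass_fppf.of_open j hA hB hj)

/-- Two open subspaces with the same image are isomorphic over the ambient space. -/
theorem exists_iso_of_range_eq {X U₁ U₂ : AlgSp.Space S} (u₁ : U₁ ⟶ X) (u₂ : U₂ ⟶ X)
    (h₁ : RepWith @IsOpenImmersion u₁.hom) (h₂ : RepWith @IsOpenImmersion u₂.hom)
    (h : Set.range (Points.map u₁.hom) = Set.range (Points.map u₂.hom)) :
    ∃ e : U₁ ≅ U₂, e.hom ≫ u₂ = u₁ := by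
  obtain ⟨g, hg⟩ := (Groth.Agent.S10194.result u₂ h₂ u₁).2 (h ▸ subset_rfl)
  obtain ⟨g', hg'⟩ := (Groth.Agent.S10194.result u₁ h₁ u₂).2 (h ▸ subset_rfl)
  have m₁ : Mono u₁.hom := mono_of_repWith_isOpenImmersion h₁
  have m₂ : Mono u₂.hom := mono_of_repWith_isOpenImmersion h₂
  have hg0 : g.hom ≫ u₂.hom = u₁.hom := congrArg (fun k => k.hom) hg
  have hg0' : g'.hom ≫ u₁.hom = u₂.hom := congrArg (fun k => k.hom) hg'
  refine ⟨⟨g, g', ?_, ?_⟩, hg⟩
  · apply ObjectProperty.hom_ext
    show g.hom ≫ g'.hom = 𝟙 _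
    rw [← cancel_mono u₁.hom, Category.assoc, hg0', hg0, Category.id_comp]
  · apply ObjectProperty.hom_ext
    show g'.hom ≫ g.hom = 𝟙 _
    rw [← cancel_mono u₂.hom, Category.assoc, hg0, hg0', Category.id_comp]

end Groth.Agent.H51
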