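import Mathlib
import Groth.Prelude.Def_BlowUp2

/-!
# (FTP) for helper95 (S8858): finite products of finite type ideal sheaves are of finite type
-/

set_option autoImplicit false
universe u
open CategoryTheory CategoryTheory.Limits AlgebraicGeometry

namespace Groth.Agent.H51.ADM

theorem FTP {X : Scheme.{u}} {ι : Type*} (s : Finset ι) (𝓘 : ι → X.IdealSheafData)
    (h : ∀ i ∈ s, BlowUp.IsFiniteTypeIdeal (𝓘 i)) : BlowUp.IsFiniteTypeIdeal (∏ i ∈ s, 𝓘 i) := by
  classical
  induction s using Finset.induction_on with
  | empty =>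
    intro U
    rw [Finset.prod_empty, Scheme.IdealSheafData.one_eq_top, Scheme.IdealSheafData.ideal_top]
    exact ⟨{1}, by simp⟩
  | insert a s ha ih =>
    intro U
    rw [Finset.prod_insert ha, Scheme.IdealSheafData.ideal_mul]
    exact Ideal.FG.mul (h a (Finset.mem_insert_self a s) U)
      (ih (fun i hi => h i (Finset.mem_insert_of_mem hi)) U)

end Groth.Agent.H51.ADM
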