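import Mathlib
import Groth.Prelude.Def_BlowUp2

/-!
# (SUP) for helper95 (S8858): support of a finite product of ideal sheaves
-/

set_option autoImplicit false
universe u
open CategoryTheory CategoryTheory.Limits AlgebraicGeometry

namespace Groth.Agent.H51.ADM

theorem SUP {X : Scheme.{u}} {ι : Type*} (s : Finset ι) (𝓘 : ι → X.IdealSheafData) (U : X.Opens)
    (h : ∀ i ∈ s, Disjoint ((𝓘 i).support : Set X) (U : Set X)) :
    Disjoint ((∏ i ∈ s, 𝓘 i).support : Set X) (U : Set X) := by
  classical
  induction s using Finset.induction_on with
  | empty =>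
    rw [Finset.prod_empty, Scheme.IdealSheafData.one_eq_top, Scheme.IdealSheafData.support_top]
    simp
  | insert a s ha ih =>
    rw [Finset.prod_insert ha, Scheme.IdealSheafData.support_mul]
    have h1 := h a (Finset.mem_insert_self a s)
    have h2 := ih (fun i hi => h i (Finset.mem_insert_of_mem hi))
    rw [TopologicalSpace.Closeds.coe_sup]
    exact Disjoint.sup_left h1 h2

end Groth.Agent.H51.ADM
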