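import Mathlib.Topology.Algebra.InfiniteSum.Nonarchimedean
import Mathlib.Topology.Algebra.Nonarchimedean.Basic
import Mathlib.Topology.Algebra.OpenSubgroup

/-! An open mapping lemma for complete groups with a countable basis of open subgroups
(helper51). -/

set_option autoImplicit false
set_option linter.unusedSectionVars false
set_option linter.unusedVariables false
universe u v

open Topology Filter

namespace Groth.Agent.H51

section OpenMap

variable {G : Type u} [AddCommGroup G] [UniformSpace G] [IsUniformAddGroup G] [CompleteSpace G]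
variable {H : Type v} [AddCommGroup H] [TopologicalSpace H] [IsTopologicalAddGroup H] [T2Space H]

/-- Successive approximation: let `f : G → H` be a continuous additive map from a complete group
with a decreasing countable basis `Gn` of open subgroups, such that the closures of the `f(Gn n)`
are open and form a basis of neighbourhoods of `0` in the Hausdorff group `H`.  Then
`f (Gn n)` is closed, i.e. equals its closure. -/
theorem closure_image_subset_image (f : G →+ H) (hf : Continuous f)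
    (Gn : ℕ → AddSubgroup G) (hGo : ∀ n, IsOpen (Gn n : Set G)) (hGa : Antitone Gn)
    (hGb : ∀ U ∈ 𝓝 (0 : G), ∃ n, (Gn n : Set G) ⊆ U)
    (hHo : ∀ n, IsOpen (closure (f '' (Gn n : Set G))))
    (hHb : ∀ U ∈ 𝓝 (0 : H), ∃ n, closure (f '' (Gn n : Set G)) ⊆ U) (n : ℕ) :
    closure (f '' (Gn n : Set G)) ⊆ f '' (Gn n : Set G) := by
  classical
  have : NonarchimedeanAddGroup G := by
    refine { toIsTopologicalAddGroup := inferInstance, is_nonarchimedean := ?_ }
    intro U hU
    obtain ⟨m, hm⟩ := hGb U hU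
    exact ⟨⟨Gn m, hGo m⟩, hm⟩
  set Hn : ℕ → Set H := fun m => closure (f '' (Gn m : Set G)) with hHn
  have hHa : ∀ {a b : ℕ}, a ≤ b → Hn b ⊆ Hn a := fun {a b} hab =>
    closure_mono (Set.image_mono (hGa hab))
  have hH0 : ∀ m, (0 : H) ∈ Hn m := fun m =>
    subset_closure ⟨0, (Gn m).zero_mem, map_zero f⟩
  -- the step
  have step : ∀ m (r : H), r ∈ Hn m → ∃ x ∈ Gn m, r - f x ∈ Hn (m + 1) := by
    intro m r hr
    have hnhds : (fun y => r - y) ⁻¹' (Hn (m + 1)) ∈ 𝓝 r := by
      have hc : Continuous (fun y : H => r - y) := continuous_const.sub continuous_id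
      apply hc.continuousAt.preimage_mem_nhds
      simp only [sub_self]
      exact (hHo (m + 1)).mem_nhds (hH0 (m + 1))
    obtain ⟨y, hy1, ⟨x, hx, rfl⟩⟩ := mem_closure_iff_nhds.mp hr _ hnhds
    exact ⟨x, hx, hy1⟩
  intro b hb
  -- states
  let T : ℕ → Type u := fun k => {s : G // s ∈ Gn n ∧ b - f s ∈ Hn (n + k)}
  have next : ∀ k (t : T k), ∃ t' : T (k + 1), t'.1 - t.1 ∈ Gn (n + k) := by
    intro k t
    obtain ⟨x, hx, hx'⟩ := step (n + k) (b - f t.1) t.2.2
    refine ⟨⟨t.1 + x, (Gn n).add_mem t.2.1 (hGa (Nat.le_add_right n k) hx), ?_⟩, ?_⟩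
    · have : b - f (t.1 + x) = b - f t.1 - f x := by rw [map_add]; abel
      rw [this]
      exact hx'
    · simpa using hx
  choose nx hnx using next
  let seq : ∀ k, T k := fun k =>
    Nat.rec (motive := T) ⟨0, (Gn n).zero_mem, by simpa using hb⟩ (fun k t => nx k t) k
  have hseq : ∀ k, (seq (k + 1)).1 - (seq k).1 ∈ Gn (n + k) := fun k => hnx k (seq k)
  let s : ℕ → G := fun k => (seq k).1
  have hs1 : ∀ k, s k ∈ Gn n := fun k => (seq k).2.1
  have hs2 : ∀ k, b - f (s k) ∈ Hn (n + k) := fun k => (seq k).2.2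
  have hcauchy : CauchySeq s := by
    apply NonarchimedeanAddGroup.cauchySeq_of_tendsto_sub_nhds_zero
    rw [tendsto_atTop']
    intro U hU
    obtain ⟨m, hm⟩ := hGb U hU
    refine ⟨m, fun k hk => hm ?_⟩
    exact hGa (le_trans hk (Nat.le_add_left k n)) (hseq k)
  obtain ⟨x, hx⟩ := cauchySeq_tendsto_of_complete hcauchy
  have hxG : x ∈ Gn n := by
    have hcl : IsClosed (Gn n : Set G) := (Gn n).isClosed_of_isOpen (hGo n)
    exact hcl.mem_of_tendsto hx (Filter.Eventually.of_forall hs1)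
  refine ⟨x, hxG, ?_⟩
  -- b - f x lies in all Hn m
  have hlim : Tendsto (fun k => b - f (s k)) atTop (𝓝 (b - f x)) :=
    tendsto_const_nhds.sub ((hf.tendsto x).comp hx)
  have hmem : ∀ m, b - f x ∈ Hn m := by
    intro m
    have hcl : IsClosed (Hn m) := isClosed_closure
    apply hcl.mem_of_tendsto hlim
    rw [Filter.eventually_atTop]
    exact ⟨m, fun k hk => hHa (le_trans hk (Nat.le_add_left k n)) (hs2 k)⟩
  by_contra hne
  have hne' : b - f x ≠ 0 := fun h => hne (by rw [sub_eq_zero] at h; exact h.symm)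
  have hopen : ({b - f x}ᶜ : Set H) ∈ 𝓝 (0 : H) :=
    isOpen_compl_singleton.mem_nhds (by simpa using hne'.symm)
  obtain ⟨m, hm⟩ := hHb _ hopen
  exact hm (hmem m) rfl


theorem isOpenMap_of_closure_image (f : G →+ H) (hf : Continuous f)
    (Gn : ℕ → AddSubgroup G) (hGo : ∀ n, IsOpen (Gn n : Set G)) (hGa : Antitone Gn)
    (hGb : ∀ U ∈ 𝓝 (0 : G), ∃ n, (Gn n : Set G) ⊆ U)
    (hHo : ∀ n, IsOpen (closure (f '' (Gn n : Set G))))
    (hHb : ∀ U ∈ 𝓝 (0 : H), ∃ n, closure (f '' (Gn n : Set G)) ⊆ U) :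
    IsOpenMap f := by
  rw [IsTopologicalAddGroup.isOpenMap_iff_nhds_zero]
  intro U hU
  rw [Filter.mem_map] at hU
  obtain ⟨n, hn⟩ := hGb _ hU
  have h1 : closure (f '' (Gn n : Set G)) ⊆ U :=
    (closure_image_subset_image f hf Gn hGo hGa hGb hHo hHb n).trans
      (by rintro _ ⟨x, hx, rfl⟩; exact hn hx)
  exact Filter.mem_of_superset
    ((hHo n).mem_nhds (subset_closure ⟨0, (Gn n).zero_mem, map_zero f⟩)) h1

theorem surjective_of_closure_image (f : G →+ H) (hf : Continuous f)
    (Gn : ℕ → AddSubgroup G) (hGo : ∀ n, IsOpen (Gn n : Set G)) (hGa : Antitone Gn)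
    (hGb : ∀ U ∈ 𝓝 (0 : G), ∃ n, (Gn n : Set G) ⊆ U)
    (hHo : ∀ n, IsOpen (closure (f '' (Gn n : Set G))))
    (hHb : ∀ U ∈ 𝓝 (0 : H), ∃ n, closure (f '' (Gn n : Set G)) ⊆ U)
    (hd : DenseRange f) : Function.Surjective f := by
  intro b
  have hnhds : (fun y => b - y) ⁻¹' (closure (f '' (Gn 0 : Set G))) ∈ 𝓝 b := by
    have hc : Continuous (fun y : H => b - y) := continuous_const.sub continuous_id
    apply hc.continuousAt.preimage_mem_nhds
    simp only [sub_self]
    exact (hHo 0).mem_nhds (subset_closure ⟨0, (Gn 0).zero_mem, map_zero f⟩)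
  obtain ⟨y, hy1, ⟨a, rfl⟩⟩ := mem_closure_iff_nhds.mp (hd b) _ hnhds
  obtain ⟨x, -, hx⟩ := closure_image_subset_image f hf Gn hGo hGa hGb hHo hHb 0 hy1
  refine ⟨a + x, ?_⟩
  rw [map_add, hx]
  simp

end OpenMap

end Groth.Agent.H51
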