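import Groth.Agent.H51.LinTop
import Groth.Agent.H51.OpenMap
import Mathlib.Topology.Algebra.Module.FiniteDimension

/-! Key lemma: complete ring, finitely generated ideal whose powers have open closures forming a
basis: then the topology is adic (helper51). -/

set_option autoImplicit false
set_option linter.unusedSectionVars false
set_option linter.unusedVariables false
universe u v

open Topology Filter

namespace Groth.Agent.H51

section

variable {A : Type u} [CommRing A] [TopologicalSpace A] [IsTopologicalRing A]

/-- `span s * J` is the image of `J^s` under the linear combination map. -/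
theorem map_linearCombination_pi (s : Finset A) (J : Ideal A) :
    Submodule.map (Fintype.linearCombination A (fun a : s => (a : A)))
      (Submodule.pi Set.univ (fun _ : s => J)) = Ideal.span (s : Set A) * J := by
  apply le_antisymm
  · rintro _ ⟨x, hx, rfl⟩
    rw [Fintype.linearCombination_apply]
    refine Submodule.sum_mem _ (fun a _ => ?_)
    have hxa : x a ∈ J := hx a (Set.mem_univ a)
    have : x a • (a : A) = (a : A) * x a := by rw [smul_eq_mul, mul_comm]
    rw [this]
    exact Ideal.mul_mem_mul (Ideal.subset_span a.2) hxa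
  · rw [Ideal.mul_le]
    intro r hr y hy
    obtain ⟨c, rfl⟩ := Submodule.mem_span_finset'.mp hr
    refine ⟨fun a => c a * y, ?_, ?_⟩
    · intro a _
      exact J.mul_mem_left _ hy
    · rw [Fintype.linearCombination_apply, Finset.sum_mul]
      refine Finset.sum_congr rfl (fun a _ => ?_)
      simp only [smul_eq_mul]
      ring

end

section Main

variable {A : Type u} [CommRing A] [UniformSpace A] [IsUniformAddGroup A] [IsTopologicalRing A]
  [T2Space A] [CompleteSpace A]

theorem closure_pow_eq_of_fg (I : Ideal A) (hfg : I.FG)
    (hopen : ∀ n : ℕ, IsOpen (closure ((I ^ n : Ideal A) : Set A)))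
    (hbasis : ∀ U ∈ 𝓝 (0 : A), ∃ n : ℕ, closure ((I ^ n : Ideal A) : Set A) ⊆ U) (n : ℕ) :
    (I ^ n).closure = I ^ n := by
  classical
  obtain ⟨s, hs⟩ := hfg
  let F : (s → A) →ₗ[A] A := Fintype.linearCombination A (fun a : s => (a : A))
  have hFc : Continuous F := LinearMap.continuous_on_pi F
  let K : ℕ → Ideal A := fun n => (I ^ n).closure
  let P : ℕ → Submodule A (s → A) := fun n => Submodule.pi Set.univ (fun _ : s => K n)
  have hmap : ∀ n, Submodule.map F (P n) = I * K n := by
    intro n
    have := map_linearCombination_pi s (K n)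
    rw [hs] at this
    exact this
  have hKanti : ∀ {a b : ℕ}, a ≤ b → K b ≤ K a := fun {a b} hab =>
    ideal_closure_mono (Ideal.pow_le_pow_right hab)
  -- I * K n has closure (I^(n+1)).closure
  have hcl : ∀ n, (I * K n).closure = K (n + 1) := by
    intro n
    apply le_antisymm
    · have h1 : I * K n ≤ (I * I ^ n).closure :=
        (Ideal.mul_mono_left (ideal_le_closure I)).trans (closure_mul_closure_le I (I ^ n))
      have h2 := ideal_closure_mono h1
      rw [ideal_closure_closure, ← pow_succ'] at h2
      exact h2
    · apply ideal_closure_mono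
      rw [pow_succ']
      exact Ideal.mul_mono_right (ideal_le_closure _)
  have himage : ∀ n, (F.toAddMonoidHom '' ((P n).toAddSubgroup : Set (s → A))) =
      ((I * K n : Ideal A) : Set A) := by
    intro n
    rw [← hmap n]
    rfl
  have hGo : ∀ n, IsOpen (((P n).toAddSubgroup : AddSubgroup (s → A)) : Set (s → A)) := by
    intro n
    change IsOpen ((P n : Submodule A (s → A)) : Set (s → A))
    rw [Submodule.coe_pi]
    exact isOpen_set_pi Set.finite_univ (fun a _ => hopen n)
  have hGa : Antitone (fun n => (P n).toAddSubgroup) := by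
    intro a b hab x hx i hi
    exact hKanti hab (hx i hi)
  have hGb : ∀ U ∈ 𝓝 (0 : s → A), ∃ n, (((P n).toAddSubgroup : AddSubgroup (s → A)) : Set (s → A)) ⊆ U := by
    intro U hU
    rw [nhds_pi, Filter.mem_pi] at hU
    obtain ⟨T, hT, t, ht, htU⟩ := hU
    have : ∀ a : s, ∃ m : ℕ, closure ((I ^ m : Ideal A) : Set A) ⊆ t a := fun a => hbasis _ (ht a)
    choose m hm using this
    refine ⟨Finset.univ.sup m, fun x hx => htU ?_⟩
    intro a _
    apply hm a
    have hle : m a ≤ Finset.univ.sup m := Finset.le_sup (Finset.mem_univ a)
    exact hKanti hle (hx a (Set.mem_univ a))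
  have hHo : ∀ n, IsOpen (closure (F.toAddMonoidHom '' ((P n).toAddSubgroup : Set (s → A)))) := by
    intro n
    rw [himage n]
    have := congrArg (fun J : Ideal A => (J : Set A)) (hcl n)
    simp only [Ideal.coe_closure] at this
    rw [this]
    exact hopen (n + 1)
  have hHb : ∀ U ∈ 𝓝 (0 : A), ∃ n, closure (F.toAddMonoidHom '' ((P n).toAddSubgroup : Set (s → A))) ⊆ U := by
    intro U hU
    obtain ⟨m, hm⟩ := hbasis U hU
    refine ⟨m, ?_⟩
    rw [himage m]
    have := congrArg (fun J : Ideal A => (J : Set A)) (hcl m)
    simp only [Ideal.coe_closure] at this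
    rw [this]
    exact Set.Subset.trans (hKanti (Nat.le_succ m)) hm
  have key : ∀ n, K (n + 1) = I * K n := by
    intro n
    apply le_antisymm
    · have h := closure_image_subset_image F.toAddMonoidHom hFc (fun n => (P n).toAddSubgroup)
        hGo hGa hGb hHo hHb n
      rw [himage n] at h
      intro x hx
      have hx' : x ∈ closure ((I * K n : Ideal A) : Set A) := by
        have := congrArg (fun J : Ideal A => (J : Set A)) (hcl n)
        simp only [Ideal.coe_closure] at this
        rw [this]
        exact hx
      exact h hx'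
    · rw [← hcl n]
      exact ideal_le_closure _
  induction n with
  | zero =>
    simp only [pow_zero, Ideal.one_eq_top]
    exact top_le_iff.mp (ideal_le_closure ⊤)
  | succ n ih =>
    have := key n
    change (I ^ (n + 1)).closure = I * (I ^ n).closure at this
    rw [this, ih, pow_succ']

theorem isAdic_of_fg_of_closure_pow_basis (I : Ideal A) (hfg : I.FG)
    (hopen : ∀ n : ℕ, IsOpen (closure ((I ^ n : Ideal A) : Set A)))
    (hbasis : ∀ U ∈ 𝓝 (0 : A), ∃ n : ℕ, closure ((I ^ n : Ideal A) : Set A) ⊆ U) :
    IsAdic I := by
  have h : ∀ n, closure ((I ^ n : Ideal A) : Set A) = ((I ^ n : Ideal A) : Set A) := by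
    intro n
    have := congrArg (fun J : Ideal A => (J : Set A)) (closure_pow_eq_of_fg I hfg hopen hbasis n)
    simpa only [Ideal.coe_closure] using this
  rw [isAdic_iff]
  refine ⟨fun n => ?_, fun U hU => ?_⟩
  · rw [← h n]; exact hopen n
  · obtain ⟨n, hn⟩ := hbasis U hU
    exact ⟨n, by rw [← h n]; exact hn⟩

end Main

end Groth.Agent.H51
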