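import Groth.Agent.H51.QuotCompl
import Mathlib.Topology.Algebra.UniformMulAction
import Mathlib.Topology.Algebra.Module.Basic
import Mathlib.RingTheory.Ideal.Operations
import Mathlib.RingTheory.Finiteness.Ideal
import Mathlib.LinearAlgebra.Finsupp.LinearCombination

/-! Completion of a module with an open adic submodule (helper51). -/

set_option autoImplicit false
set_option linter.unusedSectionVars false
set_option linter.unusedVariables false
universe u v

open Topology Filter UniformSpace UniformSpace.Completion

namespace Groth.Agent.H51

section LC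

variable {R : Type u} [CommRing R] {X : Type v} [AddCommGroup X] [Module R X]

/-- linear combination with coefficients in a finset of scalars -/
noncomputable def lc (s : Finset R) : (s → X) →ₗ[R] X :=
  ∑ a : s, (a : R) • (LinearMap.proj a : (s → X) →ₗ[R] X)

theorem lc_apply (s : Finset R) (x : s → X) : lc s x = ∑ a : s, (a : R) • x a := by
  simp [lc, LinearMap.sum_apply]

theorem map_lc_pi (s : Finset R) (P : Submodule R X) :
    Submodule.map (lc s) (Submodule.pi Set.univ (fun _ : s => P)) =
      Ideal.span (s : Set R) • P := by
  apply le_antisymm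
  · rintro _ ⟨x, hx, rfl⟩
    rw [lc_apply]
    refine Submodule.sum_mem _ (fun a _ => ?_)
    exact Submodule.smul_mem_smul (Ideal.subset_span a.2) (hx a (Set.mem_univ a))
  · rw [Submodule.smul_le]
    intro r hr p hp
    obtain ⟨c, rfl⟩ := Submodule.mem_span_finset'.mp hr
    refine ⟨fun a => c a • p, ?_, ?_⟩
    · intro a _
      exact P.smul_mem _ hp
    · rw [lc_apply, Finset.sum_smul]
      refine Finset.sum_congr rfl (fun a _ => ?_)
      simp only [smul_eq_mul]
      rw [← mul_smul, mul_comm]

end LC


section ComplMod

variable {R : Type u} [CommRing R] {M : Type v} [AddCommGroup M] [Module R M] [UniformSpace M]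
  [IsUniformAddGroup M] [UniformContinuousConstSMul R M]

/-- the canonical map to the completion as a linear map -/
noncomputable def coeL : M →ₗ[R] Completion M :=
  { (toCompl : M →+ Completion M) with
    map_smul' := fun c x => Completion.coe_smul c x }

theorem coeL_apply (m : M) : coeL (R := R) m = (m : Completion M) := rfl

/-- closure of the image of a submodule in the completion -/
noncomputable def clS (P : Submodule R M) : Submodule R (Completion M) :=
  (P.map (coeL (R := R))).topologicalClosure

theorem coe_clS (P : Submodule R M) :
    (clS P : Set (Completion M)) = (cl P.toAddSubgroup : Set (Completion M)) := rfl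

theorem mem_clS_iff (P : Submodule R M) (x : Completion M) :
    x ∈ clS P ↔ x ∈ cl P.toAddSubgroup := Iff.rfl

theorem clS_mono {P Q : Submodule R M} (h : P ≤ Q) : clS P ≤ clS Q :=
  Submodule.topologicalClosure_mono (Submodule.map_mono h)

theorem map_le_clS (P : Submodule R M) : P.map (coeL (R := R)) ≤ clS P :=
  Submodule.le_topologicalClosure _

theorem isOpen_clS (P : Submodule R M) (hP : IsOpen (P : Set M)) :
    IsOpen (clS P : Set (Completion M)) := by
  rw [coe_clS]
  exact isOpen_cl _ hP

theorem smul_clS_le (J : Ideal R) (P : Submodule R M) : J • clS P ≤ clS (J • P) := by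
  rw [Submodule.smul_le]
  intro r hr x hx
  have hc : Continuous (fun y : Completion M => r • y) := continuous_const_smul r
  have hx' : x ∈ closure (((↑) : M → Completion M) '' (P : Set M)) := hx
  have : r • x ∈ closure (((↑) : M → Completion M) '' ((J • P : Submodule R M) : Set M)) := by
    refine map_mem_closure hc hx' ?_
    rintro _ ⟨p, hp, rfl⟩
    have h1 : r • p ∈ (J • P : Submodule R M) := Submodule.smul_mem_smul hr hp
    have h2 : ((r • p : M) : Completion M) = r • (p : Completion M) := Completion.coe_smul r p
    have h3 : ((r • p : M) : Completion M) ∈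
        ((↑) : M → Completion M) '' ((J • P : Submodule R M) : Set M) := Set.mem_image_of_mem _ h1
    rw [h2] at h3
    exact h3
  exact this

theorem clS_smul_le_closure (J : Ideal R) (P : Submodule R M) :
    clS (J • P) ≤ (J • clS P).topologicalClosure := by
  unfold clS
  apply Submodule.topologicalClosure_mono
  rw [Submodule.map_smul'']
  exact Submodule.smul_mono le_rfl (Submodule.le_topologicalClosure _)

theorem closure_smul_clS (J : Ideal R) (P : Submodule R M) :
    (J • clS P).topologicalClosure = clS (J • P) := by
  apply le_antisymm
  · exact Submodule.topologicalClosure_minimal _ (smul_clS_le J P)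
      (Submodule.isClosed_topologicalClosure _)
  · exact clS_smul_le_closure J P

variable (I : Ideal R) (hI : I.FG) (M' : Submodule R M)
  (hopen : ∀ n : ℕ, IsOpen ((I ^ n • M' : Submodule R M) : Set M))
  (hbasis : ∀ U ∈ 𝓝 (0 : M), ∃ n : ℕ, ((I ^ n • M' : Submodule R M) : Set M) ⊆ U)

include hbasis in
theorem exists_clS_subset {U : Set (Completion M)} (hU : U ∈ 𝓝 (0 : Completion M)) :
    ∃ m : ℕ, (clS (I ^ m • M') : Set (Completion M)) ⊆ U :=
  exists_cl_subset (fun m => (I ^ m • M' : Submodule R M).toAddSubgroup) hbasis hU

include hI hopen hbasis in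
theorem smul_clS_eq (n k : ℕ) : I ^ n • clS (I ^ k • M') = clS (I ^ (n + k) • M') := by
  classical
  obtain ⟨s, hs⟩ := Ideal.FG.pow (n := n) hI
  let F : (s → Completion M) →ₗ[R] Completion M := lc s
  have hFc : Continuous F := by
    have : (F : (s → Completion M) → Completion M) =
        fun x => ∑ a : s, (a : R) • x a := funext (lc_apply s)
    rw [this]
    exact continuous_finsetSum _ (fun a _ => (continuous_const_smul (a : R)).comp (continuous_apply a))
  let K : ℕ → Submodule R (Completion M) := fun j => clS (I ^ j • M')
  let P : ℕ → Submodule R (s → Completion M) := fun j => Submodule.pi Set.univ (fun _ : s => K j)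
  have hKanti : ∀ {a b : ℕ}, a ≤ b → K b ≤ K a := fun {a b} hab =>
    clS_mono (Submodule.smul_mono_left (Ideal.pow_le_pow_right hab))
  have hmap : ∀ j, Submodule.map F (P j) = I ^ n • K j := by
    intro j
    have := map_lc_pi (X := Completion M) s (K j)
    rw [hs] at this
    exact this
  have hpow : ∀ j, I ^ n • (I ^ j • M' : Submodule R M) = I ^ (n + j) • M' := by
    intro j
    rw [← Submodule.mul_smul, ← pow_add]
  have hcl : ∀ j, (I ^ n • K j).topologicalClosure = K (n + j) := by
    intro j
    have := closure_smul_clS (I ^ n) (I ^ j • M')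
    rw [hpow j] at this
    exact this
  have hclset : ∀ j, closure ((I ^ n • K j : Submodule R (Completion M)) : Set (Completion M)) =
      (K (n + j) : Set (Completion M)) := by
    intro j
    have := congrArg (fun Q : Submodule R (Completion M) => (Q : Set (Completion M))) (hcl j)
    exact this
  have himage : ∀ j, (F.toAddMonoidHom '' ((P j).toAddSubgroup : Set (s → Completion M))) =
      ((I ^ n • K j : Submodule R (Completion M)) : Set (Completion M)) := by
    intro j
    rw [← hmap j]
    rfl
  have hKo : ∀ j, IsOpen (K j : Set (Completion M)) := fun j => isOpen_clS _ (hopen j)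
  have hGo : ∀ j, IsOpen (((P j).toAddSubgroup : AddSubgroup (s → Completion M)) :
      Set (s → Completion M)) := by
    intro j
    change IsOpen ((P j : Submodule R (s → Completion M)) : Set (s → Completion M))
    rw [Submodule.coe_pi]
    exact isOpen_set_pi Set.finite_univ (fun a _ => hKo j)
  have hGa : Antitone (fun j => (P j).toAddSubgroup) := by
    intro a b hab x hx i hi
    exact hKanti hab (hx i hi)
  have hGb : ∀ U ∈ 𝓝 (0 : s → Completion M), ∃ j,
      (((P j).toAddSubgroup : AddSubgroup (s → Completion M)) : Set (s → Completion M)) ⊆ U := by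
    intro U hU
    rw [nhds_pi, Filter.mem_pi] at hU
    obtain ⟨T, hT, t, ht, htU⟩ := hU
    have : ∀ a : s, ∃ m : ℕ, (K m : Set (Completion M)) ⊆ t a :=
      fun a => exists_clS_subset I M' hbasis (ht a)
    choose m hm using this
    refine ⟨Finset.univ.sup m, fun x hx => htU ?_⟩
    intro a _
    apply hm a
    have hle : m a ≤ Finset.univ.sup m := Finset.le_sup (Finset.mem_univ a)
    exact hKanti hle (hx a (Set.mem_univ a))
  have hHo : ∀ j, IsOpen (closure (F.toAddMonoidHom ''
      ((P j).toAddSubgroup : Set (s → Completion M)))) := by
    intro j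
    rw [himage j, hclset j]
    exact hKo (n + j)
  have hHb : ∀ U ∈ 𝓝 (0 : Completion M), ∃ j, closure (F.toAddMonoidHom ''
      ((P j).toAddSubgroup : Set (s → Completion M))) ⊆ U := by
    intro U hU
    obtain ⟨m, hm⟩ := exists_clS_subset I M' hbasis hU
    refine ⟨m, ?_⟩
    rw [himage m, hclset m]
    exact Set.Subset.trans (hKanti (Nat.le_add_left m n)) hm
  apply le_antisymm
  · have h1 : I ^ n • K k ≤ (I ^ n • K k).topologicalClosure := Submodule.le_topologicalClosure _
    rw [hcl k] at h1
    exact h1
  · have h := closure_image_subset_image F.toAddMonoidHom hFc (fun j => (P j).toAddSubgroup)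
      hGo hGa hGb hHo hHb k
    rw [himage k, hclset k] at h
    exact h


include hI hopen hbasis in
theorem smul_clS_eq' (n : ℕ) : I ^ n • clS M' = clS (I ^ n • M') := by
  have := smul_clS_eq I hI M' hopen hbasis n 0
  simp only [pow_zero, Ideal.one_eq_top, Submodule.top_smul, add_zero] at this
  exact this

include hI hopen hbasis in
theorem smul_top_eq_clS (n : ℕ) :
    (I ^ n • (⊤ : Submodule R (Completion M))) = clS (I ^ n • (⊤ : Submodule R M)) := by
  apply le_antisymm
  · have htop : (⊤ : Submodule R (Completion M)) ≤ clS (⊤ : Submodule R M) := by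
      intro x _
      have h : x ∈ closure (Set.range ((↑) : M → Completion M)) := denseRange_coe x
      change x ∈ closure (((↑) : M → Completion M) '' ((⊤ : Submodule R M) : Set M))
      simpa using h
    exact (Submodule.smul_mono le_rfl htop).trans (smul_clS_le _ _)
  · intro x hx
    have hopenK : IsOpen (clS (I ^ n • M') : Set (Completion M)) := isOpen_clS _ (hopen n)
    have hx' : x ∈ closure (((↑) : M → Completion M) ''
        ((I ^ n • (⊤ : Submodule R M) : Submodule R M) : Set M)) := hx
    have hnhds : (fun z => z - x) ⁻¹' (clS (I ^ n • M') : Set (Completion M)) ∈ 𝓝 x := by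
      have hc : Continuous (fun z : Completion M => z - x) := continuous_id.sub continuous_const
      apply hc.continuousAt.preimage_mem_nhds
      simpa using hopenK.mem_nhds (clS (I ^ n • M')).zero_mem
    obtain ⟨_, hz, ⟨y, hy, rfl⟩⟩ := mem_closure_iff_nhds.mp hx' _ hnhds
    have hz' : (y : Completion M) - x ∈ clS (I ^ n • M') := hz
    have h1 : clS (I ^ n • M') ≤ I ^ n • (⊤ : Submodule R (Completion M)) := by
      rw [← smul_clS_eq' I hI M' hopen hbasis n]
      exact Submodule.smul_mono le_rfl le_top
    have h2 : (y : Completion M) ∈ I ^ n • (⊤ : Submodule R (Completion M)) := by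
      have : coeL (R := R) y ∈ (I ^ n • (⊤ : Submodule R M)).map (coeL (R := R)) :=
        Submodule.mem_map_of_mem hy
      rw [Submodule.map_smul''] at this
      exact Submodule.smul_mono le_rfl le_top this
    have : x = (y : Completion M) - ((y : Completion M) - x) := by abel
    rw [this]
    exact Submodule.sub_mem _ h2 (h1 hz')

end ComplMod

end Groth.Agent.H51
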