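import Groth.Agent.H51.AffDescAlg
import Groth.Agent.H52.EpiBC
import Groth.Agent.H50.Basic
import Mathlib.CategoryTheory.Sites.RegularEpi
import Mathlib.AlgebraicGeometry.Morphisms.Affine
import Mathlib.AlgebraicGeometry.Morphisms.Flat
import Mathlib.AlgebraicGeometry.Pullbacks

/-!
# Effective descent of affine schemes along an affine flat cover (helper51)

`Z, Z'` affine over `S`, `c : Z' ⟶ Z` flat with `h_c` an epimorphism of sheaves, `π : F ⟶ h_Z` a sheaf over `Z` whose
base change `F ×_Z Z'` is (represented by) an affine scheme `W'`.  Then `F` is represented by an affine scheme `W`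
over `Z`, and `W' = W ×_Z Z'`.
-/

set_option autoImplicit false
universe u
open CategoryTheory CategoryTheory.Limits AlgebraicGeometry Opposite AlgSp

namespace Groth.Agent.H51.AffDesc

variable {S : Scheme.{u}}

/-- global sections of a morphism over `S`. -/
noncomputable abbrev G {X Y : Over S} (m : X ⟶ Y) : Γ(Y.left, ⊤) ⟶ Γ(X.left, ⊤) := m.left.appTop

theorem G_comp {X Y T : Over S} (m : X ⟶ Y) (n : Y ⟶ T) : G (m ≫ n) = G n ≫ G m := rfl

theorem exists_affine_rep {Z Z' W' : Over S} [IsAffine Z.left] [IsAffine Z'.left] [IsAffine W'.left]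
    (c : Z' ⟶ Z) [Flat c.left] [Epi ((yon S).map c)] (b' : W' ⟶ Z') {F : Sp S}
    (π : F ⟶ (yon S).obj Z) (a : (yon S).obj W' ⟶ F)
    (sq0 : IsPullback a ((yon S).map b') π ((yon S).map c)) :
    ∃ (W : Over S) (w : W ⟶ Z) (k : W' ⟶ W) (ψ : F ≅ (yon S).obj W), IsAffine W.left ∧
      ψ.hom ≫ (yon S).map w = π ∧ a ≫ ψ.hom = (yon S).map k ∧
      IsPullback k.left b'.left w.left c.left := by
  -- the double and triple fibre products
  obtain ⟨W2, a1, b2, hW2⟩ : ∃ (W2 : Over S) (a1 : W2 ⟶ W') (b2 : W2 ⟶ Z'),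
      IsPullback a1 b2 (b' ≫ c) c := ⟨_, _, _, IsPullback.of_hasPullback _ _⟩
  have hW2S : IsPullback a1.left b2.left (b' ≫ c).left c.left := hW2.map (Over.forget S)
  have hcomm : ((yon S).map a1 ≫ a) ≫ π = (yon S).map b2 ≫ (yon S).map c := by
    rw [Category.assoc, sq0.w, ← Functor.map_comp, ← Functor.map_comp, ← Functor.map_comp, ← hW2.w]
  obtain ⟨p2, hp2⟩ := (yon S).map_surjective (sq0.lift ((yon S).map a1 ≫ a) ((yon S).map b2) hcomm)
  have hp2a : (yon S).map p2 ≫ a = (yon S).map a1 ≫ a := by rw [hp2, sq0.lift_fst]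
  have hp2b : p2 ≫ b' = b2 := (yon S).map_injective (by rw [Functor.map_comp, hp2, sq0.lift_snd])
  obtain ⟨W3, a2, b3, hW3⟩ : ∃ (W3 : Over S) (a2 : W3 ⟶ W2) (b3 : W3 ⟶ Z'),
      IsPullback a2 b3 (a1 ≫ b' ≫ c) c := ⟨_, _, _, IsPullback.of_hasPullback _ _⟩
  have hW3S : IsPullback a2.left b3.left (a1 ≫ b' ≫ c).left c.left := hW3.map (Over.forget S)
  have h13 : (a2 ≫ a1) ≫ (b' ≫ c) = b3 ≫ c := by rw [Category.assoc, hW3.w]
  have h23 : (a2 ≫ p2) ≫ (b' ≫ c) = b3 ≫ c := by
    rw [Category.assoc, ← Category.assoc p2, hp2b, ← hW2.w, hW3.w]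
  obtain ⟨t13, t13a, t13b⟩ : ∃ t13 : W3 ⟶ W2, t13 ≫ a1 = a2 ≫ a1 ∧ t13 ≫ b2 = b3 :=
    ⟨hW2.lift _ _ h13, hW2.lift_fst _ _ _, hW2.lift_snd _ _ _⟩
  obtain ⟨t23, t23a, t23b⟩ : ∃ t23 : W3 ⟶ W2, t23 ≫ a1 = a2 ≫ p2 ∧ t23 ≫ b2 = b3 :=
    ⟨hW2.lift _ _ h23, hW2.lift_fst _ _ _, hW2.lift_snd _ _ _⟩
  have hfork : t13 ≫ p2 = t23 ≫ p2 := by
    apply (yon S).map_injective
    apply sq0.hom_ext
    · rw [Functor.map_comp, Functor.map_comp, Category.assoc, Category.assoc, hp2a,
        ← Category.assoc, ← Category.assoc, ← Functor.map_comp, ← Functor.map_comp, t13a, t23a,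
        Functor.map_comp, Functor.map_comp, Category.assoc, Category.assoc, hp2a]
    · rw [← Functor.map_comp, ← Functor.map_comp, Category.assoc, Category.assoc, hp2b, t13b, t23b]
  obtain ⟨δ, δa, δb⟩ : ∃ δ : W' ⟶ W2, δ ≫ a1 = 𝟙 W' ∧ δ ≫ b2 = b' :=
    ⟨hW2.lift (𝟙 W') b' (by rw [Category.id_comp]), hW2.lift_fst _ _ _, hW2.lift_snd _ _ _⟩
  have hδ : δ ≫ p2 = 𝟙 W' := by
    apply (yon S).map_injective
    apply sq0.hom_ext
    · rw [Functor.map_comp, Category.assoc, hp2a, ← Category.assoc, ← Functor.map_comp, δa]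
    · rw [← Functor.map_comp, Category.assoc, hp2b, δb, CategoryTheory.Functor.map_id, Category.id_comp]
  -- affineness
  have hW2aff : IsAffine W2.left := IsAffine.of_isPullback hW2S
  -- ring-level data
  have hflat : (G c).hom.Flat := (HasRingHomProperty.iff_of_isAffine (P := @Flat)).1 inferInstance
  have po1 : IsPushout (G c) (G c ≫ G b') (G b2) (G a1) :=
    (isPushout_appTop_of_isPullback hW2S).flip
  have po2 : IsPushout (G c) (G c ≫ G b' ≫ G a1) (G b3) (G a2) :=
    (isPushout_appTop_of_isPullback hW3S).flip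
  have hβinj : Function.Injective (G p2).hom := by
    have h1 : G p2 ≫ G δ = 𝟙 _ := by rw [← G_comp, hδ]; rfl
    intro x y hxy
    have := congr_arg (G δ).hom hxy
    have e : ∀ z, (G δ).hom ((G p2).hom z) = z := fun z =>
      congr_arg (fun m : Γ(W'.left, ⊤) ⟶ Γ(W'.left, ⊤) => m.hom z) h1
    rwa [e, e] at this
  obtain ⟨E, i, e, hi, po⟩ := AffDescAlg.exists_isPushout_equalizer (G c) hflat (G b') (G a1) (G p2)
    (G b2) (G a2) (G b3) (G t13) (G t23) po1 po2
    (by rw [← G_comp, ← G_comp, t13a])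
    (by rw [← G_comp, t13b])
    (by rw [← G_comp, ← G_comp, t23a])
    (by rw [← G_comp, t23b])
    hβinj
    (by rw [← G_comp, ← G_comp, hfork])
    (by rw [← G_comp, hp2b])
  -- the affine scheme `W`
  let wS : Spec E ⟶ Z.left := Spec.map e ≫ Z.left.isoSpec.inv
  let kS : W'.left ⟶ Spec E := W'.left.isoSpec.hom ≫ Spec.map i
  have hk : kS ≫ wS = (b' ≫ c).left := by
    change (W'.left.isoSpec.hom ≫ Spec.map i) ≫ Spec.map e ≫ Z.left.isoSpec.inv = _
    rw [Category.assoc, ← Category.assoc (Spec.map i), ← Spec.map_comp, ← po.w]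
    have : G c ≫ G b' = (b' ≫ c).left.appTop := rfl
    rw [this, ← Category.assoc, Scheme.isoSpec_hom_naturality, Category.assoc, Iso.hom_inv_id,
      Category.comp_id]
  let W : Over S := Over.mk (wS ≫ Z.hom)
  let w : W ⟶ Z := Over.homMk wS rfl
  let k : W' ⟶ W := Over.homMk kS (by
    change kS ≫ wS ≫ Z.hom = W'.hom
    rw [← Category.assoc, hk, Over.w])
  have hkw : k ≫ w = b' ≫ c := by
    apply Over.OverMorphism.ext
    exact hk
  have sqS : IsPullback kS b'.left wS c.left := by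
    have h0 := isPullback_SpecMap_of_isPushout (G c) e (G b') i po
    refine (IsPullback.of_iso h0 W'.left.isoSpec.symm Z'.left.isoSpec.symm (Iso.refl _)
      Z.left.isoSpec.symm ?_ ?_ ?_ ?_).flip
    · exact Scheme.isoSpec_inv_naturality b'.left
    · simp [kS]
    · exact Scheme.isoSpec_inv_naturality c.left
    · simp [wS]
  have sqO : IsPullback k b' w c := IsPullback.of_map (Over.forget S) (by rw [hkw]) sqS
  have sqW : IsPullback ((yon S).map k) ((yon S).map b') ((yon S).map w) ((yon S).map c) :=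
    sqO.map (yon S)
  -- kernel pair of `a`
  have hepia : Epi a := H52.epi_fst_of_isPullback sq0
  have ker : IsPullback ((yon S).map p2) ((yon S).map a1) a a := by
    have outer : IsPullback ((yon S).map p2 ≫ (yon S).map b') ((yon S).map a1) ((yon S).map c)
        (a ≫ π) := by
      rw [← Functor.map_comp, hp2b, sq0.w, ← Functor.map_comp]
      exact (hW2.map (yon S)).flip
    exact IsPullback.of_right outer hp2a sq0.flip
  have h1 : IsRegularEpi a := IsRegularEpiCategory.regularEpiOfEpi a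
  have h2 : EffectiveEpi a := (isRegularEpi_iff_effectiveEpi a).1 h1
  have hcol : IsColimit (Cofork.ofπ a ker.w) := isColimitCoforkOfEffectiveEpi a ker.cone ker.isLimit
  have hkk : (yon S).map p2 ≫ (yon S).map k = (yon S).map a1 ≫ (yon S).map k := by
    rw [← Functor.map_comp, ← Functor.map_comp]
    congr 1
    apply Over.OverMorphism.ext
    change p2.left ≫ W'.left.isoSpec.hom ≫ Spec.map i = a1.left ≫ W'.left.isoSpec.hom ≫ Spec.map i
    rw [← Scheme.isoSpec_hom_naturality_assoc, ← Scheme.isoSpec_hom_naturality_assoc,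
      ← Spec.map_comp, ← Spec.map_comp]
    congr 2
    exact hi.symm
  let ψ : F ⟶ (yon S).obj W := Cofork.IsColimit.desc hcol ((yon S).map k) hkk
  have haψ : a ≫ ψ = (yon S).map k := Cofork.IsColimit.π_desc hcol
  have hψπ : ψ ≫ (yon S).map w = π := by
    rw [← cancel_epi a, ← Category.assoc, haψ, ← Functor.map_comp, hkw, sq0.w, Functor.map_comp]
  have hepik : Epi ((yon S).map k) := H52.epi_fst_of_isPullback sqW
  have hepiψ : Epi ψ := by
    have : Epi (a ≫ ψ) := by rw [haψ]; exact hepik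
    exact epi_of_epi a ψ
  have hmonoψ : Mono ψ := by
    apply H50.mono_of_forall_yon
    intro T x₁ x₂ h12
    obtain ⟨z, hz⟩ := (yon S).map_surjective (x₁ ≫ π)
    have hz2 : (yon S).map z = x₂ ≫ π := by
      rw [hz, ← hψπ, ← Category.assoc, h12, Category.assoc]
    obtain ⟨T', pr1, pr2, hT'⟩ : ∃ (T' : Over S) (pr1 : T' ⟶ T) (pr2 : T' ⟶ Z'),
        IsPullback pr1 pr2 z c := ⟨_, _, _, IsPullback.of_hasPullback _ _⟩
    have sqT := hT'.map (yon S)
    have hepi1 : Epi ((yon S).map pr1) := H52.epi_fst_of_isPullback sqT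
    rw [← cancel_epi ((yon S).map pr1)]
    have c1 : ((yon S).map pr1 ≫ x₁) ≫ π = (yon S).map pr2 ≫ (yon S).map c := by
      rw [Category.assoc, ← hz, sqT.w]
    have c2 : ((yon S).map pr1 ≫ x₂) ≫ π = (yon S).map pr2 ≫ (yon S).map c := by
      rw [Category.assoc, ← hz2, sqT.w]
    have e12 : sq0.lift _ _ c1 = sq0.lift _ _ c2 := by
      apply sqW.hom_ext
      · rw [← haψ, ← Category.assoc, ← Category.assoc, sq0.lift_fst, sq0.lift_fst, Category.assoc,
          Category.assoc, h12]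
      · rw [sq0.lift_snd, sq0.lift_snd]
    rw [← sq0.lift_fst _ _ c1, ← sq0.lift_fst _ _ c2, e12]
  have hiso : IsIso ψ := isIso_of_mono_of_epi ψ
  refine ⟨W, w, k, asIso ψ, ?_, hψπ, haψ, sqS⟩
  change IsAffine (Spec E)
  infer_instance

end Groth.Agent.H51.AffDesc
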