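import Mathlib.RingTheory.Flat.Equalizer
import Mathlib.Algebra.Category.Ring.Constructions
import Mathlib.RingTheory.RingHom.Flat

/-!
# Faithfully flat descent of an algebra with descent datum: the ring-level lemma (helper51)

`A → B` flat, `C1` a `B`-algebra, `C2 = B ⊗_A C1`, `C3 = B ⊗_A C2`, with the second projection `β : C1 → C2`
and the two maps `τ13, τ23 : C2 → C3` of a descent datum (only the identities used are assumed).  Then, for the
equalizer `E` of `α, β : C1 ⇉ C2`, the map `B ⊗_A E → C1` is bijective.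
-/

set_option autoImplicit false
universe u
open TensorProduct

namespace Groth.Agent.H51.AffDescAlg

section Alg

variable {A B C1 C2 C3 : Type u} [CommRing A] [CommRing B] [CommRing C1] [CommRing C2] [CommRing C3]
  [Algebra A B] [Module.Flat A B] [Algebra A C1] [Algebra A C2] [Algebra A C3]
  (α β : C1 →ₐ[A] C2) (j : B →ₐ[A] C1) (ε1 : B →ₐ[A] C2) (a2 : C2 →ₐ[A] C3) (ε2 : B →ₐ[A] C3)
  (τ13 τ23 : C2 →ₐ[A] C3)

theorem bijective_productMap_equalizer
    (hκ1 : Function.Bijective (Algebra.TensorProduct.productMap ε1 α))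
    (hκ2 : Function.Injective (Algebra.TensorProduct.productMap ε2 a2))
    (h13α : τ13.comp α = a2.comp α) (h13ε : τ13.comp ε1 = ε2)
    (h23α : τ23.comp α = a2.comp β) (h23ε : τ23.comp ε1 = ε2)
    (hβ : Function.Injective β) (hfork : τ13.comp β = τ23.comp β) (hj : β.comp j = ε1) :
    Function.Bijective (Algebra.TensorProduct.productMap j (AlgHom.equalizer α β).val) := by
  set E := AlgHom.equalizer α β with hE
  set θ := Algebra.TensorProduct.productMap j E.val with hθ
  set κ1 := Algebra.TensorProduct.productMap ε1 α with hκ1d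
  set κ2 := Algebra.TensorProduct.productMap ε2 a2 with hκ2d
  -- `β ∘ θ = κ1 ∘ (id ⊗ incl)`
  have key : ∀ y : B ⊗[A] E, β (θ y) = κ1 (LinearMap.lTensor B E.val.toLinearMap y) := by
    intro y
    induction y using TensorProduct.induction_on with
    | zero => simp
    | tmul b x =>
      have hx : α x.1 = β x.1 := x.2
      have hjb : β (j b) = ε1 b := by rw [← hj]; rfl
      simp only [hθ, hκ1d, Algebra.TensorProduct.productMap_apply_tmul, map_mul,
        LinearMap.lTensor_tmul, AlgHom.toLinearMap_apply, Subalgebra.coe_val, hjb, hx]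
    | add y z hy hz => simp only [map_add, hy, hz]
  have I1 : ∀ y : B ⊗[A] C1, κ2 (LinearMap.lTensor B α.toLinearMap y) = τ13 (κ1 y) := by
    intro y
    induction y using TensorProduct.induction_on with
    | zero => simp
    | tmul b x =>
      have e1 : τ13 (ε1 b) = ε2 b := by rw [← h13ε]; rfl
      have e2 : τ13 (α x) = a2 (α x) := by
        have := congr_arg (fun m => m x) h13α
        exact this
      simp only [hκ1d, hκ2d, Algebra.TensorProduct.productMap_apply_tmul, map_mul,
        LinearMap.lTensor_tmul, AlgHom.toLinearMap_apply, e1, e2]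
    | add y z hy hz => simp only [map_add, hy, hz]
  have I2 : ∀ y : B ⊗[A] C1, κ2 (LinearMap.lTensor B β.toLinearMap y) = τ23 (κ1 y) := by
    intro y
    induction y using TensorProduct.induction_on with
    | zero => simp
    | tmul b x =>
      have e1 : τ23 (ε1 b) = ε2 b := by rw [← h23ε]; rfl
      have e2 : τ23 (α x) = a2 (β x) := by
        have := congr_arg (fun m => m x) h23α
        exact this
      simp only [hκ1d, hκ2d, Algebra.TensorProduct.productMap_apply_tmul, map_mul,
        LinearMap.lTensor_tmul, AlgHom.toLinearMap_apply, e1, e2]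
    | add y z hy hz => simp only [map_add, hy, hz]
  have hinjE : Function.Injective (LinearMap.lTensor B E.val.toLinearMap) :=
    Module.Flat.lTensor_preserves_injective_linearMap _ Subtype.val_injective
  constructor
  · intro y z hyz
    apply hinjE
    apply hκ1.1
    rw [← key, ← key, hyz]
  · intro c
    obtain ⟨y, hy⟩ := hκ1.2 (β c)
    have hyeq : LinearMap.lTensor B α.toLinearMap y = LinearMap.lTensor B β.toLinearMap y := by
      apply hκ2
      rw [I1, I2, hy]
      have := congr_arg (fun m => m c) hfork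
      exact this
    have hmem : y ∈ LinearMap.eqLocus (AlgebraTensorModule.lTensor A B α.toLinearMap)
        (AlgebraTensorModule.lTensor A B β.toLinearMap) := hyeq
    rw [Module.Flat.eqLocus_lTensor_eq] at hmem
    obtain ⟨e, he⟩ := hmem
    refine ⟨e, hβ ?_⟩
    rw [key, ← hy]
    congr 1

end Alg

section Cat

open CategoryTheory CategoryTheory.Limits

theorem exists_isPushout_equalizer {A B C1 C2 C3 : CommRingCat.{u}} (f : A ⟶ B) (hf : f.hom.Flat)
    (j : B ⟶ C1) (α β : C1 ⟶ C2) (ε1 : B ⟶ C2) (a2 : C2 ⟶ C3) (ε2 : B ⟶ C3) (τ13 τ23 : C2 ⟶ C3)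
    (po1 : IsPushout f (f ≫ j) ε1 α) (po2 : IsPushout f (f ≫ j ≫ α) ε2 a2)
    (h13α : α ≫ τ13 = α ≫ a2) (h13ε : ε1 ≫ τ13 = ε2)
    (h23α : α ≫ τ23 = β ≫ a2) (h23ε : ε1 ≫ τ23 = ε2)
    (hβ : Function.Injective β.hom) (hfork : β ≫ τ13 = β ≫ τ23) (hj : j ≫ β = ε1) :
    ∃ (E : CommRingCat.{u}) (i : E ⟶ C1) (e : A ⟶ E), i ≫ α = i ≫ β ∧ IsPushout f e j i := by
  let _ : Algebra A B := f.hom.toAlgebra
  let _ : Algebra A C1 := (f ≫ j).hom.toAlgebra
  let _ : Algebra A C2 := (f ≫ j ≫ α).hom.toAlgebra
  let _ : Algebra A C3 := (f ≫ j ≫ α ≫ a2).hom.toAlgebra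
  have : Module.Flat A B := hf
  have hw1 : f ≫ ε1 = f ≫ j ≫ α := by rw [po1.w, Category.assoc]
  have hw2 : f ≫ ε2 = f ≫ j ≫ α ≫ a2 := by rw [po2.w, Category.assoc, Category.assoc]
  have hfjβ : f ≫ j ≫ β = f ≫ j ≫ α := by rw [hj, hw1]
  let α' : C1 →ₐ[A] C2 := { α.hom with commutes' := fun r => rfl }
  let β' : C1 →ₐ[A] C2 :=
    { β.hom with commutes' := fun r => congr_arg (fun m : A ⟶ C2 => m.hom r) hfjβ }
  let j' : B →ₐ[A] C1 := { j.hom with commutes' := fun r => rfl }
  let ε1' : B →ₐ[A] C2 :=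
    { ε1.hom with commutes' := fun r => congr_arg (fun m : A ⟶ C2 => m.hom r) hw1 }
  let a2' : C2 →ₐ[A] C3 := { a2.hom with commutes' := fun r => rfl }
  let ε2' : B →ₐ[A] C3 :=
    { ε2.hom with commutes' := fun r => congr_arg (fun m : A ⟶ C3 => m.hom r) hw2 }
  have hτ13 : f ≫ j ≫ α ≫ τ13 = f ≫ j ≫ α ≫ a2 := by rw [h13α]
  have hτ23 : f ≫ j ≫ α ≫ τ23 = f ≫ j ≫ α ≫ a2 := by
    rw [h23α, ← Category.assoc j, ← Category.assoc f, ← Category.assoc f, Category.assoc f j β,
      hfjβ]
    simp only [Category.assoc]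
  let τ13' : C2 →ₐ[A] C3 :=
    { τ13.hom with commutes' := fun r => congr_arg (fun m : A ⟶ C3 => m.hom r) hτ13 }
  let τ23' : C2 →ₐ[A] C3 :=
    { τ23.hom with commutes' := fun r => congr_arg (fun m : A ⟶ C3 => m.hom r) hτ23 }
  -- the two pushouts as bijections
  have bij : ∀ {P Q : CommRingCat.{u}} [Algebra A P] [Algebra A Q] (inl : B →ₐ[A] Q)
      (inr : P →ₐ[A] Q), IsPushout (CommRingCat.ofHom (algebraMap A B))
        (CommRingCat.ofHom (algebraMap A P)) (CommRingCat.ofHom inl.toRingHom)
        (CommRingCat.ofHom inr.toRingHom) →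
      Function.Bijective (Algebra.TensorProduct.productMap inl inr) := by
    intro P Q _ _ inl inr po
    let iso := (CommRingCat.isPushout_tensorProduct A B P).isoIsPushout _ _ po
    have h1 : _ ≫ iso.hom = _ :=
      IsPushout.inl_isoIsPushout_hom _ _ (CommRingCat.isPushout_tensorProduct A B P) po
    have h2 : _ ≫ iso.hom = _ :=
      IsPushout.inr_isoIsPushout_hom _ _ (CommRingCat.isPushout_tensorProduct A B P) po
    have heq : ∀ y : B ⊗[A] P, iso.hom.hom y = Algebra.TensorProduct.productMap inl inr y := by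
      intro y
      induction y using TensorProduct.induction_on with
      | zero => simp
      | tmul b x =>
        have e1 : iso.hom.hom (b ⊗ₜ[A] (1 : P)) = inl b :=
          congr_arg (fun m : B ⟶ Q => m.hom b) h1
        have e2 : iso.hom.hom ((1 : B) ⊗ₜ[A] x) = inr x :=
          congr_arg (fun m : P ⟶ Q => m.hom x) h2
        have e3 : b ⊗ₜ[A] x = (b ⊗ₜ[A] (1 : P)) * ((1 : B) ⊗ₜ[A] x) := by
          rw [Algebra.TensorProduct.tmul_mul_tmul, mul_one, one_mul]
        rw [e3, map_mul, e1, e2, map_mul]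
        simp
      | add y z hy hz => rw [map_add, map_add, hy, hz]
    have hb : Function.Bijective iso.hom.hom := iso.commRingCatIsoToRingEquiv.bijective
    have hfun : (⇑(Algebra.TensorProduct.productMap inl inr) : B ⊗[A] P → Q) = ⇑iso.hom.hom :=
      funext fun y => (heq y).symm
    rw [hfun]
    exact hb
  have hκ1 : Function.Bijective (Algebra.TensorProduct.productMap ε1' α') := bij ε1' α' po1
  have hκ2 : Function.Bijective (Algebra.TensorProduct.productMap ε2' a2') := bij ε2' a2' po2
  have hmain := bijective_productMap_equalizer α' β' j' ε1' a2' ε2' τ13' τ23' hκ1 hκ2.1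
    (by ext x; exact congr_arg (fun m : C1 ⟶ C3 => m.hom x) h13α)
    (by ext x; exact congr_arg (fun m : B ⟶ C3 => m.hom x) h13ε)
    (by ext x; exact congr_arg (fun m : C1 ⟶ C3 => m.hom x) h23α)
    (by ext x; exact congr_arg (fun m : B ⟶ C3 => m.hom x) h23ε)
    hβ
    (by ext x; exact congr_arg (fun m : C1 ⟶ C3 => m.hom x) hfork)
    (by ext x; exact congr_arg (fun m : B ⟶ C2 => m.hom x) hj)
  let E := AlgHom.equalizer α' β'
  refine ⟨CommRingCat.of E, CommRingCat.ofHom E.val.toRingHom, CommRingCat.ofHom (algebraMap A E),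
    ?_, ?_⟩
  · ext x
    exact x.2
  · let eq : B ⊗[A] E ≃+* C1 :=
      RingEquiv.ofBijective (Algebra.TensorProduct.productMap j' E.val).toRingHom hmain
    refine (CommRingCat.isPushout_tensorProduct A B E).of_iso (Iso.refl _) (Iso.refl _)
      (Iso.refl _) eq.toCommRingCatIso ?_ ?_ ?_ ?_
    · simp; rfl
    · simp
    · ext b
      simp [eq]
      rfl
    · ext x
      simp [eq]
      try rfl

end Cat

end Groth.Agent.H51.AffDescAlg
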