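import Groth.Agent.H51.AffDesc
import Groth.Agent.H50.QcChart
import Mathlib.AlgebraicGeometry.FunctionField

/-!
# Affine morphisms: descent along an etale chart of the target (helper51)
-/

set_option autoImplicit false
universe u
open CategoryTheory CategoryTheory.Limits AlgebraicGeometry Opposite AlgSp

namespace Groth.Agent.H51.AffDesc

open Groth.Agent.H50

variable {S : Scheme.{u}}

/-- Step A: an affine scheme over a sheaf `Y` with an etale surjective chart `p : h_V ⟶ Y` admits an affine etale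
cover mapping to the chart. -/
theorem exists_affine_etale_cover {Y : Sp S} {V : Over S} (p : (yon S).obj V ⟶ Y)
    (hp : RepWith @Etale p) (hps : RepWith @Surjective p) {Z : Over S} [IsAffine Z.left]
    (g : (yon S).obj Z ⟶ Y) :
    ∃ (Z' : Over S) (c : Z' ⟶ Z) (g'' : Z' ⟶ V), IsAffine Z'.left ∧ Etale c.left ∧
      Surjective c.left ∧ (yon S).map g'' ≫ p = (yon S).map c ≫ g := by
  obtain ⟨VZ, snd, fst, sq⟩ := hp.rep g
  obtain ⟨fst₀, rfl⟩ := (yon S).map_surjective fst
  have hsndE : Etale snd.left := hp.property g _ snd sq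
  have hsndS : Surjective snd.left := hps.property g _ snd sq
  let 𝒰 := VZ.left.affineCover
  let O : 𝒰.I₀ → Set ↥Z.left := fun v => Set.range (𝒰.f v ≫ snd.left)
  have hO : ∀ v, IsOpen (O v) := fun v => (𝒰.f v ≫ snd.left).isOpenMap.isOpen_range
  have hcov : (Set.univ : Set ↥Z.left) ⊆ ⋃ v, O v := by
    intro z _
    obtain ⟨y, rfl⟩ := hsndS.surj z
    obtain ⟨v, y', rfl⟩ := 𝒰.exists_eq y
    exact Set.mem_iUnion.2 ⟨v, y', rfl⟩
  obtain ⟨t, ht⟩ := isCompact_univ.elim_finite_subcover O hO hcov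
  let ι : Type u := {v : 𝒰.I₀ // v ∈ t}
  let T : ι → Over S := fun k => Over.mk (𝒰.f k.1 ≫ VZ.hom)
  let e : ∀ k : ι, T k ⟶ VZ := fun k => Over.homMk (𝒰.f k.1) rfl
  have hTaff : ∀ k : ι, IsAffine (T k).left := fun k => inferInstanceAs (IsAffine (𝒰.X k.1))
  have hfin : Finite ι := Finite.of_fintype _
  refine ⟨sigmaOver T, sigmaOverDesc e ≫ snd, sigmaOverDesc e ≫ fst₀, ?_, ?_, ?_, ?_⟩
  · change IsAffine (∐ fun k => (T k).left)
    infer_instance
  · have h1 : Etale (sigmaOverDesc e).left := etale_sigmaOverDesc e (fun k => by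
      change Etale (𝒰.f k.1)
      infer_instance)
    rw [Over.comp_left]
    infer_instance
  · refine ⟨fun z => ?_⟩
    have hz := ht (Set.mem_univ z)
    simp only [Set.mem_iUnion] at hz
    obtain ⟨v, hv, y, hy⟩ := hz
    refine ⟨(sigmaOverι T ⟨v, hv⟩).left y, ?_⟩
    rw [← Scheme.Hom.comp_apply, ← Over.comp_left, ← Category.assoc, sigmaOverι_desc]
    exact hy
  · rw [Functor.map_comp, Functor.map_comp, Category.assoc, Category.assoc, sq.w]

/-- Step B: descent of the affine fibre product along the affine etale cover. -/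
theorem exists_affine_pullback {X Y : Sp S} (f : X ⟶ Y) {V : Over S} (p : (yon S).obj V ⟶ Y)
    {P : Sp S} (fst : P ⟶ X) (snd : P ⟶ (yon S).obj V) (sq : IsPullback fst snd f p)
    {Z Z' W' : Over S} [IsAffine Z.left] [IsAffine Z'.left] [IsAffine W'.left]
    (g : (yon S).obj Z ⟶ Y) (c : Z' ⟶ Z) [Etale c.left] [Surjective c.left] (g'' : Z' ⟶ V)
    (hg : (yon S).map g'' ≫ p = (yon S).map c ≫ g) (b' : W' ⟶ Z') (x' : (yon S).obj W' ⟶ P)
    (sqW' : IsPullback x' ((yon S).map b') snd ((yon S).map g'')) :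
    ∃ (W : Over S) (w : W ⟶ Z) (k : W' ⟶ W) (x : (yon S).obj W ⟶ X), IsAffine W.left ∧
      IsPullback x ((yon S).map w) f g ∧ IsPullback k.left b'.left w.left c.left := by
  have big : IsPullback (x' ≫ fst) ((yon S).map b') f ((yon S).map c ≫ g) := by
    rw [← hg]
    exact sqW'.paste_horiz sq
  have sqF := IsPullback.of_hasPullback f g
  have sq0 : IsPullback (pullback.lift (x' ≫ fst) ((yon S).map b' ≫ (yon S).map c)
      (by rw [big.w, Category.assoc])) ((yon S).map b') (pullback.snd f g) ((yon S).map c) := by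
    refine IsPullback.of_right ?_ (pullback.lift_snd _ _ _) sqF
    rw [pullback.lift_fst]
    exact big
  have hepi : Epi ((yon S).map c) := H52.epi_of_etale_surjective _
    ((repWith_yon_map_iff @Etale c).2 inferInstance)
    ((repWith_yon_map_iff @Surjective c).2 inferInstance)
  obtain ⟨W, w, k, ψ, hW, hψπ, -, sqS⟩ := exists_affine_rep c b' (pullback.snd f g) _ sq0
  refine ⟨W, w, k, ψ.inv ≫ pullback.fst f g, hW, ?_, sqS⟩
  refine IsPullback.of_iso sqF ψ (Iso.refl _) (Iso.refl _) (Iso.refl _) ?_ ?_ ?_ ?_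
  · simp
  · simp [hψπ]
  · simp
  · simp

end Groth.Agent.H51.AffDesc
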