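import Groth.Agent.H51.AffDescChart
import Groth.Agent.H51.AffineTest
import Groth.Agent.H52.MonoField

/-!
# Affine descent along fppf covers for sheaves over a base scheme (helper51)
-/

set_option autoImplicit false
universe u
open CategoryTheory CategoryTheory.Limits AlgebraicGeometry Opposite AlgSp

namespace Groth.Agent.H51.AffDesc

open Groth.Agent.H50

variable {S : Scheme.{u}}

/-- An fppf cover of an affine scheme can be refined by an affine fppf cover. -/
theorem exists_affine_fppf_cover {Z VZ : Over S} [IsAffine Z.left] (snd : VZ ⟶ Z) [Flat snd.left]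
    [LocallyOfFinitePresentation snd.left] [Surjective snd.left] :
    ∃ (Z' : Over S) (c : Z' ⟶ Z) (e : Z' ⟶ VZ), IsAffine Z'.left ∧ Flat c.left ∧
      LocallyOfFinitePresentation c.left ∧ Surjective c.left ∧ e ≫ snd = c := by
  let 𝒰 := VZ.left.affineCover
  let O : 𝒰.I₀ → Set ↥Z.left := fun v => Set.range (𝒰.f v ≫ snd.left)
  have hO : ∀ v, IsOpen (O v) := fun v => (𝒰.f v ≫ snd.left).isOpenMap.isOpen_range
  have hcov : (Set.univ : Set ↥Z.left) ⊆ ⋃ v, O v := by
    intro z _
    obtain ⟨y, rfl⟩ := (inferInstance : Surjective snd.left).surj z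
    obtain ⟨v, y', rfl⟩ := 𝒰.exists_eq y
    exact Set.mem_iUnion.2 ⟨v, y', rfl⟩
  obtain ⟨t, ht⟩ := isCompact_univ.elim_finite_subcover O hO hcov
  let ι : Type u := {v : 𝒰.I₀ // v ∈ t}
  let T : ι → Over S := fun k => Over.mk (𝒰.f k.1 ≫ VZ.hom)
  let e : ∀ k : ι, T k ⟶ VZ := fun k => Over.homMk (𝒰.f k.1) rfl
  have hTaff : ∀ k : ι, IsAffine (T k).left := fun k => inferInstanceAs (IsAffine (𝒰.X k.1))
  have hfin : Finite ι := Finite.of_fintype _
  refine ⟨sigmaOver T, sigmaOverDesc e ≫ snd, sigmaOverDesc e, ?_, ?_, ?_, ?_, rfl⟩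
  · change IsAffine (∐ fun k => (T k).left)
    infer_instance
  · have h1 : Flat (sigmaOverDesc e).left :=
      sigmaDesc_of_isZariskiLocalAtSource @Flat (fun k => (T k).left) (fun k => (e k).left)
        (fun k => by
          change Flat (𝒰.f k.1)
          infer_instance)
    rw [Over.comp_left]
    infer_instance
  · have h1 : LocallyOfFinitePresentation (sigmaOverDesc e).left :=
      sigmaDesc_of_isZariskiLocalAtSource @LocallyOfFinitePresentation (fun k => (T k).left)
        (fun k => (e k).left) (fun k => by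
          change LocallyOfFinitePresentation (𝒰.f k.1)
          infer_instance)
    rw [Over.comp_left]
    infer_instance
  · refine ⟨fun z => ?_⟩
    have hz := ht (Set.mem_univ z)
    simp only [Set.mem_iUnion] at hz
    obtain ⟨v, hv, y, hy⟩ := hz
    refine ⟨(sigmaOverι T ⟨v, hv⟩).left y, ?_⟩
    rw [← Scheme.Hom.comp_apply, ← Over.comp_left, ← Category.assoc, sigmaOverι_desc]
    exact hy

/-- A sheaf `Z` over `S` such that `Z × h_{S'}` is represented by a scheme affine over `S'`, for an fppf cover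
`S' ⟶ S`, has all its base changes to affine schemes represented by affine schemes. -/
theorem exists_affine_prod {SO' T' : Over S} [Flat SO'.hom] [LocallyOfFinitePresentation SO'.hom]
    [Surjective SO'.hom] (Z : Sp S) (a : T' ⟶ SO') [IsAffineHom a.left]
    (φ : (yon S).obj T' ≅ Z ⨯ (yon S).obj SO') (hφ : φ.hom ≫ prod.snd = (yon S).map a)
    {Z₀ : Over S} [IsAffine Z₀.left] :
    ∃ (W : Over S) (w : W ⟶ Z₀) (x : (yon S).obj W ⟶ Z), IsAffine W.left ∧
      IsPullback x ((yon S).map w) (terminal.from Z) (terminal.from ((yon S).obj Z₀)) := by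
  -- the fppf cover of `Z₀`
  let pt : Over S := Over.mk (𝟙 S)
  let tS' : SO' ⟶ pt := Over.homMk SO'.hom
  let tZ : Z₀ ⟶ pt := Over.homMk Z₀.hom
  obtain ⟨VZ, vS, vZ, hVZ⟩ : ∃ (VZ : Over S) (vS : VZ ⟶ SO') (vZ : VZ ⟶ Z₀), IsPullback vS vZ tS' tZ :=
    ⟨_, _, _, IsPullback.of_hasPullback _ _⟩
  have hVZS : IsPullback vS.left vZ.left SO'.hom Z₀.hom := hVZ.map (Over.forget S)
  have h1 : Flat vZ.left := MorphismProperty.of_isPullback (P := @Flat) hVZS inferInstance
  have h2 : LocallyOfFinitePresentation vZ.left :=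
    MorphismProperty.of_isPullback (P := @LocallyOfFinitePresentation) hVZS inferInstance
  have h3 : Surjective vZ.left := MorphismProperty.of_isPullback (P := @Surjective) hVZS inferInstance
  obtain ⟨Z', c, e, hZ', hc1, hc2, hc3, hec⟩ := exists_affine_fppf_cover vZ
  have hepi : Epi ((yon S).map c) := H52.epi_yon_map_of_fppf c
  -- the affine scheme `W' = T' ×_{S'} Z'`
  obtain ⟨W', pW, b', hW'⟩ : ∃ (W' : Over S) (pW : W' ⟶ T') (b' : W' ⟶ Z'), IsPullback pW b' a (e ≫ vS) :=
    ⟨_, _, _, IsPullback.of_hasPullback _ _⟩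
  have hW'S : IsPullback pW.left b'.left a.left (e ≫ vS).left := hW'.map (Over.forget S)
  have hb' : IsAffineHom b'.left := MorphismProperty.of_isPullback (P := @IsAffineHom) hW'S inferInstance
  have hW'aff : IsAffine W'.left := isAffine_of_isAffineHom b'.left
  -- the pullback square of sheaves
  have sq1 : IsPullback ((yon S).map pW) ((yon S).map b') ((yon S).map a) ((yon S).map (e ≫ vS)) :=
    hW'.map (yon S)
  have sq2 : IsPullback (φ.hom ≫ prod.fst) ((yon S).map a) (terminal.from Z)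
      (terminal.from ((yon S).obj SO')) := by
    have h0 := IsPullback.of_hasBinaryProduct' Z ((yon S).obj SO')
    refine IsPullback.of_iso h0 φ.symm (Iso.refl _) (Iso.refl _) (Iso.refl _) ?_ ?_ ?_ ?_
    · simp
    · simp [← hφ]
    · simp
    · simp
  have sq12 := sq1.paste_horiz sq2
  have sq3 := IsPullback.of_hasBinaryProduct' Z ((yon S).obj Z₀)
  obtain ⟨aF, haF1, haF2⟩ : ∃ aF : (yon S).obj W' ⟶ Z ⨯ (yon S).obj Z₀,
      aF ≫ prod.fst = (yon S).map pW ≫ φ.hom ≫ prod.fst ∧
      aF ≫ prod.snd = (yon S).map b' ≫ (yon S).map c :=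
    ⟨prod.lift _ _, prod.lift_fst _ _, prod.lift_snd _ _⟩
  have sq0 : IsPullback aF ((yon S).map b') prod.snd ((yon S).map c) := by
    refine IsPullback.of_right ?_ haF2 sq3
    rw [haF1]
    have : (yon S).map c ≫ terminal.from ((yon S).obj Z₀) =
        (yon S).map (e ≫ vS) ≫ terminal.from ((yon S).obj SO') := Subsingleton.elim _ _
    rw [this]
    exact sq12
  obtain ⟨W, w, k, ψ, hW, hψπ, -, -⟩ := exists_affine_rep c b' prod.snd aF sq0
  refine ⟨W, w, ψ.inv ≫ prod.fst, hW, ?_⟩
  refine IsPullback.of_iso sq3 ψ (Iso.refl _) (Iso.refl _) (Iso.refl _) ?_ ?_ ?_ ?_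
  · simp
  · simp [hψπ]
  · simp
  · simp

/-- A sheaf over `S` which, after an fppf base change `S' ⟶ S`, is represented by a scheme affine over `S'` is
represented by a scheme affine over `S`. -/
theorem exists_affine_rep_of_fppf {SO' T' : Over S} [Flat SO'.hom] [LocallyOfFinitePresentation SO'.hom]
    [Surjective SO'.hom] (Z : Sp S) (a : T' ⟶ SO') [IsAffineHom a.left]
    (φ : (yon S).obj T' ≅ Z ⨯ (yon S).obj SO') (hφ : φ.hom ≫ prod.snd = (yon S).map a) :
    ∃ T : Over S, IsAffineHom T.hom ∧ Nonempty ((yon S).obj T ≅ Z) := by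
  have hrep : RepWith @IsAffineHom (terminal.from Z) := by
    refine Groth.Agent.H51.ZarGlue.repWith_of_affine_test @IsAffineHom (terminal.from Z) (fun Z₀ hZ₀ g => ?_)
    have := hZ₀
    obtain ⟨W, w, x, hW, sq⟩ := exists_affine_prod Z a φ hφ (Z₀ := Z₀)
    refine ⟨W, w, x, ?_, inferInstance⟩
    have : g = terminal.from ((yon S).obj Z₀) := Subsingleton.elim _ _
    rw [this]
    exact sq
  have hT : IsTerminal ((yon S).obj (Over.mk (𝟙 S))) :=
    IsTerminal.isTerminalObj (yon S) _ Over.mkIdTerminal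
  let g₀ : (yon S).obj (Over.mk (𝟙 S)) ⟶ ⊤_ (Sp S) := (hT.uniqueUpToIso terminalIsTerminal).hom
  obtain ⟨V, snd, fst, sq⟩ := hrep.rep g₀
  have hsnd : IsAffineHom snd.left := hrep.property g₀ fst snd sq
  have hiso : IsIso fst := sq.isIso_fst_of_isIso
  refine ⟨V, ?_, ⟨asIso fst⟩⟩
  have hV : V.hom = snd.left := by
    have := Over.w snd
    simpa using this.symm
  rw [hV]
  exact hsnd

end Groth.Agent.H51.AffDesc
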