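import Groth.Agent.H50.FpqcClosed
import Groth.Agent.H50.ImmDesc

/-!
# helper51: descent of closed subschemes along a flat surjective affine morphism of schemes
-/

set_option autoImplicit false
universe u
open CategoryTheory CategoryTheory.Limits AlgebraicGeometry

namespace Groth.Agent.H51.ClosedDescSch

/-- Two morphisms along which factoring through a closed subscheme is equivalent pull its ideal back to the same
ideal. -/
theorem comap_eq_of_factor_iff {P Y' Z' : Scheme.{u}} (i' : Z' ⟶ Y') [IsClosedImmersion i']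
    (p₁ p₂ : P ⟶ Y')
    (hc : ∀ (W : Scheme.{u}) (y : W ⟶ P),
      (∃ z : W ⟶ Z', z ≫ i' = y ≫ p₁) ↔ (∃ z : W ⟶ Z', z ≫ i' = y ≫ p₂)) :
    i'.ker.comap p₁ = i'.ker.comap p₂ := by
  have key : ∀ (W : Scheme.{u}) (y : W ⟶ P), i'.ker.comap p₁ ≤ y.ker ↔ i'.ker.comap p₂ ≤ y.ker := by
    intro W y
    rw [← Scheme.IdealSheafData.le_map_iff_comap_le, ← Scheme.IdealSheafData.le_map_iff_comap_le,
      ← Scheme.Hom.ker_comp, ← Scheme.Hom.ker_comp,
      Groth.Agent.H50.le_ker_iff_factors_of_closedImmersion,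
      Groth.Agent.H50.le_ker_iff_factors_of_closedImmersion]
    exact hc W y
  apply le_antisymm
  · have := (key _ (i'.ker.comap p₂).subschemeι).2
      (by rw [Scheme.IdealSheafData.ker_subschemeι])
    rwa [Scheme.IdealSheafData.ker_subschemeι] at this
  · have := (key _ (i'.ker.comap p₁).subschemeι).1
      (by rw [Scheme.IdealSheafData.ker_subschemeι])
    rwa [Scheme.IdealSheafData.ker_subschemeι] at this

/-- Descent of ideal sheaves along a flat surjective affine morphism. -/
theorem exists_comap_eq_of_affine {X Y : Scheme.{u}} (p : X ⟶ Y) [Flat p] [Surjective p]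
    [IsAffineHom p] (I' : X.IdealSheafData)
    (h : I'.comap (pullback.fst p p) = I'.comap (pullback.snd p p)) :
    ∃ J : Y.IdealSheafData, J.comap p = I' := by
  have hfin := Groth.Agent.H50.finCov_of_affine_family (fun _ : PUnit.{u + 1} => p)
    (fun _ => inferInstance) (fun x => ⟨⟨⟩, p.surjective x⟩)
  have hcompat : H49.IdealDescent.Compat (fun _ : PUnit.{u + 1} => p) (fun _ => I') := by
    intro i j
    exact h
  obtain ⟨J, hJ, -⟩ := H49.IdealDescent.existsUnique_comap_eq hfin (fun _ => inferInstance) hcompat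
  exact ⟨J, hJ ⟨⟩⟩

/-- Descent of closed subschemes along a flat surjective affine morphism. -/
theorem exists_closed_descent {Y' U : Scheme.{u}} (h : Y' ⟶ U) [Flat h] [Surjective h]
    [IsAffineHom h] {Z' : Scheme.{u}} (i' : Z' ⟶ Y') [IsClosedImmersion i']
    (hc : ∀ (W : Scheme.{u}) (y : W ⟶ pullback h h),
      (∃ z : W ⟶ Z', z ≫ i' = y ≫ pullback.fst h h) ↔
        (∃ z : W ⟶ Z', z ≫ i' = y ≫ pullback.snd h h)) :
    ∃ (Z : Scheme.{u}) (i : Z ⟶ U) (k : Z' ⟶ Z), IsClosedImmersion i ∧ IsPullback i' k h i := by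
  obtain ⟨J, hJ⟩ := exists_comap_eq_of_affine h i'.ker (comap_eq_of_factor_iff i' _ _ hc)
  have hle : J.subschemeι.ker ≤ (i' ≫ h).ker := by
    rw [Scheme.IdealSheafData.ker_subschemeι, Scheme.Hom.ker_comp,
      Scheme.IdealSheafData.le_map_iff_comap_le, hJ]
  refine ⟨J.subscheme, J.subschemeι, IsClosedImmersion.lift J.subschemeι (i' ≫ h) hle,
    inferInstance, ?_⟩
  refine isPullback_of_isClosedImmersion i' J.subschemeι _ h
    (IsClosedImmersion.lift_fac _ _ _).symm ?_
  rw [Scheme.IdealSheafData.ker_subschemeι, hJ]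

end Groth.Agent.H51.ClosedDescSch
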