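import Groth.Agent.H51.SepFpqcA
import Groth.Agent.H51.ClosedDescSch
import Groth.Agent.H51.FpqcLocPInst
import Groth.Agent.H52.MonoField
import Groth.Agent.H94.AlgSpLimit3
import Mathlib.AlgebraicGeometry.Morphisms.LocalFlatDescent

/-!
# helper51: a sheaf with closed relative diagonal and an fppf chart satisfies descent for sections along a
faithfully flat affine morphism
-/

set_option autoImplicit false
universe u
open CategoryTheory CategoryTheory.Limits AlgebraicGeometry

namespace Groth.Agent.H51.SepFpqc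

open AlgSp

variable {S : Scheme.{u}}

/-- Maps out of `h_Z` that agree on the kernel pair of an fppf covering `Z ⟶ T` descend to `h_T`. -/
theorem exists_desc_of_fppf {Z T : Over S} (g : Z ⟶ T) [Flat g.left] [Surjective g.left]
    [LocallyOfFinitePresentation g.left] {F : Sp S} (ζ : (yon S).obj Z ⟶ F)
    (h : (yon S).map (pullback.fst g g) ≫ ζ = (yon S).map (pullback.snd g g) ≫ ζ) :
    ∃ ξ : (yon S).obj T ⟶ F, (yon S).map g ≫ ξ = ζ := by
  have hepi : Epi ((yon S).map g) := H52.epi_yon_map_of_fppf g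
  have ker : IsPullback ((yon S).map (pullback.fst g g)) ((yon S).map (pullback.snd g g))
      ((yon S).map g) ((yon S).map g) := (IsPullback.of_hasPullback g g).map (yon S)
  have h1 : IsRegularEpi ((yon S).map g) := IsRegularEpiCategory.regularEpiOfEpi _
  have h2 : EffectiveEpi ((yon S).map g) := (isRegularEpi_iff_effectiveEpi _).1 h1
  have hcol : IsColimit (Cofork.ofπ ((yon S).map g) ker.w) :=
    isColimitCoforkOfEffectiveEpi _ ker.cone ker.isLimit
  exact ⟨Cofork.IsColimit.desc hcol ζ h, Cofork.IsColimit.π_desc hcol⟩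

/-- The main descent lemma. -/
theorem exists_section_of_fpqc {T T' U : Over S} (f : T' ⟶ T) [Flat f.left] [Surjective f.left]
    [IsAffineHom f.left] {F : Sp S} (q : F ⟶ (yon S).obj T)
    (hsep : RepWith @IsClosedImmersion (pullback.diagonal q))
    (p : (yon S).obj U ⟶ F) (hpfl : RepWith @Flat p)
    (hplfp : RepWith @LocallyOfFinitePresentation p) (hpsurj : RepWith @Surjective p)
    (ξ' : (yon S).obj T' ⟶ F) (hξ' : ξ' ≫ q = (yon S).map f)
    (heq : ∀ (T₁ : Over S) (τ₁ τ₂ : T₁ ⟶ T'), τ₁ ≫ f = τ₂ ≫ f →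
      (yon S).map τ₁ ≫ ξ' = (yon S).map τ₂ ≫ ξ') :
    ∃ ξ : (yon S).obj T ⟶ F, ξ ≫ q = 𝟙 _ ∧ (yon S).map f ≫ ξ = ξ' := by
  -- the chart over `T`
  let uT : U ⟶ T := (yon S).preimage (p ≫ q)
  have huT : (yon S).map uT = p ≫ q := (yon S).map_preimage _
  let Y' : Over S := H50.pbOver uT f
  let pr₁ : Y' ⟶ U := H50.pbOverFst uT f
  let pr₂ : Y' ⟶ T' := H50.pbOverSnd uT f
  have hpr : pr₁ ≫ uT = pr₂ ≫ f := H50.pbOver_condition uT f
  -- universal property of `Y'`
  have hY'lift : ∀ (W : Over S) (w₁ : W ⟶ U) (w₂ : W ⟶ T'), w₁ ≫ uT = w₂ ≫ f →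
      ∃ w : W ⟶ Y', w ≫ pr₁ = w₁ ∧ w ≫ pr₂ = w₂ := by
    intro W w₁ w₂ hw
    have hwl : w₁.left ≫ uT.left = w₂.left ≫ f.left := congrArg CommaMorphism.left hw
    refine ⟨Over.homMk (pullback.lift w₁.left w₂.left hwl) ?_, ?_, ?_⟩
    · change pullback.lift w₁.left w₂.left hwl ≫ pullback.fst uT.left f.left ≫ U.hom = W.hom
      rw [pullback.lift_fst_assoc, Over.w]
    · apply Over.OverMorphism.ext
      exact pullback.lift_fst _ _ _
    · apply Over.OverMorphism.ext
      exact pullback.lift_snd _ _ _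
  have hY'ext : ∀ (W : Over S) (w w' : W ⟶ Y'), w ≫ pr₁ = w' ≫ pr₁ → w ≫ pr₂ = w' ≫ pr₂ →
      w = w' := by
    intro W w w' h1 h2
    apply Over.OverMorphism.ext
    apply pullback.hom_ext
    · exact congrArg CommaMorphism.left h1
    · exact congrArg CommaMorphism.left h2
  let a : (yon S).obj Y' ⟶ F := (yon S).map pr₁ ≫ p
  let b : (yon S).obj Y' ⟶ F := (yon S).map pr₂ ≫ ξ'
  have hab : a ≫ q = b ≫ q := by
    simp only [a, b, Category.assoc]
    rw [← huT, hξ', ← Functor.map_comp, ← Functor.map_comp, hpr]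
  -- the closed equalizer
  obtain ⟨Z', i', hcl, hi'eq, hi'univ⟩ := exists_closed_equalizer q hsep a b hab
  have hmono : Mono i' := by
    have : Mono i'.left := inferInstance
    exact Over.mono_of_mono_left i'
  let g' : Z' ⟶ T' := i' ≫ pr₂
  let u' : Z' ⟶ U := i' ≫ pr₁
  have hw0 : (yon S).map u' ≫ p = (yon S).map g' ≫ ξ' := by
    simp only [u', g', Functor.map_comp, Category.assoc]
    exact hi'eq
  have sq0 : IsPullback ((yon S).map u') ((yon S).map g') p ξ' := by
    apply Groth.Agent.H94.AlgSpLimit3.isPullback_of_forall_yon _ _ _ _ hw0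
    intro T₁ u v huv
    obtain ⟨u₀, rfl⟩ := (yon S).map_surjective u
    obtain ⟨v₀, rfl⟩ := (yon S).map_surjective v
    have h1 : u₀ ≫ uT = v₀ ≫ f := by
      apply (yon S).map_injective
      rw [Functor.map_comp, Functor.map_comp, huT, ← hξ', ← Category.assoc, huv, Category.assoc]
    obtain ⟨w, hw1, hw2⟩ := hY'lift T₁ u₀ v₀ h1
    have hwab : (yon S).map w ≫ a = (yon S).map w ≫ b := by
      simp only [a, b]
      rw [← Category.assoc, ← Category.assoc, ← Functor.map_comp, ← Functor.map_comp, hw1, hw2, huv]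
    obtain ⟨z, hz⟩ := hi'univ T₁ w hwab
    refine ⟨(yon S).map z, ⟨?_, ?_⟩, ?_⟩
    · rw [← Functor.map_comp, ← hw1, ← hz, Category.assoc]
    · rw [← Functor.map_comp, ← hw2, ← hz, Category.assoc]
    · rintro r ⟨hr1, hr2⟩
      obtain ⟨z', rfl⟩ := (yon S).map_surjective r
      congr 1
      rw [← cancel_mono i', hz]
      apply hY'ext
      · rw [hw1, Category.assoc]
        apply (yon S).map_injective
        rw [← hr1, ← Functor.map_comp]
      · rw [hw2, Category.assoc]
        apply (yon S).map_injective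
        rw [← hr2, ← Functor.map_comp]
  have hg'fl : Flat g'.left := hpfl.2 _ _ _ sq0
  have hg'lfp : LocallyOfFinitePresentation g'.left := hplfp.2 _ _ _ sq0
  have hg'surj : Surjective g'.left := hpsurj.2 _ _ _ sq0
  -- factoring through `Z'` in terms of `a` and `b`
  have hfac : ∀ (W : Over S) (y : W ⟶ Y'),
      (∃ z : W.left ⟶ Z'.left, z ≫ i'.left = y.left) ↔
        (yon S).map y ≫ a = (yon S).map y ≫ b := by
    intro W y
    constructor
    · rintro ⟨z, hz⟩
      have hzw : z ≫ Z'.hom = W.hom := by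
        rw [← Over.w i', ← Category.assoc, hz, Over.w]
      have : (Over.homMk z hzw : W ⟶ Z') ≫ i' = y := by
        apply Over.OverMorphism.ext
        exact hz
      rw [← this, Functor.map_comp, Category.assoc, Category.assoc, hi'eq]
    · intro h
      obtain ⟨z, hz⟩ := hi'univ W y h
      exact ⟨z.left, congrArg CommaMorphism.left hz⟩
  -- descent of the closed subscheme `Z'` of `Y'` to `U`
  let h : Y'.left ⟶ U.left := pullback.fst uT.left f.left
  have hhfl : Flat h := inferInstance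
  have hhsurj : Surjective h := inferInstance
  have hhaff : IsAffineHom h := MorphismProperty.pullback_fst _ _ ‹IsAffineHom f.left›
  have hc : ∀ (W : Scheme.{u}) (y : W ⟶ pullback h h),
      (∃ z : W ⟶ Z'.left, z ≫ i'.left = y ≫ pullback.fst h h) ↔
        (∃ z : W ⟶ Z'.left, z ≫ i'.left = y ≫ pullback.snd h h) := by
    intro W y
    let WO : Over S := Over.mk (y ≫ pullback.fst h h ≫ Y'.hom)
    let y₁ : WO ⟶ Y' := Over.homMk (y ≫ pullback.fst h h) (by simp [WO])
    have hy₂w : (y ≫ pullback.snd h h) ≫ Y'.hom = WO.hom := by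
      change (y ≫ pullback.snd h h) ≫ h ≫ U.hom = y ≫ pullback.fst h h ≫ h ≫ U.hom
      rw [Category.assoc, ← pullback.condition_assoc]
    let y₂ : WO ⟶ Y' := Over.homMk (y ≫ pullback.snd h h) hy₂w
    have h12 : y₁ ≫ pr₁ = y₂ ≫ pr₁ := by
      apply Over.OverMorphism.ext
      change (y ≫ pullback.fst h h) ≫ h = (y ≫ pullback.snd h h) ≫ h
      rw [Category.assoc, Category.assoc, pullback.condition]
    have ha12 : (yon S).map y₁ ≫ a = (yon S).map y₂ ≫ a := by
      simp only [a]
      rw [← Category.assoc, ← Category.assoc, ← Functor.map_comp, ← Functor.map_comp, h12]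
    have hb12 : (yon S).map y₁ ≫ b = (yon S).map y₂ ≫ b := by
      simp only [b]
      rw [← Category.assoc, ← Category.assoc, ← Functor.map_comp, ← Functor.map_comp]
      apply heq
      rw [Category.assoc, Category.assoc, ← hpr, ← Category.assoc, ← Category.assoc, h12]
    have e1 := hfac WO y₁
    have e2 := hfac WO y₂
    change (∃ z : W ⟶ Z'.left, z ≫ i'.left = y ≫ pullback.fst h h) ↔ _ at e1
    change (∃ z : W ⟶ Z'.left, z ≫ i'.left = y ≫ pullback.snd h h) ↔ _ at e2
    rw [e1, e2, ha12, hb12]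
  obtain ⟨Z, i, k, hicl, sqZ⟩ := ClosedDescSch.exists_closed_descent h i'.left hc
  -- the descended closed subscheme over `S`
  let ZO : Over S := Over.mk (i ≫ U.hom)
  let iO : ZO ⟶ U := Over.homMk i rfl
  let gZ : ZO ⟶ T := iO ≫ uT
  have hkw : k ≫ ZO.hom = Z'.hom := by
    change k ≫ i ≫ U.hom = Z'.hom
    rw [← Category.assoc, ← sqZ.w, Category.assoc, ← Over.w i']
    rfl
  let kO : Z' ⟶ ZO := Over.homMk k hkw
  have hkiO : kO ≫ iO = i' ≫ pr₁ := by
    apply Over.OverMorphism.ext
    exact sqZ.w.symm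
  have hkg : kO ≫ gZ = g' ≫ f := by
    simp only [gZ, g']
    rw [← Category.assoc, hkiO, Category.assoc, Category.assoc, hpr]
  -- `Z' = Z ×_T T'`
  have sqS : IsPullback g'.left k f.left gZ.left := by
    have sqR : IsPullback pr₂.left h f.left uT.left := (IsPullback.of_hasPullback uT.left f.left).flip
    exact sqZ.paste_horiz sqR
  have sqO : IsPullback g' kO f gZ := by
    refine IsPullback.of_map (Over.forget S) hkg.symm ?_
    exact sqS
  have hQ : (@Surjective ⊓ @Flat ⊓ @QuasiCompact : MorphismProperty Scheme.{u}) f.left :=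
    ⟨⟨inferInstance, inferInstance⟩, inferInstance⟩
  have hgZsurj : Surjective gZ.left :=
    MorphismProperty.of_isPullback_of_descendsAlong (P := @Surjective)
      (Q := @Surjective ⊓ @Flat ⊓ @QuasiCompact) sqS hQ hg'surj
  have hgZlfp : LocallyOfFinitePresentation gZ.left :=
    MorphismProperty.of_isPullback_of_descendsAlong (P := @LocallyOfFinitePresentation)
      (Q := @Surjective ⊓ @Flat ⊓ @QuasiCompact) sqS hQ hg'lfp
  have hgZfl : Flat gZ.left :=
    have := Groth.Agent.H51.flat_descendsAlong_fpqc.{u}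
    MorphismProperty.of_isPullback_of_descendsAlong (P := @Flat)
      (Q := @Surjective ⊓ @Flat ⊓ @QuasiCompact) sqS hQ hg'fl
  -- the map from the descended chart
  let ζ : (yon S).obj ZO ⟶ F := (yon S).map iO ≫ p
  have hζq : ζ ≫ q = (yon S).map gZ := by
    simp only [ζ, gZ, Category.assoc, Functor.map_comp]
    rw [huT]
  have hkζ : (yon S).map kO ≫ ζ = (yon S).map g' ≫ ξ' := by
    simp only [ζ]
    rw [← Category.assoc, ← Functor.map_comp, hkiO]
    exact hw0
  clear_value ζ gZ g' kO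
  -- the two pullbacks of `ζ` to `Z ×_T Z` agree
  let π₁ : pullback gZ gZ ⟶ ZO := pullback.fst gZ gZ
  let π₂ : pullback gZ gZ ⟶ ZO := pullback.snd gZ gZ
  have hπ : π₁ ≫ gZ = π₂ ≫ gZ := pullback.condition
  let c : pullback (π₁ ≫ gZ) f ⟶ pullback gZ gZ := pullback.fst (π₁ ≫ gZ) f
  let d : pullback (π₁ ≫ gZ) f ⟶ T' := pullback.snd (π₁ ≫ gZ) f
  have hcd : c ≫ π₁ ≫ gZ = d ≫ f := pullback.condition
  have sqC : IsPullback c.left d.left (π₁ ≫ gZ).left f.left :=
    (IsPullback.of_hasPullback (π₁ ≫ gZ) f).map (Over.forget S)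
  have hcfl : Flat c.left := MorphismProperty.of_isPullback sqC.flip ‹Flat f.left›
  have hcsurj : Surjective c.left := MorphismProperty.of_isPullback sqC.flip ‹Surjective f.left›
  have hcqc : QuasiCompact c.left :=
    MorphismProperty.of_isPullback (P := @QuasiCompact) sqC.flip inferInstance
  have hζ12 : (yon S).map π₁ ≫ ζ = (yon S).map π₂ ≫ ζ := by
    apply eq_of_fpqc_cover q hsep c
    · rw [Category.assoc, Category.assoc, hζq, ← Functor.map_comp, ← Functor.map_comp, hπ]
    · let m₁ : pullback (π₁ ≫ gZ) f ⟶ Z' := sqO.lift d (c ≫ π₁) (by rw [Category.assoc, hcd])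
      let m₂ : pullback (π₁ ≫ gZ) f ⟶ Z' := sqO.lift d (c ≫ π₂)
        (by rw [Category.assoc, ← hπ, hcd])
      have hm₁k : m₁ ≫ kO = c ≫ π₁ := sqO.lift_snd _ _ _
      have hm₁g : m₁ ≫ g' = d := sqO.lift_fst _ _ _
      have hm₂k : m₂ ≫ kO = c ≫ π₂ := sqO.lift_snd _ _ _
      have hm₂g : m₂ ≫ g' = d := sqO.lift_fst _ _ _
      rw [← Category.assoc, ← Category.assoc, ← Functor.map_comp, ← Functor.map_comp, ← hm₁k,
        ← hm₂k, Functor.map_comp, Functor.map_comp, Category.assoc, Category.assoc, hkζ,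
        ← Category.assoc, ← Category.assoc, ← Functor.map_comp, ← Functor.map_comp, hm₁g, hm₂g]
  obtain ⟨ξ, hξ⟩ := exists_desc_of_fppf gZ ζ hζ12
  have hepiZ : Epi ((yon S).map gZ) := H52.epi_yon_map_of_fppf gZ
  have hepig' : Epi ((yon S).map g') := H52.epi_yon_map_of_fppf g'
  refine ⟨ξ, ?_, ?_⟩
  · rw [← cancel_epi ((yon S).map gZ), ← Category.assoc, hξ, hζq, Category.comp_id]
  · rw [← cancel_epi ((yon S).map g'), ← Category.assoc, ← Functor.map_comp, ← hkg,
      Functor.map_comp, Category.assoc, hξ, hkζ]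

end Groth.Agent.H51.SepFpqc
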