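import Mathlib.AlgebraicGeometry.Morphisms.Finite
import Mathlib.AlgebraicGeometry.Morphisms.Integral
import Mathlib.AlgebraicGeometry.Morphisms.FlatDescent
import Mathlib.AlgebraicGeometry.Morphisms.LocalFlatDescent
import Mathlib.AlgebraicGeometry.Morphisms.Etale

/-!
# Descent of integral / finite / finite locally free along a flat surjective quasi-compact base change
(helper51)
-/

set_option autoImplicit false
universe u
open CategoryTheory CategoryTheory.Limits AlgebraicGeometry

namespace Groth.Agent.H51.AffDescProps

variable {W' Z' W Z : Scheme.{u}} {k : W' ⟶ W} {b' : W' ⟶ Z'} {w : W ⟶ Z} {c : Z' ⟶ Z}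

theorem fpqc_of (c : Z' ⟶ Z) [Flat c] [Surjective c] [QuasiCompact c] :
    (@Surjective ⊓ @Flat ⊓ @QuasiCompact : MorphismProperty Scheme.{u}) c :=
  ⟨⟨inferInstance, inferInstance⟩, inferInstance⟩

theorem isIntegralHom_of_isPullback (sq : IsPullback k b' w c) [Flat c] [Surjective c]
    [QuasiCompact c] [IsAffineHom w] (h : IsIntegralHom b') : IsIntegralHom w := by
  rw [IsIntegralHom.iff_universallyClosed_and_isAffineHom]
  refine ⟨?_, inferInstance⟩
  exact MorphismProperty.of_isPullback_of_descendsAlong (P := @UniversallyClosed)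
    (Q := @Surjective ⊓ @Flat ⊓ @QuasiCompact) sq.flip (fpqc_of c) inferInstance

theorem locallyOfFiniteType_of_isPullback (sq : IsPullback k b' w c) [Flat c] [Surjective c]
    [QuasiCompact c] (h : LocallyOfFiniteType b') : LocallyOfFiniteType w :=
  MorphismProperty.of_isPullback_of_descendsAlong (P := @LocallyOfFiniteType)
    (Q := @Surjective ⊓ @Flat ⊓ @QuasiCompact) sq.flip (fpqc_of c) h

theorem locallyOfFinitePresentation_of_isPullback (sq : IsPullback k b' w c) [Flat c] [Surjective c]
    [QuasiCompact c] (h : LocallyOfFinitePresentation b') : LocallyOfFinitePresentation w :=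
  MorphismProperty.of_isPullback_of_descendsAlong (P := @LocallyOfFinitePresentation)
    (Q := @Surjective ⊓ @Flat ⊓ @QuasiCompact) sq.flip (fpqc_of c) h

theorem isFinite_of_isPullback (sq : IsPullback k b' w c) [Flat c] [Surjective c]
    [QuasiCompact c] [IsAffineHom w] (h : IsFinite b') : IsFinite w := by
  rw [IsFinite.iff_isIntegralHom_and_locallyOfFiniteType]
  exact ⟨isIntegralHom_of_isPullback sq inferInstance,
    locallyOfFiniteType_of_isPullback sq inferInstance⟩

end Groth.Agent.H51.AffDescProps
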