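import Groth.Agent.H50.SigmaChart

/-!
# helper51: pullback squares over a coproduct of schemes, from pullback squares over the components
-/

set_option autoImplicit false
universe u
open CategoryTheory CategoryTheory.Limits AlgebraicGeometry Opposite

namespace Groth.Agent.H51.SigmaPullback

open AlgSp Groth.Agent.H50 Groth.Agent.H52

variable {S : Scheme.{u}}

/-- Pullback squares of a morphism of sheaves `φ : F ⟶ h_U` over the members `V k ⟶ U` of a family assemble to a
pullback square over the coproduct of the `V k`. -/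
theorem exists_isPullback_sigmaOver {U : Over S} {F : Sp S} (φ : F ⟶ (yon S).obj U)
    {ι : Type u} (V : ι → Over S) (e : ∀ k, V k ⟶ U)
    (W : ι → Over S) (w : ∀ k, W k ⟶ V k) (x : ∀ k, (yon S).obj (W k) ⟶ F)
    (sq : ∀ k, IsPullback (x k) ((yon S).map (w k)) φ ((yon S).map (e k))) :
    ∃ (c : sigmaOver V ⟶ U) (σ : sigmaOver W ⟶ sigmaOver V)
      (x' : (yon S).obj (sigmaOver W) ⟶ F),
      c.left = Sigma.desc (fun k => (e k).left) ∧
      σ.left = Limits.Sigma.map (fun k => (w k).left) ∧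
      (∀ k, sigmaOverι V k ≫ c = e k) ∧ (∀ k, sigmaOverι W k ≫ σ = w k ≫ sigmaOverι V k) ∧
      (∀ k, (yon S).map (sigmaOverι W k) ≫ x' = x k) ∧
      IsPullback x' ((yon S).map σ) φ ((yon S).map c) := by
  have hc0 : Sigma.desc (fun k => (e k).left) ≫ U.hom = (sigmaOver V).hom := by
    apply Sigma.hom_ext
    intro k
    simp
  let c : sigmaOver V ⟶ U := Over.homMk (Sigma.desc fun k => (e k).left) hc0
  have hσ0 : Limits.Sigma.map (fun k => (w k).left) ≫ (sigmaOver V).hom = (sigmaOver W).hom := by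
    apply Sigma.hom_ext
    intro k
    simp
  let σ : sigmaOver W ⟶ sigmaOver V := Over.homMk (Limits.Sigma.map fun k => (w k).left) hσ0
  have hF1 : ∀ k, sigmaOverι V k ≫ c = e k := by
    intro k
    apply Over.OverMorphism.ext
    change Sigma.ι (fun k => (V k).left) k ≫ Sigma.desc (fun k => (e k).left) = (e k).left
    exact Sigma.ι_desc _ _
  have hF2 : ∀ k, sigmaOverι W k ≫ σ = w k ≫ sigmaOverι V k := by
    intro k
    apply Over.OverMorphism.ext
    change Sigma.ι (fun k => (W k).left) k ≫ Limits.Sigma.map (fun k => (w k).left) =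
      (w k).left ≫ Sigma.ι (fun k => (V k).left) k
    exact Sigma.ι_map _ _
  obtain ⟨x', hx'⟩ := exists_desc_sigmaOver W x
  have hcomm : x' ≫ φ = (yon S).map σ ≫ (yon S).map c := by
    apply hom_ext_sigmaOver
    intro k
    calc (yon S).map (sigmaOverι W k) ≫ x' ≫ φ
        = (yon S).map (w k) ≫ (yon S).map (e k) := by rw [← Category.assoc, hx' k, (sq k).w]
      _ = (yon S).map ((w k ≫ sigmaOverι V k) ≫ c) := by
          rw [Category.assoc, hF1 k, Functor.map_comp]
      _ = (yon S).map (sigmaOverι W k) ≫ (yon S).map σ ≫ (yon S).map c := by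
          rw [← hF2 k, Category.assoc, Functor.map_comp, Functor.map_comp]
  refine ⟨c, σ, x', rfl, rfl, hF1, hF2, hx', ?_⟩
  have hmono : Mono (pullback.lift x' ((yon S).map σ) hcomm) := by
    apply mono_of_forall_yon
    intro T r₁ r₂ h12
    obtain ⟨ρ₁, rfl⟩ := (yon S).map_surjective r₁
    obtain ⟨ρ₂, rfl⟩ := (yon S).map_surjective r₂
    have h1 : (yon S).map ρ₁ ≫ x' = (yon S).map ρ₂ ≫ x' := by
      have := congrArg (· ≫ pullback.fst φ ((yon S).map c)) h12
      simpa only [Category.assoc, pullback.lift_fst] using this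
    have h2 : ρ₁ ≫ σ = ρ₂ ≫ σ := by
      have := congrArg (· ≫ pullback.snd φ ((yon S).map c)) h12
      simp only [Category.assoc, pullback.lift_snd, ← Functor.map_comp] at this
      exact (yon S).map_injective this
    congr 1
    apply (yon S).map_injective
    obtain ⟨Sg₁, hSg₁, hl₁⟩ := exists_sieve_sigmaOver W ρ₁
    refine hom_ext_of_local _ _ hSg₁ (fun T₃ f hf => ?_)
    obtain ⟨k, β₁, hβ₁⟩ := hl₁ f hf
    rw [← Functor.map_comp, ← Functor.map_comp]
    obtain ⟨Sg₂, hSg₂, hl₂⟩ := exists_sieve_sigmaOver W (f ≫ ρ₂)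
    refine hom_ext_of_local _ _ hSg₂ (fun T₄ f' hf' => ?_)
    obtain ⟨l, β₂, hβ₂⟩ := hl₂ f' hf'
    rw [← Functor.map_comp, ← Functor.map_comp]
    congr 1
    have hcomp : ((f' ≫ β₁) ≫ w k) ≫ sigmaOverι V k = (β₂ ≫ w l) ≫ sigmaOverι V l := by
      calc ((f' ≫ β₁) ≫ w k) ≫ sigmaOverι V k
          = f' ≫ β₁ ≫ (w k ≫ sigmaOverι V k) := by simp only [Category.assoc]
        _ = f' ≫ β₁ ≫ (sigmaOverι W k ≫ σ) := by rw [hF2 k]
        _ = f' ≫ (β₁ ≫ sigmaOverι W k) ≫ σ := by simp only [Category.assoc]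
        _ = f' ≫ (f ≫ ρ₁) ≫ σ := by rw [hβ₁]
        _ = f' ≫ f ≫ (ρ₁ ≫ σ) := by simp only [Category.assoc]
        _ = f' ≫ f ≫ (ρ₂ ≫ σ) := by rw [h2]
        _ = (f' ≫ f ≫ ρ₂) ≫ σ := by simp only [Category.assoc]
        _ = (β₂ ≫ sigmaOverι W l) ≫ σ := by rw [hβ₂]
        _ = β₂ ≫ (sigmaOverι W l ≫ σ) := by simp only [Category.assoc]
        _ = β₂ ≫ (w l ≫ sigmaOverι V l) := by rw [hF2 l]
        _ = (β₂ ≫ w l) ≫ sigmaOverι V l := by simp only [Category.assoc]
    by_cases hkl : k = l
    · subst hkl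
      have hw : (f' ≫ β₁) ≫ w k = β₂ ≫ w k := (cancel_mono (sigmaOverι V k)).1 hcomp
      have hx : (yon S).map (f' ≫ β₁) ≫ x k = (yon S).map β₂ ≫ x k := by
        calc (yon S).map (f' ≫ β₁) ≫ x k
            = (yon S).map (f' ≫ β₁) ≫ (yon S).map (sigmaOverι W k) ≫ x' := by rw [hx' k]
          _ = (yon S).map ((f' ≫ β₁) ≫ sigmaOverι W k) ≫ x' := by
              simp only [Functor.map_comp, Category.assoc]
          _ = (yon S).map ((f' ≫ f) ≫ ρ₁) ≫ x' := by
              rw [Category.assoc, hβ₁, Category.assoc]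
          _ = (yon S).map (f' ≫ f) ≫ (yon S).map ρ₁ ≫ x' := by
              simp only [Functor.map_comp, Category.assoc]
          _ = (yon S).map (f' ≫ f) ≫ (yon S).map ρ₂ ≫ x' := by rw [h1]
          _ = (yon S).map ((f' ≫ f) ≫ ρ₂) ≫ x' := by
              simp only [Functor.map_comp, Category.assoc]
          _ = (yon S).map (β₂ ≫ sigmaOverι W k) ≫ x' := by
              rw [Category.assoc, hβ₂]
          _ = (yon S).map β₂ ≫ x k := by
              rw [← hx' k]
              simp only [Functor.map_comp, Category.assoc]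
      have hb : f' ≫ β₁ = β₂ := by
        apply (yon S).map_injective
        apply (sq k).hom_ext hx
        rw [← Functor.map_comp, ← Functor.map_comp, hw]
      rw [← hβ₂, ← hb, Category.assoc, hβ₁]
    · have hl : ((f' ≫ β₁) ≫ w k).left ≫ Sigma.ι (fun k => (V k).left) k =
          (β₂ ≫ w l).left ≫ Sigma.ι (fun k => (V k).left) l :=
        congrArg CommaMorphism.left hcomp
      haveI : IsEmpty ↥T₄.left := isEmpty_of_commSq_sigmaι_of_ne ⟨hl⟩ hkl
      apply (yon S).map_injective
      exact hom_ext_of_isEmpty _ _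
  have hepi : Epi (pullback.lift x' ((yon S).map σ) hcomm) := by
    apply epi_of_local_lift
    intro T y
    obtain ⟨β, hβ⟩ := (yon S).map_surjective (y ≫ pullback.snd φ ((yon S).map c))
    obtain ⟨Sg, hSg, hl⟩ := exists_sieve_sigmaOver V β
    refine ⟨Sg, hSg, fun T₃ f hf => ?_⟩
    obtain ⟨k, βk, hβk⟩ := hl f hf
    have h1 : ((yon S).map f ≫ y ≫ pullback.fst φ ((yon S).map c)) ≫ φ =
        (yon S).map βk ≫ (yon S).map (e k) := by
      calc ((yon S).map f ≫ y ≫ pullback.fst φ ((yon S).map c)) ≫ φ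
          = (yon S).map f ≫ (y ≫ pullback.snd φ ((yon S).map c)) ≫ (yon S).map c := by
            simp only [Category.assoc]
            rw [pullback.condition]
        _ = (yon S).map (f ≫ β) ≫ (yon S).map c := by
            rw [← hβ, Functor.map_comp, Category.assoc]
        _ = (yon S).map βk ≫ (yon S).map (e k) := by
            rw [← hβk, Functor.map_comp, Category.assoc, ← Functor.map_comp, hF1 k]
    obtain ⟨l, hl1, hl2⟩ := (sq k).exists_lift _ _ h1
    refine ⟨l ≫ (yon S).map (sigmaOverι W k), ?_⟩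
    apply pullback.hom_ext
    · rw [Category.assoc, Category.assoc, pullback.lift_fst, hx' k, hl1]
      simp only [Category.assoc]
    · rw [Category.assoc, Category.assoc, pullback.lift_snd, ← Functor.map_comp, hF2 k,
        Functor.map_comp, ← Category.assoc, hl2, ← Functor.map_comp, hβk, Functor.map_comp, hβ]
      simp only [Category.assoc]
  haveI := isIso_of_mono_of_epi (pullback.lift x' ((yon S).map σ) hcomm)
  exact IsPullback.of_iso_pullback ⟨hcomm⟩ (asIso (pullback.lift _ _ hcomm)) (pullback.lift_fst _ _ _)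
    (pullback.lift_snd _ _ _)

end Groth.Agent.H51.SigmaPullback
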