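import Groth.Agent.H51.AffDescFpqc
import Groth.Agent.H51.SigmaPullback
import Groth.Agent.H51.AffineTest

/-!
# helper51: affine morphisms of algebraic spaces (with a property that descends) are fpqc local on the base
-/

set_option autoImplicit false
universe u
open CategoryTheory CategoryTheory.Limits AlgebraicGeometry Opposite AlgSp

namespace Groth.Agent.H51.AffFpqcLocal

open Groth.Agent.H50

variable {S : Scheme.{u}}

/-- The affine test with a property `Q` of the structure morphism: the base change of `f` to every affine scheme is an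
affine scheme whose structure morphism has `Q`. -/
def AffTest (Q : MorphismProperty Scheme.{u}) {F G : Sp S} (f : F ⟶ G) : Prop :=
  ∀ ⦃Z : Over S⦄, IsAffine Z.left → ∀ (g : (yon S).obj Z ⟶ G),
    ∃ (W : Over S) (i : W ⟶ Z) (fst : (yon S).obj W ⟶ F),
      IsPullback fst ((yon S).map i) f g ∧ IsAffine W.left ∧ Q i.left

/-- The affine test is stable under base change. -/
theorem affTest_of_isPullback (Q : MorphismProperty Scheme.{u}) {F G F' G' : Sp S} {f : F ⟶ G}
    {f' : F' ⟶ G'} {a : F' ⟶ F} {b : G' ⟶ G} (sq : IsPullback a f' f b) (hf : AffTest Q f) :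
    AffTest Q f' := by
  intro Z hZ g
  obtain ⟨W, i, fst, sqW, hW, hQ⟩ := hf hZ (g ≫ b)
  refine ⟨W, i, sq.lift fst ((yon S).map i ≫ g) (by rw [sqW.w, Category.assoc]), ?_, hW, hQ⟩
  refine IsPullback.of_right ?_ (sq.lift_snd _ _ _) sq
  rw [sq.lift_fst]
  exact sqW

/-- The affine test for a property that is Zariski local on the target and satisfies fpqc descent is fpqc local on the
base. -/
theorem affTest_of_fpqcCover (Q : MorphismProperty Scheme.{u}) [IsZariskiLocalAtTarget Q]
    [Q.DescendsAlong (@Surjective ⊓ @Flat ⊓ @QuasiCompact)] {ι : Type u} {Y : Sp S} (Yi : ι → Sp S)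
    (g : ∀ i, Yi i ⟶ Y) (hY : IsAlgSpace Y) (hcov : IsFpqcCover Yi g) {X : Sp S} (f : X ⟶ Y)
    (hX : IsAlgSpace X) (Xi : ι → Sp S) (p : ∀ i, Xi i ⟶ Yi i) (q : ∀ i, Xi i ⟶ X)
    (sq : ∀ i, IsPullback (q i) (p i) f (g i)) (hp : ∀ i, AffTest Q (p i)) : AffTest Q f := by
  intro Z hZ g₀
  have := hZ
  obtain ⟨m, Wc, c, hWa, hfl, hsurj, hlift⟩ := hcov.2 Z hZ g₀
  choose i l hl using hlift
  have hV := fun j => hp (i j) (hWa j) (l j)
  choose V w fst sqj hVa hQw using hV
  -- the base change of `f` to `Z`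
  let π : pullback f g₀ ⟶ (yon S).obj Z := pullback.snd f g₀
  have hF : IsAlgSpace (pullback f g₀) :=
    H52.isAlgSpace_of_isPullback (IsPullback.of_hasPullback f g₀) hY.diag hX (IsAlgSpace.yon_obj _)
  have hcomm : ∀ j, (fst j ≫ q (i j)) ≫ f = ((yon S).map (w j) ≫ (yon S).map (c j)) ≫ g₀ := by
    intro j
    rw [Category.assoc, (sq (i j)).w, ← Category.assoc, (sqj j).w, Category.assoc, hl j,
      Category.assoc]
  let x : ∀ j, (yon S).obj (V j) ⟶ pullback f g₀ := fun j =>
    pullback.lift (fst j ≫ q (i j)) ((yon S).map (w j) ≫ (yon S).map (c j)) (hcomm j)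
  have sqx : ∀ j, IsPullback (x j) ((yon S).map (w j)) π ((yon S).map (c j)) := by
    intro j
    refine IsPullback.of_right ?_ (pullback.lift_snd _ _ _) (IsPullback.of_hasPullback f g₀)
    rw [pullback.lift_fst, ← hl j]
    exact (sqj j).paste_horiz (sq (i j))
  -- the coproducts
  obtain ⟨c₀, σ, x₀, hc₀, hσ, -, -, -, sq0⟩ :=
    SigmaPullback.exists_isPullback_sigmaOver π (fun j : ULift.{u} (Fin m) => Wc j.down)
      (fun j => c j.down) (fun j => V j.down) (fun j => w j.down) (fun j => x j.down)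
      (fun j => sqx j.down)
  have hZ'aff : IsAffine (sigmaOver fun j : ULift.{u} (Fin m) => Wc j.down).left := by
    have : ∀ j : ULift.{u} (Fin m), IsAffine (Wc j.down).left := fun j => hWa j.down
    change IsAffine (∐ fun j : ULift.{u} (Fin m) => (Wc j.down).left)
    infer_instance
  have hW'aff : IsAffine (sigmaOver fun j : ULift.{u} (Fin m) => V j.down).left := by
    have : ∀ j : ULift.{u} (Fin m), IsAffine (V j.down).left := fun j => hVa j.down
    change IsAffine (∐ fun j : ULift.{u} (Fin m) => (V j.down).left)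
    infer_instance
  have hc₀fl : Flat c₀.left := by
    rw [hc₀]
    have : ∀ j : ULift.{u} (Fin m), Flat (c j.down).left := fun j => hfl j.down
    exact IsZariskiLocalAtSource.sigmaDesc (P := @Flat) (fun k => inferInstance)
  have hc₀surj : Surjective c₀.left := by
    rw [hc₀]
    apply Surjective.sigmaDesc_of_union_range_eq_univ
    rw [Set.eq_univ_iff_forall]
    intro z
    obtain ⟨j, y, hy⟩ := hsurj z
    exact Set.mem_iUnion.2 ⟨⟨j⟩, y, hy⟩
  have hQσ : Q σ.left := by
    rw [hσ]
    exact sigmaMap_of_isZariskiLocalAtTarget Q _ _ _ (fun j => hQw j.down)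
  obtain ⟨W, w₀, k, x₁, hWaff, hiso, hxπ, -, sqS⟩ :=
    AffDescFpqc.exists_affine_rep_fpqc c₀ σ hF π x₀ sq0
  have hfpqc : (@Surjective ⊓ @Flat ⊓ @QuasiCompact : MorphismProperty Scheme.{u}) c₀.left :=
    ⟨⟨hc₀surj, hc₀fl⟩, inferInstance⟩
  have hQw₀ : Q w₀.left :=
    MorphismProperty.of_isPullback_of_descendsAlong (P := Q)
      (Q := @Surjective ⊓ @Flat ⊓ @QuasiCompact) sqS.flip hfpqc hQσ
  refine ⟨W, w₀, x₁ ≫ pullback.fst f g₀, ?_, hWaff, hQw₀⟩
  have hcs : CommSq (x₁ ≫ pullback.fst f g₀) ((yon S).map w₀) f g₀ :=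
    ⟨by rw [Category.assoc, pullback.condition, ← Category.assoc, hxπ]⟩
  exact IsPullback.of_iso_pullback hcs (asIso x₁) rfl hxπ

end Groth.Agent.H51.AffFpqcLocal
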