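import Groth.Agent.H51.AffFpqcLocal
import Groth.Agent.H51.FpqcLocPInst
import Groth.Agent.S0082
import Groth.Agent.S0084
import Groth.Agent.S0085
import Groth.Prelude.Def_AlgSpMor5
import Mathlib.AlgebraicGeometry.Morphisms.LocalFlatDescent

/-!
# helper51: affine, integral, finite and finite locally free morphisms of algebraic spaces are fpqc local on the base
-/

set_option autoImplicit false
universe u
open CategoryTheory CategoryTheory.Limits AlgebraicGeometry Opposite AlgSp

namespace Groth.Agent.H51.AffFpqcLocal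

variable {S : Scheme.{u}}

theorem isLocalOnBase_fpqc_affTest (Q : MorphismProperty Scheme.{u}) [IsZariskiLocalAtTarget Q]
    [Q.DescendsAlong (@Surjective ⊓ @Flat ⊓ @QuasiCompact)] :
    IsLocalOnBase (IsFpqcCover (S := S)) (fun _ _ f => AffTest Q f) := by
  intro ι Y Yi g hY hYi hcov X f hX Xi p q hXi sq
  exact ⟨fun hf i => affTest_of_isPullback Q (sq i) hf,
    fun hp => affTest_of_fpqcCover Q Yi g hY hcov f hX Xi p q sq hp⟩

theorem isAffineMor_iff_affTest {F G : Sp S} (f : F ⟶ G) :
    IsAffineMor f ↔ AffTest @IsAffineHom f := by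
  constructor
  · intro h Z hZ g
    obtain ⟨W, i, fst, sq, hW⟩ := h hZ g
    have := hZ
    have := hW
    exact ⟨W, i, fst, sq, hW, inferInstance⟩
  · intro h Z hZ g
    obtain ⟨W, i, fst, sq, hW, -⟩ := h hZ g
    exact ⟨W, i, fst, sq, hW⟩

theorem isLocalOnBase_fpqc_isAffineMor :
    IsLocalOnBase (IsFpqcCover (S := S)) IsAffineMor := by
  have := Groth.Agent.S0082.result.{u}
  intro ι Y Yi g hY hYi hcov X f hX Xi p q hXi sq
  rw [isAffineMor_iff_affTest]
  simp only [isAffineMor_iff_affTest]
  exact isLocalOnBase_fpqc_affTest @IsAffineHom Yi g hY hYi hcov f hX Xi p q hXi sq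

theorem isLocalOnBase_fpqc_isIntegralMor :
    IsLocalOnBase (IsFpqcCover (S := S)) IsIntegralMor := by
  have := Groth.Agent.S0085.result.{u}
  exact isLocalOnBase_fpqc_affTest @IsIntegralHom

theorem isLocalOnBase_fpqc_isFiniteMor :
    IsLocalOnBase (IsFpqcCover (S := S)) IsFiniteMor := by
  have := Groth.Agent.S0084.result.{u}
  exact isLocalOnBase_fpqc_affTest @IsFinite

theorem finLocFree_eq :
    (finLocFree : MorphismProperty Scheme.{u}) =
      (@IsFinite ⊓ (@Flat ⊓ @LocallyOfFinitePresentation) : MorphismProperty Scheme.{u}) := by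
  ext X Y f
  exact Iff.rfl

theorem isFinLocFreeMor_iff_affTest {F G : Sp S} (f : F ⟶ G) :
    IsFinLocFreeMor f ↔ AffTest finLocFree f := by
  have hloc : IsZariskiLocalAtTarget (finLocFree : MorphismProperty Scheme.{u}) := by
    rw [finLocFree_eq]
    infer_instance
  constructor
  · intro h Z hZ g
    have := hZ
    obtain ⟨W, i, fst, sq⟩ := h.1 g
    have hi : finLocFree i.left := h.2 _ _ _ sq
    have hfin : IsFinite i.left := hi.1
    exact ⟨W, i, fst, sq, isAffine_of_isAffineHom i.left, hi⟩
  · intro h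
    refine Groth.Agent.H51.ZarGlue.repWith_of_affine_test finLocFree f (fun Z hZ g => ?_)
    obtain ⟨W, i, fst, sq, -, hQ⟩ := h hZ g
    exact ⟨W, i, fst, sq, hQ⟩

theorem isLocalOnBase_fpqc_isFinLocFreeMor :
    IsLocalOnBase (IsFpqcCover (S := S)) IsFinLocFreeMor := by
  have h1 := Groth.Agent.S0084.result.{u}
  have h2 := Groth.Agent.H51.flat_descendsAlong_fpqc.{u}
  have hloc : IsZariskiLocalAtTarget (finLocFree : MorphismProperty Scheme.{u}) := by
    rw [finLocFree_eq]
    infer_instance
  have hdesc : (finLocFree : MorphismProperty Scheme.{u}).DescendsAlong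
      (@Surjective ⊓ @Flat ⊓ @QuasiCompact) := by
    rw [finLocFree_eq]
    infer_instance
  intro ι Y Yi g hY hYi hcov X f hX Xi p q hXi sq
  rw [isFinLocFreeMor_iff_affTest]
  simp only [isFinLocFreeMor_iff_affTest]
  exact isLocalOnBase_fpqc_affTest finLocFree Yi g hY hYi hcov f hX Xi p q hXi sq

end Groth.Agent.H51.AffFpqcLocal
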