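import Groth.Agent.H51.AffDescAlg
import Mathlib.AlgebraicGeometry.Morphisms.Affine
import Mathlib.AlgebraicGeometry.Morphisms.Flat
import Mathlib.AlgebraicGeometry.Pullbacks

/-!
# Quotient of an affine scheme by a descent relation along a flat morphism of affine schemes (helper51)
-/

set_option autoImplicit false
universe u
open CategoryTheory CategoryTheory.Limits AlgebraicGeometry Opposite

namespace Groth.Agent.H51.AffQuot

/-- Ring-level descent, geometric form.  `W2 = W' ×_Z Z'`, `W3 = W2 ×_Z Z'`, `p2 : W2 ⟶ W'` the second structure map of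
a descent relation (with its unit `δ` and cocycle condition `hfork`).  Then there is an affine `W` over `Z` with
`W' = W ×_Z Z'` and `p2 ≫ k = a1 ≫ k`. -/
theorem exists_affine_quotient {Z Z' W' W2 W3 : Scheme.{u}} [IsAffine Z] [IsAffine Z'] [IsAffine W']
    (c : Z' ⟶ Z) [Flat c] (b' : W' ⟶ Z')
    (a1 : W2 ⟶ W') (b2 : W2 ⟶ Z') (hW2 : IsPullback a1 b2 (b' ≫ c) c)
    (p2 : W2 ⟶ W') (hp2b : p2 ≫ b' = b2)
    (a2 : W3 ⟶ W2) (b3 : W3 ⟶ Z') (hW3 : IsPullback a2 b3 (a1 ≫ b' ≫ c) c)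
    (t13 t23 : W3 ⟶ W2) (t13a : t13 ≫ a1 = a2 ≫ a1) (t13b : t13 ≫ b2 = b3)
    (t23a : t23 ≫ a1 = a2 ≫ p2) (t23b : t23 ≫ b2 = b3)
    (hfork : t13 ≫ p2 = t23 ≫ p2)
    (δ : W' ⟶ W2) (hδ : δ ≫ p2 = 𝟙 W') :
    ∃ (W : Scheme.{u}) (w : W ⟶ Z) (k : W' ⟶ W), IsAffine W ∧ IsPullback k b' w c ∧
      p2 ≫ k = a1 ≫ k := by
  have hW2aff : IsAffine W2 := IsAffine.of_isPullback hW2
  have hflat : c.appTop.hom.Flat := (HasRingHomProperty.iff_of_isAffine (P := @Flat)).1 inferInstance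
  have po1 : IsPushout c.appTop (c.appTop ≫ b'.appTop) b2.appTop a1.appTop :=
    (isPushout_appTop_of_isPullback hW2).flip
  have po2 : IsPushout c.appTop (c.appTop ≫ b'.appTop ≫ a1.appTop) b3.appTop a2.appTop :=
    (isPushout_appTop_of_isPullback hW3).flip
  have hβinj : Function.Injective p2.appTop.hom := by
    have h1 : p2.appTop ≫ δ.appTop = 𝟙 _ := by
      rw [← Scheme.Hom.comp_appTop, hδ]; rfl
    intro x y hxy
    have := congr_arg δ.appTop.hom hxy
    have e : ∀ z, δ.appTop.hom (p2.appTop.hom z) = z := fun z =>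
      congr_arg (fun m : Γ(W', ⊤) ⟶ Γ(W', ⊤) => m.hom z) h1
    rwa [e, e] at this
  obtain ⟨E, i, e, hi, po⟩ := AffDescAlg.exists_isPushout_equalizer c.appTop hflat b'.appTop
    a1.appTop p2.appTop b2.appTop a2.appTop b3.appTop t13.appTop t23.appTop po1 po2
    (by rw [← Scheme.Hom.comp_appTop, ← Scheme.Hom.comp_appTop, t13a])
    (by rw [← Scheme.Hom.comp_appTop, t13b])
    (by rw [← Scheme.Hom.comp_appTop, ← Scheme.Hom.comp_appTop, t23a])
    (by rw [← Scheme.Hom.comp_appTop, t23b])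
    hβinj
    (by rw [← Scheme.Hom.comp_appTop, ← Scheme.Hom.comp_appTop, hfork])
    (by rw [← Scheme.Hom.comp_appTop, hp2b])
  let wS : Spec E ⟶ Z := Spec.map e ≫ Z.isoSpec.inv
  let kS : W' ⟶ Spec E := W'.isoSpec.hom ≫ Spec.map i
  have sqS : IsPullback kS b' wS c := by
    have h0 := isPullback_SpecMap_of_isPushout c.appTop e b'.appTop i po
    refine (IsPullback.of_iso h0 W'.isoSpec.symm Z'.isoSpec.symm (Iso.refl _)
      Z.isoSpec.symm ?_ ?_ ?_ ?_).flip
    · exact Scheme.isoSpec_inv_naturality b'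
    · simp [kS]
    · exact Scheme.isoSpec_inv_naturality c
    · simp [wS]
  refine ⟨Spec E, wS, kS, inferInstance, sqS, ?_⟩
  change p2 ≫ W'.isoSpec.hom ≫ Spec.map i = a1 ≫ W'.isoSpec.hom ≫ Spec.map i
  rw [← Scheme.isoSpec_hom_naturality_assoc, ← Scheme.isoSpec_hom_naturality_assoc,
    ← Spec.map_comp, ← Spec.map_comp]
  congr 2
  exact hi.symm

end Groth.Agent.H51.AffQuot
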