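import Groth.Agent.H51.EtCoverIso
import Groth.Agent.H50.Etale

/-!
# The affine opens of an atlas form an fpqc cover by affine schemes (helper51)
-/

universe u

open CategoryTheory CategoryTheory.Limits AlgebraicGeometry Opposite AlgSp MorphismProperty

namespace Groth.Agent.H51

variable {S : Scheme.{u}}

/-- A jointly surjective family of representable etale maps from schemes is an fpqc cover. -/
theorem isFpqcCover_of_repWith_etale_family (Y : AlgSp.Space S) {ι : Type u} (V : ι → Over S)
    (g : ∀ i, (yon S).obj (V i) ⟶ Y.obj) (hg : ∀ i, RepWith @Etale (g i))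
    (hs : ∀ y : Points Y.obj, ∃ (i : ι) (v : ↥(V i).left), Points.ofPt (g i) v = y) :
    IsFpqcCover (fun i => (yon S).obj (V i)) g := by
  refine Groth.Agent.S10505.result Y (fun i => (AlgSp.ofScheme S).obj (V i))
    (fun i => ObjectProperty.homMk (g i)) ⟨fun i => ⟨?_, ?_⟩, ?_⟩
  · exact Groth.Agent.H50.locP_of_repWith (P := @Flat)
      (fun A B k (hk : Etale k) => (inferInstance : Flat k)) (repWith_mono (fun A B k (hk : Etale k) => (inferInstance : Flat k)) (hg i))
  · exact Groth.Agent.H50.locP_of_repWith (P := @LocallyOfFinitePresentation)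
      (fun A B k (hk : Etale k) => (inferInstance : LocallyOfFinitePresentation k))
      (repWith_mono (fun A B k (hk : Etale k) => (inferInstance : LocallyOfFinitePresentation k)) (hg i))
  · intro y
    obtain ⟨i, v, rfl⟩ := hs y
    exact ⟨i, Points.ofScheme (V i) v, (Points.ofPt_eq_map_ofScheme (g i) v).symm⟩

/-- Every algebraic space has an fpqc cover by affine schemes, representable etale over it. -/
theorem exists_affine_fpqcCover (Y : AlgSp.Space S) :
    ∃ (ι : Type u) (V : ι → Over S) (g : ∀ i, (yon S).obj (V i) ⟶ Y.obj),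
      (∀ i, IsAffine (V i).left) ∧ (∀ i, RepWith @Etale (g i)) ∧
      (∀ y : Points Y.obj, ∃ (i : ι) (v : ↥(V i).left), Points.ofPt (g i) v = y) ∧
      IsFpqcCover (fun i => (yon S).obj (V i)) g := by
  obtain ⟨V, p, hpe, hps⟩ := Y.property.atlas
  have inst2 := AlgSp.repWith_isMultiplicative (S := S) @Etale
  let 𝒰 := V.left.affineCover
  let Vi : 𝒰.I₀ → Over S := fun j => Over.mk (𝒰.f j ≫ V.hom)
  let c : ∀ j, Vi j ⟶ V := fun j => Over.homMk (𝒰.f j) rfl
  have hce : ∀ j, RepWith @Etale ((yon S).map (c j)) := fun j =>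
    (repWith_yon_map_iff _ _).2 (inferInstance : Etale (𝒰.f j))
  have hg : ∀ j, RepWith @Etale ((yon S).map (c j) ≫ p) := fun j =>
    (RepWith @Etale).comp_mem _ _ (hce j) hpe
  have hs : ∀ y : Points Y.obj, ∃ (j : 𝒰.I₀) (v : ↥(Vi j).left),
      Points.ofPt ((yon S).map (c j) ≫ p) v = y := by
    intro y
    obtain ⟨v, rfl⟩ := Groth.Agent.H52.surjective_ofPt_of_surjective p hps y
    obtain ⟨j, v', hv'⟩ := 𝒰.exists_eq v
    refine ⟨j, v', ?_⟩
    rw [Groth.Agent.H52.ofPt_yon_map_comp]
    exact congrArg _ hv'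
  exact ⟨𝒰.I₀, Vi, fun j => (yon S).map (c j) ≫ p, fun j => (inferInstance : IsAffine (𝒰.X j)), hg, hs,
    isFpqcCover_of_repWith_etale_family Y Vi _ hg hs⟩

end Groth.Agent.H51
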