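import Groth.Agent.H51.ChartLifts

/-!
# Chart lifts, extended version; `LocP P` local on the source from locality at the source for schemes (helper51)
-/

universe u

open CategoryTheory CategoryTheory.Limits AlgebraicGeometry Opposite AlgSp MorphismProperty

namespace Groth.Agent.H51

variable {S : Scheme.{u}}

/-- Extended version of `exists_chart_lifts`: every compatible lift `h_W ⟶ X_i` of `W ⟶ T` factors, after an etale
surjective base change of `W`, through `V_i`. -/
theorem exists_chart_lifts' {X : Sp S} (hX : IsAlgSpace X) {ι : Type u}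
    (Xi : ι → Sp S) (g : ∀ i, Xi i ⟶ X) (hXi : ∀ i, IsAlgSpace (Xi i))
    (hsurj : ∀ x : Points X, ∃ i, x ∈ Set.range (Points.map (g i)))
    (T : Over S) (t : (yon S).obj T ⟶ X) :
    ∃ (V : ι → Over S) (c : ∀ i, V i ⟶ T) (l : ∀ i, (yon S).obj (V i) ⟶ Xi i),
      (∀ i, l i ≫ g i = (yon S).map (c i) ≫ t) ∧
      (∀ x : ↥T.left, ∃ i, x ∈ Set.range (c i).left) ∧
      (∀ (P : MorphismProperty Scheme.{u}), Groth.Agent.H52.EtLocal P → ∀ i, LocP P (g i) → P (c i).left) ∧
      (RepWith @Etale t → ∀ i, RepWith @Etale (l i)) ∧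
      (∀ i (W : Over S) (w : W ⟶ T) (l' : (yon S).obj W ⟶ Xi i), l' ≫ g i = (yon S).map w ≫ t →
        ∃ (T' : Over S) (e : T' ⟶ W) (v : T' ⟶ V i), Etale e.left ∧ Surjective e.left ∧
          v ≫ c i = e ≫ w) := by
  have hT : IsAlgSpace ((yon S).obj T) := ((AlgSp.ofScheme S).obj T).property
  have sq : ∀ i, IsPullback (pullback.fst t (g i)) (pullback.snd t (g i)) t (g i) :=
    fun i => IsPullback.of_hasPullback t (g i)
  have hP : ∀ i, IsAlgSpace (pullback t (g i)) := fun i =>
    Groth.Agent.H52.isAlgSpace_of_isPullback (sq i) hX.diag hT (hXi i)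
  have hatlas := fun i => (hP i).atlas
  choose V a hae has using hatlas
  have hc := fun i => (yon S).map_surjective (a i ≫ pullback.fst t (g i))
  choose c hc using hc
  have := AlgSp.repWith_isMultiplicative (S := S) @Etale
  have := AlgSp.repWith_isStableUnderBaseChange (S := S) @Etale
  have hid : RepWith @Etale (𝟙 ((yon S).obj T)) := (RepWith @Etale).id_mem _
  refine ⟨V, c, fun i => a i ≫ pullback.snd t (g i), fun i => ?_, fun x => ?_, fun P hP' i hi => ?_,
    fun ht i => ?_, fun i W w l' hl' => ?_⟩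
  · rw [hc i, Category.assoc, Category.assoc, pullback.condition]
  · obtain ⟨i, ξ, hξ⟩ := hsurj (Points.ofPt t x)
    rw [Points.ofPt_eq_map_ofScheme] at hξ
    obtain ⟨z, hz1, -⟩ := Groth.Agent.H52.exists_point_of_isPullback (sq i) _ ξ hξ.symm
    obtain ⟨v, rfl⟩ := Groth.Agent.H52.surjective_ofPt_of_surjective (a i) (has i) z
    refine ⟨i, v, ?_⟩
    apply Groth.Agent.H52.ofScheme_injective T
    rw [← Groth.Agent.H52.map_yon_map_ofScheme, hc i, Points.map_comp,
      ← Points.ofPt_eq_map_ofScheme]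
    exact hz1
  · have h1 : LocP P (pullback.fst t (g i)) :=
      Groth.Agent.H52.locP_baseChange hP' (hXi i) hX hT (sq i).flip hi
    exact h1 (a i) (𝟙 _) (c i) (hae i) hid (by rw [hc i, Category.comp_id])
  · exact (RepWith @Etale).comp_mem _ _ (hae i) (MorphismProperty.of_isPullback (sq i) ht)
  · let r : (yon S).obj W ⟶ pullback t (g i) := pullback.lift ((yon S).map w) l' hl'.symm
    have sqr := (hae i).rep.isPullback' r
    refine ⟨(hae i).rep.pullback r, (hae i).rep.snd r, (hae i).rep.fst' r,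
      (hae i).property_snd r, (has i).property_snd r, ?_⟩
    apply (yon S).map_injective
    rw [Functor.map_comp, hc i, ← Category.assoc, sqr.w, Category.assoc, pullback.lift_fst,
      Functor.map_comp]

/-- The two-element family `{q, 𝟙}`. -/
def pairX {A B : Scheme.{u}} : Bool → Scheme.{u} := fun b => cond b A B

def pairF {A B : Scheme.{u}} (q : A ⟶ B) : ∀ b : Bool, pairX (A := A) (B := B) b ⟶ B
  | true => q
  | false => 𝟙 B

theorem pairF_mem_precoverage (Q : MorphismProperty Scheme.{u}) [Q.ContainsIdentities] {A B : Scheme.{u}}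
    (q : A ⟶ B) (hq : Q q) :
    Presieve.ofArrows (pairX (A := A) (B := B)) (pairF q) ∈ Scheme.precoverage Q B := by
  rw [Scheme.ofArrows_mem_precoverage_iff]
  refine ⟨fun x => ⟨false, x, rfl⟩, fun b => ?_⟩
  cases b
  · exact Q.id_mem B
  · exact hq

theorem pairF_mem {A B : Scheme.{u}} (q : A ⟶ B) :
    Presieve.ofArrows (pairX (A := A) (B := B)) (pairF q) q :=
  Presieve.ofArrows.mk (ι := Bool) (f := pairF q) true

/-- General form: `LocP P` is local on the source for the covering notion `τ` as soon as `P` is local at the source for the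
precoverage `K` of schemes, and `τ`-coverings induce `K`-coverings on etale charts. -/
theorem isLocalOnSource_locP_of_precoverage (P : MorphismProperty Scheme.{u}) (K : Precoverage Scheme.{u})
    [P.IsLocalAtSource K] (τ : CovNotion S)
    (hsing : ∀ {A B : Scheme.{u}} (q : A ⟶ B), Etale q → Surjective q → Presieve.singleton q ∈ K B)
    (h1 : ∀ ⦃ι : Type u⦄ ⦃X : Sp S⦄ (Xi : ι → Sp S) (g : ∀ i, Xi i ⟶ X), IsAlgSpace X →
      (∀ i, IsAlgSpace (Xi i)) → τ Xi g → ∀ i {U'' U' : Over S} (a'' : (yon S).obj U'' ⟶ Xi i)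
      (b' : (yon S).obj U' ⟶ X) (q : U'' ⟶ U'), RepWith @Etale a'' → RepWith @Etale b' →
      a'' ≫ g i = (yon S).map q ≫ b' → ∃ R ∈ K U'.left, R q.left)
    (h2 : ∀ ⦃ι : Type u⦄ ⦃X : Sp S⦄ (Xi : ι → Sp S) (g : ∀ i, Xi i ⟶ X), IsAlgSpace X →
      (∀ i, IsAlgSpace (Xi i)) → τ Xi g → ∀ {U : Over S} (a : (yon S).obj U ⟶ X), RepWith @Etale a →
      ∃ (κ : Type u) (V : κ → Over S) (c : ∀ j, V j ⟶ U),
        Presieve.ofArrows (fun j => (V j).left) (fun j => (c j).left) ∈ K U.left ∧
        ∀ j, ∃ (i : ι) (l : (yon S).obj (V j) ⟶ Xi i), RepWith @Etale l ∧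
          l ≫ g i = (yon S).map (c j) ≫ a) :
    IsLocalOnSource τ (LocP P) := by
  intro ι X Xi g hX hXi hg Y f hY
  have := AlgSp.repWith_isMultiplicative (S := S) @Etale
  have := AlgSp.repWith_isStableUnderBaseChange (S := S) @Etale
  constructor
  · intro hf i U V a b k ha hb comm
    have hV : IsAlgSpace ((yon S).obj V) := ((AlgSp.ofScheme S).obj V).property
    have sqW := IsPullback.of_hasPullback f b
    have hW : IsAlgSpace (pullback f b) := Groth.Agent.H52.isAlgSpace_of_isPullback sqW hY.diag hX hV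
    have hw1 : RepWith @Etale (pullback.fst f b) := MorphismProperty.of_isPullback sqW.flip hb
    let r : (yon S).obj U ⟶ pullback f b := pullback.lift (a ≫ g i) ((yon S).map k)
      (by rw [Category.assoc]; exact comm)
    obtain ⟨U', pW, hpe, hps⟩ := hW.atlas
    have sqr := hpe.rep.isPullback' r
    have hq1e : Etale (hpe.rep.snd r).left := hpe.property_snd r
    have hq1s : Surjective (hpe.rep.snd r).left := hps.property_snd r
    obtain ⟨k', hk'⟩ := (yon S).map_surjective (pW ≫ pullback.snd f b)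
    have hPk' : P k'.left := hf (pW ≫ pullback.fst f b) b k' ((RepWith @Etale).comp_mem _ _ hpe hw1) hb
      (by rw [Category.assoc, sqW.w, ← Category.assoc, hk'])
    obtain ⟨R, hR, hRq⟩ := h1 Xi g hX hXi hg i ((yon S).map (hpe.rep.snd r) ≫ a) (pW ≫ pullback.fst f b)
      (hpe.rep.fst' r) ((RepWith @Etale).comp_mem _ _ ((repWith_yon_map_iff _ _).2 hq1e) ha)
      ((RepWith @Etale).comp_mem _ _ hpe hw1)
      (by rw [Category.assoc, ← pullback.lift_fst (f := f) (g := b) (a ≫ g i) ((yon S).map k)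
            (by rw [Category.assoc]; exact comm), ← Category.assoc, ← sqr.w, Category.assoc])
    have h3 : P ((hpe.rep.fst' r).left ≫ k'.left) := IsLocalAtSource.comp (K := K) hR _ hRq hPk'
    have h4 : hpe.rep.fst' r ≫ k' = hpe.rep.snd r ≫ k := by
      apply (yon S).map_injective
      rw [Functor.map_comp, Functor.map_comp, hk', ← Category.assoc, sqr.w, Category.assoc,
        pullback.lift_snd]
    rw [← Over.comp_left, h4, Over.comp_left] at h3
    refine IsLocalAtSource.of_forall_comp (K := K) (hsing _ hq1e hq1s) ?_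
    rintro _ _ ⟨⟩
    exact h3
  · intro h U V a b k ha hb comm
    obtain ⟨κ, V', c, hR, hl⟩ := h2 Xi g hX hXi hg a ha
    refine IsLocalAtSource.of_forall_comp (K := K) hR ?_
    rintro _ _ ⟨j⟩
    obtain ⟨i, l, hle, hl'⟩ := hl j
    rw [← Over.comp_left]
    refine h i l b (c j ≫ k) hle hb ?_
    rw [← Category.assoc, hl', Category.assoc, comm, Functor.map_comp, Category.assoc]

end Groth.Agent.H51
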