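import Groth.Prelude.Def_AlgSp3
import Mathlib.AlgebraicGeometry.Morphisms.Separated

/-! The two projections of a representing scheme of a fibre product `h_U ×_F h_T` are jointly
monic (helper51). -/

set_option autoImplicit false
universe u
open CategoryTheory CategoryTheory.Limits AlgebraicGeometry
open AlgSp

namespace Groth.Agent.H51

variable {S : Scheme.{u}}

theorem hom_ext_of_isPullback_yon {F : Sp S} {U T V : Over S} {a : (yon S).obj U ⟶ F}
    {g : (yon S).obj T ⟶ F} {φ : V ⟶ U} {ψ : V ⟶ T}
    (sq : IsPullback ((yon S).map φ) ((yon S).map ψ) a g) {Z : Scheme.{u}} (α β : Z ⟶ V.left)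
    (h1 : α ≫ φ.left = β ≫ φ.left) (h2 : α ≫ ψ.left = β ≫ ψ.left) : α = β := by
  have hβ : β ≫ V.hom = α ≫ V.hom := by
    rw [← Over.w ψ, ← Category.assoc, ← Category.assoc, h2]
  let α' : Over.mk (α ≫ V.hom) ⟶ V := Over.homMk α rfl
  let β' : Over.mk (α ≫ V.hom) ⟶ V := Over.homMk β hβ
  have e1 : α' ≫ φ = β' ≫ φ := Over.OverMorphism.ext h1
  have e2 : α' ≫ ψ = β' ≫ ψ := Over.OverMorphism.ext h2
  have : (yon S).map α' = (yon S).map β' := by
    apply sq.hom_ext
    · rw [← Functor.map_comp, ← Functor.map_comp, e1]
    · rw [← Functor.map_comp, ← Functor.map_comp, e2]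
  have h3 : α' = β' := (yon S).map_injective this
  exact congrArg (fun k => k.left) h3

/-- the base change of `a : h_U ⟶ F` along any `g : h_T ⟶ F` is separated when `U` is a separated
scheme over `S` (in the relative sense). -/
theorem isSeparated_snd_of_isPullback_yon {F : Sp S} {U T V : Over S} {a : (yon S).obj U ⟶ F}
    {g : (yon S).obj T ⟶ F} {φ : V ⟶ U} {ψ : V ⟶ T}
    (sq : IsPullback ((yon S).map φ) ((yon S).map ψ) a g) [IsSeparated U.hom] :
    IsSeparated ψ.left := by
  have hw : ψ.left ≫ T.hom = φ.left ≫ U.hom := by rw [Over.w ψ, Over.w φ]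
  let m : V.left ⟶ pullback T.hom U.hom := pullback.lift ψ.left φ.left hw
  have hm : Mono m := by
    constructor
    intro Z α β hαβ
    apply hom_ext_of_isPullback_yon sq α β
    · have := congrArg (fun k => k ≫ pullback.snd T.hom U.hom) hαβ
      simp only [Category.assoc] at this
      rw [show m ≫ pullback.snd T.hom U.hom = φ.left from pullback.lift_snd _ _ _] at this
      exact this
    · have := congrArg (fun k => k ≫ pullback.fst T.hom U.hom) hαβ
      simp only [Category.assoc] at this
      rw [show m ≫ pullback.fst T.hom U.hom = ψ.left from pullback.lift_fst _ _ _] at this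
      exact this
  have : ψ.left = m ≫ pullback.fst T.hom U.hom := (pullback.lift_fst _ _ _).symm
  rw [this]
  infer_instance

end Groth.Agent.H51
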