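import Groth.Agent.H51.ThickSep
import Groth.Agent.S10587
import Groth.Agent.S10589
import Groth.Agent.S10192
import Groth.Agent.S10193
import Groth.Agent.S10191
import Groth.Agent.S9934
import Groth.Agent.S10277
import Groth.Agent.S9985

/-!
# Closed subspaces, reductions and properness (helper51)
-/

set_option autoImplicit false
universe u
open CategoryTheory CategoryTheory.Limits AlgebraicGeometry
open AlgSp

namespace Groth.Agent.H51

variable {S : Scheme.{u}}

theorem closedImmersion_le_immersion :
    (@IsClosedImmersion : MorphismProperty Scheme.{u}) ≤ @IsImmersion :=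
  fun _ _ g (hg : IsClosedImmersion g) => (inferInstance : IsImmersion g)

/-- A surjective closed immersion of algebraic spaces is a thickening. -/
theorem isThickMor_of_closedImmersion_surjective {X X' : AlgSp.Space S} (i : X ⟶ X')
    (hi : RepWith @IsClosedImmersion i.hom) (hs : IsSurjectiveMor i.hom) : IsThickMor i.hom := by
  have h2 : RepWith @Surjective i.hom := (Groth.Agent.S9906.result i hi.1).2 hs
  exact ⟨hi.1, fun T V g fst snd sq => ⟨hi.2 g fst snd sq, h2.2 g fst snd sq⟩⟩

theorem isThickMor_id (X : AlgSp.Space S) : IsThickMor (𝟙 X : X ⟶ X).hom := by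
  have h1 : RepWith @IsClosedImmersion (𝟙 X.obj) :=
    (AlgSp.repWith_isMultiplicative (S := S) @IsClosedImmersion).id_mem _
  have h2 : RepWith @Surjective (𝟙 X.obj) :=
    (AlgSp.repWith_isMultiplicative (S := S) @Surjective).id_mem _
  exact ⟨h1.1, fun T V g fst snd sq => ⟨h1.2 g fst snd sq, h2.2 g fst snd sq⟩⟩

theorem locP_lft_of_closedImmersion {F G : Sp S} {i : F ⟶ G} (hi : RepWith @IsClosedImmersion i) :
    LocP @LocallyOfFiniteType i :=
  Groth.Agent.H50.locP_of_repWith (P := @LocallyOfFiniteType)
    (fun _ _ g (hg : Etale g) => (inferInstance : LocallyOfFiniteType g))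
    (repWith_mono (fun _ _ g (hg : IsClosedImmersion g) => (inferInstance : LocallyOfFiniteType g)) hi)

/-- Properness can be tested after precomposing with a thickening of the source. -/
theorem isProperMor_of_thick_source {R Z Y : AlgSp.Space S} (g : R ⟶ Z) (h : Z ⟶ Y)
    (hg : IsThickMor g.hom) (hl : LocP @LocallyOfFiniteType h.hom)
    (hp : IsProperMor (g ≫ h).hom) : IsProperMor h.hom := by
  have A := Groth.Agent.S10587.result g (𝟙 Y) (g ≫ h) h hg (isThickMor_id Y) (by simp)
  have B := Groth.Agent.S10589.result g (𝟙 Y) (g ≫ h) h hg (isThickMor_id Y) (by simp)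
  exact ⟨B.1.1 hp.1, ⟨hl, A.2.1.1 hp.2.1.2⟩, A.2.2.1.1 hp.2.2⟩

/-- Cancelling a monomorphism: a morphism whose composite with a monomorphism is a closed immersion is a closed immersion. -/
theorem repWith_of_comp_mono (P : MorphismProperty Scheme.{u}) {A B D : Sp S} (k : A ⟶ B) (ι : B ⟶ D)
    [Mono ι] (h : RepWith P (k ≫ ι)) : RepWith P k := by
  have inst := AlgSp.repWith_isStableUnderBaseChange (S := S) P
  exact MorphismProperty.of_isPullback (isPullback_id_of_mono k ι) h

theorem mono_of_closedImmersion {F G : Sp S} {i : F ⟶ G} (hi : RepWith @IsClosedImmersion i) : Mono i :=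
  Groth.Agent.H50.mono_of_repWith (fun _ _ g (hg : IsClosedImmersion g) => (inferInstance : Mono g)) hi

theorem isClosed_range_of_closedImmersion {Z X : AlgSp.Space S} (i : Z ⟶ X)
    (hi : RepWith @IsClosedImmersion i.hom) : IsClosed (Set.range (Points.map i.hom)) :=
  (Groth.Agent.S9934.result i (repWith_mono closedImmersion_le_immersion hi)).1 hi

theorem injective_of_closedImmersion {Z X : AlgSp.Space S} (i : Z ⟶ X)
    (hi : RepWith @IsClosedImmersion i.hom) : Function.Injective (Points.map i.hom) :=
  (Groth.Agent.S10191.result i (repWith_mono closedImmersion_le_immersion hi)).1.injective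

/-- A reduced space mapping into the image of a closed subspace factors through it by a closed immersion when the
map itself is a closed immersion; and the factorisation is surjective when the images agree. -/
theorem exists_thick_factor {X Z R : AlgSp.Space S} (i : Z ⟶ X) (hi : RepWith @IsClosedImmersion i.hom)
    (r : R ⟶ X) (hr : RepWith @IsClosedImmersion r.hom) (hR : IsReducedSp R.obj)
    (h : Set.range (Points.map r.hom) = Set.range (Points.map i.hom)) :
    ∃ g : R ⟶ Z, g ≫ i = r ∧ IsThickMor g.hom := by
  obtain ⟨g, hg⟩ := (Groth.Agent.S10193.result i hi hR r).2 (h ▸ subset_rfl)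
  have hg0 : g.hom ≫ i.hom = r.hom := congrArg (fun k => k.hom) hg
  have : Mono i.hom := mono_of_closedImmersion hi
  have hgc : RepWith @IsClosedImmersion g.hom := by
    apply repWith_of_comp_mono _ g.hom i.hom
    rw [hg0]
    exact hr
  refine ⟨g, hg, isThickMor_of_closedImmersion_surjective g hgc ?_⟩
  intro z
  have hz : Points.map i.hom z ∈ Set.range (Points.map r.hom) := by
    rw [h]
    exact ⟨z, rfl⟩
  obtain ⟨x, hx⟩ := hz
  refine ⟨x, injective_of_closedImmersion i hi ?_⟩
  rw [← Points.map_comp, hg0]
  exact hx

end Groth.Agent.H51
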