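import Groth.Agent.H52.Topology
import Mathlib.AlgebraicGeometry.AffineScheme
import Mathlib.RingTheory.Ideal.Height

/-! Points of codimension zero are dense (helper51). -/

set_option autoImplicit false
set_option linter.style.haveILetI false
universe u
open CategoryTheory CategoryTheory.Limits AlgebraicGeometry TopologicalSpace
open AlgSp

namespace Groth.Agent.H51

theorem dense_codim_zero (U : Scheme.{u}) :
    Dense {u : U | ringKrullDim ↥(U.presheaf.stalk u) = 0} := by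
  rw [dense_iff_inter_open]
  intro W hW ⟨x, hxW⟩
  obtain ⟨V, hV, hxV, hVW⟩ := Opens.isBasis_iff_nbhd.mp U.isBasis_affineOpens
    (show x ∈ (⟨W, hW⟩ : U.Opens) from hxW)
  have hV' : IsAffineOpen V := hV
  set y := hV'.primeIdealOf ⟨x, hxV⟩ with hy
  obtain ⟨𝔭, h𝔭, -⟩ := Ideal.exists_minimalPrimes_le (bot_le : (⊥ : Ideal Γ(U, V)) ≤ y.asIdeal)
  have h𝔭prime : 𝔭.IsPrime := h𝔭.1.1
  have hu : hV'.fromSpec ⟨𝔭, h𝔭prime⟩ ∈ V := by
    have : hV'.fromSpec ⟨𝔭, h𝔭prime⟩ ∈ Set.range hV'.fromSpec := ⟨_, rfl⟩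
    rw [hV'.range_fromSpec] at this
    exact this
  refine ⟨hV'.fromSpec ⟨𝔭, h𝔭prime⟩, hVW hu, ?_⟩
  have hloc := hV'.isLocalization_stalk' ⟨𝔭, h𝔭prime⟩ hu
  letI := TopCat.Presheaf.algebra_section_stalk U.presheaf ⟨hV'.fromSpec ⟨𝔭, h𝔭prime⟩, hu⟩
  have h1 := @IsLocalization.AtPrime.ringKrullDim_eq_height _ _ 𝔭 h𝔭prime
    (U.presheaf.stalk (hV'.fromSpec ⟨𝔭, h𝔭prime⟩)) _ _ hloc
  have h2 : 𝔭.height = 0 := Ideal.height_eq_zero_iff.mpr h𝔭
  change ringKrullDim _ = 0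
  rw [h1, h2]
  rfl

variable {S : Scheme.{u}}

theorem dense_hasAt_codim_zero {F : Sp S} (hF : IsAlgSpace F) :
    Dense {x : Points F | HasAt (fun U u => ringKrullDim ↥(U.presheaf.stalk u) = 0) F x} := by
  obtain ⟨U, a, ha, has⟩ := hF.atlas
  have hD := dense_codim_zero U.left
  have h1 : Dense (Points.ofPt a '' {u : U.left | ringKrullDim ↥(U.left.presheaf.stalk u) = 0}) :=
    (Groth.Agent.H52.surjective_ofPt_of_surjective a has).denseRange.dense_image
      (Points.continuous_ofPt a) hD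
  refine h1.mono ?_
  rintro _ ⟨u, hu, rfl⟩
  exact ⟨U, a, u, ha, rfl, hu⟩

end Groth.Agent.H51
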