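import Groth.Agent.H50.Fppf
import Groth.Agent.H50.Points
import Groth.Agent.H52.Topology
import Mathlib.CategoryTheory.Sites.Subsheaf

/-!
# Coprojections of a coproduct of sheaves are jointly locally surjective, hence jointly surjective on points
(helper51)
-/

universe w v u' u

open CategoryTheory CategoryTheory.Limits Opposite

namespace Groth.Agent.H51

section site

variable {C : Type u'} [Category.{v} C] {J : GrothendieckTopology C}

/-- The coprojections of a coproduct of sheaves of types are jointly locally surjective. -/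
theorem sieve_mem_of_isColimit_cofan {ι : Type*} {F : ι → Sheaf J (Type w)} (c : Cofan F)
    (hc : IsColimit c) {U : C} (s : c.pt.obj.obj (op U)) :
    ∃ R ∈ J U, ∀ ⦃V : C⦄ (f : V ⟶ U), R f →
      ∃ (i : ι) (y : (F i).obj.obj (op V)), (c.inj i).hom.app (op V) y = c.pt.obj.map f.op s := by
  let G : Subfunctor c.pt.obj := ⨆ i, Subfunctor.range (c.inj i).hom
  have hF : Presieve.IsSheaf J c.pt.obj := (isSheaf_iff_isSheaf_of_type _ _).1 c.pt.property
  let I : Sheaf J (Type w) :=
    ⟨(G.sheafify J).toFunctor, (isSheaf_iff_isSheaf_of_type _ _).2 (G.sheafify_isSheaf hF)⟩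
  let incl : I ⟶ c.pt := ⟨(G.sheafify J).ι⟩
  have hle : ∀ i, Subfunctor.range (c.inj i).hom ≤ G.sheafify J := fun i =>
    (le_iSup (fun i => Subfunctor.range (c.inj i).hom) i).trans (G.le_sheafify J)
  let t : ∀ i, F i ⟶ I := fun i => ⟨Subfunctor.lift (c.inj i).hom (hle i)⟩
  have ht : ∀ i, t i ≫ incl = c.inj i := fun i => rfl
  let r : c.pt ⟶ I := Cofan.IsColimit.desc hc t
  have hr : r ≫ incl = 𝟙 c.pt := by
    refine Cofan.IsColimit.hom_ext hc _ _ fun i => ?_
    rw [← Category.assoc, Cofan.IsColimit.fac, ht, Category.comp_id]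
  have hs : s ∈ (G.sheafify J).obj (op U) := by
    have h1 : incl.hom.app (op U) (r.hom.app (op U) s) = s := by
      have := congrArg (fun m => m.hom.app (op U) s) hr
      simpa using this
    rw [← h1]
    exact (r.hom.app (op U) s).2
  refine ⟨G.sieveOfSection s, hs, fun V f hf => ?_⟩
  have : c.pt.obj.map f.op s ∈ G.obj (op V) := hf
  rw [Subfunctor.iSup_obj, Set.mem_iUnion] at this
  obtain ⟨i, y, hy⟩ := this
  exact ⟨i, y, hy⟩

end site

open AlgebraicGeometry AlgSp

variable {S : Scheme.{u}}

/-- Every point of a sheaf comes from a point of a scheme. -/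
theorem exists_ofPt_eq {F : Sp S} (x : Points F) :
    ∃ (T : Over S) (a : (yon S).obj T ⟶ F) (t : ↥T.left), Points.ofPt a t = x := by
  induction x using Points.ind with
  | h p => exact ⟨p.pt, p.toHom, IsLocalRing.closedPoint p.K, Points.ofPt_toHom p _⟩

/-- The coprojections of a coproduct of sheaves are jointly surjective on points. -/
theorem exists_mem_range_of_isColimit_cofan {ι : Type*} {F : ι → Sp S} (c : Cofan F)
    (hc : IsColimit c) (x : Points c.pt) : ∃ i, x ∈ Set.range (Points.map (c.inj i)) := by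
  obtain ⟨T, a, τ, rfl⟩ := exists_ofPt_eq x
  obtain ⟨R, hR, h⟩ := sieve_mem_of_isColimit_cofan c hc ((J S).uliftYonedaEquiv a)
  obtain ⟨T', g, hg, -, -, t', ht'⟩ := Groth.Agent.H50.exists_fppf_of_mem_J hR τ
  obtain ⟨i, y, hy⟩ := h g hg
  refine ⟨i, Points.ofPt ((J S).uliftYonedaEquiv.symm y) t', ?_⟩
  rw [Points.map_ofPt, ← ht', ← Groth.Agent.H52.ofPt_yon_map_comp]
  congr 1
  apply (J S).uliftYonedaEquiv.injective
  rw [GrothendieckTopology.uliftYonedaEquiv_comp, Equiv.apply_symm_apply,
    ← GrothendieckTopology.uliftYonedaEquiv_naturality]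
  exact hy

end Groth.Agent.H51
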