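import Groth.Agent.H50.OpenSub
import Groth.Agent.H50.Fppf
import Groth.Agent.H50.Kernel
import Groth.Agent.H52.RedFactor

/-!
# Descent of open subsheaves along an epimorphic chart (helper51)

`φ : F' ⟶ F` a monomorphism of sheaves, `q : h_U ⟶ F` an epimorphism from a scheme, `W ⊆ U` an open such that
`h_W = F' ×_F h_U` (stated through two elementary conditions).  Then `φ` is representable by open immersions:
for `g : h_T ⟶ F` the pullback is the open subscheme of `T` swept out by the images of `x⁻¹ W` under the fppf-local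
lifts `(c, x)` of `g` to the chart.
-/

set_option autoImplicit false
universe u
open CategoryTheory CategoryTheory.Limits AlgebraicGeometry Opposite AlgSp

namespace Groth.Agent.H51.OpenDesc

open Groth.Agent.H50

variable {S : Scheme.{u}}

/-- points of an arbitrary pullback square of schemes. -/
theorem exists_preimage_of_isPullback {P X Y Z : Scheme.{u}} {fst : P ⟶ X} {snd : P ⟶ Y} {f : X ⟶ Z}
    {g : Y ⟶ Z} (sq : IsPullback fst snd f g) (x : ↥X) (y : ↥Y) (h : f x = g y) :
    ∃ z : ↥P, fst z = x ∧ snd z = y := by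
  obtain ⟨z₀, h1, h2⟩ := Scheme.Pullback.exists_preimage_pullback (f := f) (g := g) x y h
  refine ⟨sq.isoPullback.inv z₀, ?_, ?_⟩
  · rw [← Scheme.Hom.comp_apply, sq.isoPullback_inv_fst, h1]
  · rw [← Scheme.Hom.comp_apply, sq.isoPullback_inv_snd, h2]

section

variable {F : Sp S} {U : Over S} (q : (yon S).obj U ⟶ F) (W : U.left.Opens)
  {T : Over S} (g : (yon S).obj T ⟶ F)

/-- an fppf-local lift of `g` to the chart `q`. -/
structure Lift where
  T' : Over S
  c : T' ⟶ T
  x : T' ⟶ U
  flat : Flat c.left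
  lfp : LocallyOfFinitePresentation c.left
  comm : (yon S).map x ≫ q = (yon S).map c ≫ g

/-- the open subscheme of `T` swept out by `W` under the local lifts. -/
def descOpens : T.left.Opens :=
  ⟨⋃ l : Lift q g, l.c.left '' (l.x.left ⁻¹' (W : Set ↥U.left)), isOpen_iUnion fun l => by
    have := l.flat
    have := l.lfp
    exact l.c.left.isOpenMap _ (W.isOpen.preimage l.x.left.continuous)⟩

theorem mem_descOpens_iff (τ : ↥T.left) :
    τ ∈ descOpens q W g ↔ ∃ (l : Lift q g) (τ' : ↥l.T'.left), l.x.left τ' ∈ W ∧ l.c.left τ' = τ := by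
  change τ ∈ ⋃ l : Lift q g, l.c.left '' (l.x.left ⁻¹' (W : Set ↥U.left)) ↔ _
  simp only [Set.mem_iUnion, Set.mem_image, Set.mem_preimage, SetLike.mem_coe]

end

theorem repWith_isOpenImmersion_of_chart {F' F : Sp S} (φ : F' ⟶ F) [Mono φ] {U : Over S}
    (q : (yon S).obj U ⟶ F) [Epi q] (W : U.left.Opens)
    (hA : ∀ ⦃X : Over S⦄ (y : X ⟶ U) (a : (yon S).obj X ⟶ F'),
      a ≫ φ = (yon S).map y ≫ q → ∀ x : ↥X.left, y.left x ∈ W)
    (w : (yon S).obj (opensOver U W) ⟶ F') (hw : w ≫ φ = (yon S).map (opensOverι U W) ≫ q) :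
    RepWith @IsOpenImmersion φ := by
  refine MorphismProperty.relative.of_exists (fun T g => ?_)
  set V : T.left.Opens := descOpens q W g with hV
  -- (i) the restriction of `g` to `V` factors through `φ`
  have hfac : ∃ d : (yon S).obj (opensOver T V) ⟶ F', d ≫ φ = (yon S).map (opensOverι T V) ≫ g := by
    have key : ∀ l : Lift q g, ∃ (δ : opensOver l.T' (l.x.left ⁻¹ᵁ W) ⟶ opensOver T V),
        δ ≫ opensOverι T V = opensOverι l.T' (l.x.left ⁻¹ᵁ W) ≫ l.c := by
      intro l
      refine exists_lift_opensOver V (opensOverι l.T' (l.x.left ⁻¹ᵁ W) ≫ l.c) (fun t => ?_)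
      exact (mem_descOpens_iff q W g _).2 ⟨l, (l.x.left ⁻¹ᵁ W).ι t, t.2, rfl⟩
    choose δ hδ using key
    refine H52.exists_factor_of_fppf_family φ _ (fun l : Lift q g => opensOver l.T' (l.x.left ⁻¹ᵁ W)) δ
      ?_ ?_ ?_ ?_
    · intro τ
      have hτ : (V.ι τ) ∈ descOpens q W g := τ.2
      obtain ⟨l, τ', h1, h2⟩ := (mem_descOpens_iff q W g _).1 hτ
      refine ⟨l, ⟨τ', h1⟩, ?_⟩
      apply V.ι.isOpenEmbedding.injective
      have := congr_arg (fun m => m.left) (hδ l)
      have h3 : (δ l).left ≫ V.ι = (l.x.left ⁻¹ᵁ W).ι ≫ l.c.left := this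
      rw [← Scheme.Hom.comp_apply, h3, Scheme.Hom.comp_apply]
      exact h2
    · intro l
      have := l.flat
      have h3 : (δ l).left ≫ V.ι = (l.x.left ⁻¹ᵁ W).ι ≫ l.c.left :=
        congr_arg (fun m => m.left) (hδ l)
      refine MorphismProperty.of_postcomp (W := @Flat) (W' := @IsOpenImmersion) _ V.ι
        inferInstance ?_
      rw [h3]
      infer_instance
    · intro l
      have := l.lfp
      have h3 : (δ l).left ≫ V.ι = (l.x.left ⁻¹ᵁ W).ι ≫ l.c.left :=
        congr_arg (fun m => m.left) (hδ l)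
      refine MorphismProperty.of_postcomp (W := @LocallyOfFinitePresentation)
        (W' := @IsOpenImmersion) _ V.ι inferInstance ?_
      rw [h3]
      infer_instance
    · intro l
      -- the restriction of `x` to `x⁻¹ W` factors through `W`
      obtain ⟨ε, hε⟩ := exists_lift_opensOver W (opensOverι l.T' (l.x.left ⁻¹ᵁ W) ≫ l.x)
        (fun t => t.2)
      refine ⟨(yon S).map ε ≫ w, ?_⟩
      rw [Category.assoc, hw, ← Category.assoc, ← Functor.map_comp, hε, Functor.map_comp,
        Category.assoc, l.comm, ← Category.assoc, ← Functor.map_comp, ← Category.assoc,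
        ← Functor.map_comp, hδ]
  -- (ii) a point of `T` whose image in `F` lies in `F'` lies in `V`
  have hmem : ∀ ⦃X : Over S⦄ (β : X ⟶ T) (a : (yon S).obj X ⟶ F'),
      a ≫ φ = (yon S).map β ≫ g → ∀ χ : ↥X.left, β.left χ ∈ V := by
    intro X β a ha χ
    obtain ⟨Sg, hSg, hlift⟩ := exists_local_lift q g
    obtain ⟨T', c, hc, hfl, hfp, τ', hτ'⟩ := exists_fppf_of_mem_J hSg (β.left χ)
    obtain ⟨x₀, hx₀⟩ := hlift c hc
    obtain ⟨x, rfl⟩ := (yon S).map_surjective x₀
    let l : Lift q g := ⟨T', c, x, hfl, hfp, hx₀⟩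
    have sqO := IsPullback.of_hasPullback β c
    have sqS : IsPullback (pullback.fst β c).left (pullback.snd β c).left β.left c.left :=
      sqO.map (Over.forget S)
    obtain ⟨χ', h1, h2⟩ := exists_preimage_of_isPullback sqS χ τ' hτ'.symm
    have hy : ((yon S).map (pullback.fst β c) ≫ a) ≫ φ =
        (yon S).map (pullback.snd β c ≫ x) ≫ q := by
      rw [Category.assoc, ha, ← Category.assoc, ← Functor.map_comp, pullback.condition,
        Functor.map_comp, Category.assoc, ← hx₀, Functor.map_comp, Category.assoc]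
    have h3 := hA (pullback.snd β c ≫ x) _ hy χ'
    refine (mem_descOpens_iff q W g _).2 ⟨l, τ', ?_, hτ'⟩
    rw [Over.comp_left, Scheme.Hom.comp_apply, h2] at h3
    exact h3
  obtain ⟨d, hd⟩ := hfac
  refine ⟨opensOver T V, d, opensOverι T V, ?_, ?_⟩
  · have hm : Mono ((yon S).map (opensOverι T V)) := by
      have hml : Mono (opensOverι T V).left := inferInstanceAs (Mono V.ι)
      exact H52.mono_yon_map _
    have hmono : Mono (pullback.lift d ((yon S).map (opensOverι T V)) hd) := by
      have : Mono (pullback.lift d ((yon S).map (opensOverι T V)) hd ≫ pullback.snd _ _) := by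
        rw [pullback.lift_snd]
        exact hm
      exact mono_of_mono _ (pullback.snd _ _)
    have hepi : Epi (pullback.lift d ((yon S).map (opensOverι T V)) hd) := by
      apply epi_of_local_lift
      intro T₂ y
      refine ⟨⊤, (J S).top_mem T₂, fun T₃ f _ => ?_⟩
      obtain ⟨β, hβ⟩ := (yon S).map_surjective (((yon S).map f ≫ y) ≫ pullback.snd _ _)
      have hβg : (((yon S).map f ≫ y) ≫ pullback.fst _ _) ≫ φ = (yon S).map β ≫ g := by
        rw [hβ, Category.assoc, Category.assoc, Category.assoc, Category.assoc, pullback.condition]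
      obtain ⟨δ, hδ⟩ := exists_lift_opensOver V β (hmem β _ hβg)
      refine ⟨(yon S).map δ, ?_⟩
      apply pullback.hom_ext
      · rw [← cancel_mono φ, hβg]
        simp only [Category.assoc]
        rw [pullback.lift_fst_assoc, hd, ← Category.assoc, ← Functor.map_comp, hδ]
      · rw [Category.assoc, pullback.lift_snd, ← Functor.map_comp, hδ, hβ]
    have hiso : IsIso (pullback.lift d ((yon S).map (opensOverι T V)) hd) :=
      isIso_of_mono_of_epi _
    exact IsPullback.of_iso_pullback ⟨hd⟩ (asIso (pullback.lift _ _ hd)) (pullback.lift_fst _ _ _)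
      (pullback.lift_snd _ _ _)
  · show IsOpenImmersion V.ι
    infer_instance

end Groth.Agent.H51.OpenDesc
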