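import Groth.Agent.H50.SigmaChart
import Groth.Agent.H52.MonoField
import Groth.Agent.H51.OpenDesc
import Mathlib.CategoryTheory.EssentialImage

/-!
# Colimits of schemes which remain colimits among algebraic spaces (helper51)
-/

set_option autoImplicit false
universe u v w
open CategoryTheory CategoryTheory.Limits AlgebraicGeometry Opposite AlgSp

namespace Groth.Agent.H51.ColimSch

open Groth.Agent.H50

variable {S : Scheme.{u}} {I : Type v} [Category.{w} I]

/-- Part A: the system of base changes of a cocone of schemes to a sheaf along a representable chart. -/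
theorem exists_system (D : I ⥤ Over S) {T : Sp S} (τ : ∀ i, (yon S).obj (D.obj i) ⟶ T)
    (hτ : ∀ ⦃i j : I⦄ (g : i ⟶ j), (yon S).map (D.map g) ≫ τ j = τ i)
    {V : Over S} (q : (yon S).obj V ⟶ T) (hq : Representable q) :
    ∃ (D' : I ⥤ Over S) (α : D' ⟶ D) (β : ∀ i, D'.obj i ⟶ V),
      (∀ ⦃i j : I⦄ (g : i ⟶ j), D'.map g ≫ β j = β i) ∧
      (∀ i, IsPullback ((yon S).map (β i)) ((yon S).map (α.app i)) q (τ i)) := by
  let G : I ⥤ Sp S :=
    { obj := fun i => pullback q (τ i)
      map := fun {i j} g => pullback.lift (pullback.fst q (τ i))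
        (pullback.snd q (τ i) ≫ (yon S).map (D.map g))
        (by rw [Category.assoc, hτ g, pullback.condition])
      map_id := fun i => by
        apply pullback.hom_ext
        · rw [pullback.lift_fst, Category.id_comp]
        · rw [pullback.lift_snd, D.map_id, CategoryTheory.Functor.map_id, Category.comp_id,
            Category.id_comp]
      map_comp := fun f g => by
        apply pullback.hom_ext
        · rw [pullback.lift_fst, Category.assoc, pullback.lift_fst, pullback.lift_fst]
        · rw [pullback.lift_snd, Category.assoc, pullback.lift_snd, ← Category.assoc,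
            pullback.lift_snd, Category.assoc, D.map_comp, Functor.map_comp] }
  have hGfst : ∀ ⦃i j : I⦄ (g : i ⟶ j), G.map g ≫ pullback.fst q (τ j) = pullback.fst q (τ i) :=
    fun i j g => pullback.lift_fst _ _ _
  have hGsnd : ∀ ⦃i j : I⦄ (g : i ⟶ j), G.map g ≫ pullback.snd q (τ j) =
      pullback.snd q (τ i) ≫ (yon S).map (D.map g) :=
    fun i j g => pullback.lift_snd _ _ _
  have hG : ∀ i, (yon S).essImage (G.obj i) := by
    intro i
    obtain ⟨b, snd, fst, sq⟩ := hq (τ i)
    exact ⟨b, ⟨sq.isoPullback⟩⟩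
  let D' : I ⥤ Over S := Functor.essImage.liftFunctor G (yon S) hG
  let e : D' ⋙ yon S ≅ G := Functor.essImage.liftFunctorCompIso G (yon S) hG
  have hα : ∀ ⦃i j : I⦄ (g : i ⟶ j),
      D'.map g ≫ (yon S).preimage (e.hom.app j ≫ pullback.snd q (τ j)) =
        (yon S).preimage (e.hom.app i ≫ pullback.snd q (τ i)) ≫ D.map g := by
    intro i j g
    apply (yon S).map_injective
    have h1 := e.hom.naturality g
    simp only [Functor.comp_map] at h1
    rw [Functor.map_comp, Functor.map_comp, Functor.map_preimage, Functor.map_preimage,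
      ← Category.assoc, h1, Category.assoc, Category.assoc]
    congr 1
    exact hGsnd g
  refine ⟨D', ⟨fun i => (yon S).preimage (e.hom.app i ≫ pullback.snd q (τ i)), hα⟩,
    fun i => (yon S).preimage (e.hom.app i ≫ pullback.fst q (τ i)), ?_, ?_⟩
  · intro i j g
    apply (yon S).map_injective
    have h1 := e.hom.naturality g
    simp only [Functor.comp_map] at h1
    rw [Functor.map_comp, Functor.map_preimage, Functor.map_preimage,
      ← Category.assoc, h1, Category.assoc]
    congr 1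
    exact hGfst g
  · intro i
    rw [Functor.map_preimage, Functor.map_preimage]
    exact IsPullback.of_iso_pullback ⟨by rw [Category.assoc, Category.assoc, pullback.condition]⟩
      (e.app i) rfl rfl

/-- The transition squares of a system as in `exists_system` are cartesian. -/
theorem equifibered_of_system (D : I ⥤ Over S) {T : Sp S} (τ : ∀ i, (yon S).obj (D.obj i) ⟶ T)
    (hτ : ∀ ⦃i j : I⦄ (g : i ⟶ j), (yon S).map (D.map g) ≫ τ j = τ i)
    {V : Over S} (q : (yon S).obj V ⟶ T) (D' : I ⥤ Over S) (α : D' ⟶ D) (β : ∀ i, D'.obj i ⟶ V)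
    (hβ : ∀ ⦃i j : I⦄ (g : i ⟶ j), D'.map g ≫ β j = β i)
    (hsq : ∀ i, IsPullback ((yon S).map (β i)) ((yon S).map (α.app i)) q (τ i)) :
    NatTrans.Equifibered α := by
  intro i j g
  have hout : IsPullback ((yon S).map (D'.map g) ≫ (yon S).map (β j)) ((yon S).map (α.app i)) q
      ((yon S).map (D.map g) ≫ τ j) := by
    rw [← Functor.map_comp, hβ g, hτ g]
    exact hsq i
  have hl : IsPullback ((yon S).map (D'.map g)) ((yon S).map (α.app i)) ((yon S).map (α.app j))
      ((yon S).map (D.map g)) :=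
    IsPullback.of_right hout (by rw [← Functor.map_comp, ← Functor.map_comp, α.naturality]) (hsq j)
  exact IsPullback.of_map (yon S) (α.naturality g) hl

/-- Part B: descending a compatible family of morphisms over `S` along a colimit in schemes. -/
theorem exists_desc_over (D' : I ⥤ Over S) (c' : Cocone D')
    (hc : IsColimit ((Over.forget S).mapCocone c')) {V : Over S} (β : ∀ i, D'.obj i ⟶ V)
    (hβ : ∀ ⦃i j : I⦄ (g : i ⟶ j), D'.map g ≫ β j = β i) :
    ∃ u : c'.pt ⟶ V, ∀ i, c'.ι.app i ≫ u = β i := by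
  let s : Cocone (D' ⋙ Over.forget S) :=
    ⟨V.left, ⟨fun i => (β i).left, fun i j g => by
      have := congrArg CommaMorphism.left (hβ g)
      simpa using this⟩⟩
  have hfac : ∀ i, (c'.ι.app i).left ≫ hc.desc s = (β i).left := fun i => hc.fac s i
  have hw : hc.desc s ≫ V.hom = c'.pt.hom := by
    apply hc.hom_ext
    intro i
    change (c'.ι.app i).left ≫ hc.desc s ≫ V.hom = (c'.ι.app i).left ≫ c'.pt.hom
    rw [← Category.assoc, hfac i, Over.w]
    exact (Over.w _).symm
  refine ⟨Over.homMk (hc.desc s) hw, fun i => ?_⟩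
  apply Over.OverMorphism.ext
  exact hfac i

theorem hom_ext_over (D' : I ⥤ Over S) (c' : Cocone D')
    (hc : IsColimit ((Over.forget S).mapCocone c')) {V : Over S} (u u' : c'.pt ⟶ V)
    (h : ∀ i, c'.ι.app i ≫ u = c'.ι.app i ≫ u') : u = u' := by
  apply Over.OverMorphism.ext
  apply hc.hom_ext
  intro i
  exact congrArg CommaMorphism.left (h i)

/-- Part C: a base change of a chart `h_V ⟶ T` with `V` separated over `S` is separated. -/
theorem isSeparated_of_isPullback {V X P : Over S} [IsSeparated V.hom] {T : Sp S}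
    (q : (yon S).obj V ⟶ T) (τ : (yon S).obj X ⟶ T) (b : P ⟶ V) (a : P ⟶ X)
    (sq : IsPullback ((yon S).map b) ((yon S).map a) q τ) : IsSeparated a.left := by
  obtain ⟨m₀, hm1, hm2⟩ : ∃ m₀ : P.left ⟶ pullback V.hom X.hom,
      m₀ ≫ pullback.fst V.hom X.hom = b.left ∧ m₀ ≫ pullback.snd V.hom X.hom = a.left :=
    ⟨pullback.lift b.left a.left (by rw [Over.w, Over.w]), pullback.lift_fst _ _ _,
      pullback.lift_snd _ _ _⟩
  have hm : Mono m₀ := by
    refine ⟨fun {Z} x y hxy => ?_⟩
    have h1 : x ≫ b.left = y ≫ b.left := by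
      rw [← hm1, ← Category.assoc, hxy, Category.assoc]
    have h2 : x ≫ a.left = y ≫ a.left := by
      rw [← hm2, ← Category.assoc, hxy, Category.assoc]
    have hy : y ≫ P.hom = x ≫ P.hom := by
      rw [← Over.w a, ← Category.assoc, ← h2, Category.assoc]
    let x' : Over.mk (x ≫ P.hom) ⟶ P := Over.homMk x rfl
    let y' : Over.mk (x ≫ P.hom) ⟶ P := Over.homMk y hy
    have hxy' : (yon S).map x' = (yon S).map y' := by
      apply sq.hom_ext
      · rw [← Functor.map_comp, ← Functor.map_comp]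
        congr 1
        apply Over.OverMorphism.ext
        exact h1
      · rw [← Functor.map_comp, ← Functor.map_comp]
        congr 1
        apply Over.OverMorphism.ext
        exact h2
    exact congrArg CommaMorphism.left ((yon S).map_injective hxy')
  rw [← hm2]
  infer_instance

instance isSeparated_hom_of_isAffine {X Y : Scheme.{u}} (f : X ⟶ Y) [IsAffine X] : IsSeparated f := by
  have : IsSeparated (f ≫ terminal.from Y) := by
    have : IsAffineHom (f ≫ terminal.from Y) := by
      rw [terminal.comp_from]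
      infer_instance
    infer_instance
  exact IsSeparated.of_comp f (terminal.from Y)

section Main

variable (D : I ⥤ Over S) (c : Cocone D)

/-- Part D1: the pullback of a chart along a morphism from an etale cartesian cocone is the colimit of the
base-changed system. -/
theorem chart_colimit
    (h₃ : ∀ (D' : I ⥤ Over S) (α : D' ⟶ D) (c' : Cocone D') (a : c'.pt ⟶ c.pt), Etale a.left →
      (∀ i, IsPullback (c'.ι.app i) (α.app i) a (c.ι.app i)) →
        Nonempty (IsColimit ((Over.forget S).mapCocone c')))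
    {T : Sp S} (D' : I ⥤ Over S) (α : D' ⟶ D) (c' : Cocone D') (a : c'.pt ⟶ c.pt)
    (ha : Etale a.left) (hcart : ∀ i, IsPullback (c'.ι.app i) (α.app i) a (c.ι.app i))
    (k : (yon S).obj c'.pt ⟶ T) (τ' : ∀ i, (yon S).obj (D'.obj i) ⟶ T)
    (hk : ∀ i, (yon S).map (c'.ι.app i) ≫ k = τ' i)
    {V : Over S} (p : (yon S).obj V ⟶ T) (hpe : RepWith @Etale p)
    (D'' : I ⥤ Over S) (α'' : D'' ⟶ D') (β'' : ∀ i, D''.obj i ⟶ V)
    (hβ'' : ∀ ⦃i j : I⦄ (g : i ⟶ j), D''.map g ≫ β'' j = β'' i)
    (hsq'' : ∀ i, IsPullback ((yon S).map (β'' i)) ((yon S).map (α''.app i)) p (τ' i))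
    {U : Over S} (aU : U ⟶ c'.pt) (fU : U ⟶ V)
    (sqU : IsPullback ((yon S).map fU) ((yon S).map aU) p k) :
    ∃ ιU : ∀ i, D''.obj i ⟶ U, (∀ ⦃i j : I⦄ (g : i ⟶ j), D''.map g ≫ ιU j = ιU i) ∧
      (∀ i, ιU i ≫ fU = β'' i) ∧ (∀ i, ιU i ≫ aU = α''.app i ≫ c'.ι.app i) ∧
      (∀ (V' : Over S) (γ : ∀ i, D''.obj i ⟶ V'), (∀ ⦃i j : I⦄ (g : i ⟶ j), D''.map g ≫ γ j = γ i) →
        ∃ u : U ⟶ V', ∀ i, ιU i ≫ u = γ i) ∧
      (∀ (V' : Over S) (u u' : U ⟶ V'), (∀ i, ιU i ≫ u = ιU i ≫ u') → u = u') := by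
  have hcomm : ∀ i, (yon S).map (β'' i) ≫ p = (yon S).map (α''.app i ≫ c'.ι.app i) ≫ k := by
    intro i
    rw [Functor.map_comp, Category.assoc, hk i]
    exact (hsq'' i).w
  obtain ⟨ιU, hιU⟩ : ∃ ιU : ∀ i, D''.obj i ⟶ U, ∀ i, (yon S).map (ιU i) =
      sqU.lift ((yon S).map (β'' i)) ((yon S).map (α''.app i ≫ c'.ι.app i)) (hcomm i) :=
    ⟨fun i => (yon S).preimage _, fun i => Functor.map_preimage _ _⟩
  have h1 : ∀ i, ιU i ≫ fU = β'' i := by
    intro i
    apply (yon S).map_injective
    rw [Functor.map_comp, hιU, sqU.lift_fst]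
  have h2 : ∀ i, ιU i ≫ aU = α''.app i ≫ c'.ι.app i := by
    intro i
    apply (yon S).map_injective
    rw [Functor.map_comp, hιU, sqU.lift_snd]
  have hnat : ∀ ⦃i j : I⦄ (g : i ⟶ j), D''.map g ≫ ιU j = ιU i := by
    intro i j g
    apply (yon S).map_injective
    apply sqU.hom_ext
    · rw [← Functor.map_comp, ← Functor.map_comp, Category.assoc, h1, h1, hβ'']
    · rw [← Functor.map_comp, ← Functor.map_comp, Category.assoc, h2, h2, ← Category.assoc,
        α''.naturality, Category.assoc, c'.w]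
  let cU : Cocone D'' := ⟨U, ⟨ιU, fun i j g => by
    rw [hnat g]
    simp⟩⟩
  have hleft : ∀ i, IsPullback (ιU i) (α''.app i) aU (c'.ι.app i) := by
    intro i
    have hout : IsPullback ((yon S).map (ιU i) ≫ (yon S).map fU) ((yon S).map (α''.app i)) p
        ((yon S).map (c'.ι.app i) ≫ k) := by
      rw [← Functor.map_comp, h1, hk]
      exact hsq'' i
    exact IsPullback.of_map (yon S) (h2 i)
      (IsPullback.of_right hout (by rw [← Functor.map_comp, ← Functor.map_comp, h2]) sqU)
  have hcartU : ∀ i, IsPullback (cU.ι.app i) ((α'' ≫ α).app i) (aU ≫ a) (c.ι.app i) :=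
    fun i => (hleft i).paste_vert (hcart i)
  have haU : Etale aU.left := hpe.property k _ aU sqU
  have het : Etale (aU ≫ a).left := by
    rw [Over.comp_left]
    infer_instance
  obtain ⟨hcU⟩ := h₃ D'' (α'' ≫ α) cU (aU ≫ a) het hcartU
  exact ⟨ιU, hnat, h1, h2, fun V' γ hγ => exists_desc_over D'' cU hcU γ hγ,
    fun V' u u' h => hom_ext_over D'' cU hcU u u' h⟩

/-- Part D2: morphisms from an etale cartesian cocone point to an algebraic space are determined by their
restrictions to the members of the system. -/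
theorem hom_ext_of_cartesian
    (h₃ : ∀ (D' : I ⥤ Over S) (α : D' ⟶ D) (c' : Cocone D') (a : c'.pt ⟶ c.pt), Etale a.left →
      (∀ i, IsPullback (c'.ι.app i) (α.app i) a (c.ι.app i)) →
        Nonempty (IsColimit ((Over.forget S).mapCocone c')))
    {T : Sp S} (hT : IsAlgSpace T) (D' : I ⥤ Over S) (α : D' ⟶ D) (c' : Cocone D')
    (a : c'.pt ⟶ c.pt) (ha : Etale a.left)
    (hcart : ∀ i, IsPullback (c'.ι.app i) (α.app i) a (c.ι.app i))
    (k k' : (yon S).obj c'.pt ⟶ T)
    (hkk : ∀ i, (yon S).map (c'.ι.app i) ≫ k = (yon S).map (c'.ι.app i) ≫ k') : k = k' := by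
  obtain ⟨T', p, hpe, hps⟩ := hT.atlas
  obtain ⟨U, aU, fU, sqU⟩ := hpe.rep k
  obtain ⟨fU, rfl⟩ := (yon S).map_surjective fU
  obtain ⟨U', aU', fU', sqU'⟩ := hpe.rep k'
  obtain ⟨fU', rfl⟩ := (yon S).map_surjective fU'
  obtain ⟨D'', α'', β'', hβ'', hsq''⟩ := exists_system D' (fun i => (yon S).map (c'.ι.app i) ≫ k)
    (fun i j g => by rw [← Category.assoc, ← Functor.map_comp, c'.w]) p hpe.rep
  obtain ⟨ιU, hnat, h1, h2, hex, huniq⟩ := chart_colimit D c h₃ D' α c' a ha hcart k _
    (fun i => rfl) p hpe D'' α'' β'' hβ'' hsq'' aU fU sqU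
  obtain ⟨ιU', hnat', h1', h2', hex', huniq'⟩ := chart_colimit D c h₃ D' α c' a ha hcart k' _
    (fun i => (hkk i).symm) p hpe D'' α'' β'' hβ'' hsq'' aU' fU' sqU'
  obtain ⟨θ, hθ⟩ := hex U' ιU' hnat'
  have e1 : θ ≫ aU' = aU := huniq _ _ _ (fun i => by rw [← Category.assoc, hθ, h2', h2])
  have e2 : θ ≫ fU' = fU := huniq _ _ _ (fun i => by rw [← Category.assoc, hθ, h1', h1])
  have hSurj : Surjective aU.left := hps.property k _ aU sqU
  have hEt : Etale aU.left := hpe.property k _ aU sqU
  haveI : Epi ((yon S).map aU) := H52.epi_yon_map_of_fppf aU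
  rw [← cancel_epi ((yon S).map aU)]
  calc (yon S).map aU ≫ k = (yon S).map fU ≫ p := sqU.w.symm
    _ = (yon S).map θ ≫ (yon S).map fU' ≫ p := by rw [← e2, Functor.map_comp, Category.assoc]
    _ = (yon S).map θ ≫ (yon S).map aU' ≫ k' := by rw [sqU'.w]
    _ = (yon S).map aU ≫ k' := by rw [← Category.assoc, ← Functor.map_comp, e1]

/-- Part E: existence of the descended morphism. -/
theorem exists_desc
    (h₂ : ∀ x : ↥c.pt.left, ∃ (i : I) (y : ↥(D.obj i).left), (c.ι.app i).left y = x)
    (h₃ : ∀ (D' : I ⥤ Over S) (α : D' ⟶ D) (c' : Cocone D') (a : c'.pt ⟶ c.pt), Etale a.left →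
      (∀ i, IsPullback (c'.ι.app i) (α.app i) a (c.ι.app i)) →
        Nonempty (IsColimit ((Over.forget S).mapCocone c')))
    (h₄ : ∀ (D' : I ⥤ Over S) (α : D' ⟶ D), NatTrans.Equifibered α → (∀ i, Etale (α.app i).left) →
      (∀ i, IsSeparated (α.app i).left) →
      ∃ (c' : Cocone D') (a : c'.pt ⟶ c.pt), Etale a.left ∧
        ∀ i, IsPullback (c'.ι.app i) (α.app i) a (c.ι.app i))
    {T : Sp S} (hT : IsAlgSpace T) (τ : ∀ i, (yon S).obj (D.obj i) ⟶ T)
    (hτ : ∀ ⦃i j : I⦄ (g : i ⟶ j), (yon S).map (D.map g) ≫ τ j = τ i) :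
    ∃ k : (yon S).obj c.pt ⟶ T, ∀ i, (yon S).map (c.ι.app i) ≫ k = τ i := by
  obtain ⟨T', p, hpe, hps⟩ := hT.atlas
  let 𝒰 := T'.left.affineCover
  let Tj : 𝒰.I₀ → Over S := fun j => Over.mk (𝒰.f j ≫ T'.hom)
  let ej : ∀ j, Tj j ⟶ T' := fun j => Over.homMk (𝒰.f j) rfl
  let qj : ∀ j, (yon S).obj (Tj j) ⟶ T := fun j => (yon S).map (ej j) ≫ p
  have hTaff : ∀ j, IsAffine (Tj j).left := fun j => inferInstanceAs (IsAffine (𝒰.X j))
  have hTsep : ∀ j, IsSeparated (Tj j).hom := fun j => by
    haveI := hTaff j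
    infer_instance
  have hqe : ∀ j, RepWith @Etale (qj j) := fun j =>
    (RepWith @Etale).comp_mem _ _ ((repWith_yon_map_iff _ _).2 (by
      change Etale (𝒰.f j)
      infer_instance)) hpe
  have key : ∀ j, ∃ (D' : I ⥤ Over S) (α : D' ⟶ D) (β : ∀ i, D'.obj i ⟶ Tj j) (c' : Cocone D')
      (a : c'.pt ⟶ c.pt) (u : c'.pt ⟶ Tj j),
      (∀ i, IsPullback ((yon S).map (β i)) ((yon S).map (α.app i)) (qj j) (τ i)) ∧ Etale a.left ∧
      (∀ i, IsPullback (c'.ι.app i) (α.app i) a (c.ι.app i)) ∧ (∀ i, c'.ι.app i ≫ u = β i) := by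
    intro j
    obtain ⟨D', α, β, hβ, hsq⟩ := exists_system D τ hτ (qj j) (hqe j).rep
    have heq := equifibered_of_system D τ hτ (qj j) D' α β hβ hsq
    have het : ∀ i, Etale (α.app i).left := fun i => (hqe j).property (τ i) _ (α.app i) (hsq i)
    have hsep : ∀ i, IsSeparated (α.app i).left := fun i => by
      haveI := hTsep j
      exact isSeparated_of_isPullback (qj j) (τ i) (β i) (α.app i) (hsq i)
    obtain ⟨c', a, ha, hcart⟩ := h₄ D' α heq het hsep
    obtain ⟨hc'⟩ := h₃ D' α c' a ha hcart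
    obtain ⟨u, hu⟩ := exists_desc_over D' c' hc' β hβ
    exact ⟨D', α, β, c', a, u, hsq, ha, hcart, hu⟩
  choose D' α β c' a u hsq hae hcart hu using key
  -- joint surjectivity over each member of the diagram
  have hS : ∀ i (y : ↥(D.obj i).left), ∃ (j : 𝒰.I₀) (y' : ↥((D' j).obj i).left),
      ((α j).app i).left y' = y := by
    intro i y
    obtain ⟨Z, sZ, fZ, sqZ⟩ := hpe.rep (τ i)
    obtain ⟨fZ, rfl⟩ := (yon S).map_surjective fZ
    have hsurj : Surjective sZ.left := hps.property (τ i) _ sZ sqZ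
    obtain ⟨z, rfl⟩ := hsurj.surj y
    obtain ⟨j, t, ht⟩ := 𝒰.exists_eq (fZ.left z)
    have hcm : (yon S).map (β j i ≫ ej j) ≫ p = (yon S).map ((α j).app i) ≫ τ i := by
      rw [Functor.map_comp, Category.assoc]
      exact (hsq j i).w
    obtain ⟨m, hm⟩ : ∃ m : (D' j).obj i ⟶ Z, (yon S).map m = sqZ.lift _ _ hcm :=
      ⟨(yon S).preimage _, Functor.map_preimage _ _⟩
    have hm1 : m ≫ fZ = β j i ≫ ej j := by
      apply (yon S).map_injective
      rw [Functor.map_comp, hm, sqZ.lift_fst]
    have hm2 : m ≫ sZ = (α j).app i := by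
      apply (yon S).map_injective
      rw [Functor.map_comp, hm, sqZ.lift_snd]
    have htop : IsPullback ((yon S).map (β j i)) ((yon S).map m) ((yon S).map (ej j))
        ((yon S).map fZ) := by
      refine IsPullback.of_bot ?_ ?_ sqZ
      · rw [← Functor.map_comp, hm2]
        exact hsq j i
      · rw [← Functor.map_comp, ← Functor.map_comp, hm1]
    have htopS : IsPullback (β j i).left m.left (ej j).left fZ.left :=
      (IsPullback.of_map (yon S) hm1.symm htop).map (Over.forget S)
    obtain ⟨y', hy1, hy2⟩ := OpenDesc.exists_preimage_of_isPullback htopS t z ht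
    refine ⟨j, y', ?_⟩
    rw [← hm2, Over.comp_left, Scheme.Hom.comp_apply, hy2]
  have hcov : ∀ x : ↥c.pt.left, ∃ (j : 𝒰.I₀) (z : ↥(c' j).pt.left), (a j).left z = x := by
    intro x
    obtain ⟨i, y, rfl⟩ := h₂ x
    obtain ⟨j, y', rfl⟩ := hS i y
    refine ⟨j, ((c' j).ι.app i).left y', ?_⟩
    rw [← Scheme.Hom.comp_apply, ← Scheme.Hom.comp_apply, ← Over.comp_left, ← Over.comp_left,
      (hcart j i).w]
  -- compatibility
  have hcompat : ∀ (j k : 𝒰.I₀) (Z : Over S) (gj : Z ⟶ (c' j).pt) (gk : Z ⟶ (c' k).pt),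
      gj ≫ a j = gk ≫ a k →
      (yon S).map gj ≫ (yon S).map (u j) ≫ qj j = (yon S).map gk ≫ (yon S).map (u k) ≫ qj k := by
    intro j k Z gj gk hg
    obtain ⟨R, r1, r2, hR⟩ : ∃ (R : Over S) (r1 : R ⟶ (c' j).pt) (r2 : R ⟶ (c' k).pt),
        IsPullback r1 r2 (a j) (a k) := ⟨_, _, _, IsPullback.of_hasPullback _ _⟩
    have hmain : (yon S).map r1 ≫ (yon S).map (u j) ≫ qj j =
        (yon S).map r2 ≫ (yon S).map (u k) ≫ qj k := by
      obtain ⟨aR, haR⟩ : ∃ aR : R ⟶ c.pt, aR = r1 ≫ a j := ⟨_, rfl⟩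
      let DR : I ⥤ Over S :=
        { obj := fun i => pullback (c.ι.app i) aR
          map := fun {i i'} g => pullback.lift (pullback.fst _ _ ≫ D.map g) (pullback.snd _ _)
            (by rw [Category.assoc, c.w, pullback.condition])
          map_id := fun i => by
            apply pullback.hom_ext
            · rw [pullback.lift_fst, D.map_id, Category.comp_id, Category.id_comp]
            · rw [pullback.lift_snd, Category.id_comp]
          map_comp := fun f g => by
            apply pullback.hom_ext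
            · rw [pullback.lift_fst, Category.assoc, pullback.lift_fst, ← Category.assoc,
                pullback.lift_fst, Category.assoc, D.map_comp]
            · rw [pullback.lift_snd, Category.assoc, pullback.lift_snd, pullback.lift_snd] }
      let αR : DR ⟶ D := ⟨fun i => pullback.fst _ _, fun i i' g => pullback.lift_fst _ _ _⟩
      let cR : Cocone DR := ⟨R, ⟨fun i => pullback.snd _ _, fun i i' g => by
        change pullback.lift _ _ _ ≫ pullback.snd _ _ = pullback.snd _ _ ≫ 𝟙 _
        rw [pullback.lift_snd, Category.comp_id]⟩⟩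
      have hcartR : ∀ i, IsPullback (cR.ι.app i) (αR.app i) aR (c.ι.app i) :=
        fun i => (IsPullback.of_hasPullback (c.ι.app i) aR).flip
      have hetR : Etale aR.left := by
        have h1 : Etale r1.left :=
          MorphismProperty.of_isPullback (P := @Etale) (hR.flip.map (Over.forget S)) (hae k)
        have := hae j
        rw [haR, Over.comp_left]
        infer_instance
      have aux : ∀ (l : 𝒰.I₀) (r : R ⟶ (c' l).pt), r ≫ a l = aR → ∀ i,
          (yon S).map (cR.ι.app i) ≫ (yon S).map r ≫ (yon S).map (u l) ≫ qj l =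
            (yon S).map (αR.app i) ≫ τ i := by
        intro l r hr i
        have hcm : (cR.ι.app i ≫ r) ≫ a l = αR.app i ≫ c.ι.app i := by
          rw [Category.assoc, hr]
          exact (hcartR i).w
        obtain ⟨m, hm1, hm2⟩ : ∃ m : DR.obj i ⟶ (D' l).obj i,
            m ≫ (c' l).ι.app i = cR.ι.app i ≫ r ∧ m ≫ (α l).app i = αR.app i :=
          ⟨(hcart l i).lift _ _ hcm, (hcart l i).lift_fst _ _ _, (hcart l i).lift_snd _ _ _⟩
        calc (yon S).map (cR.ι.app i) ≫ (yon S).map r ≫ (yon S).map (u l) ≫ qj l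
            = (yon S).map (cR.ι.app i ≫ r) ≫ (yon S).map (u l) ≫ qj l := by
              rw [Functor.map_comp, Category.assoc]
          _ = (yon S).map m ≫ (yon S).map ((c' l).ι.app i ≫ u l) ≫ qj l := by
              rw [← hm1, Functor.map_comp, Functor.map_comp, Category.assoc, Category.assoc]
          _ = (yon S).map m ≫ (yon S).map ((α l).app i) ≫ τ i := by
              rw [hu, (hsq l i).w]
          _ = (yon S).map (αR.app i) ≫ τ i := by
              rw [← Category.assoc, ← Functor.map_comp, hm2]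
      refine hom_ext_of_cartesian D c h₃ hT DR αR cR aR hetR hcartR _ _ (fun i => ?_)
      rw [aux j r1 haR.symm i, aux k r2 (by rw [haR]; exact hR.w.symm) i]
    obtain ⟨v, hv1, hv2⟩ : ∃ v : Z ⟶ R, v ≫ r1 = gj ∧ v ≫ r2 = gk :=
      ⟨hR.lift gj gk hg, hR.lift_fst _ _ _, hR.lift_snd _ _ _⟩
    subst hv1 hv2
    rw [Functor.map_comp, Functor.map_comp, Category.assoc, Category.assoc, hmain]
  -- gluing
  have hF : Presieve.IsSheaf (J S) T.obj := (isSheaf_iff_isSheaf_of_type _ _).1 T.property
  have hmem : Sieve.generate (Presieve.ofArrows (fun j => (c' j).pt) a) ∈ J S c.pt :=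
    mem_J_of_fppf_family (fun j => (c' j).pt) a hcov
      (fun j => by
        have := hae j
        infer_instance)
      (fun j => by
        have := hae j
        infer_instance) _
      (fun j => ⟨_, 𝟙 _, a j, Presieve.ofArrows.mk j, Category.id_comp _⟩)
  have hsf := hF.isSheafFor (Presieve.ofArrows (fun j => (c' j).pt) a) hmem
  rw [Presieve.isSheafFor_arrows_iff] at hsf
  have hcomp : Presieve.Arrows.Compatible T.obj a
      (fun j => yonEquiv ((yon S).map (u j) ≫ qj j)) := by
    intro j k Z gj gk hcomm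
    apply (yonEquiv (S := S) (F := T) (T := Z)).symm.injective
    rw [← yon_map_comp_yonEquiv_symm, ← yon_map_comp_yonEquiv_symm, Equiv.symm_apply_apply,
      Equiv.symm_apply_apply]
    exact hcompat j k Z gj gk hcomm
  obtain ⟨t, ht, -⟩ := hsf _ hcomp
  have hk : ∀ j, (yon S).map (a j) ≫ yonEquiv.symm t = (yon S).map (u j) ≫ qj j := by
    intro j
    rw [yon_map_comp_yonEquiv_symm, ht j, Equiv.symm_apply_apply]
  refine ⟨yonEquiv.symm t, fun i => ?_⟩
  let Sg : Sieve (D.obj i) :=
    { arrows := fun Y f => ∃ (j : 𝒰.I₀) (g : Y ⟶ (D' j).obj i), g ≫ (α j).app i = f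
      downward_closed := by
        rintro Y Y' f ⟨j, g, rfl⟩ g'
        exact ⟨j, g' ≫ g, Category.assoc _ _ _⟩ }
  have hmem_i : Sg ∈ J S (D.obj i) :=
    mem_J_of_fppf_family (fun j => (D' j).obj i) (fun j => (α j).app i) (hS i)
      (fun j => by
        have : Etale ((α j).app i).left := (hqe j).property (τ i) _ _ (hsq j i)
        infer_instance)
      (fun j => by
        have : Etale ((α j).app i).left := (hqe j).property (τ i) _ _ (hsq j i)
        infer_instance) Sg
      (fun j => ⟨j, 𝟙 _, Category.id_comp _⟩)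
  refine hom_ext_of_local _ _ hmem_i (fun T₃ f hf => ?_)
  obtain ⟨j, g, rfl⟩ := hf
  calc (yon S).map (g ≫ (α j).app i) ≫ (yon S).map (c.ι.app i) ≫ yonEquiv.symm t
      = (yon S).map g ≫ (yon S).map ((c' j).ι.app i ≫ a j) ≫ yonEquiv.symm t := by
        rw [(hcart j i).w, Functor.map_comp, Functor.map_comp, Category.assoc, Category.assoc]
    _ = (yon S).map g ≫ (yon S).map ((c' j).ι.app i ≫ u j) ≫ qj j := by
        rw [Functor.map_comp, Category.assoc, hk j, Functor.map_comp, Category.assoc]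
    _ = (yon S).map (g ≫ (α j).app i) ≫ τ i := by
        rw [hu, (hsq j i).w, Functor.map_comp, Category.assoc]

end Main

end Groth.Agent.H51.ColimSch
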