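import Groth.Agent.H51.LinTop
import Mathlib.Topology.Algebra.UniformRing
import Mathlib.Topology.Algebra.GroupCompletion

/-! Dense inducing ring maps out of a linearly topologized ring; completion (helper51). -/

set_option autoImplicit false
set_option linter.unusedSectionVars false
set_option linter.unusedVariables false
universe u v

open Topology Filter UniformSpace

namespace Groth.Agent.H51

/-- For a ring map with dense range, the closure of the image of an ideal is the closure of the
ideal generated by the image. -/
theorem closure_image_eq_closure_map'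
    {A : Type u} [CommRing A]
    {B : Type v} [CommRing B] [TopologicalSpace B] [IsTopologicalRing B]
    (φ : A →+* B) (hd : DenseRange φ) (I : Ideal A) :
    closure (φ '' (I : Set A)) = closure ((I.map φ : Ideal B) : Set B) := by
  apply Set.Subset.antisymm
  · apply closure_mono
    rintro _ ⟨a, ha, rfl⟩
    exact Ideal.mem_map_of_mem φ ha
  · apply closure_minimal _ isClosed_closure
    intro b hb
    let K : AddSubgroup B := (AddSubgroup.map φ.toAddMonoidHom I.toAddSubgroup).topologicalClosure
    have hK : (K : Set B) = closure (φ '' (I : Set A)) := rfl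
    rw [← hK]
    unfold Ideal.map at hb
    refine Submodule.span_induction (p := fun y _ => y ∈ K) ?_ ?_ ?_ ?_ hb
    · intro y hy
      exact subset_closure hy
    · exact K.zero_mem
    · intro y z _ _ hy hz
      exact K.add_mem hy hz
    · intro c y _ hy
      have hc : c ∈ closure (Set.range φ) := hd c
      have : c * y ∈ closure (φ '' (I : Set A)) := by
        refine map_mem_closure₂ continuous_mul hc hy ?_
        rintro _ ⟨a, rfl⟩ _ ⟨z, hz, rfl⟩
        exact ⟨a * z, I.mul_mem_left a hz, map_mul φ a z⟩
      exact this

section Dense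

variable {A : Type u} [CommRing A] [TopologicalSpace A] [IsTopologicalRing A]
variable {B : Type v} [CommRing B] [TopologicalSpace B] [IsTopologicalRing B]

theorem isOpen_closure_image_of_isDenseInducing (φ : A →+* B) (hφ : IsDenseInducing φ)
    (I : Ideal A) (hI : IsOpen (I : Set A)) : IsOpen (closure (φ '' (I : Set A))) := by
  have h0 : closure (φ '' (I : Set A)) ∈ 𝓝 (0 : B) := by
    have := hφ.closure_image_mem_nhds (hI.mem_nhds I.zero_mem)
    rwa [map_zero] at this
  have hadd : ∀ x ∈ closure (φ '' (I : Set A)), ∀ y ∈ closure (φ '' (I : Set A)),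
      x + y ∈ closure (φ '' (I : Set A)) := by
    intro x hx y hy
    refine map_mem_closure₂ continuous_add hx hy ?_
    rintro _ ⟨a, ha, rfl⟩ _ ⟨b, hb, rfl⟩
    exact ⟨a + b, I.add_mem ha hb, map_add φ a b⟩
  rw [isOpen_iff_mem_nhds]
  intro x hx
  have hpre : (fun y => y - x) ⁻¹' (closure (φ '' (I : Set A))) ∈ 𝓝 x := by
    have hc : Continuous (fun y : B => y - x) := continuous_id.sub continuous_const
    apply hc.continuousAt.preimage_mem_nhds
    simpa using h0
  refine Filter.mem_of_superset hpre ?_
  intro y hy
  have := hadd _ hy _ hx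
  simpa using this

theorem isOpen_closure_map_of_isDenseInducing (φ : A →+* B) (hφ : IsDenseInducing φ)
    (I : Ideal A) (hI : IsOpen (I : Set A)) :
    IsOpen (closure ((I.map φ : Ideal B) : Set B)) := by
  rw [← closure_image_eq_closure_map' φ hφ.dense I]
  exact isOpen_closure_image_of_isDenseInducing φ hφ I hI

variable [IsLinearTopology A A] [RegularSpace B]

theorem exists_open_ideal_closure_map_subset_of_isDenseInducing (φ : A →+* B)
    (hφ : IsDenseInducing φ) {U : Set B} (hU : U ∈ 𝓝 (0 : B)) :
    ∃ I : Ideal A, IsOpen (I : Set A) ∧ closure ((I.map φ : Ideal B) : Set B) ⊆ U := by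
  obtain ⟨C, ⟨hC, C_closed⟩, hCU⟩ := (closed_nhds_basis (0 : B)).mem_iff.mp hU
  have hpre : φ ⁻¹' C ∈ 𝓝 (0 : A) := by
    apply hφ.continuous.continuousAt.preimage_mem_nhds
    rwa [map_zero]
  obtain ⟨I, hI, hIC⟩ := exists_open_ideal_subset hpre
  refine ⟨I, hI, Set.Subset.trans ?_ hCU⟩
  rw [← closure_image_eq_closure_map' φ hφ.dense I]
  exact closure_minimal (Set.image_subset_iff.mpr hIC) C_closed

theorem isLinearTopology_of_isDenseInducing (φ : A →+* B) (hφ : IsDenseInducing φ) :
    IsLinearTopology B B := by
  rw [isLinearTopology_iff_hasBasis_ideal]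
  rw [Filter.hasBasis_iff]
  intro t
  constructor
  · intro ht
    obtain ⟨I, hI, hIt⟩ := exists_open_ideal_closure_map_subset_of_isDenseInducing φ hφ ht
    refine ⟨(I.map φ).closure, ?_, hIt⟩
    exact (isOpen_closure_map_of_isDenseInducing φ hφ I hI).mem_nhds
      (subset_closure (Ideal.zero_mem _))
  · rintro ⟨J, hJ, hJt⟩
    exact Filter.mem_of_superset hJ hJt

theorem isTaut_of_isDenseInducing (φ : A →+* B) (hφ : IsDenseInducing φ) : LinTop.IsTaut φ :=
  ⟨hφ.continuous, fun I hI => isOpen_closure_map_of_isDenseInducing φ hφ I hI,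
    fun U hU => exists_open_ideal_closure_map_subset_of_isDenseInducing φ hφ hU⟩

end Dense

section Compl

variable {A : Type u} [CommRing A] [UniformSpace A] [IsUniformAddGroup A] [IsTopologicalRing A]

theorem isDenseInducing_coeRingHom :
    IsDenseInducing (Completion.coeRingHom : A →+* Completion A) :=
  Completion.isDenseInducing_coe

variable [IsLinearTopology A A]

theorem isLinearTopology_completion : IsLinearTopology (Completion A) (Completion A) :=
  isLinearTopology_of_isDenseInducing _ isDenseInducing_coeRingHom

theorem isTaut_coeRingHom : LinTop.IsTaut (Completion.coeRingHom : A →+* Completion A) :=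
  isTaut_of_isDenseInducing _ isDenseInducing_coeRingHom

end Compl

end Groth.Agent.H51
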