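import Groth.Agent.H51.CofanSurj
import Groth.Agent.H50.Kernel
import Groth.Agent.H52.Points
import Mathlib.CategoryTheory.Limits.MonoCoprod
import Mathlib.CategoryTheory.Extensive

/-!
# Coproducts of fppf sheaves: summands of a representable sheaf are open and closed subschemes (helper51)
-/

set_option autoImplicit false
universe u
open CategoryTheory CategoryTheory.Limits AlgebraicGeometry Opposite
open AlgSp

namespace Groth.Agent.H51

variable {S : Scheme.{u}}

/-- A scheme over `S` whose sheaf maps to the initial sheaf is empty. -/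
theorem isEmpty_of_hom_initial {W : Over S} (x : (yon S).obj W ⟶ ⊥_ (Sp S)) : IsEmpty ↥W.left := by
  let E : Over S := Over.mk (Scheme.emptyTo S)
  let m : W ⟶ E := (yon S).preimage (x ≫ initial.to ((yon S).obj E))
  have : IsEmpty ↥E.left := inferInstanceAs (IsEmpty ↥(∅ : Scheme.{u}))
  exact Function.isEmpty m.left

/-- The two summands of a binary coproduct of sheaves are disjoint. -/
theorem isEmpty_of_lifts_binary {A B : Sp S} (c : BinaryCofan A B) (hc : IsColimit c) {W : Over S}
    (a : (yon S).obj W ⟶ A) (b : (yon S).obj W ⟶ B) (h : a ≫ c.inl = b ≫ c.inr) :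
    IsEmpty ↥W.left :=
  isEmpty_of_hom_initial
    ((FinitaryExtensive.isPullback_initial_to_binaryCofan hc).lift a b h)

/-- Distinct summands of a coproduct of sheaves are disjoint. -/
theorem isEmpty_of_lifts {ι : Type*} {F : ι → Sp S} (c : Cofan F) (hc : IsColimit c) {W : Over S}
    {i j : ι} (hij : i ≠ j) (a : (yon S).obj W ⟶ F i) (b : (yon S).obj W ⟶ F j)
    (h : a ≫ c.inj i = b ≫ c.inj j) : IsEmpty ↥W.left := by
  classical
  let t : ∀ k, F k ⟶ (⊤_ (Sp S)) ⨿ (⊤_ (Sp S)) := fun k =>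
    if k = i then terminal.from (F k) ≫ coprod.inl else terminal.from (F k) ≫ coprod.inr
  let δ : c.pt ⟶ (⊤_ (Sp S)) ⨿ (⊤_ (Sp S)) := Cofan.IsColimit.desc hc t
  have h1 : c.inj i ≫ δ = terminal.from (F i) ≫ coprod.inl := by
    rw [Cofan.IsColimit.fac]
    exact if_pos rfl
  have h2 : c.inj j ≫ δ = terminal.from (F j) ≫ coprod.inr := by
    rw [Cofan.IsColimit.fac]
    exact if_neg (Ne.symm hij)
  have h3 := congr($h ≫ δ)
  rw [Category.assoc, Category.assoc, h1, h2, ← Category.assoc, ← Category.assoc] at h3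
  exact isEmpty_of_lifts_binary (BinaryCofan.mk coprod.inl coprod.inr)
    (coprodIsCoprod (⊤_ (Sp S)) (⊤_ (Sp S))) _ _ h3

/-- An explicit fibre product in `Over S`. -/
theorem exists_over_pullback {V V₁ T : Over S} (φ : V ⟶ T) (g : V₁ ⟶ T) :
    ∃ (W : Over S) (p : W ⟶ V) (q : W ⟶ V₁), p ≫ φ = q ≫ g ∧
      (Flat g.left → Flat p.left) ∧
      (LocallyOfFinitePresentation g.left → LocallyOfFinitePresentation p.left) ∧
      ∀ (v : V.left) (v₁ : V₁.left), φ.left v = g.left v₁ →
        ∃ w : W.left, p.left w = v ∧ q.left w = v₁ := by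
  have hw : pullback.snd φ.left g.left ≫ V₁.hom =
      (Over.mk (pullback.fst φ.left g.left ≫ V.hom)).hom := by
    show pullback.snd φ.left g.left ≫ V₁.hom = pullback.fst φ.left g.left ≫ V.hom
    rw [← Over.w g, ← Over.w φ, ← Category.assoc, ← Category.assoc, pullback.condition]
  refine ⟨Over.mk (pullback.fst φ.left g.left ≫ V.hom), Over.homMk (pullback.fst φ.left g.left) rfl,
    Over.homMk (pullback.snd φ.left g.left) hw, ?_, ?_, ?_, ?_⟩
  · ext
    exact pullback.condition
  · intro _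
    show Flat (pullback.fst φ.left g.left)
    infer_instance
  · intro _
    show LocallyOfFinitePresentation (pullback.fst φ.left g.left)
    infer_instance
  · intro v v₁ h
    exact Scheme.Pullback.exists_preimage_pullback v v₁ h

section Summand

variable {ι : Type*} {F : ι → Sp S} (c : Cofan F) {T : Over S} (e : c.pt ≅ (yon S).obj T)

/-- The set of points of `T` around which the identity of `T` lifts, fppf locally, to the summand `F i`. -/
def summandSet (i : ι) : Set ↥T.left :=
  {t | ∃ (V : Over S) (g : V ⟶ T) (v : ↥V.left), Flat g.left ∧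
    LocallyOfFinitePresentation g.left ∧
    (∃ x : (yon S).obj V ⟶ F i, x ≫ c.inj i ≫ e.hom = (yon S).map g) ∧ g.left v = t}

theorem isOpen_summandSet (i : ι) : IsOpen (summandSet c e i) := by
  rw [isOpen_iff_forall_mem_open]
  rintro t ⟨V, g, v, hfl, hfp, hx, rfl⟩
  refine ⟨Set.range g.left, ?_, g.left.isOpenMap.isOpen_range, ⟨v, rfl⟩⟩
  rintro _ ⟨v', rfl⟩
  exact ⟨V, g, v', hfl, hfp, hx, rfl⟩

variable (hc : IsColimit c)
include hc

theorem iUnion_summandSet : ⋃ i, summandSet c e i = Set.univ := by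
  rw [Set.eq_univ_iff_forall]
  intro t
  obtain ⟨R, hR, h⟩ := sieve_mem_of_isColimit_cofan c hc ((J S).uliftYonedaEquiv e.inv)
  obtain ⟨T', g, hg, hfl, hfp, t', ht'⟩ := Groth.Agent.H50.exists_fppf_of_mem_J hR t
  obtain ⟨i, y, hy⟩ := h g hg
  have hx : (J S).uliftYonedaEquiv.symm y ≫ c.inj i = (yon S).map g ≫ e.inv := by
    apply (J S).uliftYonedaEquiv.injective
    rw [GrothendieckTopology.uliftYonedaEquiv_comp, Equiv.apply_symm_apply,
      ← GrothendieckTopology.uliftYonedaEquiv_naturality]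
    exact hy
  refine Set.mem_iUnion.2 ⟨i, T', g, t', hfl, hfp,
    ⟨(J S).uliftYonedaEquiv.symm y, ?_⟩, ht'⟩
  rw [← Category.assoc, hx, Category.assoc, e.inv_hom_id, Category.comp_id]

/-- A morphism to `T` which lifts to the summand `F i` has image inside `summandSet i`. -/
theorem range_subset_summandSet {i : ι} {V : Over S} (φ : V ⟶ T) (a : (yon S).obj V ⟶ F i)
    (ha : a ≫ c.inj i ≫ e.hom = (yon S).map φ) : Set.range φ.left ⊆ summandSet c e i := by
  rintro _ ⟨v, rfl⟩
  have hu : φ.left v ∈ ⋃ j, summandSet c e j := by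
    rw [iUnion_summandSet c e hc]
    trivial
  obtain ⟨j, V₁, g, v₁, hfl, hfp, ⟨x, hx⟩, hv₁⟩ := Set.mem_iUnion.1 hu
  by_cases hij : i = j
  · subst hij
    exact ⟨V₁, g, v₁, hfl, hfp, ⟨x, hx⟩, hv₁⟩
  · exfalso
    obtain ⟨W, p, q, hpq, -, -, hpt⟩ := exists_over_pullback φ g
    obtain ⟨w, -, -⟩ := hpt v v₁ hv₁.symm
    have hmono : Mono e.hom := inferInstance
    have h1 : ((yon S).map p ≫ a) ≫ c.inj i = ((yon S).map q ≫ x) ≫ c.inj j := by
      rw [← cancel_mono e.hom]
      simp only [Category.assoc]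
      rw [ha, hx, ← Functor.map_comp, ← Functor.map_comp, hpq]
    exact (isEmpty_of_lifts c hc hij _ _ h1).false w

theorem disjoint_summandSet {i j : ι} (hij : i ≠ j) :
    Disjoint (summandSet c e i) (summandSet c e j) := by
  rw [Set.disjoint_left]
  rintro t ⟨V, g, v, hfl, hfp, ⟨x, hx⟩, rfl⟩ ht
  have h1 := range_subset_summandSet c e hc g x hx ⟨v, rfl⟩
  obtain ⟨V₁, g₁, v₁, -, -, ⟨y, hy⟩, hv₁⟩ := ht
  obtain ⟨W, p, q, hpq, -, -, hpt⟩ := exists_over_pullback g g₁
  obtain ⟨w, -, -⟩ := hpt v v₁ hv₁.symm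
  have h2 : ((yon S).map p ≫ x) ≫ c.inj i = ((yon S).map q ≫ y) ≫ c.inj j := by
    rw [← cancel_mono e.hom]
    simp only [Category.assoc]
    rw [hx, hy, ← Functor.map_comp, ← Functor.map_comp, hpq]
  exact (isEmpty_of_lifts c hc hij _ _ h2).false w

end Summand

end Groth.Agent.H51
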