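import Groth.Agent.H51.CoprodIso

/-!
# Binary coproducts of fppf sheaves: the left summand of a representable sheaf (helper51)
-/

set_option autoImplicit false
universe u
open CategoryTheory CategoryTheory.Limits AlgebraicGeometry Opposite
open AlgSp

namespace Groth.Agent.H51

variable {S : Scheme.{u}}

/-- The left summand of a binary coproduct decomposition of a representable sheaf is represented by an open and
closed subscheme. -/
theorem exists_inl_iso {A B : Sp S} (c : BinaryCofan A B) (hc : IsColimit c) {T : Over S}
    (e : c.pt ≅ (yon S).obj T) :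
    ∃ (Ti : Over S) (g : Ti ⟶ T) (ei : (yon S).obj Ti ≅ A),
      IsOpenImmersion g.left ∧ IsClosedImmersion g.left ∧
      ei.hom ≫ c.inl ≫ e.hom = (yon S).map g := by
  have hm : Mono c.inl := MonoCoprod.binaryCofan_inl c hc
  let F : WalkingPair → Sp S := fun j => WalkingPair.casesOn j A B
  have key := exists_summand_iso (F := F) (c := (c : Cofan F)) (T := T) e hc WalkingPair.left hm
  obtain ⟨Ti, g, ei, h1, h2, h3, -⟩ := key
  exact ⟨Ti, g, ei, h1, h2, h3⟩

/-- The coprojection of a binary coproduct of sheaves is representable by open and closed immersions. -/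
theorem repWith_openClosed_inl {A B : Sp S} (c : BinaryCofan A B) (hc : IsColimit c) :
    RepWith (@IsOpenImmersion ⊓ @IsClosedImmersion) c.inl := by
  refine MorphismProperty.relative.of_exists (fun T g => ?_)
  let c' : BinaryCofan (pullback c.inl g) (pullback c.inr g) :=
    BinaryCofan.mk (pullback.snd c.inl g) (pullback.snd c.inr g)
  have hc' : IsColimit c' :=
    (((BinaryCofan.isVanKampen_iff c).1 (FinitaryExtensive.vanKampen c hc) c'
      (pullback.fst c.inl g) (pullback.fst c.inr g) g pullback.condition pullback.condition).2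
      ⟨(IsPullback.of_hasPullback c.inl g).flip, (IsPullback.of_hasPullback c.inr g).flip⟩).some
  obtain ⟨Ti, gi, ei, ho, hcl, hcomm⟩ := exists_inl_iso c' hc' (Iso.refl _)
  have hcomm' : ei.hom ≫ pullback.snd c.inl g = (yon S).map gi := by
    have h : ei.hom ≫ pullback.snd c.inl g ≫ 𝟙 ((yon S).obj T) = (yon S).map gi := hcomm
    rw [Category.comp_id] at h
    exact h
  refine ⟨Ti, ei.hom ≫ pullback.fst c.inl g, gi, ?_, ⟨ho, hcl⟩⟩
  refine IsPullback.of_iso (IsPullback.of_hasPullback c.inl g) ei.symm (Iso.refl _) (Iso.refl _)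
    (Iso.refl _) ?_ ?_ ?_ ?_
  · simp
  · simp [← hcomm']
  · simp
  · simp

end Groth.Agent.H51
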