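import Groth.Agent.H51.CoprodAlgSpace

/-!
# Morphisms out of a coproduct of sheaves that are representable summand by summand (helper51)
-/

set_option autoImplicit false
universe u
open CategoryTheory CategoryTheory.Limits AlgebraicGeometry Opposite
open AlgSp

namespace Groth.Agent.H51

variable {S : Scheme.{u}}

/-- A morphism out of a coproduct of sheaves is representable with `P` as soon as its restriction to each summand
is, for a property `P` local on the source; the representing scheme is the disjoint union of those of the summands. -/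
theorem exists_rep_desc {ι : Type u} {F : ι → Sp S} (c : Cofan F) (hc : IsColimit c) {G : Sp S}
    (D : c.pt ⟶ G) {T : Over S} (ξ : (yon S).obj T ⟶ G) (R : ι → Over S) (r : ∀ i, R i ⟶ T)
    (a : ∀ i, (yon S).obj (R i) ⟶ F i)
    (sq : ∀ i, IsPullback (a i) ((yon S).map (r i)) (c.inj i ≫ D) ξ) :
    ∃ (m : sigmaOver R ⟶ T) (fst : (yon S).obj (sigmaOver R) ⟶ c.pt),
      IsPullback fst ((yon S).map m) D ξ ∧ (∀ i, sigmaOverι R i ≫ m = r i) ∧
      ∀ i, (yon S).map (sigmaOverι R i) ≫ fst = a i ≫ c.inj i := by
  have hcomm : ∀ i, (a i ≫ c.inj i) ≫ D = (yon S).map (r i) ≫ ξ := fun i => by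
    rw [Category.assoc, (sq i).w]
  let q : ∀ i, (yon S).obj (R i) ⟶ pullback D ξ := fun i =>
    pullback.lift (a i ≫ c.inj i) ((yon S).map (r i)) (hcomm i)
  have sqq : ∀ i, IsPullback (q i) (a i) (pullback.fst D ξ) (c.inj i) := by
    intro i
    refine IsPullback.of_right ?_ (pullback.lift_fst _ _ _) (IsPullback.of_hasPullback D ξ).flip
    rw [pullback.lift_snd]
    exact (sq i).flip
  obtain ⟨hQ⟩ := nonempty_isColimit_cofan_of_isPullback c hc (pullback.fst D ξ) q a sqq
  obtain ⟨hR⟩ := nonempty_isColimit_yon_sigmaOver R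
  let θ := IsColimit.coconePointUniqueUpToIso hR hQ
  have hθ : ∀ i, (yon S).map (sigmaOverι R i) ≫ θ.hom = q i := fun i =>
    IsColimit.comp_coconePointUniqueUpToIso_hom hR hQ ⟨i⟩
  have hm : (Sigma.desc fun i => (r i).left) ≫ T.hom = (sigmaOver R).hom := by
    apply Sigma.hom_ext
    intro i
    simp
  let m : sigmaOver R ⟶ T := Over.homMk (Sigma.desc fun i => (r i).left) hm
  have hkm : ∀ i, sigmaOverι R i ≫ m = r i := fun i => by
    ext
    simp [m]
  have hsnd : θ.hom ≫ pullback.snd D ξ = (yon S).map m := by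
    refine Cofan.IsColimit.hom_ext hR _ _ (fun i => ?_)
    show (yon S).map (sigmaOverι R i) ≫ θ.hom ≫ _ = (yon S).map (sigmaOverι R i) ≫ _
    rw [← Category.assoc, hθ, pullback.lift_snd, ← Functor.map_comp, hkm]
  refine ⟨m, θ.hom ≫ pullback.fst D ξ, ?_, hkm, fun i => ?_⟩
  · refine IsPullback.of_iso (IsPullback.of_hasPullback D ξ) θ.symm (Iso.refl _) (Iso.refl _)
      (Iso.refl _) ?_ ?_ ?_ ?_
    · simp
    · simp [← hsnd]
    · simp
    · simp
  · rw [← Category.assoc, hθ, pullback.lift_fst]

/-- A morphism out of a coproduct of sheaves is representable with `P` as soon as its restriction to each summand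
is, for a property `P` local on the source. -/
theorem repWith_desc (P : MorphismProperty Scheme.{u}) [IsZariskiLocalAtSource P]
    {ι : Type u} {F : ι → Sp S} (c : Cofan F) (hc : IsColimit c) {G : Sp S}
    (D : c.pt ⟶ G) (hD : ∀ i, RepWith P (c.inj i ≫ D)) : RepWith P D := by
  have : P.RespectsIso := inferInstance
  have : (P.inverseImage (Over.forget S)).RespectsIso := inferInstance
  refine MorphismProperty.relative.of_exists (fun T ξ => ?_)
  have hx := fun i => (hD i).rep ξ
  choose R r a sq using hx
  obtain ⟨m, fst, sqm, hkm, -⟩ := exists_rep_desc c hc D ξ R r a sq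
  refine ⟨sigmaOver R, fst, m, sqm, ?_⟩
  show P m.left
  have hml : m.left = Sigma.desc fun i => (r i).left := by
    apply Sigma.hom_ext
    intro i
    have := congrArg (fun φ => φ.left) (hkm i)
    simpa using this
  rw [hml]
  exact IsZariskiLocalAtSource.sigmaDesc (fun i => (hD i).property ξ (a i) (r i) (sq i))

end Groth.Agent.H51
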