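import Groth.Agent.H51.Coprod

/-!
# Summands of a representable sheaf are represented by open and closed subschemes (helper51)
-/

set_option autoImplicit false
universe u
open CategoryTheory CategoryTheory.Limits AlgebraicGeometry Opposite
open AlgSp

namespace Groth.Agent.H51

variable {S : Scheme.{u}}

section Summand

variable {ι : Type*} {F : ι → Sp S} (c : Cofan F) {T : Over S} (e : c.pt ≅ (yon S).obj T)

/-- The open subscheme of `T` attached to the summand `F i`. -/
def summandOpens (i : ι) : T.left.Opens := ⟨summandSet c e i, isOpen_summandSet c e i⟩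

/-- The open subscheme of `T` attached to the summand `F i`, as a scheme over `S`. -/
noncomputable abbrev summandOver (i : ι) : Over S := Over.mk ((summandOpens c e i).ι ≫ T.hom)

/-- The inclusion of the open subscheme of `T` attached to the summand `F i`. -/
noncomputable abbrev summandι (i : ι) : summandOver c e i ⟶ T := Over.homMk (summandOpens c e i).ι rfl

instance (i : ι) : IsOpenImmersion (summandι c e i).left :=
  inferInstanceAs (IsOpenImmersion (summandOpens c e i).ι)

theorem range_summandι (i : ι) : Set.range (summandι c e i).left = summandSet c e i :=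
  Scheme.Opens.range_ι _

theorem exists_factor_summandι {i : ι} {V : Over S} (φ : V ⟶ T)
    (h : Set.range φ.left ⊆ summandSet c e i) :
    ∃ φ' : V ⟶ summandOver c e i, φ' ≫ summandι c e i = φ := by
  have hsub : Set.range φ.left ⊆ Set.range (summandOpens c e i).ι := by
    rw [Scheme.Opens.range_ι]
    exact h
  have hl : IsOpenImmersion.lift (summandOpens c e i).ι φ.left hsub ≫ (summandOpens c e i).ι = φ.left :=
    IsOpenImmersion.lift_fac _ _ _
  have hw : IsOpenImmersion.lift (summandOpens c e i).ι φ.left hsub ≫ (summandOver c e i).hom = V.hom := by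
    have h0 : (summandOver c e i).hom = (summandOpens c e i).ι ≫ T.hom := rfl
    rw [h0, ← Category.assoc, hl, Over.w]
  refine ⟨Over.homMk (IsOpenImmersion.lift (summandOpens c e i).ι φ.left hsub) hw, ?_⟩
  ext
  exact hl

variable (hc : IsColimit c)
include hc

theorem isClosed_summandSet (i : ι) : IsClosed (summandSet c e i) := by
  have hcompl : (summandSet c e i)ᶜ = ⋃ j ∈ {j | j ≠ i}, summandSet c e j := by
    ext t
    simp only [Set.mem_compl_iff, Set.mem_iUnion, Set.mem_ofPred_eq, exists_prop]
    constructor
    · intro ht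
      have hu : t ∈ ⋃ j, summandSet c e j := by
        rw [iUnion_summandSet c e hc]
        trivial
      obtain ⟨j, hj⟩ := Set.mem_iUnion.1 hu
      refine ⟨j, ?_, hj⟩
      rintro rfl
      exact ht hj
    · rintro ⟨j, hji, hj⟩ hi
      exact Set.disjoint_left.1 (disjoint_summandSet c e hc hji) hj hi
  rw [← isOpen_compl_iff, hcompl]
  exact isOpen_biUnion fun j _ => isOpen_summandSet c e j

theorem epi_fst_summand (i : ι) :
    Epi (pullback.fst (c.inj i ≫ e.hom) ((yon S).map (summandι c e i))) := by
  apply Groth.Agent.H50.epi_of_local_lift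
  intro V a
  refine ⟨⊤, (J S).top_mem V, fun T' f _ => ?_⟩
  obtain ⟨φ, hφ⟩ := (yon S).map_surjective (((yon S).map f ≫ a) ≫ c.inj i ≫ e.hom)
  obtain ⟨φ', hφ'⟩ := exists_factor_summandι c e φ
    (range_subset_summandSet c e hc φ ((yon S).map f ≫ a) hφ.symm)
  refine ⟨pullback.lift ((yon S).map f ≫ a) ((yon S).map φ') ?_, pullback.lift_fst _ _ _⟩
  rw [← Functor.map_comp, hφ', hφ]

omit hc in
theorem epi_snd_summand (i : ι) :
    Epi (pullback.snd (c.inj i ≫ e.hom) ((yon S).map (summandι c e i))) := by
  apply Groth.Agent.H50.epi_of_local_lift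
  intro V y
  obtain ⟨φ', hφ'⟩ := (yon S).map_surjective y
  let Z : Sieve V :=
    { arrows := fun T' f => ∃ x : (yon S).obj T' ⟶
          pullback (c.inj i ≫ e.hom) ((yon S).map (summandι c e i)),
        x ≫ pullback.snd (c.inj i ≫ e.hom) ((yon S).map (summandι c e i)) = (yon S).map f ≫ y
      downward_closed := by
        rintro T' T'' f ⟨x, hx⟩ k
        refine ⟨(yon S).map k ≫ x, ?_⟩
        rw [Category.assoc, hx, Functor.map_comp, Category.assoc] }
  have hmem : ∀ v : ↥V.left, (φ' ≫ summandι c e i).left v ∈ summandSet c e i := by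
    intro v
    rw [← range_summandι c e i]
    exact ⟨φ'.left v, rfl⟩
  choose V₁ g₁ v₁ hfl hfp hx hv using hmem
  choose x hx using hx
  have hpb := fun v => exists_over_pullback (φ' ≫ summandι c e i) (g₁ v)
  choose W p q hpq hpfl hpfp hpt using hpb
  have hw := fun v => hpt v v (v₁ v) (hv v).symm
  choose w hw1 hw2 using hw
  refine ⟨Z, Groth.Agent.H50.mem_J_of_fppf_family W p (fun v => ⟨v, w v, hw1 v⟩)
    (fun v => hpfl v (hfl v)) (fun v => hpfp v (hfp v)) Z (fun v => ?_), fun T' f hf => hf⟩
  refine ⟨pullback.lift ((yon S).map (q v) ≫ x v) ((yon S).map (p v) ≫ y) ?_, pullback.lift_snd _ _ _⟩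
  rw [Category.assoc, hx v, ← Functor.map_comp, ← hpq v, Functor.map_comp, Functor.map_comp, hφ',
    Category.assoc]

/-- The summand `F i` of a representable sheaf `h_T` is represented by an open and closed subscheme of `T`. -/
theorem exists_summand_iso (i : ι) (hm1 : Mono (c.inj i)) :
    ∃ (Ti : Over S) (g : Ti ⟶ T) (ei : (yon S).obj Ti ≅ F i),
      IsOpenImmersion g.left ∧ IsClosedImmersion g.left ∧
      ei.hom ≫ c.inj i ≫ e.hom = (yon S).map g ∧ Set.range g.left = summandSet c e i := by
  have hm2 : Mono (c.inj i ≫ e.hom) := mono_comp _ _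
  have hm3 : Mono ((yon S).map (summandι c e i)) := Groth.Agent.H52.mono_yon_map _
  have he1 := epi_fst_summand c e hc i
  have he2 := epi_snd_summand c e i
  have hi1 : IsIso (pullback.fst (c.inj i ≫ e.hom) ((yon S).map (summandι c e i))) :=
    isIso_of_mono_of_epi _
  have hi2 : IsIso (pullback.snd (c.inj i ≫ e.hom) ((yon S).map (summandι c e i))) :=
    isIso_of_mono_of_epi _
  refine ⟨summandOver c e i, summandι c e i,
    (asIso (pullback.snd (c.inj i ≫ e.hom) ((yon S).map (summandι c e i)))).symm ≪≫
      asIso (pullback.fst (c.inj i ≫ e.hom) ((yon S).map (summandι c e i))),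
    inferInstance, ?_, ?_, range_summandι c e i⟩
  · apply IsClosedImmersion.of_isPreimmersion
    rw [range_summandι]
    exact isClosed_summandSet c e hc i
  · simp only [Iso.trans_hom, Iso.symm_hom, asIso_inv, asIso_hom, Category.assoc]
    rw [IsIso.inv_comp_eq]
    exact pullback.condition

end Summand

end Groth.Agent.H51
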