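import Groth.Agent.H51.CoprodUniv

/-!
# Representability of morphisms to a coproduct of sheaves, summand by summand (helper51)
-/

set_option autoImplicit false
universe u
open CategoryTheory CategoryTheory.Limits AlgebraicGeometry Opposite
open AlgSp

namespace Groth.Agent.H51

variable {S : Scheme.{u}}

/-- A morphism from a scheme to a coproduct of sheaves decomposes the scheme into open and closed pieces. -/
theorem exists_decomposition {ι : Type u} {F : ι → Sp S} (c : Cofan F) (hc : IsColimit c)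
    {T : Over S} (ξ : (yon S).obj T ⟶ c.pt) :
    ∃ (V : ι → Over S) (g : ∀ i, V i ⟶ T) (a : ∀ i, (yon S).obj (V i) ⟶ F i),
      (∀ i, IsPullback (a i) ((yon S).map (g i)) (c.inj i) ξ) ∧
      (∀ i, IsOpenImmersion (g i).left) ∧
      (∀ t : ↥T.left, ∃ i, t ∈ Set.range (g i).left) ∧
      (∀ i j, i ≠ j → Disjoint (Set.range (g i).left) (Set.range (g j).left)) := by
  have hrep := fun i => repWith_openClosed_inj c hc i
  have hx : ∀ i, ∃ (V : Over S) (g : V ⟶ T) (a : (yon S).obj V ⟶ F i),
      IsPullback a ((yon S).map g) (c.inj i) ξ := fun i => (hrep i).rep ξ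
  choose V g a sq using hx
  have ho : ∀ i, IsOpenImmersion (g i).left := fun i => ((hrep i).property ξ (a i) (g i) (sq i)).1
  refine ⟨V, g, a, sq, ho, ?_, ?_⟩
  · intro t
    obtain ⟨Sg, hSg, h⟩ := exists_local_lift_cofan c hc ξ
    obtain ⟨T', k, hk, -, -, t', ht'⟩ := Groth.Agent.H50.exists_fppf_of_mem_J hSg t
    obtain ⟨i, x, hx⟩ := h k hk
    obtain ⟨l₀, hl₀⟩ := (yon S).map_surjective ((sq i).lift x ((yon S).map k) hx)
    have h1 : (yon S).map (l₀ ≫ g i) = (yon S).map k := by
      rw [Functor.map_comp, hl₀, (sq i).lift_snd]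
    have h2 : l₀ ≫ g i = k := (yon S).map_injective h1
    refine ⟨i, l₀.left t', ?_⟩
    rw [← ht', ← h2]
    rfl
  · intro i j hij
    rw [Set.disjoint_left]
    rintro _ ⟨vi, rfl⟩ ⟨vj, hvj⟩
    obtain ⟨W, p, q, hpq, -, -, hpt⟩ := exists_over_pullback (g i) (g j)
    obtain ⟨w, -, -⟩ := hpt vi vj hvj.symm
    have h1 : ((yon S).map p ≫ a i) ≫ c.inj i = ((yon S).map q ≫ a j) ≫ c.inj j := by
      rw [Category.assoc, Category.assoc, (sq i).w, (sq j).w, ← Category.assoc, ← Category.assoc,
        ← Functor.map_comp, ← Functor.map_comp, hpq]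
    exact (isEmpty_of_lifts c hc hij _ _ h1).false w

/-- Stability of a property of morphisms of schemes under disjoint unions. -/
def SumStable (P : MorphismProperty Scheme.{u}) : Prop :=
  ∀ {ι : Type u} {Wt T : Scheme.{u}} (W V : ι → Scheme.{u}) (k : ∀ i, W i ⟶ Wt) (g : ∀ i, V i ⟶ T)
    (w : ∀ i, W i ⟶ V i) (m : Wt ⟶ T),
    (∀ i, IsOpenImmersion (k i)) → (∀ i, IsOpenImmersion (g i)) →
    (∀ z : ↥Wt, ∃ i, z ∈ Set.range (k i)) → (∀ t : ↥T, ∃ i, t ∈ Set.range (g i)) →
    (∀ i, k i ≫ m = w i ≫ g i) → (∀ i, P (w i)) → P m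

/-- The disjoint union of a family of schemes over `S`, as a scheme over `S`. -/
noncomputable abbrev sigmaOver {ι : Type u} (W : ι → Over S) : Over S :=
  Over.mk (Sigma.desc fun i => (W i).hom)

/-- The inclusion of a member in the disjoint union of a family of schemes over `S`. -/
noncomputable abbrev sigmaOverι {ι : Type u} (W : ι → Over S) (i : ι) : W i ⟶ sigmaOver W :=
  Over.homMk (Sigma.ι (fun i => (W i).left) i) (by simp)

theorem exists_mem_range_sigmaOverι {ι : Type u} (W : ι → Over S) (z : ↥(sigmaOver W).left) :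
    ∃ i, z ∈ Set.range (sigmaOverι W i).left := by
  obtain ⟨i, y, hy⟩ := (sigmaOpenCover (fun i => (W i).left)).exists_eq z
  exact ⟨i, y, hy⟩

theorem disjoint_range_sigmaOverι {ι : Type u} (W : ι → Over S) (i j : ι) (hij : i ≠ j) :
    Disjoint (Set.range (sigmaOverι W i).left) (Set.range (sigmaOverι W j).left) := by
  have h := disjoint_opensRange_sigmaι (fun i => (W i).left) i j hij
  rw [Set.disjoint_left]
  rintro z hz1 hz2
  exact (disjoint_iff_inf_le.1 h) ⟨hz1, hz2⟩

theorem nonempty_isColimit_yon_sigmaOver {ι : Type u} (W : ι → Over S) :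
    Nonempty (IsColimit (Cofan.mk ((yon S).obj (sigmaOver W))
      (fun i => (yon S).map (sigmaOverι W i)))) :=
  nonempty_isColimit_yon_of_disjoint_cover (sigmaOverι W)
    (fun i => inferInstanceAs (IsOpenImmersion (Sigma.ι (fun i => (W i).left) i)))
    (exists_mem_range_sigmaOverι W) (disjoint_range_sigmaOverι W)

end Groth.Agent.H51
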