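import Groth.Agent.H51.CoprodRep

/-!
# Representability of morphisms to a coproduct of sheaves, summand by summand: main lemma (helper51)
-/

set_option autoImplicit false
universe u
open CategoryTheory CategoryTheory.Limits AlgebraicGeometry Opposite
open AlgSp

namespace Groth.Agent.H51

variable {S : Scheme.{u}}

/-- A morphism to a coproduct of sheaves is representable with `P` as soon as its base change to each summand is,
for a property `P` stable under disjoint unions. -/
theorem repWith_of_summands (P : MorphismProperty Scheme.{u}) [P.RespectsIso] (hP : SumStable P)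
    {ι : Type u} {F : ι → Sp S} (c : Cofan F) (hc : IsColimit c) {G : Sp S} (f : G ⟶ c.pt)
    (Gi : ι → Sp S) (k : ∀ i, Gi i ⟶ G) (fi : ∀ i, Gi i ⟶ F i)
    (sq : ∀ i, IsPullback (k i) (fi i) f (c.inj i)) (hfi : ∀ i, RepWith P (fi i)) : RepWith P f := by
  refine MorphismProperty.relative.of_exists (fun T ξ => ?_)
  obtain ⟨V, g, a, sqD, ho, hcov, hdisj⟩ := exists_decomposition c hc ξ
  have hx : ∀ i, ∃ (W : Over S) (w : W ⟶ V i) (b : (yon S).obj W ⟶ Gi i),
      IsPullback b ((yon S).map w) (fi i) (a i) := fun i => (hfi i).rep (a i)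
  choose W w b sqW using hx
  have hPw : ∀ i, P (w i).left := fun i => (hfi i).property (a i) (b i) (w i) (sqW i)
  have hmw : (Sigma.desc fun i => (w i ≫ g i).left) ≫ T.hom = (sigmaOver W).hom := by
    apply Sigma.hom_ext
    intro i
    simp
  let m : sigmaOver W ⟶ T := Over.homMk (Sigma.desc fun i => (w i ≫ g i).left) hmw
  have hkm : ∀ i, sigmaOverι W i ≫ m = w i ≫ g i := fun i => by
    ext
    simp [m]
  obtain ⟨hW⟩ := nonempty_isColimit_yon_sigmaOver W
  obtain ⟨hT⟩ := nonempty_isColimit_yon_of_disjoint_cover g ho hcov hdisj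
  have hcomm : ∀ i, (b i ≫ k i) ≫ f = (yon S).map (w i ≫ g i) ≫ ξ := fun i => by
    rw [Category.assoc, (sq i).w, ← Category.assoc, (sqW i).w, Category.assoc, (sqD i).w,
      Functor.map_comp, Category.assoc]
  let r : ∀ i, (yon S).obj (W i) ⟶ pullback f ξ := fun i =>
    pullback.lift (b i ≫ k i) ((yon S).map (w i ≫ g i)) (hcomm i)
  have sqr : ∀ i, IsPullback (r i) ((yon S).map (w i)) (pullback.snd f ξ) ((yon S).map (g i)) := by
    intro i
    have big : IsPullback (b i ≫ k i) ((yon S).map (w i)) f (a i ≫ c.inj i) :=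
      (sqW i).paste_horiz (sq i)
    rw [(sqD i).w] at big
    refine IsPullback.of_right ?_ ?_ (IsPullback.of_hasPullback f ξ)
    · rw [pullback.lift_fst]
      exact big
    · rw [pullback.lift_snd, Functor.map_comp]
  obtain ⟨hQ⟩ := nonempty_isColimit_cofan_of_isPullback
    (Cofan.mk _ (fun i => (yon S).map (g i))) hT (pullback.snd f ξ) r
    (fun i => (yon S).map (w i)) sqr
  let θ := IsColimit.coconePointUniqueUpToIso hW hQ
  have hθ : ∀ i, (yon S).map (sigmaOverι W i) ≫ θ.hom = r i := fun i =>
    IsColimit.comp_coconePointUniqueUpToIso_hom hW hQ ⟨i⟩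
  have hsnd : θ.hom ≫ pullback.snd f ξ = (yon S).map m := by
    refine Cofan.IsColimit.hom_ext hW _ _ (fun i => ?_)
    show (yon S).map (sigmaOverι W i) ≫ θ.hom ≫ _ = (yon S).map (sigmaOverι W i) ≫ _
    rw [← Category.assoc, hθ, pullback.lift_snd, ← Functor.map_comp, hkm]
  refine ⟨sigmaOver W, θ.hom ≫ pullback.fst f ξ, m, ?_, ?_⟩
  · refine IsPullback.of_iso (IsPullback.of_hasPullback f ξ) θ.symm (Iso.refl _) (Iso.refl _)
      (Iso.refl _) ?_ ?_ ?_ ?_
    · simp
    · simp [← hsnd]
    · simp
    · simp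
  · exact hP (fun i => (W i).left) (fun i => (V i).left) (fun i => (sigmaOverι W i).left)
      (fun i => (g i).left) (fun i => (w i).left) m.left
      (fun i => inferInstanceAs (IsOpenImmersion (Sigma.ι (fun i => (W i).left) i))) ho
      (exists_mem_range_sigmaOverι W) hcov (fun i => congrArg (fun φ => φ.left) (hkm i)) hPw

end Groth.Agent.H51
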