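import Groth.Agent.H51.CoprodBinary
import Groth.Agent.H50.Fibre

/-!
# Splitting one summand off a coproduct (helper51)
-/

set_option autoImplicit false
universe u
open CategoryTheory CategoryTheory.Limits AlgebraicGeometry Opposite
open AlgSp

namespace Groth.Agent.H51

section Cat

variable {C : Type*} [Category C]

/-- A coproduct is the binary coproduct of one summand and the coproduct of the others. -/
noncomputable def isColimitBinaryCofanSplit {ι : Type*} {F : ι → C} (c : Cofan F) (hc : IsColimit c)
    (i : ι) (d : Cofan (fun j : {j : ι // j ≠ i} => F j.1)) (hd : IsColimit d) :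
    IsColimit (BinaryCofan.mk (c.inj i) (Cofan.IsColimit.desc hd (fun j => c.inj j.1))) := by
  classical
  refine BinaryCofan.isColimitMk
    (fun s => Cofan.IsColimit.desc hc (fun j =>
      if h : j = i then eqToHom (congrArg F h : F j = F i) ≫ s.inl else d.inj ⟨j, h⟩ ≫ s.inr)) ?_ ?_ ?_
  · intro s
    rw [Cofan.IsColimit.fac, dif_pos rfl, eqToHom_refl, Category.id_comp]
  · intro s
    refine Cofan.IsColimit.hom_ext hd _ _ (fun j => ?_)
    rw [← Category.assoc, Cofan.IsColimit.fac, Cofan.IsColimit.fac, dif_neg j.2]
  · intro s m h1 h2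
    refine Cofan.IsColimit.hom_ext hc _ _ (fun j => ?_)
    rw [Cofan.IsColimit.fac]
    by_cases h : j = i
    · subst h
      rw [dif_pos rfl, eqToHom_refl, Category.id_comp]
      exact h1
    · rw [dif_neg h, ← h2, ← Category.assoc, Cofan.IsColimit.fac]

end Cat

variable {S : Scheme.{u}}

/-- Each coprojection of a coproduct of sheaves is representable by open and closed immersions. -/
theorem repWith_openClosed_inj {ι : Type u} {F : ι → Sp S} (c : Cofan F) (hc : IsColimit c) (i : ι) :
    RepWith (@IsOpenImmersion ⊓ @IsClosedImmersion) (c.inj i) := by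
  let d : Cofan (fun j : {j : ι // j ≠ i} => F j.1) := colimit.cocone _
  have hd : IsColimit d := colimit.isColimit _
  exact repWith_openClosed_inl _ (isColimitBinaryCofanSplit c hc i d hd)

theorem mono_inj {ι : Type u} {F : ι → Sp S} (c : Cofan F) (hc : IsColimit c) (i : ι) :
    Mono (c.inj i) :=
  MonoCoprod.mono_inj F c hc i

end Groth.Agent.H51
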