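import Groth.Agent.H51.CoprodSplit
import Groth.Agent.H50.Basic

/-!
# Coproducts of fppf sheaves are disjoint and universal; `h` preserves disjoint unions of schemes (helper51)
-/

set_option autoImplicit false
universe u
open CategoryTheory CategoryTheory.Limits AlgebraicGeometry Opposite
open AlgSp

namespace Groth.Agent.H51

variable {S : Scheme.{u}}

/-- Morphism form of the joint local surjectivity of the coprojections of a coproduct of sheaves. -/
theorem exists_local_lift_cofan {ι : Type*} {F : ι → Sp S} (c : Cofan F) (hc : IsColimit c)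
    {V : Over S} (a : (yon S).obj V ⟶ c.pt) :
    ∃ Sg ∈ J S V, ∀ ⦃V' : Over S⦄ (f : V' ⟶ V), Sg f →
      ∃ (i : ι) (x : (yon S).obj V' ⟶ F i), x ≫ c.inj i = (yon S).map f ≫ a := by
  obtain ⟨R, hR, h⟩ := sieve_mem_of_isColimit_cofan c hc ((J S).uliftYonedaEquiv a)
  refine ⟨R, hR, fun V' f hf => ?_⟩
  obtain ⟨i, y, hy⟩ := h f hf
  refine ⟨i, (J S).uliftYonedaEquiv.symm y, ?_⟩
  apply (J S).uliftYonedaEquiv.injective
  rw [GrothendieckTopology.uliftYonedaEquiv_comp, Equiv.apply_symm_apply,
    ← GrothendieckTopology.uliftYonedaEquiv_naturality]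
  exact hy

/-- Two morphisms from the sheaf of an empty scheme to a sheaf are equal. -/
theorem hom_ext_of_isEmpty {F : Sp S} {V : Over S} (hV : IsEmpty ↥V.left)
    (a b : (yon S).obj V ⟶ F) : a = b := by
  have hbot : (⊥ : Sieve V) ∈ J S V :=
    Groth.Agent.H50.mem_J_of_fppf_family (A := PEmpty.{1}) (fun x => x.elim) (fun x => x.elim)
      (fun τ => (hV.false τ).elim) (fun x => x.elim) (fun x => x.elim) ⊥ (fun x => x.elim)
  exact Groth.Agent.H50.hom_ext_of_local a b hbot (fun _ _ hf => hf.elim)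

/-- A cofan of sheaves whose legs are monomorphisms, jointly locally surjective and pairwise disjoint is a coproduct. -/
theorem nonempty_isColimit_cofan_of_disjoint_cover {ι : Type u} {Qi : ι → Sp S} {Q : Sp S}
    (q : ∀ i, Qi i ⟶ Q) (hmono : ∀ i, Mono (q i))
    (hcov : ∀ (V : Over S) (a : (yon S).obj V ⟶ Q), ∃ Sg ∈ J S V, ∀ ⦃V' : Over S⦄ (f : V' ⟶ V),
      Sg f → ∃ (i : ι) (x : (yon S).obj V' ⟶ Qi i), x ≫ q i = (yon S).map f ≫ a)
    (hdisj : ∀ (V' : Over S) (i j : ι), i ≠ j → ∀ (x : (yon S).obj V' ⟶ Qi i)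
      (y : (yon S).obj V' ⟶ Qi j), x ≫ q i = y ≫ q j → IsEmpty ↥V'.left) :
    Nonempty (IsColimit (Cofan.mk Q q)) := by
  let d : Cofan Qi := colimit.cocone (Discrete.functor Qi)
  have hd : IsColimit d := colimit.isColimit _
  let κ : d.pt ⟶ Q := Cofan.IsColimit.desc hd q
  have hκ : ∀ i, d.inj i ≫ κ = q i := fun i => Cofan.IsColimit.fac hd q i
  have hm : Mono κ := by
    apply Groth.Agent.H50.mono_of_forall_yon
    intro V a b hab
    obtain ⟨La, hLa, ha⟩ := exists_local_lift_cofan d hd a
    obtain ⟨Lb, hLb, hb⟩ := exists_local_lift_cofan d hd b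
    apply Groth.Agent.H50.hom_ext_of_local a b ((J S).intersection_covering hLa hLb)
    intro V' f hf
    obtain ⟨i, x, hx⟩ := ha f hf.1
    obtain ⟨j, y, hy⟩ := hb f hf.2
    have hxy : x ≫ q i = y ≫ q j := by
      rw [← hκ i, ← hκ j, ← Category.assoc, ← Category.assoc, hx, hy, Category.assoc,
        Category.assoc, hab]
    by_cases hij : i = j
    · subst hij
      have := hmono i
      have hxy' : x = y := (cancel_mono (q i)).1 hxy
      rw [← hx, ← hy, hxy']
    · exact hom_ext_of_isEmpty (hdisj V' i j hij x y hxy) _ _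
  have he : Epi κ := by
    apply Groth.Agent.H50.epi_of_local_lift
    intro V a
    obtain ⟨Sg, hSg, h⟩ := hcov V a
    refine ⟨Sg, hSg, fun V' f hf => ?_⟩
    obtain ⟨i, x, hx⟩ := h f hf
    exact ⟨x ≫ d.inj i, by rw [Category.assoc, hκ, hx]⟩
  have hiso : IsIso κ := isIso_of_mono_of_epi κ
  refine ⟨IsColimit.ofIsoColimit hd (Cocone.ext (asIso κ) ?_)⟩
  rintro ⟨i⟩
  exact hκ i

/-- `h` sends a disjoint union of open subschemes to a coproduct of sheaves. -/
theorem nonempty_isColimit_yon_of_disjoint_cover {ι : Type u} {V : ι → Over S} {T : Over S}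
    (g : ∀ i, V i ⟶ T) (ho : ∀ i, IsOpenImmersion (g i).left)
    (hcov : ∀ t : ↥T.left, ∃ i, t ∈ Set.range (g i).left)
    (hdisj : ∀ i j, i ≠ j → Disjoint (Set.range (g i).left) (Set.range (g j).left)) :
    Nonempty (IsColimit (Cofan.mk ((yon S).obj T) (fun i => (yon S).map (g i)))) := by
  apply nonempty_isColimit_cofan_of_disjoint_cover
  · intro i
    have := ho i
    exact Groth.Agent.H52.mono_yon_map (g i)
  · intro W a
    obtain ⟨φ, hφ⟩ := (yon S).map_surjective a
    let Z : Sieve W :=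
      { arrows := fun W' f => ∃ (i : ι) (x : (yon S).obj W' ⟶ (yon S).obj (V i)),
          x ≫ (yon S).map (g i) = (yon S).map f ≫ a
        downward_closed := by
          rintro W' W'' f ⟨i, x, hx⟩ k
          refine ⟨i, (yon S).map k ≫ x, ?_⟩
          rw [Category.assoc, hx, Functor.map_comp, Category.assoc] }
    have hi : ∀ w : ↥W.left, ∃ i, φ.left w ∈ Set.range (g i).left := fun w => hcov _
    choose idx hidx using hi
    choose v hv using hidx
    have hpb := fun w => exists_over_pullback φ (g (idx w))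
    choose P p q hpq hpfl hpfp hpt using hpb
    have hw := fun w => hpt w w (v w) (hv w).symm
    choose z hz1 hz2 using hw
    refine ⟨Z, Groth.Agent.H50.mem_J_of_fppf_family P p (fun w => ⟨w, z w, hz1 w⟩)
      (fun w => hpfl w (by have := ho (idx w); infer_instance))
      (fun w => hpfp w (by have := ho (idx w); infer_instance)) Z (fun w => ?_), fun W' f hf => hf⟩
    refine ⟨idx w, (yon S).map (q w), ?_⟩
    rw [← Functor.map_comp, ← hpq w, Functor.map_comp, hφ]
  · intro W i j hij x y hxy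
    obtain ⟨ξ, rfl⟩ := (yon S).map_surjective x
    obtain ⟨η, rfl⟩ := (yon S).map_surjective y
    rw [← Functor.map_comp, ← Functor.map_comp] at hxy
    have h := (yon S).map_injective hxy
    refine ⟨fun w => ?_⟩
    have h1 : (g i).left (ξ.left w) = (g j).left (η.left w) := by
      have := congrArg (fun m => m.left w) h
      simpa using this
    exact Set.disjoint_left.1 (hdisj i j hij) ⟨ξ.left w, rfl⟩ ⟨η.left w, h1.symm⟩

/-- Coproducts of sheaves are universal: the pullback of a coproduct cofan is a coproduct cofan. -/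
theorem nonempty_isColimit_cofan_of_isPullback {ι : Type u} {F : ι → Sp S} (c : Cofan F)
    (hc : IsColimit c) {Q : Sp S} (f : Q ⟶ c.pt) {Qi : ι → Sp S} (q : ∀ i, Qi i ⟶ Q)
    (r : ∀ i, Qi i ⟶ F i) (sq : ∀ i, IsPullback (q i) (r i) f (c.inj i)) :
    Nonempty (IsColimit (Cofan.mk Q q)) := by
  apply nonempty_isColimit_cofan_of_disjoint_cover
  · intro i
    have := mono_inj c hc i
    exact (sq i).mono_fst_of_mono
  · intro V a
    obtain ⟨Sg, hSg, h⟩ := exists_local_lift_cofan c hc (a ≫ f)
    refine ⟨Sg, hSg, fun V' k hk => ?_⟩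
    obtain ⟨i, x, hx⟩ := h k hk
    refine ⟨i, (sq i).lift ((yon S).map k ≫ a) x ?_, (sq i).lift_fst _ _ _⟩
    rw [hx, Category.assoc]
  · intro V' i j hij x y hxy
    refine isEmpty_of_lifts c hc hij (x ≫ r i) (y ≫ r j) ?_
    rw [Category.assoc, Category.assoc, ← (sq i).w, ← (sq j).w, ← Category.assoc, hxy,
      Category.assoc]

end Groth.Agent.H51
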