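import Groth.Prelude.Def_DescFam
import Mathlib.AlgebraicGeometry.Sites.Fpqc

/-!
# A criterion for effectivity of descent data for schemes relative to a family (helper51)

A descent datum `D` relative to `f i : X i ⟶ S` is effective iff it has a *solution*: a scheme `W` over `S` with maps
`k i : D.obj i ⟶ W` making `D.obj i = X i ×_S W` and invariant under the gluing bijections.
-/

set_option autoImplicit false
universe w u

open CategoryTheory CategoryTheory.Limits AlgebraicGeometry Desc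

namespace Groth.Agent.H51.DescCrit

variable {S : Scheme.{u}} {ι : Type w} {X : ι → Scheme.{u}} {f : ∀ i, X i ⟶ S}

/-- A solution of the descent problem `D`. -/
structure IsSol (D : SchDDFam f) (W : Over S) (k : ∀ i, (D.obj i).left ⟶ W.left) : Prop where
  sq : ∀ i, IsPullback (k i) (D.obj i).hom W.hom (f i)
  inv : ∀ ⦃T : Scheme.{u}⦄ ⦃i j : ι⦄ (x₀ : T ⟶ X i) (x₁ : T ⟶ X j) (h : x₀ ≫ f i = x₁ ≫ f j)
    (v : Lifts (D.obj i) x₀), (D.φ x₀ x₁ h v).1 ≫ k j = v.1 ≫ k i

variable {D : SchDDFam f} {W : Over S} {k : ∀ i, (D.obj i).left ⟶ W.left}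

/-- Two points with the same image in `W` are related by the gluing bijections. -/
theorem IsSol.eq_φ (hs : IsSol D W k) {T : Scheme.{u}} {i j : ι} (g₁ : T ⟶ (D.obj i).left)
    (g₂ : T ⟶ (D.obj j).left) (h : g₁ ≫ k i = g₂ ≫ k j) :
    ∃ hh : (g₁ ≫ (D.obj i).hom) ≫ f i = (g₂ ≫ (D.obj j).hom) ≫ f j,
      (D.φ (g₁ ≫ (D.obj i).hom) (g₂ ≫ (D.obj j).hom) hh ⟨g₁, rfl⟩).1 = g₂ := by
  have hh : (g₁ ≫ (D.obj i).hom) ≫ f i = (g₂ ≫ (D.obj j).hom) ≫ f j := by
    rw [Category.assoc, Category.assoc, ← (hs.sq i).w, ← (hs.sq j).w, ← Category.assoc,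
      ← Category.assoc, h]
  refine ⟨hh, ?_⟩
  apply (hs.sq j).hom_ext
  · rw [hs.inv, h]
  · exact (D.φ (g₁ ≫ (D.obj i).hom) (g₂ ≫ (D.obj j).hom) hh ⟨g₁, rfl⟩).2

/-- A solution makes the descent datum effective. -/
theorem IsSol.isEffective (hs : IsSol D W k) : D.IsEffective := by
  let θ : ∀ i, pullback (f i) W.hom ⟶ (D.obj i).left := fun i =>
    (hs.sq i).lift (pullback.snd (f i) W.hom) (pullback.fst (f i) W.hom) pullback.condition.symm
  let θi : ∀ i, (D.obj i).left ⟶ pullback (f i) W.hom := fun i =>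
    pullback.lift (D.obj i).hom (k i) (hs.sq i).w.symm
  have hθk : ∀ i, θ i ≫ k i = pullback.snd (f i) W.hom := fun i => (hs.sq i).lift_fst _ _ _
  have hθh : ∀ i, θ i ≫ (D.obj i).hom = pullback.fst (f i) W.hom := fun i => (hs.sq i).lift_snd _ _ _
  have h1 : ∀ i, θ i ≫ θi i = 𝟙 _ := fun i => by
    apply pullback.hom_ext
    · rw [Category.assoc, pullback.lift_fst, hθh, Category.id_comp]
    · rw [Category.assoc, pullback.lift_snd, hθk, Category.id_comp]
  have h2 : ∀ i, θi i ≫ θ i = 𝟙 _ := fun i => by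
    apply (hs.sq i).hom_ext
    · rw [Category.assoc, hθk, pullback.lift_snd, Category.id_comp]
    · rw [Category.assoc, hθh, pullback.lift_fst, Category.id_comp]
  let a : (toDDFam f).obj W ⟶ D :=
    ⟨fun i => Over.homMk (θ i) (hθh i), fun T i j x₀ x₁ h v w hw => by
      let v0 : T ⟶ pullback (f i) W.hom := v.1
      have hv0 : v0 ≫ pullback.fst (f i) W.hom = x₀ := v.2
      change (D.φ x₀ x₁ h w).1 = pullback.lift x₁ (v0 ≫ pullback.snd (f i) W.hom) _ ≫ θ j
      change w.1 = v0 ≫ θ i at hw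
      apply (hs.sq j).hom_ext
      · rw [hs.inv, hw, Category.assoc, Category.assoc, hθk, hθk, pullback.lift_snd]
      · rw [Category.assoc, hθh, pullback.lift_fst]
        exact (D.φ x₀ x₁ h w).2⟩
  let b : D ⟶ (toDDFam f).obj W :=
    ⟨fun i => Over.homMk (θi i) (pullback.lift_fst _ _ _), fun T i j x₀ x₁ h v w hw => by
      let w0 : T ⟶ pullback (f i) W.hom := w.1
      change pullback.lift x₁ (w0 ≫ pullback.snd (f i) W.hom) _ = (D.φ x₀ x₁ h v).1 ≫ θi j
      change w0 = v.1 ≫ θi i at hw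
      apply pullback.hom_ext
      · rw [pullback.lift_fst, Category.assoc, pullback.lift_fst]
        exact (D.φ x₀ x₁ h v).2.symm
      · rw [pullback.lift_snd, Category.assoc, pullback.lift_snd, hs.inv, hw,
          Category.assoc, pullback.lift_snd]⟩
  refine ⟨W, ⟨⟨a, b, ?_, ?_⟩⟩⟩
  · apply SchDDFam.hom_ext
    funext i
    apply Over.OverMorphism.ext
    exact h1 i
  · apply SchDDFam.hom_ext
    funext i
    apply Over.OverMorphism.ext
    exact h2 i

/-- An effective descent datum has a solution. -/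
theorem exists_isSol_of_isEffective (hD : D.IsEffective) :
    ∃ (W : Over S) (k : ∀ i, (D.obj i).left ⟶ W.left), IsSol D W k := by
  obtain ⟨W, ⟨e⟩⟩ := hD
  refine ⟨W, fun i => (e.inv.hom i).left ≫ pullback.snd (f i) W.hom, ⟨fun i => ?_, ?_⟩⟩
  · let l : (D.obj i).left ⟶ pullback (f i) W.hom := (e.inv.hom i).left
    let li : pullback (f i) W.hom ⟶ (D.obj i).left := (e.hom.hom i).left
    have h1 : l ≫ li = 𝟙 _ := congrArg (fun a : D ⟶ D => (a.hom i).left) e.inv_hom_id
    have h2 : li ≫ l = 𝟙 _ :=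
      congrArg (fun a : (toDDFam f).obj W ⟶ (toDDFam f).obj W => (a.hom i).left) e.hom_inv_id
    have hw : l ≫ pullback.fst (f i) W.hom = (D.obj i).hom := Over.w (e.inv.hom i)
    have base : IsPullback (pullback.snd (f i) W.hom) (pullback.fst (f i) W.hom) W.hom (f i) :=
      (IsPullback.of_hasPullback (f i) W.hom).flip
    change IsPullback (l ≫ pullback.snd (f i) W.hom) (D.obj i).hom W.hom (f i)
    refine IsPullback.of_iso base (⟨li, l, h2, h1⟩ : pullback (f i) W.hom ≅ (D.obj i).left)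
      (Iso.refl _) (Iso.refl _) (Iso.refl _) ?_ ?_ (by simp) (by simp)
    · simp only [Iso.refl_hom, Category.comp_id]
      rw [← Category.assoc, h2, Category.id_comp]
    · simp only [Iso.refl_hom, Category.comp_id, ← hw]
      rw [← Category.assoc, h2, Category.id_comp]
  · intro T i j x₀ x₁ h v
    have := e.inv.comm x₀ x₁ h v (e.inv.push v) rfl
    let l : T ⟶ pullback (f i) W.hom := v.1 ≫ (e.inv.hom i).left
    let r : T ⟶ pullback (f j) W.hom := (D.φ x₀ x₁ h v).1 ≫ (e.inv.hom j).left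
    change pullback.lift x₁ (l ≫ pullback.snd (f i) W.hom) _ = r at this
    change r ≫ pullback.snd (f j) W.hom = l ≫ pullback.snd (f i) W.hom
    rw [← this, pullback.lift_snd]

/-- The maps `k i` of a solution form an fpqc covering of `W`. -/
theorem IsSol.mem_fpqc (hs : IsSol D W k) (hf : Presieve.ofArrows X f ∈ Scheme.fpqcPrecoverage S) :
    Presieve.ofArrows (fun i => (D.obj i).left) k ∈ Scheme.fpqcPrecoverage W.left :=
  Precoverage.mem_coverings_of_isPullback f hf W.hom k (fun i => (D.obj i).hom) hs.sq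

/-- Sheaf property of a representable functor for an fpqc covering family. -/
theorem existsUnique_desc_of_mem_fpqc {B : Scheme.{u}} {κ : Type w} {A : κ → Scheme.{u}}
    (π : ∀ i, A i ⟶ B) (hπ : Presieve.ofArrows A π ∈ Scheme.fpqcPrecoverage B) {Y : Scheme.{u}}
    (g : ∀ i, A i ⟶ Y)
    (hg : ∀ (i j : κ) (Z : Scheme.{u}) (gi : Z ⟶ A i) (gj : Z ⟶ A j), gi ≫ π i = gj ≫ π j →
      gi ≫ g i = gj ≫ g j) :
    ∃! t : B ⟶ Y, ∀ i, π i ≫ t = g i := by
  have hsh := (GrothendieckTopology.Subcanonical.isSheaf_of_isRepresentable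
    (J := Scheme.fpqcTopology) (yoneda.obj Y)).isSheafFor (Presieve.ofArrows A π)
      (Precoverage.generate_mem_toGrothendieck hπ)
  rw [Presieve.isSheafFor_arrows_iff] at hsh
  obtain ⟨t, ht, huniq⟩ := hsh (fun i => g i) (fun i j Z gi gj h => hg i j Z gi gj h)
  exact ⟨t, ht, huniq⟩

/-- Invariant morphisms out of the members of a descent datum descend to a solution. -/
theorem IsSol.existsUnique_desc (hs : IsSol D W k)
    (hf : Presieve.ofArrows X f ∈ Scheme.fpqcPrecoverage S) {Y : Scheme.{u}}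
    (g : ∀ i, (D.obj i).left ⟶ Y)
    (hg : ∀ ⦃T : Scheme.{u}⦄ ⦃i j : ι⦄ (x₀ : T ⟶ X i) (x₁ : T ⟶ X j) (h : x₀ ≫ f i = x₁ ≫ f j)
      (v : Lifts (D.obj i) x₀), (D.φ x₀ x₁ h v).1 ≫ g j = v.1 ≫ g i) :
    ∃! t : W.left ⟶ Y, ∀ i, k i ≫ t = g i := by
  refine existsUnique_desc_of_mem_fpqc k (hs.mem_fpqc hf) g ?_
  intro i j Z gi gj h
  obtain ⟨hh, e⟩ := hs.eq_φ gi gj h
  rw [← e, hg]

end Groth.Agent.H51.DescCrit
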