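import Groth.Agent.H51.CoprodUniv
import Groth.Agent.H51.DiagOpen
import Groth.Agent.H51.EtaleIff
import Groth.Agent.H51.EtCoverIso
import Groth.Agent.H52.Topology
import Groth.Agent.H50.Fppf
import Mathlib.CategoryTheory.Sites.RegularEpi

/-!
# Elementary distinguished squares are pushouts (helper51)
-/

set_option autoImplicit false
universe u
open CategoryTheory CategoryTheory.Limits AlgebraicGeometry Opposite AlgSp

namespace Groth.Agent.H51.ElemDist

open Groth.Agent.H50 Groth.Agent.H52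

variable {S : Scheme.{u}}

theorem hom_ext_yon {F G : Sp S} (f g : F ⟶ G)
    (h : ∀ (T : Over S) (p : (yon S).obj T ⟶ F), p ≫ f = p ≫ g) : f = g :=
  (J S).hom_ext_uliftYoneda (fun T p => h T p)

/-- Uniqueness for maps out of a sheaf covered by two maps. -/
theorem hom_ext_of_binary_cover {U V W X : Sp S} (j : U ⟶ W) (f : V ⟶ W)
    (hcov : ∀ (T : Over S) (t : (yon S).obj T ⟶ W), ∃ Sg ∈ J S T, ∀ ⦃T' : Over S⦄ (φ : T' ⟶ T),
      Sg φ → (∃ x : (yon S).obj T' ⟶ U, x ≫ j = (yon S).map φ ≫ t) ∨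
        (∃ x : (yon S).obj T' ⟶ V, x ≫ f = (yon S).map φ ≫ t))
    (γ γ' : W ⟶ X) (h1 : j ≫ γ = j ≫ γ') (h2 : f ≫ γ = f ≫ γ') : γ = γ' := by
  apply hom_ext_yon
  intro T t
  obtain ⟨Sg, hSg, hl⟩ := hcov T t
  refine hom_ext_of_local _ _ hSg (fun T' φ hφ => ?_)
  rcases hl φ hφ with ⟨x, hx⟩ | ⟨x, hx⟩
  · rw [← Category.assoc, ← Category.assoc, ← hx, Category.assoc, Category.assoc, h1]
  · rw [← Category.assoc, ← Category.assoc, ← hx, Category.assoc, Category.assoc, h2]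

/-- Existence of maps out of a sheaf covered by two maps, given compatibility on the pairwise fibre products. -/
theorem exists_desc_of_binary_cover {U V W X : Sp S} (j : U ⟶ W) (f : V ⟶ W)
    (hcov : ∀ (T : Over S) (t : (yon S).obj T ⟶ W), ∃ Sg ∈ J S T, ∀ ⦃T' : Over S⦄ (φ : T' ⟶ T),
      Sg φ → (∃ x : (yon S).obj T' ⟶ U, x ≫ j = (yon S).map φ ≫ t) ∨
        (∃ x : (yon S).obj T' ⟶ V, x ≫ f = (yon S).map φ ≫ t))
    (α : U ⟶ X) (β : V ⟶ X)
    (hUU : ∀ (T : Over S) (x x' : (yon S).obj T ⟶ U), x ≫ j = x' ≫ j → x ≫ α = x' ≫ α)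
    (hUV : ∀ (T : Over S) (x : (yon S).obj T ⟶ U) (x' : (yon S).obj T ⟶ V),
      x ≫ j = x' ≫ f → x ≫ α = x' ≫ β)
    (hVV : ∀ (T : Over S) (x x' : (yon S).obj T ⟶ V), x ≫ f = x' ≫ f → x ≫ β = x' ≫ β) :
    ∃ γ : W ⟶ X, j ≫ γ = α ∧ f ≫ γ = β := by
  let c : BinaryCofan U V := BinaryCofan.mk coprod.inl coprod.inr
  have hc : IsColimit c := coprodIsCoprod U V
  let F : WalkingPair → Sp S := fun i => WalkingPair.casesOn i U V
  let c' : Cofan F := c
  obtain ⟨e, he1, he2⟩ : ∃ e : U ⨿ V ⟶ W, coprod.inl ≫ e = j ∧ coprod.inr ≫ e = f :=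
    ⟨coprod.desc j f, coprod.inl_desc _ _, coprod.inr_desc _ _⟩
  obtain ⟨h, hh1, hh2⟩ : ∃ h : U ⨿ V ⟶ X, coprod.inl ≫ h = α ∧ coprod.inr ≫ h = β :=
    ⟨coprod.desc α β, coprod.inl_desc _ _, coprod.inr_desc _ _⟩
  have hepi : Epi e := by
    apply epi_of_local_lift
    intro T t
    obtain ⟨Sg, hSg, hl⟩ := hcov T t
    refine ⟨Sg, hSg, fun T' φ hφ => ?_⟩
    rcases hl φ hφ with ⟨x, hx⟩ | ⟨x, hx⟩
    · exact ⟨x ≫ coprod.inl, by rw [Category.assoc, he1, hx]⟩
    · exact ⟨x ≫ coprod.inr, by rw [Category.assoc, he2, hx]⟩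
  have ker := IsPullback.of_hasPullback e e
  have hr1 : IsRegularEpi e := IsRegularEpiCategory.regularEpiOfEpi e
  have hr2 : EffectiveEpi e := (isRegularEpi_iff_effectiveEpi e).1 hr1
  have hcol : IsColimit (Cofork.ofπ e ker.w) := isColimitCoforkOfEffectiveEpi e ker.cone ker.isLimit
  have hkk : pullback.fst e e ≫ h = pullback.snd e e ≫ h := by
    apply hom_ext_yon
    intro T κ
    have hz : ∀ {T' : Over S} (φ : T' ⟶ T), ((yon S).map φ ≫ κ ≫ pullback.fst e e) ≫ e =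
        ((yon S).map φ ≫ κ ≫ pullback.snd e e) ≫ e := by
      intro T' φ
      rw [Category.assoc, Category.assoc, Category.assoc, Category.assoc, pullback.condition]
    obtain ⟨Sg1, hSg1, hl1⟩ := exists_local_lift_cofan (F := F) c' hc (κ ≫ pullback.fst e e)
    obtain ⟨Sg2, hSg2, hl2⟩ := exists_local_lift_cofan (F := F) c' hc (κ ≫ pullback.snd e e)
    refine hom_ext_of_local _ _ ((J S).intersection_covering hSg1 hSg2) (fun T' φ hφ => ?_)
    obtain ⟨i, x, hx⟩ := hl1 φ hφ.1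
    obtain ⟨i', x', hx'⟩ := hl2 φ hφ.2
    have hxx : (x ≫ c'.inj i) ≫ e = (x' ≫ c'.inj i') ≫ e := by
      rw [hx, hx']
      exact hz φ
    have goal : (x ≫ c'.inj i) ≫ h = (x' ≫ c'.inj i') ≫ h := by
      rcases i with _ | _ <;> rcases i' with _ | _
      · change (x ≫ coprod.inl) ≫ h = (x' ≫ coprod.inl) ≫ h
        change (x ≫ coprod.inl) ≫ e = (x' ≫ coprod.inl) ≫ e at hxx
        rw [Category.assoc, Category.assoc, he1] at hxx
        rw [Category.assoc, Category.assoc, hh1]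
        exact hUU T' x x' hxx
      · change (x ≫ coprod.inl) ≫ h = (x' ≫ coprod.inr) ≫ h
        change (x ≫ coprod.inl) ≫ e = (x' ≫ coprod.inr) ≫ e at hxx
        rw [Category.assoc, Category.assoc, he1, he2] at hxx
        rw [Category.assoc, Category.assoc, hh1, hh2]
        exact hUV T' x x' hxx
      · change (x ≫ coprod.inr) ≫ h = (x' ≫ coprod.inl) ≫ h
        change (x ≫ coprod.inr) ≫ e = (x' ≫ coprod.inl) ≫ e at hxx
        rw [Category.assoc, Category.assoc, he1, he2] at hxx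
        rw [Category.assoc, Category.assoc, hh1, hh2]
        exact (hUV T' x' x hxx.symm).symm
      · change (x ≫ coprod.inr) ≫ h = (x' ≫ coprod.inr) ≫ h
        change (x ≫ coprod.inr) ≫ e = (x' ≫ coprod.inr) ≫ e at hxx
        rw [Category.assoc, Category.assoc, he2] at hxx
        rw [Category.assoc, Category.assoc, hh2]
        exact hVV T' x x' hxx
    calc (yon S).map φ ≫ κ ≫ pullback.fst e e ≫ h
        = ((yon S).map φ ≫ κ ≫ pullback.fst e e) ≫ h := by simp only [Category.assoc]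
      _ = (x ≫ c'.inj i) ≫ h := (congrArg (fun m => m ≫ h) hx).symm
      _ = (x' ≫ c'.inj i') ≫ h := goal
      _ = ((yon S).map φ ≫ κ ≫ pullback.snd e e) ≫ h := congrArg (fun m => m ≫ h) hx'
      _ = (yon S).map φ ≫ κ ≫ pullback.snd e e ≫ h := by simp only [Category.assoc]
  let γ : W ⟶ X := Cofork.IsColimit.desc hcol h hkk
  have hγ : e ≫ γ = h := Cofork.IsColimit.π_desc hcol
  exact ⟨γ, by rw [← he1, Category.assoc, hγ, hh1], by rw [← he2, Category.assoc, hγ, hh2]⟩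

/-- Points helper: a point of the base change of a map to a scheme chart. -/
theorem exists_of_map_eq_ofPt {A F : Sp S} {T V : Over S} {a : A ⟶ F} {g : (yon S).obj T ⟶ F}
    {fstP : (yon S).obj V ⟶ A} {ψ : V ⟶ T} (sq : IsPullback fstP ((yon S).map ψ) a g) (x : Points A)
    (t : ↥T.left) (h : Points.map a x = Points.ofPt g t) : ∃ v : ↥V.left, ψ.left v = t := by
  rw [Points.ofPt_eq_map_ofScheme] at h
  obtain ⟨z, hz1, hz2⟩ := H52.exists_point_of_isPullback sq x _ h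
  obtain ⟨v, rfl⟩ := (Points.schemeEquiv V).surjective z
  change Points.map _ (Points.ofScheme V v) = _ at hz2
  rw [map_yon_map_ofScheme] at hz2
  exact ⟨v, ofScheme_injective T hz2⟩

/-- A sieve containing two jointly surjective flat lfp morphisms is covering. -/
theorem mem_J_of_pair {T A B : Over S} (a : A ⟶ T) (b : B ⟶ T) [Flat a.left] [Flat b.left]
    [LocallyOfFinitePresentation a.left] [LocallyOfFinitePresentation b.left]
    (hsurj : ∀ τ : ↥T.left, (∃ y : ↥A.left, a.left y = τ) ∨ ∃ y : ↥B.left, b.left y = τ)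
    (Z : Sieve T) (ha : Z a) (hb : Z b) : Z ∈ J S T := by
  let Y : Bool → Over S := fun i => Bool.rec B A i
  let g : ∀ i, Y i ⟶ T := fun i => Bool.rec (motive := fun i => Y i ⟶ T) b a i
  refine mem_J_of_fppf_family Y g ?_ ?_ ?_ Z ?_
  · intro τ
    rcases hsurj τ with ⟨y, hy⟩ | ⟨y, hy⟩
    · exact ⟨true, y, hy⟩
    · exact ⟨false, y, hy⟩
  · rintro (_ | _)
    · exact inferInstanceAs (Flat b.left)
    · exact inferInstanceAs (Flat a.left)
  · rintro (_ | _)
    · exact inferInstanceAs (LocallyOfFinitePresentation b.left)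
    · exact inferInstanceAs (LocallyOfFinitePresentation a.left)
  · rintro (_ | _)
    · exact hb
    · exact ha

/-- An elementary distinguished square is a pushout square of sheaves. -/
theorem existsUnique_desc {U V W P : Sp S} (hV : IsAlgSpace V) (hW : IsAlgSpace W) (j : U ⟶ W)
    (f : V ⟶ W) (hsq : IsElemDistSq j f) (p : P ⟶ U) (q : P ⟶ V) (hP : IsPullback p q j f) {X : Sp S}
    (α : U ⟶ X) (β : V ⟶ X) (hαβ : p ≫ α = q ≫ β) : ∃! γ : W ⟶ X, j ≫ γ = α ∧ f ≫ γ = β := by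
  obtain ⟨hj, hf, C, P', i, p₁, p₂, hred, hP', hp₁⟩ := hsq
  obtain ⟨hi, hrange, -⟩ := hred
  obtain ⟨V', pV, hpVe, hpVs⟩ := hV.atlas
  have hf' : RepWith @Etale (pV ≫ f) := hf pV hpVe
  -- points of `W`
  have hpts : ∀ w : Points W, w ∉ Set.range (Points.map j) →
      (∃ c : Points C, Points.map i c = w) ∧ ∃ v' : ↥V'.left, Points.ofPt (pV ≫ f) v' = w := by
    intro w hw
    have hw' : w ∈ Set.range (Points.map i) := by
      rw [hrange]
      exact hw
    obtain ⟨c, rfl⟩ := hw'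
    refine ⟨⟨c, rfl⟩, ?_⟩
    have hc : c = Points.map p₁ (Points.map (inv p₁) c) := by
      rw [← Points.map_comp, IsIso.inv_hom_id, Points.map_id]
    obtain ⟨v', hv'⟩ := surjective_ofPt_of_surjective pV hpVs (Points.map p₂ (Points.map (inv p₁) c))
    refine ⟨v', ?_⟩
    rw [← Points.map_ofPt, hv', ← Points.map_comp, ← hP'.w, Points.map_comp, ← hc]
  -- covering
  have hcov : ∀ (T : Over S) (t : (yon S).obj T ⟶ W), ∃ Sg ∈ J S T, ∀ ⦃T' : Over S⦄ (φ : T' ⟶ T),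
      Sg φ → (∃ x : (yon S).obj T' ⟶ U, x ≫ j = (yon S).map φ ≫ t) ∨
        (∃ x : (yon S).obj T' ⟶ V, x ≫ f = (yon S).map φ ≫ t) := by
    intro T t
    obtain ⟨UT, jT, uT, sqU⟩ := hj.rep t
    obtain ⟨VT, fT, vT, sqV⟩ := hf'.rep t
    have hjT : IsOpenImmersion jT.left := hj.property t _ jT sqU
    have hfT : Etale fT.left := hf'.property t _ fT sqV
    let Sg : Sieve T :=
      { arrows := fun Y φ => (∃ g : Y ⟶ UT, g ≫ jT = φ) ∨ (∃ g : Y ⟶ VT, g ≫ fT = φ)
        downward_closed := by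
          rintro Y Y' φ (⟨g, rfl⟩ | ⟨g, rfl⟩) g'
          · exact Or.inl ⟨g' ≫ g, Category.assoc _ _ _⟩
          · exact Or.inr ⟨g' ≫ g, Category.assoc _ _ _⟩ }
    have hmem : Sg ∈ J S T := by
      refine mem_J_of_pair jT fT (fun τ => ?_) Sg (Or.inl ⟨𝟙 _, Category.id_comp _⟩)
        (Or.inr ⟨𝟙 _, Category.id_comp _⟩)
      by_cases hw : Points.ofPt t τ ∈ Set.range (Points.map j)
      · obtain ⟨u, hu⟩ := hw
        exact Or.inl (exists_of_map_eq_ofPt sqU u τ hu)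
      · obtain ⟨-, v', hv'⟩ := hpts _ hw
        refine Or.inr (exists_of_map_eq_ofPt sqV (Points.ofScheme V' v') τ ?_)
        rw [← Points.ofPt_eq_map_ofScheme]
        exact hv'
    refine ⟨Sg, hmem, ?_⟩
    rintro T' φ (⟨g, rfl⟩ | ⟨g, rfl⟩)
    · exact Or.inl ⟨(yon S).map g ≫ uT, by rw [Category.assoc, sqU.w, Functor.map_comp, Category.assoc]⟩
    · refine Or.inr ⟨(yon S).map g ≫ vT ≫ pV, ?_⟩
      rw [Category.assoc, Category.assoc, sqV.w, Functor.map_comp, Category.assoc]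
  have hmono : Mono j := mono_of_repWith (fun X Y g hg => by
    have : IsOpenImmersion g := hg
    infer_instance) hj
  have hUU : ∀ (T : Over S) (x x' : (yon S).obj T ⟶ U), x ≫ j = x' ≫ j → x ≫ α = x' ≫ α := by
    intro T x x' h
    rw [(cancel_mono j).1 h]
  have hUV : ∀ (T : Over S) (x : (yon S).obj T ⟶ U) (x' : (yon S).obj T ⟶ V),
      x ≫ j = x' ≫ f → x ≫ α = x' ≫ β := by
    intro T x x' h
    obtain ⟨l, hl1, hl2⟩ : ∃ l : (yon S).obj T ⟶ P, l ≫ p = x ∧ l ≫ q = x' :=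
      ⟨hP.lift x x' h, hP.lift_fst _ _ _, hP.lift_snd _ _ _⟩
    rw [← hl1, ← hl2, Category.assoc, Category.assoc, hαβ]
  have hΔ : RepWith @IsOpenImmersion (pullback.diagonal f) :=
    repWith_isOpenImmersion_diagonal_of_unramified hV hW f
      (locP_mono etale_le_unramified (locP_etale_of_isEtaleMor f hf))
  have hVV : ∀ (T : Over S) (x x' : (yon S).obj T ⟶ V), x ≫ f = x' ≫ f → x ≫ β = x' ≫ β := by
    intro T x x' hxx'
    obtain ⟨xx, hxx1, hxx2⟩ : ∃ xx : (yon S).obj T ⟶ pullback f f,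
        xx ≫ pullback.fst f f = x ∧ xx ≫ pullback.snd f f = x' :=
      ⟨pullback.lift x x' hxx', pullback.lift_fst _ _ _, pullback.lift_snd _ _ _⟩
    obtain ⟨TΔ, ιΔ, xΔ, sqΔ⟩ := hΔ.rep xx
    obtain ⟨TU, ιU, xU, sqTU⟩ := hj.rep (x ≫ f)
    obtain ⟨TC, ιC, xC, sqTC⟩ := hi.rep (x ≫ f)
    have hιΔ : IsOpenImmersion ιΔ.left := hΔ.property xx _ ιΔ sqΔ
    have hιU : IsOpenImmersion ιU.left := hj.property (x ≫ f) _ ιU sqTU
    have eΔ : (yon S).map ιΔ ≫ x = (yon S).map ιΔ ≫ x' := by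
      rw [← hxx1, ← hxx2, ← Category.assoc, ← Category.assoc, ← sqΔ.w, Category.assoc,
        Category.assoc, pullback.diagonal_fst, pullback.diagonal_snd]
    have eU : (yon S).map ιU ≫ x ≫ β = (yon S).map ιU ≫ x' ≫ β := by
      have h1 : xU ≫ j = ((yon S).map ιU ≫ x) ≫ f := by rw [sqTU.w, Category.assoc]
      have h2 : xU ≫ j = ((yon S).map ιU ≫ x') ≫ f := by rw [sqTU.w, Category.assoc, hxx']
      rw [← Category.assoc, ← Category.assoc, ← hUV TU xU _ h1, ← hUV TU xU _ h2]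
    have eC : (yon S).map ιC ≫ x = (yon S).map ιC ≫ x' := by
      have key : ∀ ξ : (yon S).obj T ⟶ V, ξ ≫ f = x ≫ f →
          (yon S).map ιC ≫ ξ = xC ≫ inv p₁ ≫ p₂ := by
        intro ξ hξ
        have hl : xC ≫ i = ((yon S).map ιC ≫ ξ) ≫ f := by rw [sqTC.w, Category.assoc, hξ]
        obtain ⟨l, hl1, hl2⟩ : ∃ l : (yon S).obj TC ⟶ P', l ≫ p₁ = xC ∧
            l ≫ p₂ = (yon S).map ιC ≫ ξ :=
          ⟨hP'.lift xC _ hl, hP'.lift_fst _ _ _, hP'.lift_snd _ _ _⟩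
        rw [← hl2, ← hl1, Category.assoc, IsIso.hom_inv_id_assoc]
      rw [key x rfl, key x' hxx'.symm]
    obtain ⟨m, hm⟩ : ∃ m : TC ⟶ TΔ, m ≫ ιΔ = ιC := by
      have hcomm : ((yon S).map ιC ≫ x) ≫ pullback.diagonal f = (yon S).map ιC ≫ xx := by
        apply pullback.hom_ext
        · rw [Category.assoc, pullback.diagonal_fst, Category.comp_id, Category.assoc, hxx1]
        · rw [Category.assoc, pullback.diagonal_snd, Category.comp_id, Category.assoc, hxx2, eC]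
      obtain ⟨m, hm⟩ := (yon S).map_surjective (sqΔ.lift _ _ hcomm)
      exact ⟨m, (yon S).map_injective (by rw [Functor.map_comp, hm, sqΔ.lift_snd])⟩
    let Sg : Sieve T :=
      { arrows := fun Y φ => (∃ g : Y ⟶ TΔ, g ≫ ιΔ = φ) ∨ (∃ g : Y ⟶ TU, g ≫ ιU = φ)
        downward_closed := by
          rintro Y Y' φ (⟨g, rfl⟩ | ⟨g, rfl⟩) g'
          · exact Or.inl ⟨g' ≫ g, Category.assoc _ _ _⟩
          · exact Or.inr ⟨g' ≫ g, Category.assoc _ _ _⟩ }
    have hmem : Sg ∈ J S T := by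
      refine mem_J_of_pair ιΔ ιU (fun τ => ?_) Sg (Or.inl ⟨𝟙 _, Category.id_comp _⟩)
        (Or.inr ⟨𝟙 _, Category.id_comp _⟩)
      by_cases hw : Points.ofPt (x ≫ f) τ ∈ Set.range (Points.map j)
      · obtain ⟨u, hu⟩ := hw
        exact Or.inr (exists_of_map_eq_ofPt sqTU u τ hu)
      · obtain ⟨⟨c, hc⟩, -⟩ := hpts _ hw
        obtain ⟨v, hv⟩ := exists_of_map_eq_ofPt sqTC c τ hc
        refine Or.inl ⟨m.left v, ?_⟩
        rw [← Scheme.Hom.comp_apply, ← Over.comp_left, hm, hv]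
    refine hom_ext_of_local _ _ hmem ?_
    rintro T' φ (⟨g, rfl⟩ | ⟨g, rfl⟩)
    · rw [Functor.map_comp, Category.assoc, Category.assoc, ← Category.assoc ((yon S).map ιΔ), eΔ,
        Category.assoc]
    · rw [Functor.map_comp, Category.assoc, Category.assoc, eU]
  obtain ⟨γ, hγ1, hγ2⟩ := exists_desc_of_binary_cover j f hcov α β hUU hUV hVV
  refine ⟨γ, ⟨hγ1, hγ2⟩, ?_⟩
  rintro γ' ⟨h1, h2⟩
  exact hom_ext_of_binary_cover j f hcov γ' γ (h1.trans hγ1.symm) (h2.trans hγ2.symm)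

end Groth.Agent.H51.ElemDist
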