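import Groth.Agent.H50.EpiDescent
import Groth.Agent.H50.Descent
import Groth.Agent.H50.Fppf
import Groth.Agent.H50.Kernel
import Groth.Agent.H51.RepDescent

/-!
# `RepWith P` after base change along an epimorphism, for `P` descending along fppf morphisms (helper51)
-/

set_option autoImplicit false
universe u
open CategoryTheory CategoryTheory.Limits AlgebraicGeometry Opposite AlgSp MorphismProperty

namespace Groth.Agent.H51

variable {S : Scheme.{u}}

/-- `RepWith P` for a representable morphism can be checked after a base change along an epimorphism of sheaves,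
for `P` Zariski local on the target and descending along fppf morphisms. -/
theorem repWith_of_epi_baseChange' {F G H Q : Sp S} (a : F ⟶ G) (ha : Representable a) (b : H ⟶ G)
    [Epi b] (b' : Q ⟶ F) (a' : Q ⟶ H) (sq : IsPullback b' a' a b)
    (P : MorphismProperty Scheme.{u}) [P.IsStableUnderBaseChange] [IsZariskiLocalAtTarget P]
    (hdesc : DescendsAlong P H50.fppfProp) (h : RepWith P a') : RepWith P a := by
  have : P.RespectsIso := MorphismProperty.IsStableUnderBaseChange.respectsIso
  refine MorphismProperty.relative_of_snd ha (fun T g => ?_)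
  change P (ha.snd g).left
  obtain ⟨Sg, hSg, hlift⟩ := H50.exists_local_lift b g
  choose T' gτ hgτ hfl hfp t' ht' using fun τ : ↥T.left => H50.exists_fppf_of_mem_J hSg τ
  refine H50.of_fppf_family hdesc (ha.snd g).left (fun τ => (T' τ).left) (fun τ => (gτ τ).left)
    hfl hfp (fun τ => ⟨τ, t' τ, ht' τ⟩) (fun τ => ?_)
  obtain ⟨x, hx⟩ := hlift (gτ τ) (hgτ τ)
  have sqO := IsPullback.of_hasPullback (ha.snd g) (gτ τ)
  have sqS : IsPullback (pullback.fst (ha.snd g) (gτ τ)).left (pullback.snd (ha.snd g) (gτ τ)).left
      (ha.snd g).left (gτ τ).left := sqO.map (Over.forget S)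
  refine ⟨_, _, _, sqS, ?_⟩
  have big := (sqO.map (yon S)).paste_horiz (ha.isPullback g)
  rw [← hx] at big
  have hw : ((yon S).map (pullback.fst (ha.snd g) (gτ τ)) ≫ ha.fst g) ≫ a =
      ((yon S).map (pullback.snd (ha.snd g) (gτ τ)) ≫ x) ≫ b := by
    rw [Category.assoc]; exact big.w
  have sqL : IsPullback (sq.lift _ _ hw) ((yon S).map (pullback.snd (ha.snd g) (gτ τ))) a' x := by
    refine IsPullback.of_right ?_ (sq.lift_snd _ _ hw) sq
    rw [sq.lift_fst]
    exact big
  exact h.2 x _ _ sqL

/-- surjectivity descends along fppf morphisms. -/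
theorem surjective_descendsAlong_fppf :
    DescendsAlong (@Surjective : MorphismProperty Scheme.{u}) H50.fppfProp := by
  refine ⟨fun {A X Y Z fst snd f g} sq hf hfst => ?_⟩
  have h1 : Surjective f := hf.1.1
  have h2 : Surjective fst := hfst
  have h3 : Surjective (fst ≫ f) := inferInstance
  rw [sq.w] at h3
  exact Surjective.of_comp snd g

end Groth.Agent.H51
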