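import Groth.Agent.H51.QuotGen
import Groth.Agent.H50.Fppf
import Mathlib.AlgebraicGeometry.Sites.Etale
import Mathlib.CategoryTheory.Sites.SubcanonicalOver

/-!
# The big étale site over `S`: subcanonicity and covering sieves (helper51)
-/

set_option autoImplicit false
universe u
open CategoryTheory CategoryTheory.Limits AlgebraicGeometry Opposite

namespace Groth.Agent.H51.EtQuot

variable {S : Scheme.{u}}

theorem etalePrecoverage_le_fppfPrecoverage :
    Scheme.etalePrecoverage.{u} ≤ Scheme.fppfPrecoverage.{u} := by
  unfold Scheme.etalePrecoverage Scheme.fppfPrecoverage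
  exact Scheme.precoverage_mono fun _ _ f hf => by
    have : Etale f := hf
    exact ⟨inferInstance, inferInstance⟩

instance subcanonical_etale : Scheme.etalePrecoverage.{u}.toGrothendieck.Subcanonical :=
  .of_le (Precoverage.toGrothendieck_mono etalePrecoverage_le_fppfPrecoverage)

instance subcanonical_etale_over : (QuotSh.J Scheme.etalePrecoverage S).Subcanonical := by
  unfold QuotSh.J
  infer_instance

/-- naturality of `rep K V ≅ h_V` for a subcanonical topology. -/
theorem repIso_naturality (K : Precoverage Scheme.{u}) [(QuotSh.J K S).Subcanonical] {V W : Over S}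
    (g : V ⟶ W) :
    QuotSh.repMap K g ≫ (QuotSh.repIsoUliftYoneda K W).hom =
      (QuotSh.repIsoUliftYoneda K V).hom ≫ (QuotSh.J K S).uliftYoneda.{u + 1}.map g :=
  (sheafificationNatIso (QuotSh.J K S) (Type (u + 1))).inv.naturality
    ((QuotSh.J K S).uliftYoneda.{u + 1}.map g)

/-- A pullback square of sheafified representables for a subcanonical topology comes from a pullback square in
`Over S`. -/
theorem isPullback_of_isPullback_repMap (K : Precoverage Scheme.{u}) [(QuotSh.J K S).Subcanonical]
    {A B C D : Over S} {a : A ⟶ B} {b : A ⟶ C} {c : B ⟶ D} {d : C ⟶ D} (w : a ≫ c = b ≫ d)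
    (sq : IsPullback (QuotSh.repMap K a) (QuotSh.repMap K b) (QuotSh.repMap K c) (QuotSh.repMap K d)) :
    IsPullback a b c d := by
  have sq' : IsPullback ((QuotSh.J K S).uliftYoneda.{u + 1}.map a)
      ((QuotSh.J K S).uliftYoneda.{u + 1}.map b) ((QuotSh.J K S).uliftYoneda.{u + 1}.map c)
      ((QuotSh.J K S).uliftYoneda.{u + 1}.map d) :=
    IsPullback.of_iso sq (QuotSh.repIsoUliftYoneda K A) (QuotSh.repIsoUliftYoneda K B)
      (QuotSh.repIsoUliftYoneda K C) (QuotSh.repIsoUliftYoneda K D) (repIso_naturality K a)
      (repIso_naturality K b) (repIso_naturality K c) (repIso_naturality K d)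
  exact IsPullback.of_map ((QuotSh.J K S).uliftYoneda.{u + 1}) w sq'

/-- A covering sieve for the étale topology over `S` contains, through every point of the base, an étale
morphism. -/
theorem exists_etale_of_mem_J {T : Over S} {R : Sieve T}
    (hR : R ∈ QuotSh.J Scheme.etalePrecoverage S T) (τ : T.left) :
    ∃ (T' : Over S) (g : T' ⟶ T), R g ∧ Etale g.left ∧ ∃ t' : T'.left, g.left t' = τ := by
  have : Scheme.etalePrecoverage.{u}.HasIsos := by
    unfold Scheme.etalePrecoverage
    infer_instance
  have : Scheme.etalePrecoverage.{u}.IsStableUnderComposition := by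
    unfold Scheme.etalePrecoverage
    infer_instance
  have : Scheme.etalePrecoverage.{u}.IsStableUnderBaseChange := by
    unfold Scheme.etalePrecoverage
    infer_instance
  rw [GrothendieckTopology.mem_over_iff,
    Precoverage.mem_toGrothendieck_iff_of_isStableUnderComposition] at hR
  obtain ⟨R', hR', hle⟩ := hR
  have h1 : R' ∈ Scheme.jointlySurjectivePrecoverage T.left := hR'.1
  have h2 : R' ∈ MorphismProperty.precoverage (@Etale : MorphismProperty Scheme.{u}) T.left := hR'.2
  rw [Presieve.mem_comap_jointlySurjectivePrecoverage_iff] at h1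
  obtain ⟨Y, f, hf, t', ht'⟩ := h1 τ
  have hPf := h2 hf
  have hRf := hle _ _ hf
  rw [Sieve.overEquiv_iff] at hRf
  exact ⟨Over.mk (f ≫ T.hom), Over.homMk f rfl, hRf, hPf, t', ht'⟩

/-- A sieve containing a jointly surjective family of étale morphisms is covering for the étale topology over
`S`. -/
theorem mem_J_of_etale_family {T : Over S} {A : Type*} (Y : A → Over S) (g : ∀ a, Y a ⟶ T)
    (hsurj : ∀ τ : T.left, ∃ (a : A) (y : (Y a).left), (g a).left y = τ)
    (het : ∀ a, Etale (g a).left) (Z : Sieve T) (hZ : ∀ a, Z (g a)) :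
    Z ∈ QuotSh.J Scheme.etalePrecoverage S T :=
  Groth.Agent.H50.mem_over_of_family @Etale Y g hsurj het Z hZ

end Groth.Agent.H51.EtQuot
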