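import Groth.Agent.H51.LqfDescGen
import Groth.Agent.H51.EpiBC
import Groth.Agent.H51.RepDescent

/-!
# A sheaf with an epimorphism from a scheme whose kernel pair is an etale scheme is an algebraic space (helper51)

`p : h_U ⟶ Y` an epimorphism of fppf sheaves, `h_R = h_U ×_Y h_U` with `s : R ⟶ U` etale.  Then `Y` is an algebraic
space and `p` is representable etale surjective.  No separatedness or quasi-compactness assumption.
-/

set_option autoImplicit false
universe u
open CategoryTheory CategoryTheory.Limits AlgebraicGeometry Opposite AlgSp

namespace Groth.Agent.H51.EtQuotGen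

open Groth.Agent.H50

variable {S : Scheme.{u}}

theorem mono_lift_left_of_kernelPair {Y : Sp S} {U R : Over S} (p : (yon S).obj U ⟶ Y) (s t : R ⟶ U)
    (hk : IsPullback ((yon S).map t) ((yon S).map s) p p) : Mono (prod.lift t s).left := by
  have : Mono (prod.lift t s) := ⟨fun {T} r r' hrr => by
    have h1 := congr($hrr ≫ prod.fst)
    have h2 := congr($hrr ≫ prod.snd)
    rw [Category.assoc, Category.assoc, prod.lift_fst] at h1
    rw [Category.assoc, Category.assoc, prod.lift_snd] at h2
    apply (yon S).map_injective
    apply hk.hom_ext
    · rw [← Functor.map_comp, ← Functor.map_comp, h1]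
    · rw [← Functor.map_comp, ← Functor.map_comp, h2]⟩
  infer_instance

theorem lft_lift_left_of_snd {R U : Over S} (s t : R ⟶ U) [LocallyOfFiniteType s.left] :
    LocallyOfFiniteType (prod.lift t s).left := by
  have e : (prod.lift t s).left ≫ (prod.snd : U ⨯ U ⟶ U).left = s.left := by
    rw [← Over.comp_left, prod.lift_snd]
  have : LocallyOfFiniteType ((prod.lift t s).left ≫ (prod.snd : U ⨯ U ⟶ U).left) := by
    rw [e]; infer_instance
  exact locallyOfFiniteType_of_comp _ (prod.snd : U ⨯ U ⟶ U).left

/-- The diagonal of a sheaf with an epimorphism from a scheme whose kernel pair is a scheme locally of finite type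
over the chart is representable. -/
theorem representable_diag_of_epi_chart {Y : Sp S} {U R : Over S} (p : (yon S).obj U ⟶ Y) [Epi p]
    (s t : R ⟶ U) (hk : IsPullback ((yon S).map t) ((yon S).map s) p p)
    [LocallyOfFiniteType s.left] : Representable (Limits.diag Y) := by
  have hmono : Mono (prod.lift t s).left := mono_lift_left_of_kernelPair p s t hk
  have hlft : LocallyOfFiniteType (prod.lift t s).left := lft_lift_left_of_snd s t
  exact (LqfDescGen.repWith_diag_of_epi_chart' @LocallyOfFiniteType inferInstance p s t hk hlft).rep

/-- A sheaf with an epimorphism from a scheme whose kernel pair is a scheme etale over the chart is an algebraic space,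
and the epimorphism is an atlas. -/
theorem isAlgSpace_of_epi_chart {Y : Sp S} {U R : Over S} (p : (yon S).obj U ⟶ Y) [Epi p]
    (s t : R ⟶ U) (hk : IsPullback ((yon S).map t) ((yon S).map s) p p) [Etale s.left] :
    IsAlgSpace Y ∧ RepWith @Etale p ∧ RepWith @Surjective p := by
  have hdiag : Representable (Limits.diag Y) := representable_diag_of_epi_chart p s t hk
  have hrep : Representable p := Functor.relativelyRepresentable.of_diag hdiag p
  have he : RepWith @Etale p :=
    repWith_of_epi_baseChange' p hrep p ((yon S).map t) ((yon S).map s) hk @Etale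
      etale_descendsAlong_fppf ((repWith_yon_map_iff @Etale s).2 inferInstance)
  obtain ⟨d, hd⟩ := (yon S).map_surjective (hk.lift (𝟙 _) (𝟙 _) rfl)
  have hds : d ≫ s = 𝟙 U := (yon S).map_injective (by
    rw [Functor.map_comp, hd, hk.lift_snd, CategoryTheory.Functor.map_id])
  have hsurj : Surjective s.left := ⟨fun x => ⟨d.left x, by
    rw [← Scheme.Hom.comp_apply, ← Over.comp_left, hds]
    rfl⟩⟩
  have hs : RepWith @Surjective p :=
    repWith_of_epi_baseChange' p hrep p ((yon S).map t) ((yon S).map s) hk @Surjective
      surjective_descendsAlong_fppf ((repWith_yon_map_iff @Surjective s).2 hsurj)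
  exact ⟨⟨hdiag, U, p, he, hs⟩, he, hs⟩

end Groth.Agent.H51.EtQuotGen
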