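import Groth.Agent.H51.EtQuot
import Groth.Agent.H51.EtQuotGen
import Groth.Agent.H51.QuotKer
import Groth.Prelude.Def_AlgSpRep

/-!
# Etale sheaves with a representable etale surjective chart are algebraic spaces (helper51)

A presheaf `F` on schemes over `S` which is a sheaf for the etale topology and receives a representable surjective etale
map `p : h_U ⟶ F` from a scheme is an algebraic space, in particular an fppf sheaf: `R = U ×_F U` is an etale equivalence
relation, the fppf quotient `Q = U/R` is an algebraic space with `h_U ⟶ Q` representable etale surjective, hence both `F`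
and `Q` are the quotient of `h_U` by `h_R` in ETALE sheaves.
-/

set_option autoImplicit false
universe u
open CategoryTheory CategoryTheory.Limits AlgebraicGeometry Opposite AlgSp

namespace Groth.Agent.H51.EtSheafQuot

variable (S : Scheme.{u})

/-- The big etale topology over `S`. -/
abbrev Jet : GrothendieckTopology (Over S) := QuotSh.J Scheme.etalePrecoverage S

/-- `h_U` as an etale sheaf. -/
noncomputable abbrev yet : Over S ⥤ Sheaf (Jet S) (Type (u + 1)) := (Jet S).uliftYoneda.{u + 1}

variable {S}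

theorem jet_le_J : Jet S ≤ J S := by
  intro Y R hR
  rw [GrothendieckTopology.mem_over_iff] at hR ⊢
  exact Precoverage.toGrothendieck_mono EtQuot.etalePrecoverage_le_fppfPrecoverage _ hR

/-- A morphism of etale sheaves along which sections lift locally is an epimorphism. -/
theorem epi_of_local_lift_et {F G : Sheaf (Jet S) (Type (u + 1))} (q : F ⟶ G)
    (h : ∀ (T : Over S) (y : G.obj.obj (op T)), ∃ Sg ∈ Jet S T, ∀ ⦃T' : Over S⦄ (f : T' ⟶ T),
      Sg f → ∃ x : F.obj.obj (op T'), q.hom.app (op T') x = G.obj.map f.op y) : Epi q := by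
  have hls : Presheaf.IsLocallySurjective (Jet S) q.hom := by
    constructor
    intro T y₀
    obtain ⟨Sg, hSg, hlift⟩ := h T y₀
    refine (Jet S).superset_covering ?_ hSg
    intro T' f hf
    exact hlift f hf
  exact Sheaf.epi_of_isLocallySurjective' q

/-- A map from `h_U` to an etale sheaf which has etale surjective local sections is an epimorphism of etale sheaves. -/
theorem epi_et_of_chart {G : PSp S} (hG : Presheaf.IsSheaf (Jet S) G) {U : Over S}
    (p : (pyon S).obj U ⟶ G)
    (he : ∀ ⦃T : Over S⦄ (g : (pyon S).obj T ⟶ G), ∃ (V : Over S) (snd : V ⟶ T)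
      (fst : (pyon S).obj V ⟶ (pyon S).obj U), fst ≫ p = (pyon S).map snd ≫ g ∧ Etale snd.left ∧
        Surjective snd.left) :
    Epi (ObjectProperty.homMk p : (yet S).obj U ⟶ (⟨G, hG⟩ : Sheaf (Jet S) (Type (u + 1)))) := by
  apply epi_of_local_lift_et
  intro T y
  let Sg : Sieve T :=
    { arrows := fun T' f => ∃ x : ((pyon S).obj U).obj (op T'), p.app (op T') x = G.map f.op y
      downward_closed := by
        rintro T' T'' f ⟨x, hx⟩ f'
        refine ⟨((pyon S).obj U).map f'.op x, ?_⟩
        rw [NatTrans.naturality_apply, hx, op_comp, Functor.map_comp_apply] }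
  refine ⟨Sg, ?_, fun T' f hf => hf⟩
  obtain ⟨V, snd, fst, w, het, hsurj⟩ := he (uliftYonedaEquiv.{u + 1}.symm y)
  refine EtQuot.mem_J_of_etale_family (fun _ : PUnit.{1} => V) (fun _ => snd)
    (fun τ => ?_) (fun _ => het) Sg (fun _ => ?_)
  · obtain ⟨v, hv⟩ := hsurj.surj τ
    exact ⟨PUnit.unit, v, hv⟩
  · refine ⟨uliftYonedaEquiv.{u + 1} fst, ?_⟩
    have h1 := congrArg uliftYonedaEquiv.{u + 1} w
    rw [uliftYonedaEquiv_comp] at h1
    rw [h1]
    have h2 := uliftYonedaEquiv_naturality.{u + 1} (uliftYonedaEquiv.{u + 1}.symm y) snd.op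
    rw [Equiv.apply_symm_apply] at h2
    exact h2.symm

theorem isEqvRel_of_kernelPair {F : PSp S} {U R : Over S} (p : (pyon S).obj U ⟶ F) (s t : R ⟶ U)
    (hk : IsPullback ((pyon S).map t) ((pyon S).map s) p p) : IsEqvRel s t := by
  have key : ∀ (T : Over S) (a b : T ⟶ U),
      (∃ r : T ⟶ R, r ≫ t = a ∧ r ≫ s = b) ↔ (pyon S).map a ≫ p = (pyon S).map b ≫ p := by
    intro T a b
    constructor
    · rintro ⟨r, rfl, rfl⟩
      rw [Functor.map_comp, Functor.map_comp, Category.assoc, Category.assoc, hk.w]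
    · intro h
      obtain ⟨r, hr⟩ := (pyon S).map_surjective (hk.lift _ _ h)
      refine ⟨r, (pyon S).map_injective ?_, (pyon S).map_injective ?_⟩
      · rw [Functor.map_comp, hr, hk.lift_fst]
      · rw [Functor.map_comp, hr, hk.lift_snd]
  refine ⟨fun T r r' h1 h2 => ?_, fun T => ⟨fun a => ?_, fun {a b} h => ?_, fun {a b c} h1 h2 => ?_⟩⟩
  · apply (pyon S).map_injective
    apply hk.hom_ext
    · rw [← Functor.map_comp, ← Functor.map_comp, h1]
    · rw [← Functor.map_comp, ← Functor.map_comp, h2]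
  · exact (key T a a).2 rfl
  · exact (key T b a).2 ((key T a b).1 h).symm
  · exact (key T a c).2 (((key T a b).1 h1).trans ((key T b c).1 h2))

set_option maxHeartbeats 1600000 in
/-- An etale sheaf with a representable etale surjective chart from a scheme is an algebraic space. -/
theorem isAlgSpaceP_of_etale_sheaf_chart (F : PSp S) (h1 : Presheaf.IsSheaf (Jet S) F) (U : Over S)
    (p : (pyon S).obj U ⟶ F)
    (h3e : (MorphismProperty.inverseImage @Etale (Over.forget S)).relative (pyon S) p)
    (h3s : (MorphismProperty.inverseImage @Surjective (Over.forget S)).relative (pyon S) p) :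
    IsAlgSpaceP F := by
  obtain ⟨R, s, fst, sq⟩ := h3e.1 p
  have hse : Etale s.left := h3e.2 _ _ _ sq
  obtain ⟨t, rfl⟩ := (pyon S).map_surjective fst
  have hEqv : IsEqvRel s t := isEqvRel_of_kernelPair p s t sq
  have hkQ := QuotKer.isPullback_yon s t hEqv
  obtain ⟨hQ, heQ, hsQ⟩ := EtQuotGen.isAlgSpace_of_epi_chart (QuotKer.qmap s t) s t hkQ
  -- the etale sheaves
  let Fe : Sheaf (Jet S) (Type (u + 1)) := ⟨F, h1⟩
  have hQet : Presheaf.IsSheaf (Jet S) (QuotSh.quot Scheme.fppfPrecoverage s t).obj := by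
    rw [isSheaf_iff_isSheaf_of_type]
    exact Presieve.isSheaf_of_le _ jet_le_J
      ((isSheaf_iff_isSheaf_of_type _ _).1 (QuotSh.quot Scheme.fppfPrecoverage s t).property)
  let Qe : Sheaf (Jet S) (Type (u + 1)) := ⟨(QuotSh.quot Scheme.fppfPrecoverage s t).obj, hQet⟩
  let pe : (yet S).obj U ⟶ Fe := ObjectProperty.homMk p
  let qe : (yet S).obj U ⟶ Qe := ObjectProperty.homMk (QuotKer.qmap s t).hom
  have hpe : Epi pe := epi_et_of_chart h1 p (fun T g => by
    obtain ⟨V, snd, fst, sqV⟩ := h3e.1 g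
    exact ⟨V, snd, fst, sqV.w, h3e.2 _ _ _ sqV, h3s.2 _ _ _ sqV⟩)
  have hqe : Epi qe := epi_et_of_chart hQet (QuotKer.qmap s t).hom (fun T g => by
    obtain ⟨V, snd, fst, sqV⟩ := heQ.1 (ObjectProperty.homMk g : (yon S).obj T ⟶ QuotSh.quot Scheme.fppfPrecoverage s t)
    exact ⟨V, snd, fst.hom, Sheaf.hom_ext_iff.1 sqV.w, heQ.2 _ _ _ sqV, hsQ.2 _ _ _ sqV⟩)
  have wP : (yet S).map t ≫ pe = (yet S).map s ≫ pe := Sheaf.hom_ext sq.w
  have hkPe : IsPullback ((yet S).map t) ((yet S).map s) pe pe :=
    IsPullback.of_map (sheafToPresheaf (Jet S) (Type (u + 1))) wP sq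
  have hkQP : IsPullback ((pyon S).map t) ((pyon S).map s) (QuotKer.qmap s t).hom
      (QuotKer.qmap s t).hom := hkQ.map (sheafToPresheaf (J S) (Type (u + 1)))
  have wQ : (yet S).map t ≫ qe = (yet S).map s ≫ qe := Sheaf.hom_ext hkQP.w
  have hkQe : IsPullback ((yet S).map t) ((yet S).map s) qe qe :=
    IsPullback.of_map (sheafToPresheaf (Jet S) (Type (u + 1))) wQ hkQP
  have hcolP := QuotGen.isColimitOfEpiKernelPair ((yet S).map t) ((yet S).map s) pe
    ((yet S).map t) ((yet S).map s) hkPe (𝟙 _) (Category.id_comp _) (Category.id_comp _) wP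
  have hcolQ := QuotGen.isColimitOfEpiKernelPair ((yet S).map t) ((yet S).map s) qe
    ((yet S).map t) ((yet S).map s) hkQe (𝟙 _) (Category.id_comp _) (Category.id_comp _) wQ
  let i : Fe ≅ Qe := hcolP.coconePointUniqueUpToIso hcolQ
  exact ((isAlgSpaceP_obj_iff _).2 hQ).of_iso
    ((sheafToPresheaf (Jet S) (Type (u + 1))).mapIso i).symm

end Groth.Agent.H51.EtSheafQuot
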