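import Mathlib
import Groth.Prelude

/-!
# (ECL) for helper95 (S7894): being an effective Cartier ideal is local on the scheme
-/

set_option autoImplicit false
universe u
open CategoryTheory CategoryTheory.Limits AlgebraicGeometry

namespace Groth.Agent.H51.FB

/-- Pure ring lemma: transport of "principal, generated by a nonzerodivisor" along mutually
inverse ring maps. -/
lemma transport {R S : Type*} [CommRing R] [CommRing S] (φ : S →+* R) (ψ : R →+* S)
    (h1 : ∀ y, ψ (φ y) = y) (h2 : ∀ y, φ (ψ y) = y) (K : Ideal R) (t : S)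
    (ht : t ∈ nonZeroDivisors S) (hK : K.comap φ = Ideal.span {t}) :
    φ t ∈ nonZeroDivisors R ∧ K = Ideal.span {φ t} := by
  have hinj : Function.Injective ψ := fun a b hab => by rw [← h2 a, ← h2 b, hab]
  have hsurj : Function.Surjective φ := fun y => ⟨ψ y, h2 y⟩
  refine ⟨?_, ?_⟩
  · apply mem_nonZeroDivisors_of_injective (f := ψ) hinj
    rwa [h1]
  · rw [← Ideal.map_comap_of_surjective φ hsurj K, hK, Ideal.map_span, Set.image_singleton]

theorem ECL {X : Scheme.{u}} (J : X.IdealSheafData) {ι : Type*} (V : ι → X.Opens)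
    (hV : ⨆ i, V i = ⊤) (h : ∀ i, BlowUp.IsEffCartierIdeal (J.comap (V i).ι)) :
    BlowUp.IsEffCartierIdeal J := by
  intro x
  have hx : x ∈ (⨆ i, V i : X.Opens) := hV ▸ trivial
  obtain ⟨i, hi⟩ := TopologicalSpace.Opens.mem_iSup.mp hx
  obtain ⟨W, hxW, t, ht, hWt⟩ := h i ⟨x, hi⟩
  let W' : X.affineOpens := ⟨(V i).ι ''ᵁ W.1, W.2.image_of_isOpenImmersion (V i).ι⟩
  have hxW' : x ∈ W'.1 := by
    change ((⟨x, hi⟩ : V i) : X) ∈ (V i).ι ''ᵁ W.1
    rw [Scheme.Opens.mem_ι_image_iff]
    exact hxW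
  have hcomap : (J.comap (V i).ι).ideal W =
      (J.ideal W').comap ((V i).ι.appIso W.1).inv.hom :=
    J.ideal_comap_of_isOpenImmersion (V i).ι W
  obtain ⟨hnzd, hgen⟩ := transport ((V i).ι.appIso W.1).inv.hom ((V i).ι.appIso W.1).hom.hom
    (fun y => by
      have := ((V i).ι.appIso W.1).inv_hom_id
      exact congr($(this).hom y))
    (fun y => by
      have := ((V i).ι.appIso W.1).hom_inv_id
      exact congr($(this).hom y))
    (J.ideal W') t ht (hcomap ▸ hWt)
  exact ⟨W', hxW', _, hnzd, hgen⟩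

end Groth.Agent.H51.FB
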