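import Groth.Agent.H51.LinTop
import Mathlib.RingTheory.Flat.FaithfullyFlat.Algebra
import Mathlib.RingTheory.Ideal.Quotient.Operations

/-! Faithfully flat taut descent helpers (helper51). -/

set_option autoImplicit false
set_option linter.unusedSectionVars false
set_option linter.unusedVariables false
universe u v

open Topology Filter

namespace Groth.Agent.H51

theorem comap_map_eq_of_faithfullyFlat {R : Type u} {S : Type v} [CommRing R] [CommRing S]
    (ψ : R →+* S) (h : ψ.FaithfullyFlat) (𝔞 : Ideal R) : (𝔞.map ψ).comap ψ = 𝔞 := by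
  algebraize [ψ]
  exact Ideal.comap_map_eq_self_of_faithfullyFlat 𝔞

section

variable {A : Type u} [CommRing A] [TopologicalSpace A] [IsTopologicalRing A]

/-- closure of an ideal is contained in its sum with any open ideal -/
theorem closure_le_sup_of_isOpen (𝔠 L : Ideal A) (hL : IsOpen (L : Set A)) : 𝔠.closure ≤ 𝔠 ⊔ L := by
  intro x hx
  have hnhds : (fun y => x - y) ⁻¹' (L : Set A) ∈ 𝓝 x := by
    have hc : Continuous (fun y : A => x - y) := continuous_const.sub continuous_id
    apply hc.continuousAt.preimage_mem_nhds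
    simp only [sub_self]
    exact hL.mem_nhds L.zero_mem
  obtain ⟨y, hy1, hy2⟩ := mem_closure_iff_nhds.mp hx _ hnhds
  have : x = y + (x - y) := by abel
  rw [this]
  exact Submodule.add_mem_sup hy2 hy1

/-- an element lying in `𝔟 ⊔ I'` for every open ideal `I'` is in the closure (linear topology) -/
theorem mem_closure_of_forall_mem_sup [IsLinearTopology A A] (𝔟 : Ideal A) (x : A)
    (h : ∀ I' : Ideal A, IsOpen (I' : Set A) → x ∈ 𝔟 ⊔ I') : x ∈ 𝔟.closure := by
  change x ∈ closure (𝔟 : Set A)
  rw [mem_closure_iff_nhds]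
  intro t ht
  have hnhds : (fun y => x - y) ⁻¹' t ∈ 𝓝 (0 : A) := by
    have hc : Continuous (fun y : A => x - y) := continuous_const.sub continuous_id
    apply hc.continuousAt.preimage_mem_nhds
    simpa using ht
  obtain ⟨I', hI', hI't⟩ := exists_open_ideal_subset hnhds
  obtain ⟨b, hb, i, hi, rfl⟩ := Submodule.mem_sup.mp (h I' hI')
  refine ⟨b, ?_, hb⟩
  have := hI't hi
  simpa using this

omit [TopologicalSpace A] [IsTopologicalRing A] in
theorem sup_mul_sup_le (P Q L : Ideal A) : (P ⊔ L) * (Q ⊔ L) ≤ P * Q ⊔ L := by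
  rw [Ideal.mul_le]
  intro x hx y hy
  obtain ⟨p, hp, l, hl, rfl⟩ := Submodule.mem_sup.mp hx
  obtain ⟨q, hq, l', hl', rfl⟩ := Submodule.mem_sup.mp hy
  have : (p + l) * (q + l') = p * q + (p * l' + l * q + l * l') := by ring
  rw [this]
  refine Submodule.add_mem_sup (Ideal.mul_mem_mul hp hq) ?_
  exact L.add_mem (L.add_mem (L.mul_mem_left _ hl') (L.mul_mem_right _ hl)) (L.mul_mem_right _ hl)

omit [TopologicalSpace A] [IsTopologicalRing A] in
theorem sup_pow_le (P L : Ideal A) (n : ℕ) (hn : 0 < n) : (P ⊔ L) ^ n ≤ P ^ n ⊔ L := by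
  induction n with
  | zero => exact absurd hn (lt_irrefl 0)
  | succ n ih =>
    rcases Nat.eq_zero_or_pos n with rfl | hpos
    · simp
    · rw [pow_succ, pow_succ]
      exact (Ideal.mul_mono_left (ih hpos)).trans (sup_mul_sup_le _ _ _)

end

section Descent

variable {A : Type u} [CommRing A] [TopologicalSpace A] [IsTopologicalRing A]
variable {B : Type v} [CommRing B] [TopologicalSpace B] [IsTopologicalRing B]

/-- Lemma D: faithfully flat descent of membership modulo an open ideal. -/
theorem mem_sup_of_map_mem_sup {φ : A →+* B} (hφ : LinTop.IsTautFFlat φ) (I' : Ideal A)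
    (hI' : IsOpen (I' : Set A)) (𝔟 : Ideal A) (x : A)
    (hx : φ x ∈ 𝔟.map φ ⊔ (I'.map φ).closure) : x ∈ 𝔟 ⊔ I' := by
  have hff := hφ.2 I' hI'
  have hcomm : (LinTop.descentMap φ I').comp (Ideal.Quotient.mk I') =
      (Ideal.Quotient.mk (I'.map φ).closure).comp φ := by
    ext a
    simp [LinTop.descentMap]
  have h1 : (𝔟.map (Ideal.Quotient.mk I')).map (LinTop.descentMap φ I') =
      (𝔟.map φ).map (Ideal.Quotient.mk (I'.map φ).closure) := by
    rw [Ideal.map_map, hcomm, ← Ideal.map_map]
  have h2 : LinTop.descentMap φ I' (Ideal.Quotient.mk I' x) ∈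
      (𝔟.map (Ideal.Quotient.mk I')).map (LinTop.descentMap φ I') := by
    have h3 : LinTop.descentMap φ I' (Ideal.Quotient.mk I' x) =
        Ideal.Quotient.mk (I'.map φ).closure (φ x) := by
      simp [LinTop.descentMap]
    rw [h3, h1]
    have h4 : Ideal.Quotient.mk (I'.map φ).closure (φ x) ∈
        (𝔟.map φ ⊔ (I'.map φ).closure).map (Ideal.Quotient.mk (I'.map φ).closure) :=
      Ideal.mem_map_of_mem _ hx
    rw [Ideal.map_sup, Ideal.map_quotient_self, sup_bot_eq] at h4
    exact h4
  have h5 : Ideal.Quotient.mk I' x ∈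
      ((𝔟.map (Ideal.Quotient.mk I')).map (LinTop.descentMap φ I')).comap
        (LinTop.descentMap φ I') := h2
  rw [comap_map_eq_of_faithfullyFlat _ hff] at h5
  have h6 : x ∈ (𝔟.map (Ideal.Quotient.mk I')).comap (Ideal.Quotient.mk I') := h5
  rw [Ideal.comap_map_of_surjective _ Ideal.Quotient.mk_surjective] at h6
  have h7 : Ideal.comap (Ideal.Quotient.mk I') ⊥ = I' := by
    rw [← RingHom.ker_eq_comap_bot, Ideal.mk_ker]
  rw [h7] at h6
  exact h6

end Descent

end Groth.Agent.H51
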