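import Mathlib

/-!
# (ISH) for helper46 (S11178): Ishikawa — `Hom(E, E')` is flat for `E`, `E'` injective over a
Noetherian ring.  Direct verification of the equational criterion for flatness.
-/

set_option autoImplicit false
universe u
open CategoryTheory CochainComplex.HomComplex

namespace Groth.Agent.H51.FI

variable {A : Type u} [CommRing A]

/-- Exactness of `E → E^l → E^k` (dual to `A^k → A^l → A`) for `E` injective. -/
lemma exists_smul_of_relations (E : Type u) [AddCommGroup E] [Module A E] [Module.Injective A E]
    {l k : ℕ} (a : Fin l → A) (b : Fin k → (Fin l → A))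
    (hb : Submodule.span A (Set.range b) = LinearMap.ker (Fintype.linearCombination A a))
    (x : Fin l → E) (hx : ∀ j, ∑ i, b j i • x i = 0) : ∃ e : E, ∀ i, x i = a i • e := by
  classical
  let α : (Fin l → A) →ₗ[A] A := Fintype.linearCombination A a
  let lam : (Fin l → A) →ₗ[A] E := Fintype.linearCombination A x
  have hK : LinearMap.ker α ≤ LinearMap.ker lam := by
    rw [← hb, Submodule.span_le]
    rintro _ ⟨j, rfl⟩
    exact hx j
  let αbar := (LinearMap.ker α).liftQ α le_rfl
  have hαinj : Function.Injective αbar := by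
    rw [← LinearMap.ker_eq_bot]
    exact Submodule.ker_liftQ_eq_bot' _ α rfl
  obtain ⟨g', hg'⟩ := Module.Injective.extension_property A E _ _ αbar hαinj
    ((LinearMap.ker α).liftQ lam hK)
  refine ⟨g' 1, fun i => ?_⟩
  have h1 : g' (α (Pi.single i 1)) = lam (Pi.single i 1) :=
    congr($hg' (Submodule.Quotient.mk (Pi.single i 1)))
  have h2 : α (Pi.single i 1) = a i := by
    simp [α, Fintype.linearCombination_apply, Pi.single_apply]
  have h3 : lam (Pi.single i 1) = x i := by
    simp [lam, Fintype.linearCombination_apply, Pi.single_apply]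
  rw [h2, h3] at h1
  rw [← h1, ← map_smul, smul_eq_mul, mul_one]

theorem flat_linearMap_of_injective [IsNoetherianRing A] (E E' : Type u) [AddCommGroup E]
    [Module A E] [AddCommGroup E'] [Module A E'] [Module.Injective A E] [Module.Injective A E'] :
    Module.Flat A (E →ₗ[A] E') := by
  classical
  apply Module.Flat.of_forall_isTrivialRelation
  intro l a φ hrel
  obtain ⟨k, b, hb⟩ := Submodule.fg_iff_exists_fin_generating_family.mp
    (IsNoetherian.noetherian (LinearMap.ker (Fintype.linearCombination A a)))
  have hbK : ∀ j, ∑ i, b j i * a i = 0 := fun j => by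
    have : b j ∈ LinearMap.ker (Fintype.linearCombination A a) :=
      hb ▸ Submodule.subset_span ⟨j, rfl⟩
    simpa [Fintype.linearCombination_apply] using this
  -- the maps Φ and β
  let Φ : (Fin l → E) →ₗ[A] E' := ∑ i, (φ i).comp (LinearMap.proj i)
  let β : (Fin l → E) →ₗ[A] (Fin k → E) :=
    LinearMap.pi fun j => ∑ i, b j i • (LinearMap.proj i : (Fin l → E) →ₗ[A] E)
  have hΦ : ∀ x, Φ x = ∑ i, φ i (x i) := fun x => by simp [Φ]
  have hβ : ∀ x j, β x j = ∑ i, b j i • x i := fun x j => by simp [β]
  have hker : LinearMap.ker β ≤ LinearMap.ker Φ := by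
    intro x hx
    obtain ⟨e, he⟩ := exists_smul_of_relations E a b hb x (fun j => by
      rw [← hβ]; exact congrFun (LinearMap.mem_ker.mp hx) j)
    rw [LinearMap.mem_ker, hΦ]
    have := congr($hrel e)
    simp only [LinearMap.sum_apply, LinearMap.smul_apply, LinearMap.zero_apply] at this
    rw [← this]
    exact Finset.sum_congr rfl fun i _ => by rw [he i, map_smul]
  let βbar := (LinearMap.ker β).liftQ β le_rfl
  have hβinj : Function.Injective βbar := by
    rw [← LinearMap.ker_eq_bot]
    exact Submodule.ker_liftQ_eq_bot' _ β rfl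
  obtain ⟨Ψ, hΨ⟩ := Module.Injective.extension_property A E' _ _ βbar hβinj
    ((LinearMap.ker β).liftQ Φ hker)
  have hΨ' : ∀ x, Ψ (β x) = Φ x := fun x => congr($hΨ (Submodule.Quotient.mk x))
  refine ⟨k, fun i j => b j i, fun j => Ψ.comp (LinearMap.single A (fun _ => E) j), ?_, ?_⟩
  · intro i
    ext e
    have h1 : Φ (Pi.single i e) = φ i e := by
      rw [hΦ, Finset.sum_eq_single i (fun j _ hj => by rw [Pi.single_eq_of_ne hj, map_zero])
        (fun h => absurd (Finset.mem_univ i) h), Pi.single_eq_same]
    have h2 : β (Pi.single i e) = ∑ j, Pi.single j (b j i • e) := by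
      ext j
      rw [hβ]
      simp [Pi.single_apply]
    rw [← h1, ← hΨ', h2, map_sum]
    simp only [LinearMap.sum_apply, LinearMap.smul_apply, LinearMap.comp_apply,
      LinearMap.single_apply]
    exact Finset.sum_congr rfl fun j _ => by rw [Pi.single_smul, map_smul]
  · intro j
    rw [← hbK j]
    exact Finset.sum_congr rfl fun i _ => mul_comm _ _

end Groth.Agent.H51.FI
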