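import Mathlib
import Groth.Prelude.Def_AlgSpModX
import Groth.Prelude.Def_AlgSp2
import Groth.Agent.H32.QCBC.EtSite
import Groth.Agent.H52.Topology
import Groth.Agent.H52.FQDecent

/-! helper51 for helper32 (S10577, piece (BCCOV)): every object of the small étale site of `X` is
covered by affine objects mapping to the base change of an affine object of the small étale site
of `Y` (for `f : X ⟶ Y` representable, `Y` an algebraic space). -/

set_option autoImplicit false
set_option backward.isDefEq.respectTransparency false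
universe u
open CategoryTheory Opposite Limits AlgebraicGeometry AlgSp

namespace Groth.Agent.H51.FPres_BCCOV

open Groth.Agent.H32.QCBC

theorem exists_cover_bc {S : Scheme.{u}} {X Y : AlgSp.Sp S} {f : X ⟶ Y}
    (hf : AlgSp.Representable f) (hY : AlgSp.IsAlgSpace Y) (V : AlgSp.EtOver X) :
    ∃ T ∈ AlgSp.etTop X V, ∀ ⦃V' : AlgSp.EtOver X⦄ (g : V' ⟶ V), T g →
      ∃ (Z : AlgSp.EtOver X) (a : V' ⟶ Z) (b : Z ⟶ V), a ≫ b = g ∧ IsAffine Z.obj.left.left ∧
        ∃ (E : AlgSp.EtOver Y), IsAffine E.obj.left.left ∧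
          Nonempty (Z ⟶ (AlgSp.EtOver.bc hf).obj E) := by
  let ι := Σ E : {E : EtOver Y // IsAffine E.obj.left.left},
    (EtOver.prodObj V ((EtOver.bc hf).obj E.1)).obj.left.left.affineOpens
  let Yi : ι → EtOver X := fun i => openObj (EtOver.prodObj V ((EtOver.bc hf).obj i.1.1)) i.2.1
  let g : ∀ i : ι, Yi i ⟶ V := fun i =>
    openObjι (EtOver.prodObj V ((EtOver.bc hf).obj i.1.1)) i.2.1 ≫
      EtOver.prodFst V ((EtOver.bc hf).obj i.1.1)
  refine ⟨Sieve.ofArrows Yi g, ?_, ?_⟩
  · apply ofArrows_mem_etTop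
    intro v
    obtain ⟨U, a, u, hUaff, hae, hu⟩ := Groth.Agent.H52.exists_affine_chart_at hY
      (Points.map f (Points.ofPt V.obj.hom v))
    let E : EtOver Y := EtOver.mk a hae
    have hE : IsAffine E.obj.left.left := hUaff
    let B : EtOver X := (EtOver.bc hf).obj E
    -- a point of the base change over `v` and `u`
    have hxy : Points.map f (Points.ofPt V.obj.hom v) =
        Points.map E.obj.hom (Points.ofScheme E.obj.left u) := by
      rw [← hu, Points.ofPt_eq_map_ofScheme]
      rfl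
    obtain ⟨z, hz1, -⟩ := Groth.Agent.H52.exists_point_of_isPullback (hf.isPullback E.obj.hom)
      (Points.ofPt V.obj.hom v) (Points.ofScheme E.obj.left u) hxy
    obtain ⟨w, rfl⟩ := (Points.schemeEquiv (hf.pullback E.obj.hom)).surjective z
    have hw : Points.ofPt B.obj.hom (w : ↥B.obj.left.left) = Points.ofPt V.obj.hom v := by
      rw [Points.ofPt_eq_map_ofScheme]
      exact hz1
    have hsq : IsPullback ((yon S).map (B.property.1.fst' V.obj.hom))
        ((yon S).map (B.property.1.snd V.obj.hom)) B.obj.hom V.obj.hom := by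
      rw [Functor.relativelyRepresentable.map_fst']
      exact B.property.1.isPullback V.obj.hom
    obtain ⟨z', hz1', hz2'⟩ := Groth.Agent.H52.exists_of_ofPt_eq_ofPt hsq
      (w : ↥B.obj.left.left) v hw
    obtain ⟨O, hO, hzO, -⟩ :=
      (TopologicalSpace.Opens.isBasis_iff_nbhd.1
        (EtOver.prodObj V B).obj.left.left.isBasis_affineOpens)
        (show (z' : ↥(EtOver.prodObj V B).obj.left.left) ∈
          (⊤ : (EtOver.prodObj V B).obj.left.left.Opens) from trivial)
    refine ⟨⟨⟨E, hE⟩, ⟨O, hO⟩⟩, ⟨(⟨z', hzO⟩ : O), ?_⟩⟩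
    exact hz2'
  · intro V' f' hf'
    obtain ⟨i, a, hfa⟩ := (Sieve.mem_ofArrows_iff _ _ _).1 hf'
    exact ⟨Yi i, a, g i, hfa.symm, i.2.2, i.1.1, i.1.2,
      ⟨openObjι (EtOver.prodObj V ((EtOver.bc hf).obj i.1.1)) i.2.1 ≫
        EtOver.prodSnd V ((EtOver.bc hf).obj i.1.1)⟩⟩

end Groth.Agent.H51.FPres_BCCOV
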