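import Mathlib

/-!
# A field-valued point whose image lies in an immersed subscheme factors through it

`Groth.Agent.H51.FieldPtLift.exists_lift_of_isImmersion`:
for an immersion `g : T ⟶ X`, a field `Ω` and `ξ : Spec Ω ⟶ X` whose (unique) image point lies in
the range of `g`, there is `ξ' : Spec Ω ⟶ T` with `ξ' ≫ g = ξ`.
-/

set_option autoImplicit false
universe u
open CategoryTheory CategoryTheory.Limits AlgebraicGeometry

namespace Groth.Agent.H51.FieldPtLift

/-- A field-valued point of `X` whose image point lies in the range of an immersion `g : T ⟶ X`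
factors through `g`. -/
theorem exists_lift_of_isImmersion {T X : Scheme.{u}} (g : T ⟶ X) [IsImmersion g]
    {Ω : Type u} [Field Ω] (ξ : Spec (CommRingCat.of Ω) ⟶ X)
    (h : ∃ (t : T) (p : Spec (CommRingCat.of Ω)), g t = ξ p) :
    ∃ ξ' : Spec (CommRingCat.of Ω) ⟶ T, ξ' ≫ g = ξ := by
  obtain ⟨t, p, htp⟩ := h
  have : Subsingleton (Spec (CommRingCat.of Ω)) :=
    inferInstanceAs (Subsingleton (PrimeSpectrum Ω))
  have : Surjective (pullback.snd g ξ) := by
    refine ⟨fun q => ?_⟩
    obtain ⟨z, -, hz⟩ := Scheme.Pullback.exists_preimage_pullback t p htp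
    exact ⟨z, hz.trans (Subsingleton.elim _ _)⟩
  have : IsClosedImmersion (pullback.snd g ξ) :=
    .of_isPreimmersion _ (by
      rw [(pullback.snd g ξ).surjective.range_eq]; exact isClosed_univ)
  have : IsReduced (Spec (CommRingCat.of Ω)) := inferInstance
  have : IsIso (pullback.snd g ξ) := isIso_of_isClosedImmersion_of_surjective _
  refine ⟨inv (pullback.snd g ξ) ≫ pullback.fst g ξ, ?_⟩
  rw [Category.assoc, pullback.condition, ← Category.assoc, IsIso.inv_hom_id, Category.id_comp]

/-- Variant: the hypothesis is stated as an inclusion of ranges. -/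
theorem exists_lift_of_isImmersion_of_range_subset {T X : Scheme.{u}} (g : T ⟶ X) [IsImmersion g]
    {Ω : Type u} [Field Ω] (ξ : Spec (CommRingCat.of Ω) ⟶ X)
    (h : Set.range ξ ⊆ Set.range g) :
    ∃ ξ' : Spec (CommRingCat.of Ω) ⟶ T, ξ' ≫ g = ξ := by
  have : Nonempty (Spec (CommRingCat.of Ω)) :=
    inferInstanceAs (Nonempty (PrimeSpectrum Ω))
  obtain ⟨p⟩ := ‹Nonempty (Spec (CommRingCat.of Ω))›
  obtain ⟨t, ht⟩ := h ⟨p, rfl⟩
  exact exists_lift_of_isImmersion g ξ ⟨t, p, ht⟩

end Groth.Agent.H51.FieldPtLift
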