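import Groth.Agent.H51.SepSurj

/-!
# Cancelling finite jointly surjective families (helper51)
-/

set_option autoImplicit false
universe u
open CategoryTheory CategoryTheory.Limits AlgebraicGeometry
open AlgSp

namespace Groth.Agent.H51

variable {S : Scheme.{u}}

/-- Base change of a jointly surjective family: the canonical maps from the pullbacks of `g k ≫ q` to a pullback of `q`. -/
theorem exists_lifts_jointly_surjective {ι : Type*} {Xk : ι → Sp S} {Y B : Sp S} (g : ∀ k, Xk k ⟶ Y)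
    (q : Y ⟶ B) (hs : ∀ y : Points Y, ∃ k, y ∈ Set.range (Points.map (g k)))
    {Z Z' : Sp S} (m : Z ⟶ B) (fst : Z' ⟶ Y) (snd : Z' ⟶ Z) (sq : IsPullback fst snd q m) :
    ∃ l : ∀ k, pullback (g k ≫ q) m ⟶ Z',
      (∀ k, l k ≫ snd = pullback.snd (g k ≫ q) m) ∧
      (∀ k, IsPullback (l k) (pullback.fst (g k ≫ q) m) fst (g k)) ∧
      ∀ z : Points Z', ∃ k, z ∈ Set.range (Points.map (l k)) := by
  have sqp : ∀ k, IsPullback (pullback.fst (g k ≫ q) m) (pullback.snd (g k ≫ q) m) (g k ≫ q) m :=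
    fun k => IsPullback.of_hasPullback (g k ≫ q) m
  let l : ∀ k, pullback (g k ≫ q) m ⟶ Z' := fun k =>
    sq.lift (pullback.fst (g k ≫ q) m ≫ g k) (pullback.snd (g k ≫ q) m)
      (by rw [Category.assoc]; exact (sqp k).w)
  have sql : ∀ k, IsPullback (l k) (pullback.fst (g k ≫ q) m) fst (g k) := fun k =>
    Groth.Agent.H52.isPullback_lift_of_comp_left sq (sqp k) (l k) (sq.lift_fst _ _ _)
      (sq.lift_snd _ _ _)
  refine ⟨l, fun k => sq.lift_snd _ _ _, sql, fun z => ?_⟩
  obtain ⟨k, x, hx⟩ := hs (Points.map fst z)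
  obtain ⟨w, hw, -⟩ := Groth.Agent.H52.exists_point_of_isPullback (sql k) z x hx.symm
  exact ⟨k, w, hw⟩

/-- Cancelling a finite jointly surjective family for universally closed morphisms. -/
theorem isUnivClosedMor_of_finite_cover {ι : Type*} [Finite ι] {Xk : ι → Sp S} {Y B : Sp S}
    (g : ∀ k, Xk k ⟶ Y) (q : Y ⟶ B) (hp : ∀ k, IsUnivClosedMor (g k ≫ q))
    (hs : ∀ y : Points Y, ∃ k, y ∈ Set.range (Points.map (g k))) : IsUnivClosedMor q := by
  intro Z Z' hZ m fst snd sq
  obtain ⟨l, hl1, -, hl3⟩ := exists_lifts_jointly_surjective g q hs m fst snd sq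
  intro C hC
  have e : Points.map snd '' C =
      ⋃ k, Points.map (pullback.snd (g k ≫ q) m) '' (Points.map (l k) ⁻¹' C) := by
    ext y
    simp only [Set.mem_image, Set.mem_iUnion, Set.mem_preimage]
    constructor
    · rintro ⟨z, hz, rfl⟩
      obtain ⟨k, w, rfl⟩ := hl3 z
      exact ⟨k, w, hz, by rw [← hl1 k, Points.map_comp]⟩
    · rintro ⟨k, w, hw, rfl⟩
      exact ⟨Points.map (l k) w, hw, by rw [← hl1 k, Points.map_comp]⟩
  rw [e]
  exact isClosed_iUnion_of_finite fun k =>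
    (hp k hZ m _ _ (IsPullback.of_hasPullback (g k ≫ q) m)) _
      (hC.preimage (Points.continuous_map (l k)))

/-- Cancelling a finite jointly surjective family for quasi-compact morphisms. -/
theorem isQuasiCompactMor_of_finite_cover {ι : Type*} [Finite ι] {Xk : ι → Sp S} {Y B : Sp S}
    (hY : IsAlgSpace Y) (hB : IsAlgSpace B)
    (g : ∀ k, Xk k ⟶ Y) (q : Y ⟶ B) (hp : ∀ k, IsQuasiCompactMor (g k ≫ q))
    (hs : ∀ y : Points Y, ∃ k, y ∈ Set.range (Points.map (g k))) : IsQuasiCompactMor q := by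
  intro Z Z' hZ hZq m fst snd sq
  obtain ⟨l, -, -, hl3⟩ := exists_lifts_jointly_surjective g q hs m fst snd sq
  have hZ' : IsAlgSpace Z' := Groth.Agent.H52.isAlgSpace_of_isPullback sq hB.diag hY hZ
  exact Groth.Agent.H52.isQuasiCompactSp_of_finite_cover hZ' _ l
    (fun k => hp k hZ hZq m _ _ (IsPullback.of_hasPullback (g k ≫ q) m)) hl3

end Groth.Agent.H51
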