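import Groth.Agent.H51.FppfCov
import Groth.Agent.H51.EtCoverIso
import Groth.Prelude.Def_W4stk3sptopologiesPh

/-!
# fppf coverings of algebraic spaces are ph coverings, given the scheme case (helper51)

`main` takes the scheme-level statement (S7190: an fppf covering of schemes is a ph covering) as a hypothesis.
-/

universe u

open CategoryTheory CategoryTheory.Limits AlgebraicGeometry Opposite AlgSp

namespace Groth.Agent.H51.FppfPh

variable {S : Scheme.{u}}

/-- Transport a standard ph covering of the top open of an affine scheme to the scheme. -/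
theorem exists_standardPh_of_top {Z : Scheme.{u}} [IsAffine Z]
    (F : PreZeroHypercover.{0} ((⊤ : Z.Opens) : Scheme.{u})) (hF : HTop.IsStandardPh F) :
    HTop.IsStandardPh
      ({ I₀ := F.I₀, X := F.X, f := fun j => F.f j ≫ (⊤ : Z.Opens).ι } : PreZeroHypercover.{0} Z) := by
  obtain ⟨U, f, ι, hp, hs, ho, hc, hcov⟩ := hF.exists_proper
  have hiso : IsIso (⊤ : Z.Opens).ι := (inferInstance : IsIso Z.topIso.hom)
  refine ⟨inferInstance, hF.finite_index, hF.isAffine_obj, U, f ≫ (⊤ : Z.Opens).ι, ι, ?_, ?_, ho, ?_, hcov⟩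
  · have := hp
    infer_instance
  · have := hs
    infer_instance
  · intro j
    change ι j ≫ f ≫ _ = F.f j ≫ _
    rw [← Category.assoc, hc j]

theorem main
    (h7190 : ∀ {T : Scheme.{u}} (E : PreZeroHypercover.{u} T),
      (∀ i, Flat (E.f i)) → (∀ i, LocallyOfFinitePresentation (E.f i)) →
      (∀ t : T, ∃ (i : E.I₀) (x : E.X i), E.f i x = t) → HTop.IsPhCover E)
    (X : AlgSp.Space S) {ι : Type u}
    (Xi : ι → AlgSp.Space S) (g : ∀ i, Xi i ⟶ X)
    (h : AlgSp.IsFppfCover (fun i => (Xi i).obj) (fun i => (g i).hom)) :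
    AlgSp.IsPhCover (fun i => (Xi i).obj) (fun i => (g i).hom) := by
  refine ⟨fun i => ?_, fun Z hZ t => ?_⟩
  · exact Groth.Agent.H51.locP_mono
      (fun _ _ f (hf : LocallyOfFinitePresentation f) => (inferInstance : LocallyOfFiniteType f))
      (h.1 i).2
  · have := hZ
    obtain ⟨V, c, l, hfl, hfp, hsurj, hl⟩ := Groth.Agent.H51.exists_fppf_lifts X Xi g h Z t
    let E : PreZeroHypercover.{u} Z.left :=
      { I₀ := ι, X := fun i => (V i).left, f := fun i => (c i).left }
    have hE : HTop.IsPhCover E := h7190 E hfl hfp (fun z => by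
      obtain ⟨i, x, hx⟩ := hsurj z
      exact ⟨i, x, hx⟩)
    have hU : (⊤ : Z.left.Opens) ∈ Z.left.affineOpens := isAffineOpen_top Z.left
    obtain ⟨F, hF, href⟩ := hE.2 ⟨⊤, hU⟩
    refine ⟨{ I₀ := F.I₀, X := F.X, f := fun j => F.f j ≫ (⊤ : Z.left.Opens).ι },
      exists_standardPh_of_top F hF, fun j => ?_⟩
    obtain ⟨i, k, hk⟩ := href j
    change F.X j ⟶ (V i).left at k
    change k ≫ (c i).left = F.f j ≫ (⊤ : Z.left.Opens).ι at hk
    let kO : Over.mk ((F.f j ≫ (⊤ : Z.left.Opens).ι) ≫ Z.hom) ⟶ V i := Over.homMk k (by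
      change k ≫ (V i).hom = (F.f j ≫ (⊤ : Z.left.Opens).ι) ≫ Z.hom
      rw [← hk, Category.assoc, Over.w])
    refine ⟨i, (AlgSp.yon S).map kO ≫ l i, ?_⟩
    change ((AlgSp.yon S).map kO ≫ l i) ≫ (g i).hom = _
    have e1 : ((AlgSp.yon S).map kO ≫ l i) ≫ (g i).hom = (AlgSp.yon S).map (kO ≫ c i) ≫ t := by
      rw [Functor.map_comp]
      simp only [Category.assoc, hl i]
    rw [e1]
    congr 2
    apply Over.OverMorphism.ext
    exact hk

end Groth.Agent.H51.FppfPh
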