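import Groth.Prelude
import Groth.Agent.S9984
import Groth.Agent.S9985

/-!
# Helpers for fpqc coverings of algebraic spaces (helper51)

* `exists_fin_of_finite`: a standard fpqc covering indexed by any finite type can be reindexed by `Fin m`.
-/

universe u

open CategoryTheory CategoryTheory.Limits AlgebraicGeometry Opposite

namespace Groth.Agent.H51

variable {S : Scheme.{u}}

/-- Reindex a finite "standard fpqc covering with lifts" by `Fin m`. -/
theorem exists_fin_of_finite {ι : Type u} {X : AlgSp.Sp S} (Y : ι → AlgSp.Sp S) (g : ∀ i, Y i ⟶ X)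
    {Z : Over S} (h : (AlgSp.yon S).obj Z ⟶ X) {α : Type*} [Finite α]
    (W : α → Over S) (c : ∀ a, W a ⟶ Z) (hW : ∀ a, IsAffine (W a).left)
    (hc : ∀ a, Flat (c a).left) (hs : ∀ z : ↥Z.left, ∃ a, z ∈ Set.range (c a).left)
    (hl : ∀ a, ∃ (i : _) (l : (AlgSp.yon S).obj (W a) ⟶ Y i), l ≫ g i = (AlgSp.yon S).map (c a) ≫ h) :
    ∃ (m : ℕ) (W : Fin m → Over S) (c : ∀ j, W j ⟶ Z),
        (∀ j, IsAffine (W j).left) ∧ (∀ j, Flat (c j).left) ∧
        (∀ z : ↥Z.left, ∃ j, z ∈ Set.range (c j).left) ∧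
        ∀ j, ∃ (i : _) (l : (AlgSp.yon S).obj (W j) ⟶ Y i), l ≫ g i = (AlgSp.yon S).map (c j) ≫ h := by
  obtain ⟨m, ⟨e⟩⟩ := Finite.exists_equiv_fin α
  refine ⟨m, fun j => W (e.symm j), fun j => c (e.symm j), fun j => hW _, fun j => hc _,
    fun z => ?_, fun j => hl _⟩
  obtain ⟨a, ha⟩ := hs z
  obtain ⟨j, rfl⟩ := e.symm.surjective a
  exact ⟨j, ha⟩

end Groth.Agent.H51
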