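import Groth.Agent.H51.FpqcCov
import Groth.Agent.H52.Topology

/-!
# fpqc coverings: the lifting property may be checked on an etale chart (helper51)
-/

universe u

open CategoryTheory CategoryTheory.Limits AlgebraicGeometry Opposite

namespace Groth.Agent.H51

variable {S : Scheme.{u}}

/-- A finite family of affine opens of the source of an open surjective map to a quasi-compact scheme, whose
images cover the target. -/
theorem exists_finite_affine_cover_of_isOpenMap {T Z : Scheme.{u}} (s : T ⟶ Z) (hs : IsOpenMap s)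
    (hsurj : Function.Surjective s) [CompactSpace Z] :
    ∃ (t : Finset Z) (V : t → T.affineOpens), ∀ z : Z, ∃ k : t, z ∈ s '' ((V k : T.Opens) : Set T) := by
  have hex : ∀ z : Z, ∃ V : T.affineOpens, z ∈ s '' ((V : T.Opens) : Set T) := by
    intro z
    obtain ⟨x, rfl⟩ := hsurj z
    obtain ⟨V, hV, hxV, -⟩ :=
      TopologicalSpace.Opens.isBasis_iff_nbhd.mp T.isBasis_affineOpens
        (show x ∈ (⊤ : T.Opens) from trivial)
    exact ⟨⟨V, hV⟩, x, hxV, rfl⟩
  choose V hV using hex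
  obtain ⟨t, ht⟩ := CompactSpace.elim_nhds_subcover (fun z => s '' ((V z : T.Opens) : Set T))
    (fun z => (hs _ (V z : T.Opens).isOpen).mem_nhds (hV z))
  refine ⟨t, fun k => V k.1, fun z => ?_⟩
  have hz : z ∈ ⋃ x ∈ t, s '' ((V x : T.Opens) : Set T) := by rw [ht]; trivial
  simp only [Set.mem_iUnion] at hz
  obtain ⟨x, hx, hz⟩ := hz
  exact ⟨⟨x, hx⟩, hz⟩

/-- To check the lifting property of an fpqc covering of `X`, it suffices to check it for maps from affine
schemes which factor through a given surjective etale chart of `X`. -/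
theorem fpqc_lift_of_etale_chart {ι : Type u} {X : AlgSp.Sp S} (Y : ι → AlgSp.Sp S) (g : ∀ i, Y i ⟶ X)
    {U : Over S} (p : (AlgSp.yon S).obj U ⟶ X) (hp : AlgSp.RepWith @Etale p)
    (hps : AlgSp.RepWith @Surjective p)
    (H : ∀ (Z' : Over S), IsAffine Z'.left → ∀ (h' : (AlgSp.yon S).obj Z' ⟶ (AlgSp.yon S).obj U),
      ∃ (m : ℕ) (W : Fin m → Over S) (c : ∀ j, W j ⟶ Z'),
        (∀ j, IsAffine (W j).left) ∧ (∀ j, Flat (c j).left) ∧
        (∀ z : ↥Z'.left, ∃ j, z ∈ Set.range (c j).left) ∧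
        ∀ j, ∃ (i : _) (l : (AlgSp.yon S).obj (W j) ⟶ Y i),
          l ≫ g i = (AlgSp.yon S).map (c j) ≫ h' ≫ p)
    (Z : Over S) (hZ : IsAffine Z.left) (h : (AlgSp.yon S).obj Z ⟶ X) :
    ∃ (m : ℕ) (W : Fin m → Over S) (c : ∀ j, W j ⟶ Z),
        (∀ j, IsAffine (W j).left) ∧ (∀ j, Flat (c j).left) ∧
        (∀ z : ↥Z.left, ∃ j, z ∈ Set.range (c j).left) ∧
        ∀ j, ∃ (i : _) (l : (AlgSp.yon S).obj (W j) ⟶ Y i), l ≫ g i = (AlgSp.yon S).map (c j) ≫ h := by
  have sq := hp.rep.isPullback' h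
  have he : Etale (hp.rep.snd h).left := hp.property_snd h
  have hsj : Surjective (hp.rep.snd h).left := hps.property_snd h
  obtain ⟨t, V, hV⟩ := exists_finite_affine_cover_of_isOpenMap (hp.rep.snd h).left
    (hp.rep.snd h).left.isOpenMap (hp.rep.snd h).left.surjective
  -- the affine opens as objects over `S`
  let T : Over S := hp.rep.pullback h
  let Tk : t → Over S := fun k => Over.mk ((V k : T.left.Opens).ι ≫ T.hom)
  let ιk : ∀ k, Tk k ⟶ T := fun k => Over.homMk (V k : T.left.Opens).ι rfl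
  have hTk : ∀ k, IsAffine (Tk k).left := fun k => (V k).2
  have := fun k => H (Tk k) (hTk k) ((AlgSp.yon S).map (ιk k ≫ hp.rep.fst' h))
  choose m W c hW hc hs hl using this
  refine exists_fin_of_finite (α := Σ k : t, Fin (m k)) Y g h
    (fun a => W a.1 a.2) (fun a => c a.1 a.2 ≫ ιk a.1 ≫ hp.rep.snd h) (fun a => hW _ _)
    (fun a => ?_) (fun z => ?_) (fun a => ?_)
  · rw [Over.comp_left, Over.comp_left]
    have h1 : Flat (ιk a.1).left := by
      change Flat (V a.1 : T.left.Opens).ι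
      infer_instance
    have h2 : Flat (hp.rep.snd h).left := inferInstance
    exact MorphismProperty.comp_mem _ _ _ (hc _ _) (MorphismProperty.comp_mem _ _ _ h1 h2)
  · obtain ⟨k, x, hx, rfl⟩ := hV z
    obtain ⟨j, w, hw⟩ := hs k ⟨x, hx⟩
    refine ⟨⟨k, j⟩, w, ?_⟩
    rw [Over.comp_left, Over.comp_left]
    simp only [Scheme.Hom.comp_apply]
    rw [hw]
    rfl
  · obtain ⟨i, l, hl'⟩ := hl a.1 a.2
    refine ⟨i, l, ?_⟩
    rw [hl', Functor.map_comp, Category.assoc, sq.w]
    simp only [Functor.map_comp, Category.assoc]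

end Groth.Agent.H51
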