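import Mathlib.AlgebraicGeometry.Sites.Fpqc

/-!
# Finite affine refinements of fpqc covering families of an affine scheme (helper51)
-/

set_option autoImplicit false
universe u
open CategoryTheory CategoryTheory.Limits AlgebraicGeometry Opposite

namespace Groth.Agent.H51.FpqcFinite

/-- A finite jointly surjective family of flat morphisms from affine schemes to an affine scheme is an fpqc
covering family. -/
theorem mem_fpqc_of_finite_affine {S : Scheme.{u}} [IsAffine S] {m : ℕ} (W : Fin m → Scheme.{u})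
    [∀ k, IsAffine (W k)] (a : ∀ k, W k ⟶ S) [∀ k, Flat (a k)]
    (hs : ∀ s : S, ∃ k, s ∈ Set.range (a k)) :
    Presieve.ofArrows W a ∈ Scheme.fpqcPrecoverage S := by
  let 𝒲 : S.Cover (Scheme.precoverage @Flat) :=
    { I₀ := Fin m
      X := W
      f := a
      mem₀ := by
        rw [Scheme.presieve₀_mem_precoverage_iff]
        exact ⟨hs, fun k => inferInstance⟩ }
  have hfin : Finite 𝒲.I₀ := inferInstanceAs (Finite (Fin m))
  have hqc : ∀ i, QuasiCompact (𝒲.f i) := fun i => by
    change QuasiCompact (a i)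
    infer_instance
  have h1 : QuasiCompactCover 𝒲.toPreZeroHypercover := QuasiCompactCover.of_finite
  refine ⟨?_, 𝒲.mem₀⟩
  exact (Scheme.presieve₀_mem_qcPrecoverage_iff (E := 𝒲.toPreZeroHypercover)).2 h1

/-- An fpqc covering family of an affine scheme is refined by a finite family of affine opens of its members
which is again an fpqc covering family. -/
theorem exists_finite_affine_refinement {S : Scheme.{u}} [IsAffine S] {ι : Type u}
    {U : ι → Scheme.{u}} (u : ∀ i, U i ⟶ S)
    (hu : Presieve.ofArrows U u ∈ Scheme.fpqcPrecoverage S) :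
    ∃ (m : ℕ) (α : Fin m → ι) (V : ∀ k, (U (α k)).Opens), (∀ k, IsAffineOpen (V k)) ∧
      (∀ k, Flat ((V k).ι ≫ u (α k))) ∧ (∀ s : S, ∃ k, s ∈ Set.range ((V k).ι ≫ u (α k))) ∧
      Presieve.ofArrows (fun k => ((V k : (U (α k)).Opens) : Scheme.{u}))
        (fun k => (V k).ι ≫ u (α k)) ∈ Scheme.fpqcPrecoverage S := by
  let E₀ : PreZeroHypercover.{u} S := { I₀ := ι, X := U, f := u }
  have hqc : QuasiCompactCover E₀ := (Scheme.presieve₀_mem_qcPrecoverage_iff (E := E₀)).1 hu.1
  have hfl : ∀ i, Flat (u i) :=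
    ((Scheme.presieve₀_mem_precoverage_iff (E := E₀) (P := @Flat)).1 hu.2).2
  obtain ⟨m, α, V, hV, hcov⟩ := QuasiCompactCover.exists_isAffineOpen_of_isCompact E₀
    (U := ⊤) isCompact_univ
  have hfl' : ∀ k, Flat ((V k).ι ≫ u (α k)) := fun k => by
    have := hfl (α k)
    infer_instance
  have hs : ∀ s : S, ∃ k, s ∈ Set.range ((V k).ι ≫ u (α k)) := by
    intro s
    have hs' : s ∈ ⋃ i, E₀.f (α i) '' (V i : Set (U (α i))) := by
      rw [hcov]
      trivial
    obtain ⟨k, x, hx, rfl⟩ := Set.mem_iUnion.1 hs'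
    exact ⟨k, ⟨x, hx⟩, by rw [Scheme.Hom.comp_apply]; rfl⟩
  refine ⟨m, α, V, hV, hfl', hs, ?_⟩
  have : ∀ k, IsAffine ((V k : (U (α k)).Opens) : Scheme.{u}) := hV
  exact mem_fpqc_of_finite_affine _ _ hs

end Groth.Agent.H51.FpqcFinite
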