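import Groth.Agent.H51.FpqcDesc
import Groth.Agent.H52.FibProd
import Groth.Agent.H52.LocPBC
import Groth.Agent.H52.LocPOps
import Groth.Agent.H52.EtLocalInst

/-!
# `AlgSp.LocP P` is fpqc local on the base (helper51)

For `P` etale local on the source-and-target (`H52.EtLocal`), Zariski local on the target and descending along fpqc
morphisms of schemes, `AlgSp.LocP P` is local on the base for fpqc coverings of algebraic spaces.
-/

universe u

open CategoryTheory CategoryTheory.Limits AlgebraicGeometry Opposite AlgSp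

namespace Groth.Agent.H51

variable {S : Scheme.{u}}

/-- Two pullbacks of the same cospan: transfer of a property of the second projection. -/
theorem P_snd_of_isPullback_of_isPullback {C : Type*} [Category C] (P : MorphismProperty C) [P.RespectsIso]
    {A A' X Y Z : C} {f : X ⟶ Z} {g : Y ⟶ Z} {fst : A ⟶ X} {snd : A ⟶ Y} {fst' : A' ⟶ X} {snd' : A' ⟶ Y}
    (sq : IsPullback fst snd f g) (sq' : IsPullback fst' snd' f g) (h : P snd) : P snd' := by
  have hiso : snd' = (sq'.isoIsPullback _ _ sq).hom ≫ snd := (IsPullback.isoIsPullback_hom_snd _ _ sq' sq).symm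
  rw [hiso]
  exact (P.cancel_left_of_respectsIso _ snd).mpr h

/-- A chart of a base change: given a base change `Qi ⟶ h_W` of `qsnd : Q' ⟶ h_Z` along `c : W ⟶ Z`, an etale chart
`a : h_U ⟶ Q'` with `a ≫ qsnd = h_k`, and a fibre product `T = U ×_Z W` of schemes, `LocP P` of the base change gives `P` of
`T ⟶ W`. -/
theorem P_of_locP_baseChange_chart {P : MorphismProperty Scheme.{u}} {Q' Qi : Sp S} {Z W U T : Over S}
    {qsnd : Q' ⟶ (yon S).obj Z} {c : W ⟶ Z} {li : Qi ⟶ Q'} {si : Qi ⟶ (yon S).obj W}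
    (sq : IsPullback li si qsnd ((yon S).map c)) {a : (yon S).obj U ⟶ Q'} (ha : RepWith @Etale a)
    {k : U ⟶ Z} (hk : a ≫ qsnd = (yon S).map k) {fst' : T ⟶ U} {snd' : T ⟶ W}
    (sqT : IsPullback ((yon S).map fst') ((yon S).map snd') ((yon S).map k) ((yon S).map c))
    (h : LocP P si) : P snd'.left := by
  have hw : ((yon S).map fst' ≫ a) ≫ qsnd = (yon S).map snd' ≫ (yon S).map c := by
    rw [Category.assoc, hk]; exact sqT.w
  have top : IsPullback ((yon S).map fst') (sq.lift _ _ hw) a li := by
    refine IsPullback.of_bot ?_ (sq.lift_fst _ _ hw).symm sq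
    rw [sq.lift_snd, hk]
    exact sqT
  have := AlgSp.repWith_isStableUnderBaseChange (S := S) @Etale
  have := AlgSp.repWith_isMultiplicative (S := S) @Etale
  have ha' : RepWith @Etale (sq.lift _ _ hw) := MorphismProperty.of_isPullback top ha
  have hid : RepWith @Etale (𝟙 ((yon S).obj W)) := (RepWith @Etale).id_mem _
  exact h (sq.lift _ _ hw) (𝟙 _) snd' ha' hid (by rw [sq.lift_snd, Category.comp_id])

/-- `LocP P` descends along standard fpqc coverings of an affine base. -/
theorem locP_of_fpqc_family {P : MorphismProperty Scheme.{u}} (hP : Groth.Agent.H52.EtLocal P)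
    [IsZariskiLocalAtTarget P] [P.DescendsAlong (@Surjective ⊓ @Flat ⊓ @QuasiCompact)]
    {Q' : Sp S} (hQ' : IsAlgSpace Q') {Z : Over S} (qsnd : Q' ⟶ (yon S).obj Z) (hZ : IsAffine Z.left)
    (m : ℕ) (W : Fin m → Over S) (c : ∀ j, W j ⟶ Z) (hW : ∀ j, IsAffine (W j).left)
    (hflat : ∀ j, Flat (c j).left) (hsurj : ∀ z : ↥Z.left, ∃ j, z ∈ Set.range (c j).left)
    (H : ∀ j, ∃ (Qi : Sp S) (li : Qi ⟶ Q') (si : Qi ⟶ (yon S).obj (W j)),
      IsPullback li si qsnd ((yon S).map (c j)) ∧ LocP P si) : LocP P qsnd := by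
  obtain ⟨U, a, hae, has⟩ := hQ'.atlas
  obtain ⟨k, hk⟩ := (yon S).map_surjective (a ≫ qsnd)
  have := AlgSp.repWith_isMultiplicative (S := S) @Etale
  have hid : RepWith @Etale (𝟙 ((yon S).obj Z)) := (RepWith @Etale).id_mem _
  refine Groth.Agent.H52.locP_of_one_chart hP qsnd a (𝟙 _) k hae has hid
    (by rw [hk, Category.comp_id]) ?_
  have := hZ
  have := hW
  have := hflat
  refine descend_of_flat_family P k.left (fun j => (W j).left) (fun j => (c j).left)
    (fun z => by obtain ⟨j, w, hw⟩ := hsurj z; exact ⟨j, w, hw⟩) (fun j => ?_)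
  obtain ⟨Qi, li, si, sq, hsi⟩ := H j
  refine ⟨(pullback k (c j)).left, (pullback.fst k (c j)).left, (pullback.snd k (c j)).left,
    (IsPullback.of_hasPullback k (c j)).map (Over.forget S), ?_⟩
  exact P_of_locP_baseChange_chart sq hae hk.symm ((IsPullback.of_hasPullback k (c j)).map (yon S)) hsi

/-- `LocP P` can be tested on base changes to affine schemes. -/
theorem locP_of_affine_baseChange {P : MorphismProperty Scheme.{u}} (hP : Groth.Agent.H52.EtLocal P)
    [IsZariskiLocalAtTarget P] {X Y : Sp S} (hX : IsAlgSpace X) (hY : IsAlgSpace Y) (f : X ⟶ Y)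
    (H : ∀ (T : Over S), IsAffine T.left → ∀ (c : (yon S).obj T ⟶ Y) (Q' : Sp S) (qfst : Q' ⟶ X)
      (qsnd : Q' ⟶ (yon S).obj T), IsPullback qfst qsnd f c → LocP P qsnd) : LocP P f := by
  obtain ⟨V, pV, hpe, hps⟩ := hY.atlas
  have hV : IsAlgSpace ((yon S).obj V) := ((AlgSp.ofScheme S).obj V).property
  have sqV := IsPullback.of_hasPullback f pV
  have hPV : IsAlgSpace (pullback f pV) :=
    Groth.Agent.H52.isAlgSpace_of_isPullback sqV hY.diag hX hV
  obtain ⟨U, a, hae, has⟩ := hPV.atlas
  obtain ⟨k, hk⟩ := (yon S).map_surjective (a ≫ pullback.snd f pV)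
  have := AlgSp.repWith_isStableUnderBaseChange (S := S) @Etale
  have := AlgSp.repWith_isMultiplicative (S := S) @Etale
  have := AlgSp.repWith_isStableUnderBaseChange (S := S) @Surjective
  have := AlgSp.repWith_isMultiplicative (S := S) @Surjective
  have hfe : RepWith @Etale (pullback.fst f pV) := MorphismProperty.of_isPullback sqV.flip hpe
  have hfs : RepWith @Surjective (pullback.fst f pV) := MorphismProperty.of_isPullback sqV.flip hps
  refine Groth.Agent.H52.locP_of_one_chart hP f (a ≫ pullback.fst f pV) pV k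
    ((RepWith @Etale).comp_mem _ _ hae hfe) ((RepWith @Surjective).comp_mem _ _ has hfs) hpe
    (by rw [Category.assoc, sqV.w, ← Category.assoc, hk]) ?_
  rw [IsZariskiLocalAtTarget.iff_of_openCover (P := P) V.left.affineCover]
  intro i
  let T : Over S := Over.mk (V.left.affineCover.f i ≫ V.hom)
  let ι : T ⟶ V := Over.homMk (V.left.affineCover.f i) rfl
  have hT : IsAffine T.left := by
    change IsAffine (V.left.affineCover.X i)
    infer_instance
  have sq1 := IsPullback.of_hasPullback (pullback.snd f pV) ((yon S).map ι)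
  have big : IsPullback (pullback.fst (pullback.snd f pV) ((yon S).map ι) ≫ pullback.fst f pV)
      (pullback.snd (pullback.snd f pV) ((yon S).map ι)) f ((yon S).map ι ≫ pV) :=
    sq1.paste_horiz sqV
  have h1 : LocP P (pullback.snd (pullback.snd f pV) ((yon S).map ι)) := H T hT _ _ _ _ big
  have h2 : P (pullback.snd k ι).left :=
    P_of_locP_baseChange_chart sq1 hae hk.symm ((IsPullback.of_hasPullback k ι).map (yon S)) h1
  have := hP.bc
  exact P_snd_of_isPullback_of_isPullback P ((IsPullback.of_hasPullback k ι).map (Over.forget S))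
    (IsPullback.of_hasPullback k.left (V.left.affineCover.f i)) h2

/-- `LocP P` is fpqc local on the base. -/
theorem isLocalOnBase_fpqc_locP {P : MorphismProperty Scheme.{u}} (hP : Groth.Agent.H52.EtLocal P)
    [IsZariskiLocalAtTarget P] [P.DescendsAlong (@Surjective ⊓ @Flat ⊓ @QuasiCompact)] :
    IsLocalOnBase (IsFpqcCover (S := S)) (LocP P) := by
  intro ι Y Yi g hY hYi hcov X f hX Xi p q hXi sq
  constructor
  · intro hf i
    exact Groth.Agent.H52.locP_baseChange hP hX hY (hYi i) (sq i) hf
  · intro hp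
    refine locP_of_affine_baseChange hP hX hY f (fun Z hZ h Pz a b sqP => ?_)
    have hPz : IsAlgSpace Pz :=
      Groth.Agent.H52.isAlgSpace_of_isPullback sqP hY.diag hX ((AlgSp.ofScheme S).obj Z).property
    obtain ⟨m, W, c, hW, hflat, hsurj, hlift⟩ := hcov.2 Z hZ h
    refine locP_of_fpqc_family hP hPz b hZ m W c hW hflat hsurj (fun j => ?_)
    obtain ⟨i, l, hl⟩ := hlift j
    obtain ⟨Qi, li, ki, si, sq1, sq2⟩ :=
      Groth.Agent.H52.exists_baseChange_of_lift (sq i) sqP (c j) l hl.symm
    exact ⟨Qi, li, si, sq1, Groth.Agent.H52.locP_baseChange hP (hXi i) (hYi i)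
      ((AlgSp.ofScheme S).obj (W j)).property sq2 (hp i)⟩

end Groth.Agent.H51
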