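import Groth.Agent.H50.QcChart
import Groth.Agent.H50.SigmaChart
import Groth.Agent.H50.Kernel
import Groth.Agent.H51.ZarGlue
import Mathlib.AlgebraicGeometry.ResidueField
import Mathlib.AlgebraicGeometry.Morphisms.Flat

/-!
# A free action of a group on a scheme gives an etale equivalence relation (helper51)
-/

set_option autoImplicit false
universe u
open CategoryTheory CategoryTheory.Limits AlgebraicGeometry Opposite AlgSp

namespace Groth.Agent.H51.FreeAct

open Groth.Agent.H50

variable {S : Scheme.{u}}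

/-- the coproduct of schemes over `S` is a coproduct. -/
noncomputable def isColimitSigmaOver {ι : Type u} (T : ι → Over S) :
    IsColimit (Cofan.mk (sigmaOver T) (sigmaOverι T)) :=
  Cofan.IsColimit.mk _ (fun c => sigmaOverDesc (fun k => c.inj k))
    (fun c k => sigmaOverι_desc _ k)
    (fun c m hm => by
      apply Over.OverMorphism.ext
      apply Sigma.hom_ext
      intro k
      have h1 := congr_arg CommaMorphism.left (hm k)
      have h2 := congr_arg CommaMorphism.left (sigmaOverι_desc (fun k => c.inj k) k)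
      exact h1.trans h2.symm)

variable {U : Over S} {G : Type u} [Group G] (ρ : G →* Aut U)

theorem rho_mul (g h : G) : (ρ (g * h)).hom = (ρ h).hom ≫ (ρ g).hom := by
  rw [map_mul]; rfl

theorem rho_one : (ρ 1).hom = 𝟙 U := by
  rw [map_one]; rfl

theorem rho_inv_comp (g : G) : (ρ g).hom ≫ (ρ g⁻¹).hom = 𝟙 U := by
  rw [← rho_mul, inv_mul_cancel, rho_one]

variable (hfree : ∀ (g : G) (x : U.left), g ≠ 1 →
  U.left.fromSpecResidueField x ≫ (ρ g).hom.left ≠ U.left.fromSpecResidueField x)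

include hfree in
/-- a scheme mapping to `U` and fixed by a non-identity element is empty. -/
theorem isEmpty_of_fixed {W : Over S} (b : W ⟶ U) (h : G) (hh : h ≠ 1)
    (hb : b ≫ (ρ h).hom = b) : IsEmpty ↥W.left := by
  refine ⟨fun w => ?_⟩
  apply hfree h (b.left w) hh
  have e1 := Scheme.Hom.SpecMap_residueFieldMap_fromSpecResidueField b.left w
  have hfl : Flat (Spec.map (b.left.residueFieldMap w)) := by
    rw [HasRingHomProperty.Spec_iff (P := @Flat)]
    algebraize [(b.left.residueFieldMap w).hom]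
    exact (inferInstance : Module.Flat (U.left.residueField (b.left w)) (W.left.residueField w))
  have hsu : Surjective (Spec.map (b.left.residueFieldMap w)) := by
    refine ⟨fun y => ?_⟩
    obtain ⟨z⟩ : Nonempty ↥(Spec (W.left.residueField w)) := inferInstance
    exact ⟨z, Subsingleton.elim _ _⟩
  have : Epi (Spec.map (b.left.residueFieldMap w)) := Flat.epi_of_flat_of_surjective _
  rw [← cancel_epi (Spec.map (b.left.residueFieldMap w)), ← Category.assoc, e1, Category.assoc]
  have h2 : b.left ≫ (ρ h).hom.left = b.left := congr_arg CommaMorphism.left hb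
  rw [h2]

/-- the source and target maps on the coproduct. -/
noncomputable abbrev s₀ : sigmaOver (fun _ : G => U) ⟶ U := sigmaOverDesc (fun _ => 𝟙 U)
noncomputable abbrev t₀ : sigmaOver (fun _ : G => U) ⟶ U := sigmaOverDesc (fun g => (ρ g).hom)

/-- the local form of the relation. -/
def LocRel {T : Over S} (a b : T ⟶ U) : Prop :=
  ∃ Sg ∈ J S T, ∀ ⦃T' : Over S⦄ (f : T' ⟶ T), Sg f → ∃ g : G, f ≫ a = f ≫ b ≫ (ρ g).hom

theorem locRel_of_exists {T : Over S} (a b : T ⟶ U)
    (h : ∃ r : T ⟶ sigmaOver (fun _ : G => U), r ≫ t₀ ρ = a ∧ r ≫ s₀ (G := G) = b) :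
    LocRel ρ a b := by
  obtain ⟨r, rfl, rfl⟩ := h
  obtain ⟨Sg, hSg, hl⟩ := exists_sieve_sigmaOver (fun _ : G => U) r
  refine ⟨Sg, hSg, fun T' f hf => ?_⟩
  obtain ⟨g, β, hβ⟩ := hl f hf
  refine ⟨g, ?_⟩
  have h1 : f ≫ r ≫ s₀ (G := G) = β := by
    rw [← Category.assoc, ← hβ, Category.assoc, sigmaOverι_desc, Category.comp_id]
  have h2 : f ≫ r ≫ t₀ ρ = β ≫ (ρ g).hom := by
    rw [← Category.assoc, ← hβ, Category.assoc, sigmaOverι_desc]
  rw [h2, ← Category.assoc, ← Category.assoc, Category.assoc f, h1]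

include hfree in
theorem exists_of_locRel {T : Over S} (a b : T ⟶ U) (h : LocRel ρ a b) :
    ∃ r : T ⟶ sigmaOver (fun _ : G => U), r ≫ t₀ ρ = a ∧ r ≫ s₀ (G := G) = b := by
  classical
  obtain ⟨Sg, hSg, hl⟩ := h
  let κ := Σ (T' : Over S), {f : T' ⟶ T // Sg f}
  let Y : κ → Over S := fun k => k.1
  let c : ∀ k : κ, Y k ⟶ T := fun k => k.2.1
  have hc : Sieve.generate (Presieve.ofArrows Y c) ∈ J S T := by
    refine (J S).superset_covering ?_ hSg
    intro T' f hf
    exact ⟨T', 𝟙 _, f, Presieve.ofArrows.mk (⟨T', f, hf⟩ : κ), Category.id_comp _⟩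
  choose gg hgg using fun k : κ => hl k.2.1 k.2.2
  have compat : ∀ (i j : κ) (Z : Over S) (x : Z ⟶ Y i) (y : Z ⟶ Y j), x ≫ c i = y ≫ c j →
      (yon S).map x ≫ (yon S).map (c i ≫ b ≫ sigmaOverι (fun _ : G => U) (gg i)) =
        (yon S).map y ≫ (yon S).map (c j ≫ b ≫ sigmaOverι (fun _ : G => U) (gg j)) := by
    intro i j Z x y hxy
    by_cases hij : gg i = gg j
    · rw [← Functor.map_comp, ← Functor.map_comp, ← Category.assoc, hxy, hij, Category.assoc]
    · have h1 : (x ≫ c i) ≫ a = (x ≫ c i) ≫ b ≫ (ρ (gg i)).hom := by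
        rw [Category.assoc, hgg i, Category.assoc]
      have h2 : (x ≫ c i) ≫ a = (x ≫ c i) ≫ b ≫ (ρ (gg j)).hom := by
        rw [hxy, Category.assoc, hgg j, Category.assoc]
      have h3 : ((x ≫ c i) ≫ b) ≫ (ρ ((gg j)⁻¹ * gg i)).hom = (x ≫ c i) ≫ b := by
        rw [rho_mul, ← Category.assoc, Category.assoc (x ≫ c i), ← h1, h2]
        simp only [Category.assoc, rho_inv_comp, Category.comp_id]
      have hne : (gg j)⁻¹ * gg i ≠ 1 := by
        intro h
        apply hij
        have := congr_arg (fun z => gg j * z) h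
        simpa using this
      have := isEmpty_of_fixed ρ hfree ((x ≫ c i) ≫ b) _ hne h3
      exact hom_ext_of_isEmpty _ _
  obtain ⟨w₀, hw₀⟩ := ZarGlue.exists_glue Y c hc
    (fun k => (yon S).map (c k ≫ b ≫ sigmaOverι (fun _ : G => U) (gg k))) compat
  obtain ⟨r, hr⟩ := (yon S).map_surjective w₀
  refine ⟨r, ?_, ?_⟩
  · apply (yon S).map_injective
    refine hom_ext_of_local _ _ hSg (fun T' f hf => ?_)
    have := hw₀ ⟨T', f, hf⟩
    rw [Functor.map_comp, ← Category.assoc, hr, this, ← Functor.map_comp, ← Functor.map_comp]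
    congr 1
    rw [Category.assoc, Category.assoc, sigmaOverι_desc]
    exact (hgg ⟨T', f, hf⟩).symm
  · apply (yon S).map_injective
    refine hom_ext_of_local _ _ hSg (fun T' f hf => ?_)
    have := hw₀ ⟨T', f, hf⟩
    rw [Functor.map_comp, ← Category.assoc, hr, this, ← Functor.map_comp, ← Functor.map_comp]
    congr 1
    rw [Category.assoc, Category.assoc, sigmaOverι_desc, Category.comp_id]

theorem locRel_refl {T : Over S} (a : T ⟶ U) : LocRel ρ a a :=
  ⟨⊤, (J S).top_mem T, fun T' f _ => ⟨1, by rw [rho_one, Category.comp_id]⟩⟩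

theorem locRel_symm {T : Over S} {a b : T ⟶ U} (h : LocRel ρ a b) : LocRel ρ b a := by
  obtain ⟨Sg, hSg, hl⟩ := h
  refine ⟨Sg, hSg, fun T' f hf => ?_⟩
  obtain ⟨g, hg⟩ := hl f hf
  refine ⟨g⁻¹, ?_⟩
  rw [← Category.assoc, hg, Category.assoc, Category.assoc, rho_inv_comp, Category.comp_id]

theorem locRel_trans {T : Over S} {a b c : T ⟶ U} (h1 : LocRel ρ a b) (h2 : LocRel ρ b c) :
    LocRel ρ a c := by
  obtain ⟨Sg1, hSg1, hl1⟩ := h1
  obtain ⟨Sg2, hSg2, hl2⟩ := h2
  refine ⟨Sg1 ⊓ Sg2, (J S).intersection_covering hSg1 hSg2, fun T' f hf => ?_⟩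
  obtain ⟨g1, hg1⟩ := hl1 f hf.1
  obtain ⟨g2, hg2⟩ := hl2 f hf.2
  refine ⟨g1 * g2, ?_⟩
  rw [hg1, ← Category.assoc, hg2, rho_mul, Category.assoc, Category.assoc]

include hfree in
/-- the sigma version. -/
theorem isEtaleEqvRel_sigma : AlgSp.IsEtaleEqvRel (s₀ (U := U) (G := G)) (t₀ ρ) := by
  refine ⟨⟨?_, ?_⟩, ?_, ?_⟩
  · intro T r r' h1 h2
    obtain ⟨Sg, hSg, hl⟩ := exists_sieve_sigmaOver (fun _ : G => U) r
    obtain ⟨Sg', hSg', hl'⟩ := exists_sieve_sigmaOver (fun _ : G => U) r'
    apply (yon S).map_injective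
    refine hom_ext_of_local _ _ ((J S).intersection_covering hSg hSg') (fun T' f hf => ?_)
    obtain ⟨g, β, hβ⟩ := hl f hf.1
    obtain ⟨g', β', hβ'⟩ := hl' f hf.2
    have e1 : f ≫ r ≫ s₀ (G := G) = β := by
      rw [← Category.assoc, ← hβ, Category.assoc, sigmaOverι_desc, Category.comp_id]
    have e1' : f ≫ r' ≫ s₀ (G := G) = β' := by
      rw [← Category.assoc, ← hβ', Category.assoc, sigmaOverι_desc, Category.comp_id]
    have e2 : f ≫ r ≫ t₀ ρ = β ≫ (ρ g).hom := by
      rw [← Category.assoc, ← hβ, Category.assoc, sigmaOverι_desc]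
    have e2' : f ≫ r' ≫ t₀ ρ = β' ≫ (ρ g').hom := by
      rw [← Category.assoc, ← hβ', Category.assoc, sigmaOverι_desc]
    have hββ : β = β' := by rw [← e1, ← e1', h2]
    subst hββ
    by_cases hgg : g = g'
    · subst hgg
      rw [← Functor.map_comp, ← Functor.map_comp, ← hβ, ← hβ']
    · have h3 : β ≫ (ρ (g'⁻¹ * g)).hom = β := by
        rw [rho_mul, ← Category.assoc, ← e2, h1, e2', Category.assoc, rho_inv_comp,
          Category.comp_id]
      have hne : g'⁻¹ * g ≠ 1 := by
        intro h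
        apply hgg
        have := congr_arg (fun z => g' * z) h
        simpa using this
      have := isEmpty_of_fixed ρ hfree β _ hne h3
      exact hom_ext_of_isEmpty _ _
  · intro T
    have key : ∀ a b : T ⟶ U,
        (∃ r : T ⟶ sigmaOver (fun _ : G => U), r ≫ t₀ ρ = a ∧ r ≫ s₀ (G := G) = b) ↔
          LocRel ρ a b :=
      fun a b => ⟨locRel_of_exists ρ a b, exists_of_locRel ρ hfree a b⟩
    refine ⟨fun a => (key a a).2 (locRel_refl ρ a),
      fun {a b} hab => (key b a).2 (locRel_symm ρ ((key a b).1 hab)),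
      fun {a b c} hab hbc => (key a c).2 (locRel_trans ρ ((key a b).1 hab) ((key b c).1 hbc))⟩
  · exact etale_sigmaOverDesc _ (fun _ => by
      show Etale (𝟙 U : U ⟶ U).left
      rw [Over.id_left]; infer_instance)
  · exact etale_sigmaOverDesc _ (fun g => by
      have : IsIso (ρ g).hom.left := inferInstanceAs (IsIso ((Over.forget S).map (ρ g).hom))
      infer_instance)

include hfree in
/-- the general version, for any coproduct cofan. -/
theorem isEtaleEqvRel (c : Cofan (fun _ : G => U)) (hc : IsColimit c) (s t : c.pt ⟶ U)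
    (hs : ∀ g, c.inj g ≫ s = 𝟙 U) (ht : ∀ g, c.inj g ≫ t = (ρ g).hom) :
    AlgSp.IsEtaleEqvRel s t := by
  let e : c.pt ≅ sigmaOver (fun _ : G => U) :=
    hc.coconePointUniqueUpToIso (isColimitSigmaOver (fun _ : G => U))
  have he : ∀ g, c.inj g ≫ e.hom = sigmaOverι (fun _ : G => U) g := fun g =>
    hc.comp_coconePointUniqueUpToIso_hom (isColimitSigmaOver (fun _ : G => U)) ⟨g⟩
  have hs' : s = e.hom ≫ s₀ (G := G) := by
    refine Cofan.IsColimit.hom_ext hc _ _ (fun g => ?_)
    rw [hs, ← Category.assoc, he, sigmaOverι_desc]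
  have ht' : t = e.hom ≫ t₀ ρ := by
    refine Cofan.IsColimit.hom_ext hc _ _ (fun g => ?_)
    rw [ht, ← Category.assoc, he, sigmaOverι_desc]
  have H := isEtaleEqvRel_sigma ρ hfree
  subst hs' ht'
  refine ⟨⟨?_, ?_⟩, ?_, ?_⟩
  · intro T r r' h1 h2
    rw [← cancel_mono e.hom]
    apply H.injective T
    · simpa using h1
    · simpa using h2
  · intro T
    have h0 := H.equivalence T
    have key : ∀ a b : T ⟶ U,
        (∃ r : T ⟶ c.pt, r ≫ e.hom ≫ t₀ ρ = a ∧ r ≫ e.hom ≫ s₀ (G := G) = b) ↔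
        (∃ r : T ⟶ sigmaOver (fun _ : G => U), r ≫ t₀ ρ = a ∧ r ≫ s₀ (G := G) = b) := by
      intro a b
      constructor
      · rintro ⟨r, h1, h2⟩
        exact ⟨r ≫ e.hom, by simpa using h1, by simpa using h2⟩
      · rintro ⟨r, h1, h2⟩
        exact ⟨r ≫ e.inv, by simpa using h1, by simpa using h2⟩
    refine ⟨fun a => (key a a).2 (h0.refl a), fun {a b} hab => (key b a).2 (h0.symm ((key a b).1 hab)),
      fun {a b c} hab hbc => (key a c).2 (h0.trans ((key a b).1 hab) ((key b c).1 hbc))⟩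
  · have : IsIso e.hom.left := inferInstanceAs (IsIso ((Over.forget S).map e.hom))
    have := H.etale_left
    rw [Over.comp_left]
    infer_instance
  · have : IsIso e.hom.left := inferInstanceAs (IsIso ((Over.forget S).map e.hom))
    have := H.etale_right
    rw [Over.comp_left]
    infer_instance

end Groth.Agent.H51.FreeAct
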