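import Groth.Agent.H50.QcChart
import Mathlib.AlgebraicGeometry.ValuativeCriterion
import Mathlib.AlgebraicGeometry.ZariskisMainTheorem

/-!
# Morphisms out of finite coproducts of schemes: quasi-compactness and closed immersions (helper51)
-/

set_option autoImplicit false
universe u
open CategoryTheory CategoryTheory.Limits AlgebraicGeometry Opposite

namespace Groth.Agent.H51.SigmaMor

variable {ι : Type u} (W : ι → Scheme.{u}) {V : Scheme.{u}} (d : ∀ i, W i ⟶ V)

theorem exists_eq_sigmaι (x : ↥(∐ W)) : ∃ (i : ι) (y : ↥(W i)), Sigma.ι W i y = x :=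
  (sigmaOpenCover W).exists_eq x

theorem sigmaDesc_apply (i : ι) (y : ↥(W i)) : Sigma.desc d (Sigma.ι W i y) = d i y := by
  rw [← Scheme.Hom.comp_apply, Sigma.ι_desc]

/-- A morphism out of a finite coproduct with quasi-compact components is quasi-compact. -/
theorem quasiCompact_sigmaDesc [Finite ι] (hd : ∀ i, QuasiCompact (d i)) :
    QuasiCompact (Sigma.desc d) := by
  constructor
  intro O hO hOc
  have hEq : (Sigma.desc d) ⁻¹' O = ⋃ i, Sigma.ι W i '' ((d i) ⁻¹' O) := by
    ext x
    simp only [Set.mem_preimage, Set.mem_iUnion, Set.mem_image]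
    constructor
    · intro hx
      obtain ⟨i, y, rfl⟩ := exists_eq_sigmaι W x
      rw [sigmaDesc_apply] at hx
      exact ⟨i, y, hx, rfl⟩
    · rintro ⟨i, y, hy, rfl⟩
      rw [sigmaDesc_apply]
      exact hy
  rw [hEq]
  refine isCompact_iUnion (fun i => ?_)
  exact ((hd i).isCompact_preimage O hO hOc).image (Sigma.ι W i).continuous

/-- A monomorphism out of a finite coproduct whose components are closed immersions is a closed immersion. -/
theorem isClosedImmersion_sigmaDesc [Finite ι] (hd : ∀ i, IsClosedImmersion (d i))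
    [Mono (Sigma.desc d)] : IsClosedImmersion (Sigma.desc d) := by
  have hqc : QuasiCompact (Sigma.desc d) := quasiCompact_sigmaDesc W d (fun i => inferInstance)
  have hlft : LocallyOfFiniteType (Sigma.desc d) :=
    Groth.Agent.H50.sigmaDesc_of_isZariskiLocalAtSource @LocallyOfFiniteType W d
      (fun i => inferInstance)
  have huc : UniversallyClosed (Sigma.desc d) := by
    refine UniversallyClosed.of_valuativeCriterion _ ?_
    intro Sq
    -- the component containing the image of `Spec K`
    let z : ↥(Spec (CommRingCat.of Sq.K)) := default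
    obtain ⟨i, y, hy⟩ := exists_eq_sigmaι W (Sq.i₁ z)
    have hrange : Set.range Sq.i₁ ⊆ Set.range (Sigma.ι W i) := by
      rintro _ ⟨z', rfl⟩
      have : z' = z := Subsingleton.elim _ _
      rw [this]
      exact ⟨y, hy⟩
    let l₁ : Spec (CommRingCat.of Sq.K) ⟶ W i := IsOpenImmersion.lift (Sigma.ι W i) Sq.i₁ hrange
    have hl₁ : l₁ ≫ Sigma.ι W i = Sq.i₁ := IsOpenImmersion.lift_fac _ _ _
    have hcomm : l₁ ≫ d i = Spec.map (CommRingCat.ofHom (algebraMap Sq.R Sq.K)) ≫ Sq.i₂ := by
      rw [← Sq.commSq.w, ← hl₁, Category.assoc, Sigma.ι_desc]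
    let Sq' : ValuativeCommSq (d i) := ⟨Sq.R, Sq.K, l₁, Sq.i₂, ⟨hcomm⟩⟩
    have hex : ValuativeCriterion.Existence (d i) := by
      have h : UniversallyClosed (d i) := inferInstance
      rw [UniversallyClosed.eq_valuativeCriterion] at h
      exact h.1
    obtain ⟨⟨l, hl1, hl2⟩⟩ := hex Sq'
    refine ⟨⟨⟨l ≫ Sigma.ι W i, ?_, ?_⟩⟩⟩
    · rw [← Category.assoc, hl1, hl₁]
    · rw [Category.assoc, Sigma.ι_desc, hl2]
  have hp : IsProper (Sigma.desc d) := {}
  exact (IsClosedImmersion.iff_isProper_and_mono _).2 ⟨hp, inferInstance⟩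

end Groth.Agent.H51.SigmaMor
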