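import Groth.Agent.H51.LqfDesc
import Groth.Agent.H51.SigmaMor
import Groth.Agent.H51.FreeAct
import Groth.Agent.H51.QuotKer
import Groth.Agent.H52.DescCI

/-!
# Quotients by free actions of finite groups are (quasi-)separated (helper51)
-/

set_option autoImplicit false
universe u
open CategoryTheory CategoryTheory.Limits AlgebraicGeometry Opposite AlgSp

namespace Groth.Agent.H51.FreeQuotSep

open Groth.Agent.H50

variable {S : Scheme.{u}}

/-- For an equivalence relation, `(t, s)` is a monomorphism of schemes. -/
theorem mono_lift_left {R U : Over S} (s t : R ⟶ U) (h : IsEqvRel s t) :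
    Mono (prod.lift t s).left := by
  have : Mono (prod.lift t s) := ⟨fun {T} r r' hrr => h.injective T r r'
    (by
      have := congr($hrr ≫ prod.fst)
      rwa [Category.assoc, Category.assoc, prod.lift_fst] at this)
    (by
      have := congr($hrr ≫ prod.snd)
      rwa [Category.assoc, Category.assoc, prod.lift_snd] at this)⟩
  infer_instance

/-- For an equivalence relation with `t` locally of finite type, `(t, s)` is locally of finite type. -/
theorem lft_lift_left {R U : Over S} (s t : R ⟶ U) [LocallyOfFiniteType t.left] :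
    LocallyOfFiniteType (prod.lift t s).left := by
  have e : (prod.lift t s).left ≫ (prod.fst : U ⨯ U ⟶ U).left = t.left := by
    rw [← Over.comp_left, prod.lift_fst]
  have : LocallyOfFiniteType ((prod.lift t s).left ≫ (prod.fst : U ⨯ U ⟶ U).left) := by
    rw [e]; infer_instance
  exact locallyOfFiniteType_of_comp _ (prod.fst : U ⨯ U ⟶ U).left

/-- The second projection of `U × U` is a base change of the structure morphism. -/
theorem snd_left_eq (U : Over S) :
    (prod.snd : U ⨯ U ⟶ U).left = (Over.prodLeftIsoPullback U U).hom ≫ pullback.snd U.hom U.hom :=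
  (Over.prodLeftIsoPullback_hom_snd U U).symm

variable {U : Over S} {G : Type u}

/-- The components of `(t, s)` are sections of the second projection. -/
theorem props_of_components (c : Cofan (fun _ : G => U)) (hc : IsColimit c) (s t : c.pt ⟶ U)
    (hs : ∀ g, c.inj g ≫ s = 𝟙 U) (Q : MorphismProperty Scheme.{u}) [Q.RespectsIso]
    (hQ : ∀ (d : ∀ _ : G, U.left ⟶ (U ⨯ U).left), (∀ g, Q (d g)) →
      (Mono (Sigma.desc d) → Q (Sigma.desc d)))
    (hcomp : ∀ γ : U ⟶ U ⨯ U, γ ≫ prod.snd = 𝟙 U → Q γ.left)
    (hmono : Mono (prod.lift t s).left) : Q (prod.lift t s).left := by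
  let e : c.pt ≅ sigmaOver (fun _ : G => U) :=
    hc.coconePointUniqueUpToIso (FreeAct.isColimitSigmaOver (fun _ : G => U))
  have he : ∀ g, c.inj g ≫ e.hom = sigmaOverι (fun _ : G => U) g := fun g =>
    hc.comp_coconePointUniqueUpToIso_hom (FreeAct.isColimitSigmaOver (fun _ : G => U)) ⟨g⟩
  let d : ∀ _ : G, U.left ⟶ (U ⨯ U).left := fun g => (c.inj g ≫ prod.lift t s).left
  have hd : ∀ g, Q (d g) := fun g => hcomp _ (by
    rw [Category.assoc, prod.lift_snd, hs])
  have hj : (prod.lift t s).left = e.hom.left ≫ Sigma.desc d := by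
    have h1 : prod.lift t s = e.hom ≫ sigmaOverDesc (fun g => c.inj g ≫ prod.lift t s) := by
      refine Cofan.IsColimit.hom_ext hc _ _ (fun g => ?_)
      rw [← Category.assoc, he, sigmaOverι_desc]
    rw [h1, Over.comp_left]
    rfl
  have hiso : IsIso e.hom.left := inferInstanceAs (IsIso ((Over.forget S).map e.hom))
  have hm : Mono (Sigma.desc d) := by
    have h2 : Sigma.desc d = inv e.hom.left ≫ (prod.lift t s).left := by
      rw [hj, IsIso.inv_hom_id_assoc]
    rw [h2]
    infer_instance
  rw [hj]
  exact (Q.cancel_left_of_respectsIso e.hom.left (Sigma.desc d)).2 (hQ d hd hm)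

end Groth.Agent.H51.FreeQuotSep
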