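import Groth.Agent.H51.QuotKerPre
import Groth.Agent.H51.OpenDesc
import Mathlib.CategoryTheory.Sites.RegularEpi

/-!
# Restriction of a pre-equivalence relation: the map of quotient sheaves is an open immersion (helper51)
-/

set_option autoImplicit false
universe u
open CategoryTheory CategoryTheory.Limits AlgebraicGeometry Opposite AlgSp

namespace Groth.Agent.H51.GpdQuot

open Groth.Agent.H50

variable {S : Scheme.{u}}

/-- epi-mono lifting in `Sp S`. -/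
theorem exists_lift_of_epi_mono {A B F' F : Sp S} (e : A ⟶ B) [Epi e] (φ : F' ⟶ F) [Mono φ] (m : A ⟶ F')
    (n : B ⟶ F) (h : m ≫ φ = e ≫ n) : ∃ w : B ⟶ F', w ≫ φ = n := by
  have : StrongEpi e := strongEpi_of_epi e
  have sq : CommSq m e φ n := ⟨h⟩
  exact ⟨sq.lift, sq.fac_right⟩

theorem repWith_isOpenImmersion_quot_restrict_pre {R U R' U' : Over S} (s t : R ⟶ U)
    (g : U' ⟶ U) (s' t' : R' ⟶ U') (r : R' ⟶ R)
    (hsq : IsPullback (prod.lift t' s') r (prod.map g g) (prod.lift t s))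
    (hpre : ∀ T : Over S, Equivalence (fun a b : T ⟶ U => ∃ r : T ⟶ R, r ≫ t = a ∧ r ≫ s = b))
    (W : U.left.Opens)
    (hA : ∀ (X : Over S) (ξ : X ⟶ U') (ρ : X ⟶ R), ρ ≫ t = ξ ≫ g → ∀ x : ↥X.left, (ρ ≫ s).left x ∈ W)
    (hB : ∃ (A : Over S) (e : A ⟶ opensOver U W) (ξ : A ⟶ U') (ρ : A ⟶ R),
      Epi ((yon S).map e) ∧ ρ ≫ t = ξ ≫ g ∧ ρ ≫ s = e ≫ opensOverι U W)
    (φ : QuotSh.quot Scheme.fppfPrecoverage s' t' ⟶ QuotSh.quot Scheme.fppfPrecoverage s t)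
    (hφ : QuotSh.quotπ Scheme.fppfPrecoverage s' t' ≫ φ =
      QuotSh.repMap Scheme.fppfPrecoverage g ≫ QuotSh.quotπ Scheme.fppfPrecoverage s t) :
    RepWith @IsOpenImmersion φ := by
  classical
  have hqφ₀ : QuotKer.qmap s' t' ≫ φ = (yon S).map g ≫ QuotKer.qmap s t := by
    have h1 := QuotKer.repIso_naturality (S := S) g
    unfold QuotKer.qmap
    rw [Category.assoc, hφ, ← Category.assoc, ← Category.assoc]
    congr 1
    rw [Iso.inv_comp_eq, ← Category.assoc, Iso.eq_comp_inv]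
    exact h1
  have hw₀ := QuotKer.qmap_w s t
  have hw₀' := QuotKer.qmap_w s' t'
  have hepi₀ : Epi (QuotKer.qmap s t) := inferInstance
  have hepi₀' : Epi (QuotKer.qmap s' t') := inferInstance
  have hrel₀ := fun {X : Over S} (a b : X ⟶ U) => QuotKer.exists_local_rel_qmap s t hpre a b
  obtain ⟨q, hq⟩ : ∃ q, q = QuotKer.qmap s t := ⟨_, rfl⟩
  obtain ⟨q', hq'⟩ : ∃ q', q' = QuotKer.qmap s' t' := ⟨_, rfl⟩
  have hqφ : q' ≫ φ = (yon S).map g ≫ q := by rw [hq, hq']; exact hqφ₀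
  have hqw : (yon S).map s ≫ q = (yon S).map t ≫ q := by rw [hq]; exact hw₀
  have hqw' : (yon S).map s' ≫ q' = (yon S).map t' ≫ q' := by rw [hq']; exact hw₀'
  have hepi : Epi q := by rw [hq]; exact hepi₀
  have hepi' : Epi q' := by rw [hq']; exact hepi₀'
  have hrel : ∀ {X : Over S} (a b : X ⟶ U), (yon S).map a ≫ q = (yon S).map b ≫ q →
      ∃ Sg ∈ J S X, ∀ ⦃X' : Over S⦄ (f : X' ⟶ X), Sg f →
        ∃ ρ : X' ⟶ R, ρ ≫ t = f ≫ a ∧ ρ ≫ s = f ≫ b := by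
    intro X a b
    rw [hq]
    exact hrel₀ a b
  clear hqφ₀ hw₀ hw₀' hepi₀ hepi₀' hrel₀ hq hq'
  -- `φ` is a monomorphism
  have hmono : Mono φ := by
    apply mono_of_forall_yon
    intro X a₁ a₂ h12
    obtain ⟨S₁, hS₁, l₁⟩ := exists_local_lift q' a₁
    obtain ⟨S₂, hS₂, l₂⟩ := exists_local_lift q' a₂
    refine hom_ext_of_local a₁ a₂ ((J S).intersection_covering hS₁ hS₂) ?_
    intro X' f hf
    obtain ⟨x₁, hx₁⟩ := l₁ f hf.1
    obtain ⟨x₂, hx₂⟩ := l₂ f hf.2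
    obtain ⟨ξ₁, rfl⟩ := (yon S).map_surjective x₁
    obtain ⟨ξ₂, rfl⟩ := (yon S).map_surjective x₂
    have e : (yon S).map (ξ₁ ≫ g) ≫ q = (yon S).map (ξ₂ ≫ g) ≫ q := by
      rw [Functor.map_comp, Functor.map_comp, Category.assoc, Category.assoc, ← hqφ,
        ← Category.assoc, ← Category.assoc, hx₁, hx₂, Category.assoc, Category.assoc, h12]
    obtain ⟨Sg, hSg, hl⟩ := hrel _ _ e
    refine hom_ext_of_local _ _ hSg ?_
    intro X'' f' hf'
    obtain ⟨ρ, hρ₁, hρ₂⟩ := hl f' hf'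
    have hcomm : prod.lift (f' ≫ ξ₁) (f' ≫ ξ₂) ≫ prod.map g g = ρ ≫ prod.lift t s := by
      rw [prod.lift_map, prod.comp_lift, hρ₁, hρ₂, Category.assoc, Category.assoc]
    obtain ⟨ρ', hρ'⟩ : ∃ ρ' : X'' ⟶ R', ρ' ≫ prod.lift t' s' = prod.lift (f' ≫ ξ₁) (f' ≫ ξ₂) :=
      ⟨hsq.lift _ _ hcomm, hsq.lift_fst _ _ hcomm⟩
    have h2 : ρ' ≫ t' = f' ≫ ξ₁ := by
      have := congr_arg (fun m => m ≫ prod.fst) hρ'
      simpa only [Category.assoc, prod.lift_fst] using this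
    have h3 : ρ' ≫ s' = f' ≫ ξ₂ := by
      have := congr_arg (fun m => m ≫ prod.snd) hρ'
      simpa only [Category.assoc, prod.lift_snd] using this
    rw [← hx₁, ← hx₂, ← Category.assoc, ← Category.assoc, ← Functor.map_comp, ← Functor.map_comp,
      ← h2, ← h3, Functor.map_comp, Functor.map_comp, Category.assoc, Category.assoc, hqw']
  -- (B)
  have hBw : ∃ w : (yon S).obj (opensOver U W) ⟶ _,
      w ≫ φ = (yon S).map (opensOverι U W) ≫ q := by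
    obtain ⟨A, e, ξ, ρ, hepiE, h1, h2⟩ := hB
    refine exists_lift_of_epi_mono ((yon S).map e) φ ((yon S).map ξ ≫ q') _ ?_
    rw [Category.assoc, hqφ, ← Category.assoc, ← Functor.map_comp, ← h1, Functor.map_comp,
      Category.assoc, ← hqw, ← Category.assoc, ← Functor.map_comp, h2, Functor.map_comp,
      Category.assoc]
  obtain ⟨w, hw⟩ := hBw
  refine OpenDesc.repWith_isOpenImmersion_of_chart φ q W ?_ w hw
  -- (A)
  intro X y a ha χ
  obtain ⟨Sg, hSg, hl⟩ := exists_local_lift q' a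
  obtain ⟨X', c', hc', -, -, χ', hχ'⟩ := exists_fppf_of_mem_J hSg χ
  obtain ⟨x₀, hx₀⟩ := hl c' hc'
  obtain ⟨ξ, rfl⟩ := (yon S).map_surjective x₀
  have e : (yon S).map (ξ ≫ g) ≫ q = (yon S).map (c' ≫ y) ≫ q := by
    rw [Functor.map_comp, Functor.map_comp, Category.assoc, Category.assoc, ← hqφ,
      ← Category.assoc, hx₀, Category.assoc, ha]
  obtain ⟨Sg2, hSg2, hl2⟩ := hrel _ _ e
  obtain ⟨X'', c'', hc'', -, -, χ'', hχ''⟩ := exists_fppf_of_mem_J hSg2 χ'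
  obtain ⟨ρ, hρ₁, hρ₂⟩ := hl2 c'' hc''
  have hmem := hA X'' (c'' ≫ ξ) ρ (by rw [hρ₁, Category.assoc]) χ''
  rw [hρ₂, Over.comp_left, Over.comp_left, Scheme.Hom.comp_apply, Scheme.Hom.comp_apply, hχ'', hχ']
    at hmem
  exact hmem

end Groth.Agent.H51.GpdQuot
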