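import Mathlib

/-!
# (BAS) for helper62 (S11200): a basis of a finite-dimensional subspace adapted to `W ⊓ I`
-/

set_option autoImplicit false
universe u

namespace Groth.Agent.H51.Gr11200

/-- (BAS) a basis of a finite-dimensional subspace `W` adapted to `W ⊓ I`. -/
theorem exists_adapted_basis {K V : Type*} [Field K] [AddCommGroup V] [Module K V]
    (W I : Submodule K V) (hW : W.FG) :
    ∃ (d e : ℕ) (w : Fin (d + e) → V), LinearIndependent K w ∧
      Submodule.span K (Set.range w) = W ∧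
      (∀ a : Fin d, w (Fin.castAdd e a) ∈ I) ∧
      (∀ c : Fin e → K, (∑ b, c b • w (Fin.natAdd d b)) ∈ I → c = 0) ∧
      (∀ v ∈ W ⊓ I, ∃ c : Fin d → K, v = ∑ a, c a • w (Fin.castAdd e a)) := by
  classical
  have : FiniteDimensional K W := Module.Finite.iff_fg.mpr hW
  obtain ⟨C', hC'⟩ := Submodule.exists_isCompl (W ⊓ I)
  have hUW : W ⊓ I ≤ W := inf_le_left
  have hCW : C' ⊓ W ≤ W := inf_le_right
  have hsup : (W ⊓ I) ⊔ (C' ⊓ W) = W := by
    rw [← sup_inf_assoc_of_le C' hUW, hC'.sup_eq_top, top_inf_eq]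
  have hdisj : Disjoint (W ⊓ I) (C' ⊓ W) := hC'.disjoint.mono_right inf_le_left
  have : FiniteDimensional K ↥(W ⊓ I) := Submodule.finiteDimensional_of_le hUW
  have : FiniteDimensional K ↥(C' ⊓ W) := Submodule.finiteDimensional_of_le hCW
  let bU := Module.finBasis K ↥(W ⊓ I)
  let bC := Module.finBasis K ↥(C' ⊓ W)
  let u : Fin (Module.finrank K ↥(W ⊓ I)) → V := fun a => (bU a : V)
  let v : Fin (Module.finrank K ↥(C' ⊓ W)) → V := fun b => (bC b : V)
  have hu : LinearIndependent K u :=
    bU.linearIndependent.map' (W ⊓ I).subtype (Submodule.ker_subtype _)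
  have hv : LinearIndependent K v :=
    bC.linearIndependent.map' (C' ⊓ W).subtype (Submodule.ker_subtype _)
  have hspu : Submodule.span K (Set.range u) = W ⊓ I := by
    have : Set.range u = (W ⊓ I).subtype '' Set.range bU := by
      rw [← Set.range_comp]; rfl
    rw [this, Submodule.span_image, bU.span_eq, Submodule.map_subtype_top]
  have hspv : Submodule.span K (Set.range v) = C' ⊓ W := by
    have : Set.range v = (C' ⊓ W).subtype '' Set.range bC := by
      rw [← Set.range_comp]; rfl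
    rw [this, Submodule.span_image, bC.span_eq, Submodule.map_subtype_top]
  let w : Fin (Module.finrank K ↥(W ⊓ I) + Module.finrank K ↥(C' ⊓ W)) → V :=
    fun i => Sum.elim u v (finSumFinEquiv.symm i)
  have hwl : ∀ a, w (Fin.castAdd _ a) = u a := fun a => by simp [w]
  have hwr : ∀ b, w (Fin.natAdd _ b) = v b := fun b => by simp [w]
  refine ⟨_, _, w, ?_, ?_, ?_, ?_, ?_⟩
  · have := LinearIndependent.sum_type hu hv (by rw [hspu, hspv]; exact hdisj)
    exact this.comp _ finSumFinEquiv.symm.injective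
  · have : Set.range w = Set.range u ∪ Set.range v := by
      rw [← Set.Sum.elim_range]
      exact finSumFinEquiv.symm.surjective.range_comp (Sum.elim u v)
    rw [this, Submodule.span_union, hspu, hspv, hsup]
  · intro a
    rw [hwl]
    exact (inf_le_right : W ⊓ I ≤ I) (bU a).2
  · intro c hc
    simp_rw [hwr] at hc
    have hmemC : ∑ b, c b • v b ∈ C' ⊓ W :=
      Submodule.sum_mem _ fun b _ => Submodule.smul_mem _ _ (bC b).2
    have hmemU : ∑ b, c b • v b ∈ W ⊓ I := ⟨hCW hmemC, hc⟩
    have h0 : ∑ b, c b • v b = 0 := Submodule.disjoint_def.mp hdisj _ hmemU hmemC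
    exact funext (Fintype.linearIndependent_iff.mp hv c h0)
  · intro x hx
    refine ⟨fun a => bU.repr ⟨x, hx⟩ a, ?_⟩
    simp_rw [hwl]
    have h : ((∑ i, (bU.repr ⟨x, hx⟩) i • bU i : ↥(W ⊓ I)) : V) = x :=
      congrArg Subtype.val (bU.sum_repr ⟨x, hx⟩)
    have h2 : ((∑ i, (bU.repr ⟨x, hx⟩) i • bU i : ↥(W ⊓ I)) : V) =
        ∑ i, (bU.repr ⟨x, hx⟩) i • u i := by
      rw [Submodule.coe_sum]
      rfl
    exact h.symm.trans h2

end Groth.Agent.H51.Gr11200
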