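import Mathlib

/-!
# (CR) for helper62 (S11200): Cramer-type vanishing of columns
-/

set_option autoImplicit false
universe u

namespace Groth.Agent.H51.Gr11200

/-- (CR) Cramer: a `d × (d+e)` matrix whose leading `d × d` minor is `1` and whose minors obtained by
replacing one of the first `d` columns by one of the last `e` columns all vanish has its last `e`
columns zero. -/
theorem cols_eq_zero_of_minors {K : Type*} [Field K] {d e : ℕ} (N : Matrix (Fin d) (Fin (d + e)) K)
    (h0 : (N.submatrix id (Fin.castAdd e)).det = 1)
    (h1 : ∀ (a : Fin d) (b : Fin e),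
      (N.submatrix id (Function.update (Fin.castAdd e) a (Fin.natAdd d b))).det = 0) :
    ∀ (j : Fin d) (b : Fin e), N j (Fin.natAdd d b) = 0 := by
  intro j b
  set T : Matrix (Fin d) (Fin d) K := N.submatrix id (Fin.castAdd e) with hT
  set col : Fin d → K := fun j => N j (Fin.natAdd d b) with hcol
  have hupd : ∀ a : Fin d, T.updateCol a col =
      N.submatrix id (Function.update (Fin.castAdd e) a (Fin.natAdd d b)) := by
    intro a
    ext i c
    by_cases hc : c = a
    · subst hc
      simp [Matrix.updateCol_apply, hcol]
    · simp [Matrix.updateCol_apply, hc, hT, Function.update_of_ne hc]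
  have hcr : Matrix.cramer T col = 0 := by
    ext a
    rw [Matrix.cramer_apply, hupd, h1]
    rfl
  have h2 := Matrix.mulVec_cramer T col
  rw [hcr, Matrix.mulVec_zero, h0, one_smul] at h2
  exact (congrFun h2 j).symm

end Groth.Agent.H51.Gr11200
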