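import Groth.Agent.H51.DiagOpen
import Mathlib.AlgebraicGeometry.Morphisms.Finite

/-! Cancellation over a separated morphism for affine-tested properties (helper51). -/

set_option autoImplicit false
universe u
open CategoryTheory CategoryTheory.Limits AlgebraicGeometry
open AlgSp

namespace Groth.Agent.H51

section Cat

variable {C : Type*} [Category C]

/-- Converse of the magic square: a base change of the diagonal along `A ×_G A' ⟶ F ×_G F` is `A ×_F A'`. -/
theorem isPullback_of_isPullback_diagonal {F G A A' R T Q : C} {f : F ⟶ G} {a : A ⟶ F}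
    {a' : A' ⟶ F} {p1 p2 : Q ⟶ F} (sqQ : IsPullback p1 p2 f f) (δ : F ⟶ Q)
    (hδ1 : δ ≫ p1 = 𝟙 F) (hδ2 : δ ≫ p2 = 𝟙 F)
    {α : T ⟶ A} {β : T ⟶ A'} (sqT : IsPullback α β (a ≫ f) (a' ≫ f))
    (τ : T ⟶ Q) (hτ1 : τ ≫ p1 = α ≫ a) (hτ2 : τ ≫ p2 = β ≫ a')
    {e : R ⟶ F} {ι : R ⟶ T} (sq : IsPullback e ι δ τ) : IsPullback (ι ≫ α) (ι ≫ β) a a' := by
  have he1 : (ι ≫ α) ≫ a = e := by
    rw [Category.assoc, ← hτ1, ← Category.assoc, ← sq.w, Category.assoc, hδ1, Category.comp_id]
  have he2 : (ι ≫ β) ≫ a' = e := by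
    rw [Category.assoc, ← hτ2, ← Category.assoc, ← sq.w, Category.assoc, hδ2, Category.comp_id]
  have w : (ι ≫ α) ≫ a = (ι ≫ β) ≫ a' := by rw [he1, he2]
  have key : ∀ (s : PullbackCone a a'),
      (s.fst ≫ a) ≫ δ = sqT.lift s.fst s.snd (by
        rw [← Category.assoc, s.condition, Category.assoc]) ≫ τ := by
    intro s
    apply sqQ.hom_ext
    · rw [Category.assoc, hδ1, Category.comp_id, Category.assoc, hτ1, ← Category.assoc,
        sqT.lift_fst]
    · rw [Category.assoc, hδ2, Category.comp_id, Category.assoc, hτ2, ← Category.assoc,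
        sqT.lift_snd, s.condition]
  refine ⟨⟨w⟩, ⟨PullbackCone.IsLimit.mk w
    (fun s => sq.lift (s.fst ≫ a) (sqT.lift s.fst s.snd (by
        rw [← Category.assoc, s.condition, Category.assoc])) (key s)) ?_ ?_ ?_⟩⟩
  · intro s
    rw [← Category.assoc, sq.lift_snd, sqT.lift_fst]
  · intro s
    rw [← Category.assoc, sq.lift_snd, sqT.lift_snd]
  · intro s m hm1 hm2
    apply sq.hom_ext
    · rw [sq.lift_fst, ← he1, ← Category.assoc, hm1]
    · rw [sq.lift_snd]
      apply sqT.hom_ext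
      · rw [sqT.lift_fst, Category.assoc, hm1]
      · rw [sqT.lift_snd, Category.assoc, hm2]

end Cat

variable {S : Scheme.{u}}

/-- Over a separated `g`, the base change of `f` to a scheme `T` is a closed subscheme of the base change of
`f ≫ g`. -/
theorem exists_closedImmersion_of_isSeparatedMor {X Y Z : Sp S} (f : X ⟶ Y) (g : Y ⟶ Z)
    (hg : IsSeparatedMor g) {T W' : Over S} (t : (yon S).obj T ⟶ Y) (i' : W' ⟶ T)
    (fst' : (yon S).obj W' ⟶ X) (sq' : IsPullback fst' ((yon S).map i') (f ≫ g) (t ≫ g)) :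
    ∃ (W : Over S) (j : W ⟶ W'), IsClosedImmersion j.left ∧
      IsPullback ((yon S).map j ≫ fst') ((yon S).map (j ≫ i')) f t := by
  have hτ : (fst' ≫ f) ≫ g = ((yon S).map i' ≫ t) ≫ g := by
    rw [Category.assoc, Category.assoc]; exact sq'.w
  obtain ⟨W, j, e, sq''⟩ := hg.1 (pullback.lift (fst' ≫ f) ((yon S).map i' ≫ t) hτ)
  have hj : IsClosedImmersion j.left := hg.2 _ _ _ sq''
  refine ⟨W, j, hj, ?_⟩
  rw [Functor.map_comp]
  exact isPullback_of_isPullback_diagonal (IsPullback.of_hasPullback g g) (pullback.diagonal g)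
    (pullback.diagonal_fst g) (pullback.diagonal_snd g) sq' _ (pullback.lift_fst _ _ _)
    (pullback.lift_snd _ _ _) sq''

end Groth.Agent.H51
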