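import Mathlib

/-!
# A property of a group scheme locally of finite type over a field which holds on a nonempty open holds everywhere,
by descent from the algebraic closure (helper51, for helper63's S5339 squad)
-/

set_option autoImplicit false
universe u
open CategoryTheory CategoryTheory.Limits AlgebraicGeometry MonoidalCategory CartesianMonoidalCategory

namespace Groth.Agent.H51.GrpFieldDesc

/-- Descent from the algebraic closure, with the algebraically closed case `hAC` as a hypothesis. -/
theorem prop_of_open_field_of
    (hAC : ∀ {K : Type u} [Field K] [IsAlgClosed K]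
      (P : MorphismProperty Scheme.{u}) [IsZariskiLocalAtSource P]
      (G : Over (Spec (CommRingCat.of K))) [GrpObj G] [LocallyOfFiniteType G.hom]
      (W : G.left.Opens) (_ : (W : Set G.left).Nonempty) (_ : P (W.ι ≫ G.hom)), P G.hom)
    {K : Type u} [Field K]
    (P : MorphismProperty Scheme.{u}) [IsZariskiLocalAtSource P] [P.IsStableUnderBaseChange]
    [P.DescendsAlong (@Surjective ⊓ @Flat ⊓ @QuasiCompact)]
    (G : Over (Spec (CommRingCat.of K))) [GrpObj G] [LocallyOfFiniteType G.hom]
    (W : G.left.Opens) (hW : (W : Set G.left).Nonempty) (h : P (W.ι ≫ G.hom)) : P G.hom := by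
  let j : Spec (CommRingCat.of (AlgebraicClosure K)) ⟶ Spec (CommRingCat.of K) :=
    Spec.map (CommRingCat.ofHom <| algebraMap K (AlgebraicClosure K))
  have hjflat : Flat j := by
    rw [HasRingHomProperty.Spec_iff (P := @Flat)]
    change (algebraMap K (AlgebraicClosure K)).Flat
    rw [RingHom.flat_algebraMap_iff]
    infer_instance
  have hjsurj : Surjective j := by
    refine ⟨fun x => ?_⟩
    have : Subsingleton ↥(Spec (CommRingCat.of K)) := inferInstance
    have : Nonempty ↥(Spec (CommRingCat.of (AlgebraicClosure K))) := inferInstance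
    exact ⟨Classical.arbitrary _, Subsingleton.elim _ _⟩
  have hjqc : QuasiCompact j := inferInstance
  let G' := (Over.pullback j).obj G
  have hlft : LocallyOfFiniteType G'.hom := by dsimp [G']; infer_instance
  let _ : GrpObj G' := Functor.grpObjObj
  let π : G'.left ⟶ G.left := pullback.fst G.hom j
  have hπsurj : Surjective π := by dsimp [π]; infer_instance
  let W' : G'.left.Opens := π ⁻¹ᵁ W
  have hW' : (W' : Set G'.left).Nonempty := by
    obtain ⟨w, hw⟩ := hW
    obtain ⟨w', rfl⟩ := π.surjective w
    exact ⟨w', hw⟩
  have sq0 : IsPullback π G'.hom G.hom j := IsPullback.of_hasPullback G.hom j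
  have sq1 : IsPullback (π ∣_ W) W'.ι W.ι π := isPullback_morphismRestrict π W
  have sq2 : IsPullback (π ∣_ W) (W'.ι ≫ G'.hom) (W.ι ≫ G.hom) j := sq1.paste_vert sq0
  have hP' : P (W'.ι ≫ G'.hom) := P.of_isPullback sq2 h
  have hG' : P G'.hom := hAC P G' W' hW' hP'
  exact MorphismProperty.of_isPullback_of_descendsAlong (P := P)
    (Q := @Surjective ⊓ @Flat ⊓ @QuasiCompact) sq0.flip ⟨⟨hjsurj, hjflat⟩, hjqc⟩ hG'

end Groth.Agent.H51.GrpFieldDesc
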