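import Mathlib
import Groth.Agent.H63.ActionTranslate
import Groth.Agent.H63.SurjK
import Groth.Agent.H51.GrpFieldDesc

/-!
# A Zariski-local property of a group scheme locally of finite type over an algebraically closed field which holds on a
nonempty open holds everywhere (helper51, for helper63's S5339 squad)
-/

set_option autoImplicit false
universe u
open CategoryTheory CategoryTheory.Limits AlgebraicGeometry MonoidalCategory CartesianMonoidalCategory
open MonObj GrpObj

namespace Groth.Agent.H51.GrpAlgClosed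

open Groth.Agent.H63.ActionTranslate Groth.Agent.H63.SurjK

variable {K : Type u} [Field K] [IsAlgClosed K]

/-- A closed point of a group scheme locally of finite type over an algebraically closed field is the image of a
section. -/
theorem exists_section_of_isClosed (G : Over (Spec (CommRingCat.of K))) [LocallyOfFiniteType G.hom]
    (x : G.left) (hx : IsClosed ({x} : Set G.left)) :
    ∃ σ : 𝟙_ (Over (Spec (CommRingCat.of K))) ⟶ G, ∀ s, σ.left s = x := by
  obtain ⟨p, hp⟩ := exists_Kpoint_of_isClosed (k := K) K G x hx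
  have hw : p.left ≫ G.hom = 𝟙 _ := by
    have := Over.w p
    change p.left ≫ G.hom = Spec.map (CommRingCat.ofHom (algebraMap K K)) at this
    rw [this]
    change Spec.map (𝟙 _) = _
    rw [Spec.map_id]
    rfl
  refine ⟨Over.homMk p.left (by simp [hw]), fun s => hp s⟩

theorem prop_of_open_algClosed
    (P : MorphismProperty Scheme.{u}) [IsZariskiLocalAtSource P]
    (G : Over (Spec (CommRingCat.of K))) [GrpObj G] [LocallyOfFiniteType G.hom]
    (W : G.left.Opens) (hW : (W : Set G.left).Nonempty) (h : P (W.ι ≫ G.hom)) : P G.hom := by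
  have hJ : JacobsonSpace G.left := LocallyOfFiniteType.jacobsonSpace G.hom
  -- a closed point of `W`
  obtain ⟨w, hwW, hwc⟩ := nonempty_inter_closedPoints (X := G.left) (Z := (W : Set G.left)) hW
    W.isOpen.isLocallyClosed
  obtain ⟨σw, hσw⟩ := exists_section_of_isClosed G w hwc
  -- the translates of `W`
  have key : ∀ x : G.left, IsClosed ({x} : Set G.left) →
      ∃ V : G.left.Opens, x ∈ V ∧ P (V.ι ≫ G.hom) := by
    intro x hxc
    obtain ⟨σx, hσx⟩ := exists_section_of_isClosed G x hxc
    let φ : G ≅ G := Liso (σx * σw⁻¹)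
    have hφ : σw ≫ φ.hom = σx := by
      change σw ≫ L (σx * σw⁻¹) = σx
      rw [point_comp_L, _root_.inv_mul_cancel_right]
    let ψ : G.left ⟶ G.left := φ.inv.left
    have hψ : IsIso ψ := by dsimp only [ψ]; infer_instance
    have hψG : ψ ≫ G.hom = G.hom := Over.w φ.inv
    have hψx : ψ x = w := by
      have s₀ : ↥(𝟙_ (Over (Spec (CommRingCat.of K)))).left := by
        change ↥(Spec (CommRingCat.of K))
        exact Classical.arbitrary _
      have e1 : σx ≫ φ.inv = σw := by rw [← hφ, Category.assoc, Iso.hom_inv_id, Category.comp_id]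
      have e2 := congrArg (fun k => k.left s₀) e1
      change ψ (σx.left s₀) = σw.left s₀ at e2
      rwa [hσx, hσw] at e2
    refine ⟨ψ ⁻¹ᵁ W, ?_, ?_⟩
    · change ψ x ∈ W
      rw [hψx]
      exact hwW
    · have hres : (ψ ∣_ W) ≫ W.ι = (ψ ⁻¹ᵁ W).ι ≫ ψ := morphismRestrict_ι ψ W
      have hiso : IsIso (ψ ∣_ W) := inferInstance
      have e : (ψ ⁻¹ᵁ W).ι ≫ G.hom = (ψ ∣_ W) ≫ W.ι ≫ G.hom := by
        rw [← Category.assoc, hres, Category.assoc, hψG]
      rw [e, P.cancel_left_of_respectsIso]
      exact h
  choose! Vx hVx hPx using key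
  refine IsZariskiLocalAtSource.of_iSup_eq_top
    (fun x : {x : G.left // IsClosed ({x} : Set G.left)} => Vx x.1) ?_ (fun x => hPx x.1 x.2)
  rw [eq_top_iff]
  intro y _
  obtain ⟨x₀, hx₀c, hyx₀⟩ := exists_closedPoint_specializes (X := G.left) y
  have : y ∈ Vx x₀ := hyx₀.mem_open (Vx x₀).isOpen (hVx x₀ hx₀c)
  exact TopologicalSpace.Opens.mem_iSup.2 ⟨⟨x₀, hx₀c⟩, this⟩

omit [IsAlgClosed K] in
/-- Descent from the algebraic closure. -/
theorem prop_of_open_field
    (P : MorphismProperty Scheme.{u}) [IsZariskiLocalAtSource P] [P.IsStableUnderBaseChange]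
    [P.DescendsAlong (@Surjective ⊓ @Flat ⊓ @QuasiCompact)]
    (G : Over (Spec (CommRingCat.of K))) [GrpObj G] [LocallyOfFiniteType G.hom]
    (W : G.left.Opens) (hW : (W : Set G.left).Nonempty) (h : P (W.ι ≫ G.hom)) : P G.hom :=
  Groth.Agent.H51.GrpFieldDesc.prop_of_open_field_of
    (fun P _ G _ _ W hW h => prop_of_open_algClosed P G W hW h) P G W hW h

end Groth.Agent.H51.GrpAlgClosed
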