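import Mathlib

/-!
# Translations of a group scheme over a base `T` (helper51, for helper63's S5339 squad)
-/

set_option autoImplicit false
universe u
open CategoryTheory CategoryTheory.Limits AlgebraicGeometry MonoidalCategory CartesianMonoidalCategory MonObj GrpObj

namespace Groth.Agent.H51.GrpTranslate

variable {S : Scheme.{u}} (G : Over S) [GrpObj G] (T : Over S)

/-- Left multiplication by a `T`-point of `G` on `G ×_S T`. -/
noncomputable def m (a : T ⟶ G) : G ⊗ T ⟶ G ⊗ T :=
  lift ((snd G T ≫ a) * fst G T) (snd G T)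

@[simp] theorem m_fst (a : T ⟶ G) : m G T a ≫ fst G T = (snd G T ≫ a) * fst G T := lift_fst _ _
@[simp] theorem m_snd (a : T ⟶ G) : m G T a ≫ snd G T = snd G T := lift_snd _ _

theorem m_comp (a b : T ⟶ G) : m G T a ≫ m G T b = m G T (b * a) := by
  apply CartesianMonoidalCategory.hom_ext
  · rw [Category.assoc, m_fst, MonObj.comp_mul, ← Category.assoc, m_snd, m_fst, m_fst,
      MonObj.comp_mul, _root_.mul_assoc]
  · rw [Category.assoc, m_snd, m_snd, m_snd]

theorem m_one : m G T 1 = 𝟙 _ := by
  apply CartesianMonoidalCategory.hom_ext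
  · rw [m_fst, MonObj.comp_one, _root_.one_mul, Category.id_comp]
  · rw [m_snd, Category.id_comp]

/-- The translation isomorphism. -/
noncomputable def mIso (a : T ⟶ G) : G ⊗ T ≅ G ⊗ T where
  hom := m G T a
  inv := m G T a⁻¹
  hom_inv_id := by rw [m_comp, _root_.inv_mul_cancel, m_one]
  inv_hom_id := by rw [m_comp, _root_.mul_inv_cancel, m_one]

theorem lift_m (a u : T ⟶ G) : lift u (𝟙 T) ≫ m G T a = lift (a * u) (𝟙 T) := by
  apply CartesianMonoidalCategory.hom_ext
  · rw [Category.assoc, m_fst, MonObj.comp_mul, ← Category.assoc, lift_snd, lift_fst, lift_fst,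
      Category.id_comp]
  · rw [Category.assoc, m_snd, lift_snd, lift_snd]

theorem exists_translate (g u : T ⟶ G) :
    ∃ φ : pullback G.hom T.hom ≅ pullback G.hom T.hom,
      φ.hom ≫ pullback.snd G.hom T.hom = pullback.snd G.hom T.hom ∧
      pullback.lift u.left (𝟙 T.left) (by simp) ≫ φ.hom =
        pullback.lift g.left (𝟙 T.left) (by simp) := by
  refine ⟨(Over.forget S).mapIso (mIso G T (g * u⁻¹)), ?_, ?_⟩
  · have := congrArg (fun k => k.left) (m_snd G T (g * u⁻¹))
    exact this
  · have h := congrArg (fun k => k.left) (lift_m G T (g * u⁻¹) u)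
    rw [_root_.inv_mul_cancel_right] at h
    exact h

end Groth.Agent.H51.GrpTranslate
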