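import Mathlib
import Groth.Prelude.Def_Wider
import Groth.Prelude.Def_CAlg

set_option autoImplicit false
universe u
open IsLocalRing

namespace Groth.Agent.H51.HL_Q1

/-- The submodule of elements killed, at every `p ∈ Φ`, by some element outside `p`. -/
def splitSub (R : Type u) [CommRing R] (M : Type u) [AddCommGroup M] [Module R M]
    (Φ : Set (Ideal R)) (hΦ : ∀ p ∈ Φ, p.IsPrime) : Submodule R M where
  carrier := {x | ∀ p ∈ Φ, ∃ s : R, s ∉ p ∧ s • x = 0}
  zero_mem' := fun p hp => ⟨1, by
    have := hΦ p hp
    exact fun h => this.ne_top ((Ideal.eq_top_iff_one _).mpr h), by simp⟩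
  add_mem' := by
    intro x y hx hy p hp
    obtain ⟨s, hs, hsx⟩ := hx p hp
    obtain ⟨t, ht, hty⟩ := hy p hp
    have := hΦ p hp
    refine ⟨s * t, fun h => (this.mem_or_mem h).elim hs ht, ?_⟩
    have h1 : (s * t) • x = 0 := by rw [mul_comm, mul_smul, hsx, smul_zero]
    have h2 : (s * t) • y = 0 := by rw [mul_smul, hty, smul_zero]
    rw [smul_add, h1, h2, add_zero]
  smul_mem' := by
    intro c x hx p hp
    obtain ⟨s, hs, hsx⟩ := hx p hp
    exact ⟨s, hs, by rw [smul_comm, hsx, smul_zero]⟩

/-- (Q1) splitting off a set of minimal primes of the support: the kernel `N` of `M → ∏_{p ∈ Φ} M_p`. -/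
theorem exists_submodule_split (R : Type u) [CommRing R] [IsNoetherianRing R] (M : Type u)
    [AddCommGroup M] [Module R M] [Module.Finite R M] (Φ : Set (Ideal R))
    (hΦ : Φ ⊆ (Module.annihilator R M).minimalPrimes) :
    ∃ N : Submodule R M, (∀ p : PrimeSpectrum R, p.asIdeal ∈ Φ → p ∉ Module.support R N) ∧
      associatedPrimes R (M ⧸ N) = Φ := by
  classical
  have hprime : ∀ p ∈ Φ, p.IsPrime := fun p hp => (hΦ hp).1.1
  refine ⟨splitSub R M Φ hprime, ?_, ?_⟩
  · intro p hp
    rw [Module.notMem_support_iff']
    intro x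
    obtain ⟨s, hs, hsx⟩ := x.2 p.asIdeal hp
    exact ⟨s, hs, Subtype.ext (by simpa using hsx)⟩
  · apply Set.Subset.antisymm
    · intro q hq
      have hqprime : q.IsPrime := hq.isPrime
      obtain ⟨-, xb, hxb⟩ := isAssociatedPrime_iff.mp hq
      obtain ⟨x, rfl⟩ := Submodule.Quotient.mk_surjective _ xb
      have hxN : x ∉ splitSub R M Φ hprime := by
        intro hx
        apply hqprime.ne_top
        rw [hxb, Ideal.eq_top_iff_one]
        rw [Submodule.mem_colon_singleton, Submodule.mem_bot, one_smul]
        exact (Submodule.Quotient.mk_eq_zero _).mpr hx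
      have : ∃ p ∈ Φ, ∀ s : R, s ∉ p → s • x ≠ 0 := by
        by_contra hcon
        push Not at hcon
        exact hxN (fun p hp => hcon p hp)
      obtain ⟨p, hp, hpx⟩ := this
      have hpprime := hprime p hp
      have hmemq : ∀ t : R, t ∈ q ↔ t • x ∈ splitSub R M Φ hprime := by
        intro t
        rw [hxb, Submodule.mem_colon_singleton, Submodule.mem_bot,
          ← Submodule.Quotient.mk_smul, Submodule.Quotient.mk_eq_zero]
      have hqp : q ≤ p := by
        intro t ht
        obtain ⟨s, hs, hst⟩ := (hmemq t).mp ht p hp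
        by_contra htp
        exact hpx (s * t) (fun h => (hpprime.mem_or_mem h).elim hs htp) (by rwa [mul_smul])
      have hannq : Module.annihilator R M ≤ q := by
        intro a ha
        rw [hmemq, Module.mem_annihilator.mp ha x]
        exact Submodule.zero_mem _
      have : p ≤ q := (hΦ hp).2 ⟨hqprime, hannq⟩ hqp
      rw [le_antisymm hqp this]
      exact hp
    · intro p hp
      have hpprime := hprime p hp
      apply Module.associatedPrimes.minimalPrimes_annihilator_subset_associatedPrimes R (M ⧸ splitSub R M Φ hprime)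
      have hannle : Module.annihilator R M ≤
          Module.annihilator R (M ⧸ splitSub R M Φ hprime) := by
        intro a ha
        rw [Module.mem_annihilator]
        intro xb
        obtain ⟨x, rfl⟩ := Submodule.Quotient.mk_surjective _ xb
        rw [← Submodule.Quotient.mk_smul, Module.mem_annihilator.mp ha x,
          Submodule.Quotient.mk_zero]
      refine ⟨⟨hpprime, ?_⟩, ?_⟩
      · intro a ha
        by_contra hap
        have hsupp : (⟨p, hpprime⟩ : PrimeSpectrum R) ∈ Module.support R M :=
          Module.mem_support_iff_of_finite.mpr (hΦ hp).1.2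
        apply (Module.notMem_support_iff'.mpr ?_) hsupp
        intro x
        have hax : a • x ∈ splitSub R M Φ hprime := by
          rw [← Submodule.Quotient.mk_eq_zero, Submodule.Quotient.mk_smul]
          exact Module.mem_annihilator.mp ha _
        obtain ⟨s, hs, hsx⟩ := hax p hp
        exact ⟨s * a, fun h => (hpprime.mem_or_mem h).elim hs hap, by rwa [mul_smul]⟩
      · intro q hq hqp
        exact (hΦ hp).2 ⟨hq.1, hannle.trans hq.2⟩ hqp

end Groth.Agent.H51.HL_Q1
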