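import Mathlib

/-!
# (LEN) for helper7's S14471 squad: length of `M ⧸ (m)` for `M` free of rank one over a DVR
-/

set_option autoImplicit false
universe u
open IsLocalRing IsDiscreteValuationRing

namespace Groth.Agent.H51.LSO_LEN

/-- A discrete valuation ring has infinite length over itself. -/
theorem length_self_eq_top (O : Type u) [CommRing O] [IsDomain O] [IsDiscreteValuationRing O] :
    Module.length O O = ⊤ := by
  by_contra h
  have h := Module.length_ne_top_iff.mp h
  have hA : IsArtinian O O := (isFiniteLength_iff_isNoetherian_isArtinian.mp h).2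
  have : IsArtinianRing O := hA
  exact IsDiscreteValuationRing.not_isField O (IsArtinianRing.isField_of_isDomain O)

/-- (LEN) length of `M ⧸ (m)` for `M` free of rank one over a DVR. -/
theorem length_quotient_span_eq_addVal {O M : Type u} [CommRing O] [IsDomain O]
    [IsDiscreteValuationRing O] [AddCommGroup M] [Module O M] (e : M ≃ₗ[O] O) (m : M) :
    Module.length O (M ⧸ Submodule.span O {m}) = IsDiscreteValuationRing.addVal O (e m) := by
  by_cases hx : e m = 0
  · have hm : m = 0 := by simpa using hx
    subst hm
    rw [hx, AddValuation.map_zero]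
    have h0 : Submodule.span O {(0 : M)} = ⊥ := Submodule.span_zero_singleton O
    rw [((Submodule.quotEquivOfEqBot _ h0).trans e).length_eq, length_self_eq_top]
  · obtain ⟨ϖ, hϖ⟩ := exists_irreducible O
    obtain ⟨n, u, hu⟩ := eq_unit_mul_pow_irreducible hx hϖ
    have hmap : (Submodule.span O {m}).map (e : M →ₗ[O] O) = IsLocalRing.maximalIdeal O ^ n := by
      rw [Submodule.map_span, Set.image_singleton, hϖ.maximalIdeal_eq, Ideal.span_singleton_pow]
      change Ideal.span {e m} = _
      rw [hu, Ideal.span_singleton_mul_left_unit u.isUnit]
    rw [(Submodule.Quotient.equiv _ _ e hmap).length_eq, length_quotient_pow_maximalIdeal, hu,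
      addVal_def' u hϖ n]

end Groth.Agent.H51.LSO_LEN
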