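import Groth.Agent.H51.OpenIso
import Groth.Agent.H51.ZarGlue
import Groth.Agent.H50.OpenSub
import Groth.Agent.H52.Topology

/-!
# The largest open subspace of an algebraic space which is a scheme (helper51)
-/

set_option autoImplicit false
universe u
open CategoryTheory CategoryTheory.Limits AlgebraicGeometry Opposite AlgSp

namespace Groth.Agent.H51.LargestScheme

open Groth.Agent.H50 Groth.Agent.H52

variable {S : Scheme.{u}}

/-- The set of points of `X` lying in some open subspace which is a scheme. -/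
def schemeLocus (X : Sp S) : Set (Points X) :=
  {x | ∃ (V : Over S) (j : (yon S).obj V ⟶ X), RepWith @IsOpenImmersion j ∧
    x ∈ Set.range (Points.map j)}

theorem isOpen_schemeLocus {X : Sp S} (hX : IsAlgSpace X) : IsOpen (schemeLocus X) := by
  rw [isOpen_iff_forall_mem_open]
  rintro x ⟨V, j, hj, hx⟩
  exact ⟨Set.range (Points.map j), fun y hy => ⟨V, j, hj, hy⟩,
    isOpen_range_of_repWith_isOpenImmersion (IsAlgSpace.yon_obj V) hX j hj, hx⟩

set_option maxHeartbeats 1600000 in
theorem exists_iso_yon_openSub_schemeLocus {X : Sp S} (hX : IsAlgSpace X) :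
    ∃ (G : Over S), Nonempty ((yon S).obj G ≅ openSub X (schemeLocus X)) := by
  obtain ⟨U, a, hae, has⟩ := hX.atlas
  have hsurj := surjective_ofPt_of_surjective a has
  have key : ∀ i : {u : ↥U.left // Points.ofPt a u ∈ schemeLocus X},
      ∃ (V : Over S) (j : (yon S).obj V ⟶ X), RepWith @IsOpenImmersion j ∧
        Points.ofPt a i.1 ∈ Set.range (Points.map j) := fun i => i.2
  choose V j hj hmem using key
  have hfac : ∀ i, ∃ f : (yon S).obj (V i) ⟶ openSub X (schemeLocus X),
      f ≫ openSubι X (schemeLocus X) = j i := fun i =>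
    exists_factor_openSubι (schemeLocus X) (j i) (fun y hy => ⟨V i, j i, hj i, hy⟩)
  choose f hf using hfac
  have := AlgSp.repWith_isStableUnderBaseChange (S := S) @IsOpenImmersion
  have hfo : ∀ i, RepWith @IsOpenImmersion (f i) := fun i => by
    have sq := isPullback_id_of_mono (f i) (openSubι X (schemeLocus X))
    rw [hf i] at sq
    exact MorphismProperty.of_isPullback sq (hj i)
  have hsurjF : ∀ (T : Over S) (y : (yon S).obj T ⟶ openSub X (schemeLocus X)), ∃ Sg ∈ J S T,
      ∀ ⦃T' : Over S⦄ (φ : T' ⟶ T), Sg φ →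
        ∃ (i : {u : ↥U.left // Points.ofPt a u ∈ schemeLocus X})
          (x : (yon S).obj T' ⟶ (yon S).obj (V i)), x ≫ f i = (yon S).map φ ≫ y := by
    intro T y
    let Sg : Sieve T :=
      { arrows := fun T' φ => ∃ (i : {u : ↥U.left // Points.ofPt a u ∈ schemeLocus X})
          (x : (yon S).obj T' ⟶ (yon S).obj (V i)), x ≫ f i = (yon S).map φ ≫ y
        downward_closed := by
          rintro T' T'' φ ⟨i, x, hx⟩ φ'
          exact ⟨i, (yon S).map φ' ≫ x, by rw [Category.assoc, hx, Functor.map_comp, Category.assoc]⟩ }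
    refine ⟨Sg, ?_, fun T' φ hφ => hφ⟩
    have hpt : ∀ τ : ↥T.left, ∃ (N : Over S) (n : N ⟶ T), IsOpenImmersion n.left ∧
        (∃ ν : ↥N.left, n.left ν = τ) ∧ Sg n := by
      intro τ
      have hτ : Points.ofPt (y ≫ openSubι X (schemeLocus X)) τ ∈ schemeLocus X :=
        ofPt_comp_openSubι_mem X (schemeLocus X) y τ
      obtain ⟨u, hu⟩ := hsurj (Points.ofPt (y ≫ openSubι X (schemeLocus X)) τ)
      have hu' : Points.ofPt a u ∈ schemeLocus X := hu ▸ hτ
      obtain ⟨z, hz⟩ := hmem ⟨u, hu'⟩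
      obtain ⟨N, n, fst, sq⟩ := (hj ⟨u, hu'⟩).1 (y ≫ openSubι X (schemeLocus X))
      have hn : IsOpenImmersion n.left := (hj ⟨u, hu'⟩).2 _ _ _ sq
      obtain ⟨z', rfl⟩ : ∃ z' : ↥(V ⟨u, hu'⟩).left, Points.ofScheme _ z' = z :=
        (Points.schemeEquiv _).surjective z
      have hz2 : Points.ofPt (j ⟨u, hu'⟩) z' =
          Points.ofPt (y ≫ openSubι X (schemeLocus X)) τ := by
        rw [Points.ofPt_eq_map_ofScheme, hz, hu]
      obtain ⟨x₀, rfl⟩ := (yon S).map_surjective fst
      obtain ⟨ν, -, hν⟩ := exists_of_ofPt_eq_ofPt sq z' τ hz2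
      refine ⟨N, n, hn, ⟨ν, hν⟩, ⟨u, hu'⟩, (yon S).map x₀, ?_⟩
      have hm : Mono (openSubι X (schemeLocus X)) := inferInstance
      rw [← cancel_mono (openSubι X (schemeLocus X)), Category.assoc, hf, sq.w, Category.assoc]
    choose N n hno hnpt hn using hpt
    exact mem_J_of_fppf_family N n (fun τ => by
      obtain ⟨ν, hν⟩ := hnpt τ
      exact ⟨τ, ν, hν⟩) (fun τ => by have := hno τ; infer_instance)
      (fun τ => by have := hno τ; infer_instance) Sg hn
  obtain ⟨G, e, -, -, -, -⟩ := ZarGlue.exists_iso_yon hfo hsurjF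
  exact ⟨G, ⟨e⟩⟩

end Groth.Agent.H51.LargestScheme
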