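import Groth.Prelude.Def_W4stk3formalspacesTaut

/-! Helper lemmas for the `LinTop` block (helper51). -/

set_option autoImplicit false
set_option linter.unusedSectionVars false
set_option linter.unusedVariables false
universe u v w

open Topology Filter

namespace Groth.Agent.H51

section Basic

variable {A : Type u} [CommRing A] [TopologicalSpace A] [IsTopologicalRing A]

theorem isClosed_of_isOpen_ideal (I : Ideal A) (h : IsOpen (I : Set A)) : IsClosed (I : Set A) :=
  AddSubgroup.isClosed_of_isOpen I.toAddSubgroup h

theorem closure_eq_of_isOpen_ideal (I : Ideal A) (h : IsOpen (I : Set A)) :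
    closure (I : Set A) = I :=
  (isClosed_of_isOpen_ideal I h).closure_eq

theorem ideal_closure_mono {I J : Ideal A} (h : I ≤ J) : I.closure ≤ J.closure :=
  fun _ hx => closure_mono (show (I : Set A) ⊆ J from h) hx

theorem ideal_le_closure (I : Ideal A) : I ≤ I.closure := fun _ hx => subset_closure hx

theorem ideal_closure_closure (I : Ideal A) : I.closure.closure = I.closure :=
  SetLike.ext' (by simp [Ideal.coe_closure])

/-- the closure of an ideal lies in every closed ideal containing it -/
theorem ideal_closure_le_of_isClosed {I J : Ideal A} (h : I ≤ J) (hJ : IsClosed (J : Set A)) :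
    I.closure ≤ J :=
  fun _ hx => closure_minimal (show (I : Set A) ⊆ J from h) hJ hx

theorem isOpen_ideal_closure_of_isOpen {I : Ideal A} (h : IsOpen (I : Set A)) :
    IsOpen (I.closure : Set A) :=
  Ideal.isOpen_of_isOpen_subideal (ideal_le_closure I) h

theorem closure_mul_closure_le (K L : Ideal A) : K.closure * L.closure ≤ (K * L).closure := by
  rw [Ideal.mul_le]
  intro x hx y hy
  exact map_mem_closure₂ continuous_mul hx hy (fun a ha b hb => Ideal.mul_mem_mul ha hb)

theorem closure_pow_le (K : Ideal A) (n : ℕ) : K.closure ^ n ≤ (K ^ n).closure := by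
  induction n with
  | zero => simp only [pow_zero]; exact ideal_le_closure _
  | succ n ih =>
    rw [pow_succ, pow_succ]
    exact (Ideal.mul_mono_left ih).trans (closure_mul_closure_le _ _)

end Basic

section Lin

variable {A : Type u} [CommRing A] [TopologicalSpace A] [IsTopologicalRing A] [IsLinearTopology A A]

theorem exists_open_ideal_subset {U : Set A} (hU : U ∈ 𝓝 (0 : A)) :
    ∃ I : Ideal A, IsOpen (I : Set A) ∧ (I : Set A) ⊆ U :=
  (IsLinearTopology.hasBasis_open_ideal (R := A)).mem_iff.mp hU

theorem mem_nhds_zero_of_isOpen_ideal {I : Ideal A} (h : IsOpen (I : Set A)) : (I : Set A) ∈ 𝓝 (0 : A) :=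
  h.mem_nhds I.zero_mem

theorem isTopologicallyNilpotent_iff {a : A} :
    IsTopologicallyNilpotent a ↔ ∀ I : Ideal A, IsOpen (I : Set A) → ∃ n : ℕ, a ^ n ∈ I := by
  constructor
  · intro h I hI
    exact h.exists_pow_mem_of_mem_nhds (mem_nhds_zero_of_isOpen_ideal hI)
  · intro h
    unfold IsTopologicallyNilpotent
    rw [atTop_basis.tendsto_iff (IsLinearTopology.hasBasis_open_ideal (R := A))]
    intro I hI
    obtain ⟨n, hn⟩ := h I hI
    refine ⟨n, trivial, fun m hm => ?_⟩
    obtain ⟨k, rfl⟩ := Nat.exists_eq_add_of_le (Set.mem_Ici.mp hm)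
    rw [pow_add]
    exact I.mul_mem_right _ hn

/-- In a linearly topologized ring the ideal of topologically nilpotent elements is closed. -/
theorem isClosed_topologicalNilradical : IsClosed ((topologicalNilradical A : Ideal A) : Set A) := by
  rw [← closure_subset_iff_isClosed]
  intro g hg
  change IsTopologicallyNilpotent g
  rw [isTopologicallyNilpotent_iff]
  intro I hI
  -- g ∈ n + I for some topologically nilpotent n
  have hnhds : (fun y => g - y) ⁻¹' (I : Set A) ∈ 𝓝 g := by
    have hc : Continuous (fun y : A => g - y) := continuous_const.sub continuous_id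
    apply hc.continuousAt.preimage_mem_nhds
    simp only [sub_self]
    exact mem_nhds_zero_of_isOpen_ideal hI
  obtain ⟨y, hy1, hy2⟩ := mem_closure_iff_nhds.mp hg _ hnhds
  have hy2' : IsTopologicallyNilpotent y := hy2
  obtain ⟨n, hn⟩ := (isTopologicallyNilpotent_iff.mp hy2') I hI
  refine ⟨n, ?_⟩
  have hgy : g - y ∈ I := hy1
  have : g ^ n - y ^ n ∈ I := by
    have hdvd : g - y ∣ g ^ n - y ^ n := sub_dvd_pow_sub_pow g y n
    obtain ⟨c, hc⟩ := hdvd
    rw [hc]
    exact I.mul_mem_right _ hgy
  have h2 : g ^ n = (g ^ n - y ^ n) + y ^ n := by ring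
  rw [h2]
  exact I.add_mem this hn

theorem ideal_le_topologicalNilradical_closure {I : Ideal A}
    (h : ∀ f ∈ I, IsTopologicallyNilpotent f) : ∀ g ∈ I.closure, IsTopologicallyNilpotent g := by
  intro g hg
  have hle : I ≤ topologicalNilradical A := fun f hf => h f hf
  exact ideal_closure_le_of_isClosed hle isClosed_topologicalNilradical hg

end Lin

section Map

variable {A : Type u} [CommRing A] [TopologicalSpace A] [IsTopologicalRing A] [IsLinearTopology A A]
variable {B : Type v} [CommRing B] [TopologicalSpace B] [IsTopologicalRing B] [IsLinearTopology B B]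

theorem map_le_topologicalNilradical (φ : A →+* B) (hφ : Continuous φ) (I : Ideal A)
    (h : ∀ f ∈ I, IsTopologicallyNilpotent f) : I.map φ ≤ topologicalNilradical B := by
  rw [Ideal.map_le_iff_le_comap]
  intro f hf
  exact (h f hf).map hφ

theorem isTopologicallyNilpotent_of_mem_closure_map (φ : A →+* B) (hφ : Continuous φ) (I : Ideal A)
    (h : ∀ f ∈ I, IsTopologicallyNilpotent f) :
    ∀ g ∈ (I.map φ).closure, IsTopologicallyNilpotent g :=
  ideal_le_topologicalNilradical_closure (fun f hf => map_le_topologicalNilradical φ hφ I h hf)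

end Map


section Taut

variable {A : Type u} [CommRing A] [TopologicalSpace A] [IsTopologicalRing A]
variable {B : Type v} [CommRing B] [TopologicalSpace B] [IsTopologicalRing B] [IsLinearTopology B B]

/-- For a continuous ring map into a linearly topologized ring the third clause of tautness is
automatic. -/
theorem exists_open_ideal_closure_map_subset (φ : A →+* B) (hφ : Continuous φ) {U : Set B}
    (hU : U ∈ 𝓝 (0 : B)) :
    ∃ I : Ideal A, IsOpen (I : Set A) ∧ closure ((I.map φ : Ideal B) : Set B) ⊆ U := by
  obtain ⟨J, hJ, hJU⟩ := exists_open_ideal_subset hU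
  refine ⟨J.comap φ, hJ.preimage hφ, ?_⟩
  refine Set.Subset.trans ?_ hJU
  have hle : (J.comap φ).map φ ≤ J := Ideal.map_comap_le
  exact closure_minimal (show (((J.comap φ).map φ : Ideal B) : Set B) ⊆ J from hle)
    (isClosed_of_isOpen_ideal J hJ)

theorem isTaut_of_continuous_of_isOpen (φ : A →+* B) (hφ : Continuous φ)
    (h : ∀ I : Ideal A, IsOpen (I : Set A) → IsOpen (closure ((I.map φ : Ideal B) : Set B))) :
    LinTop.IsTaut φ :=
  ⟨hφ, h, fun _ hU => exists_open_ideal_closure_map_subset φ hφ hU⟩

theorem closure_map_mono (φ : A →+* B) {I J : Ideal A} (h : I ≤ J) :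
    closure ((I.map φ : Ideal B) : Set B) ⊆ closure ((J.map φ : Ideal B) : Set B) :=
  closure_mono (show ((I.map φ : Ideal B) : Set B) ⊆ (J.map φ : Ideal B) from Ideal.map_mono h)

theorem isOpen_closure_of_le {K L : Ideal B} (h : K.closure ≤ L.closure)
    (hK : IsOpen (closure (K : Set B))) : IsOpen (closure (L : Set B)) :=
  Ideal.isOpen_of_isOpen_subideal (U := K.closure) (I := L.closure) h hK

end Taut


section FFlat

variable {A : Type u} [CommRing A] [TopologicalSpace A] [IsTopologicalRing A]
variable {B : Type v} [CommRing B] [TopologicalSpace B] [IsTopologicalRing B]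

theorem comap_closure_map_eq {φ : A →+* B} (hφ : LinTop.IsTautFFlat φ) (I : Ideal A)
    (hI : IsOpen (I : Set A)) : ((I.map φ).closure).comap φ = I := by
  apply le_antisymm
  · intro x hx
    have hinj := (hφ.2 I hI).injective
    have h0 : LinTop.descentMap φ I (Ideal.Quotient.mk I x) = 0 := by
      unfold LinTop.descentMap
      rw [Ideal.quotientMap_mk]
      exact Ideal.Quotient.eq_zero_iff_mem.mpr hx
    have := hinj (h0.trans (map_zero _).symm)
    exact Ideal.Quotient.eq_zero_iff_mem.mp this
  · exact Ideal.le_comap_map.trans (Ideal.comap_mono (ideal_le_closure _))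

end FFlat

section IdealDef

variable {A : Type u} [CommRing A] [TopologicalSpace A]

theorem exists_pow_le_of_isIdealOfDefinition {I : Ideal A} (hI : LinTop.IsIdealOfDefinition A I)
    {J : Ideal A} (hJ : IsOpen (J : Set A)) : ∃ n : ℕ, 0 < n ∧ I ^ n ≤ J :=
  hI.2 J (hJ.mem_nhds J.zero_mem)

end IdealDef

end Groth.Agent.H51
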