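import Groth.Agent.H51.PureFlat
import Groth.Agent.H49.FppfSource
import Groth.Agent.H50.Basic
import Groth.Agent.H50.Fppf
import Groth.Agent.H52.FibProd

/-!
# Descent along surjections of fppf sheaves for etale local properties (helper51)
-/

set_option autoImplicit false
universe u
open CategoryTheory CategoryTheory.Limits AlgebraicGeometry Opposite
open AlgSp

namespace Groth.Agent.H51

variable {S : Scheme.{u}}

/-- For a surjection of fppf sheaves `g : X ⟶ Y` between algebraic spaces and an etale chart `h_V ⟶ Y`, there is an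
etale chart `h_U ⟶ X` over it such that `U ⟶ V` has sections locally for an fppf covering of `V`. -/
theorem exists_local_sections {X Y : Sp S} (hX : IsAlgSpace X) (hY : IsAlgSpace Y) (g : X ⟶ Y)
    (hg : Sheaf.IsLocallySurjective g) {V : Over S} (a : (yon S).obj V ⟶ Y)
    (ha : RepWith @Etale a) :
    ∃ (U : Over S) (a' : (yon S).obj U ⟶ X) (f' : U ⟶ V), RepWith @Etale a' ∧
      a' ≫ g = (yon S).map f' ≫ a ∧
      ∃ (Ui : ↥V.left → Over S) (s : ∀ v, Ui v ⟶ U), (∀ v, Flat (s v ≫ f').left) ∧
        (∀ v, LocallyOfFinitePresentation (s v ≫ f').left) ∧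
        (∀ v, v ∈ Set.range (s v ≫ f').left) := by
  have sqQ := IsPullback.of_hasPullback a g
  have hQ : IsAlgSpace (pullback a g) :=
    Groth.Agent.H52.isAlgSpace_of_isPullback sqQ hY.diag (IsAlgSpace.yon_obj V) hX
  obtain ⟨U, p, hpe, hps⟩ := hQ.atlas
  have := AlgSp.repWith_isMultiplicative (S := S) @Etale
  have := AlgSp.repWith_isStableUnderBaseChange (S := S) @Etale
  obtain ⟨f', hf'⟩ := (yon S).map_surjective (p ≫ pullback.fst a g)
  have hsnd : RepWith @Etale (pullback.snd a g) := MorphismProperty.of_isPullback sqQ ha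
  refine ⟨U, p ≫ pullback.snd a g, f', (RepWith @Etale).comp_mem _ _ hpe hsnd, ?_, ?_⟩
  · rw [hf', Category.assoc, Category.assoc, pullback.condition]
  -- local sections
  have hmem := Presheaf.imageSieve_mem (J S) g.hom ((J S).uliftYonedaEquiv a)
  have hfam := fun v : ↥V.left => Groth.Agent.H50.exists_fppf_of_mem_J hmem v
  choose X' k hk hfl hfp x' hx' using hfam
  have hl : ∀ v, ∃ l : (yon S).obj (X' v) ⟶ X, l ≫ g = (yon S).map (k v) ≫ a := by
    intro v
    obtain ⟨t, ht⟩ := hk v
    refine ⟨(J S).uliftYonedaEquiv.symm t, ?_⟩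
    apply (J S).uliftYonedaEquiv.injective
    rw [GrothendieckTopology.uliftYonedaEquiv_comp, Equiv.apply_symm_apply,
      ← GrothendieckTopology.uliftYonedaEquiv_naturality]
    exact ht
  choose l hl using hl
  let m : ∀ v, (yon S).obj (X' v) ⟶ pullback a g := fun v =>
    pullback.lift ((yon S).map (k v)) (l v) (hl v).symm
  have hrep := fun v => hpe.rep (m v)
  choose Ui e b sqU using hrep
  have he : ∀ v, Etale (e v).left := fun v => hpe.property (m v) (b v) (e v) (sqU v)
  have hes : ∀ v, Surjective (e v).left := fun v => hps.property (m v) (b v) (e v) (sqU v)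
  have hs := fun v => (yon S).map_surjective (b v)
  choose s hs using hs
  have hcomp : ∀ v, s v ≫ f' = e v ≫ k v := by
    intro v
    apply (yon S).map_injective
    rw [Functor.map_comp, Functor.map_comp, hs, hf', ← Category.assoc, (sqU v).w, Category.assoc,
      pullback.lift_fst]
  refine ⟨Ui, s, fun v => ?_, fun v => ?_, fun v => ?_⟩
  · rw [hcomp, Over.comp_left]
    have := he v
    have := hfl v
    infer_instance
  · rw [hcomp, Over.comp_left]
    have := he v
    have := hfp v
    infer_instance
  · rw [hcomp, Over.comp_left]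
    obtain ⟨y, hy⟩ := (hes v).surj (x' v)
    exact ⟨y, by rw [Scheme.Hom.comp_apply, hy, hx']⟩

/-- If a property `P` of morphisms of schemes descends along morphisms having fppf local sections, then `LocP P`
descends along surjections of fppf sheaves. -/
theorem locP_of_comp_of_locallySurjective (P : MorphismProperty Scheme.{u})
    (hdesc : ∀ {ι : Type u} {Ui : ι → Scheme.{u}} {U V W : Scheme.{u}}
      (s : ∀ i, Ui i ⟶ U) (f' : U ⟶ V) (k : V ⟶ W), (∀ i, Flat (s i ≫ f')) →
      (∀ i, LocallyOfFinitePresentation (s i ≫ f')) → (∀ v : V, ∃ i, v ∈ Set.range (s i ≫ f')) →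
      P (f' ≫ k) → P k)
    {X Y Z : Sp S} (hX : IsAlgSpace X) (hY : IsAlgSpace Y) (g : X ⟶ Y)
    (hg : Sheaf.IsLocallySurjective g) (h : Y ⟶ Z) (hP : LocP P (g ≫ h)) : LocP P h := by
  intro V W a b k ha hb comm
  obtain ⟨U, a', f', ha', hcomm, Ui, s, hfl, hfp, hsurj⟩ := exists_local_sections hX hY g hg a ha
  have h1 : P (f' ≫ k).left := hP a' b (f' ≫ k) ha' hb (by
    rw [← Category.assoc, hcomm, Category.assoc, comm, Functor.map_comp, Category.assoc])
  exact hdesc (fun v => (s v).left) f'.left k.left hfl hfp (fun v => ⟨v, hsurj v⟩) h1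

end Groth.Agent.H51
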