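import Groth.Agent.H51.QAffDescChart
import Groth.Agent.H51.AffDescFppf
import Groth.Agent.H51.AffineTest
import Groth.Agent.H51.CoprodRep
import Groth.Agent.H52.MonoField
import Groth.Agent.H50.Descent
import Mathlib.AlgebraicGeometry.ZariskisMainTheorem

/-!
# Effective fppf descent for quasi-compact separated locally quasi-finite schemes (helper51)

Zariski's main theorem makes a quasi-compact separated locally quasi-finite scheme over an affine scheme quasi-affine,
so that the effective descent of quasi-affine schemes (`QAffDesc`) applies.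

Main result `repWith_of_epi_chart`: a morphism of sheaves `f : X ⟶ Y` is representable with `P` as soon as its base
change along some EPIMORPHISM `p : h_V ⟶ Y` from a scheme (not assumed representable) is a quasi-compact separated
locally quasi-finite morphism of schemes with `P` (`P` local on the target, satisfying fppf descent).
-/

set_option autoImplicit false
universe u
open CategoryTheory CategoryTheory.Limits AlgebraicGeometry Opposite AlgSp

namespace Groth.Agent.H51.LqfDesc

open Groth.Agent.H50

/-- Zariski's main theorem: quasi-compact separated locally quasi-finite over affine is quasi-affine. -/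
theorem isQuasiAffine_of_sep_lqf {X Y : Scheme.{u}} (f : X ⟶ Y) [IsAffine Y] [IsSeparated f]
    [LocallyQuasiFinite f] [LocallyOfFiniteType f] [QuasiCompact f] : X.IsQuasiAffine := by
  have : IsAffine f.normalization := isAffine_of_isAffineHom f.fromNormalization
  have : CompactSpace X := QuasiCompact.compactSpace_of_compactSpace f
  exact Scheme.IsQuasiAffine.of_isImmersion f.toNormalization

variable {S : Scheme.{u}}

/-- Points of the target of an epimorphism of sheaves over an affine scheme lift along an affine fppf cover. -/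
theorem exists_affine_fppf_lift {F G : Sp S} (q : F ⟶ G) [Epi q] {Z : Over S} [IsAffine Z.left]
    (y : (yon S).obj Z ⟶ G) :
    ∃ (Z' : Over S) (c : Z' ⟶ Z) (x : (yon S).obj Z' ⟶ F), IsAffine Z'.left ∧ Flat c.left ∧
      LocallyOfFinitePresentation c.left ∧ Surjective c.left ∧ x ≫ q = (yon S).map c ≫ y := by
  obtain ⟨Sg, hSg, hl⟩ := exists_local_lift q y
  have hx : ∀ τ : Z.left, ∃ (T' : Over S) (g : T' ⟶ Z), Sg g ∧ Flat g.left ∧
      LocallyOfFinitePresentation g.left ∧ ∃ t' : T'.left, g.left t' = τ :=
    fun τ => exists_fppf_of_mem_J hSg τ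
  choose T' g hg hfl hfp t' ht' using hx
  have hx2 : ∀ τ, ∃ x : (yon S).obj (T' τ) ⟶ F, x ≫ q = (yon S).map (g τ) ≫ y :=
    fun τ => hl (g τ) (hg τ)
  choose x hx using hx2
  obtain ⟨hcol⟩ := nonempty_isColimit_yon_sigmaOver T'
  let X : (yon S).obj (sigmaOver T') ⟶ F := Cofan.IsColimit.desc hcol x
  have hX : X ≫ q = (yon S).map (sigmaOverDesc g) ≫ y := by
    refine Cofan.IsColimit.hom_ext hcol _ _ (fun τ => ?_)
    change (yon S).map (sigmaOverι T' τ) ≫ X ≫ q = (yon S).map (sigmaOverι T' τ) ≫ _
    rw [← Category.assoc, ← Category.assoc, ← Functor.map_comp, sigmaOverι_desc]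
    have : (yon S).map (sigmaOverι T' τ) ≫ X = x τ := Cofan.IsColimit.fac hcol x τ
    rw [this, hx]
  have h1 : Flat (sigmaOverDesc g).left :=
    sigmaDesc_of_isZariskiLocalAtSource @Flat (fun k => (T' k).left) (fun k => (g k).left) hfl
  have h2 : LocallyOfFinitePresentation (sigmaOverDesc g).left :=
    sigmaDesc_of_isZariskiLocalAtSource @LocallyOfFinitePresentation (fun k => (T' k).left)
      (fun k => (g k).left) hfp
  have h3 : Surjective (sigmaOverDesc g).left :=
    surjective_sigmaOverDesc g (fun τ => ⟨τ, t' τ, ht' τ⟩)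
  obtain ⟨Z', c, e, hZ', hcfl, hcfp, hcs, hce⟩ :=
    AffDesc.exists_affine_fppf_cover (sigmaOverDesc g)
  refine ⟨Z', c, (yon S).map e ≫ X, hZ', hcfl, hcfp, hcs, ?_⟩
  rw [Category.assoc, hX, ← Category.assoc, ← Functor.map_comp, hce]

/-- Descent of a quasi-compact separated locally quasi-finite fibre product along an affine fppf cover. -/
theorem exists_lqf_pullback {X Y : Sp S} (f : X ⟶ Y) {V : Over S} (p : (yon S).obj V ⟶ Y)
    {P : Sp S} (fst : P ⟶ X) (snd : P ⟶ (yon S).obj V) (sq : IsPullback fst snd f p)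
    {Z Z' W' : Over S} [IsAffine Z.left] [IsAffine Z'.left]
    (g : (yon S).obj Z ⟶ Y) (c : Z' ⟶ Z) [Flat c.left] [LocallyOfFinitePresentation c.left]
    [Surjective c.left] (g'' : Z' ⟶ V)
    (hg : (yon S).map g'' ≫ p = (yon S).map c ≫ g) (b' : W' ⟶ Z') [IsSeparated b'.left]
    [LocallyQuasiFinite b'.left] [LocallyOfFiniteType b'.left] [QuasiCompact b'.left]
    (x' : (yon S).obj W' ⟶ P)
    (sqW' : IsPullback x' ((yon S).map b') snd ((yon S).map g'')) :
    ∃ (W : Over S) (w : W ⟶ Z) (k : W' ⟶ W) (x : (yon S).obj W ⟶ X), W.left.IsQuasiAffine ∧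
      IsPullback x ((yon S).map w) f g ∧ IsPullback k.left b'.left w.left c.left := by
  have hW'qa : W'.left.IsQuasiAffine := isQuasiAffine_of_sep_lqf b'.left
  have big : IsPullback (x' ≫ fst) ((yon S).map b') f ((yon S).map c ≫ g) := by
    rw [← hg]
    exact sqW'.paste_horiz sq
  have sqF := IsPullback.of_hasPullback f g
  have sq0 : IsPullback (pullback.lift (x' ≫ fst) ((yon S).map b' ≫ (yon S).map c)
      (by rw [big.w, Category.assoc])) ((yon S).map b') (pullback.snd f g) ((yon S).map c) := by
    refine IsPullback.of_right ?_ (pullback.lift_snd _ _ _) sqF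
    rw [pullback.lift_fst]
    exact big
  have hepi : Epi ((yon S).map c) := H52.epi_yon_map_of_fppf c
  obtain ⟨W, w, k, ψ, hW, hψπ, -, sqS⟩ := QAffDesc.exists_qaffine_rep c b' (pullback.snd f g) _ sq0
  refine ⟨W, w, k, ψ.inv ≫ pullback.fst f g, hW, ?_, sqS⟩
  refine IsPullback.of_iso sqF ψ (Iso.refl _) (Iso.refl _) (Iso.refl _) ?_ ?_ ?_ ?_
  · simp
  · simp [hψπ]
  · simp
  · simp

/-- A morphism of sheaves `f : X ⟶ Y` is representable with `Q` as soon as its base change along a map `p : h_V ⟶ Y`
from a scheme, through which maps from affine schemes to `Y` factor after an affine fppf cover, is a quasi-compact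
separated locally quasi-finite morphism of schemes with `Q`. -/
theorem repWith_of_local_chart (Q : MorphismProperty Scheme.{u}) [IsZariskiLocalAtTarget Q]
    [Q.IsStableUnderBaseChange] (hQ : Q.DescendsAlong fppfProp)
    {X Y : Sp S} (f : X ⟶ Y) {V R : Over S} (p : (yon S).obj V ⟶ Y)
    (hlift : ∀ ⦃Z : Over S⦄, IsAffine Z.left → ∀ g : (yon S).obj Z ⟶ Y,
      ∃ (Z' : Over S) (c : Z' ⟶ Z) (g'' : Z' ⟶ V), IsAffine Z'.left ∧ Flat c.left ∧
        LocallyOfFinitePresentation c.left ∧ Surjective c.left ∧
        (yon S).map g'' ≫ p = (yon S).map c ≫ g)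
    (fst : (yon S).obj R ⟶ X) (j : R ⟶ V) (sq : IsPullback fst ((yon S).map j) f p)
    [IsSeparated j.left] [LocallyQuasiFinite j.left] [LocallyOfFiniteType j.left]
    [QuasiCompact j.left] (hj : Q j.left) : RepWith Q f := by
  refine ZarGlue.repWith_of_affine_test Q f (fun Z hZ g => ?_)
  have := hZ
  obtain ⟨Z', c, g'', hZ', hcfl, hcfp, hcs, hx⟩ := hlift hZ g
  have sqO := IsPullback.of_hasPullback j g''
  have sqS : IsPullback (pullback.fst j g'').left (pullback.snd j g'').left j.left g''.left :=
    sqO.map (Over.forget S)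
  have i1 : IsSeparated (pullback.snd j g'').left :=
    MorphismProperty.of_isPullback (P := @IsSeparated) sqS inferInstance
  have i2 : LocallyQuasiFinite (pullback.snd j g'').left :=
    MorphismProperty.of_isPullback (P := @LocallyQuasiFinite) sqS inferInstance
  have i3 : LocallyOfFiniteType (pullback.snd j g'').left :=
    MorphismProperty.of_isPullback (P := @LocallyOfFiniteType) sqS inferInstance
  have i4 : QuasiCompact (pullback.snd j g'').left :=
    MorphismProperty.of_isPullback (P := @QuasiCompact) sqS inferInstance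
  have i5 : Q (pullback.snd j g'').left := MorphismProperty.of_isPullback (P := Q) sqS hj
  obtain ⟨W, w, k, xx, -, sqx, sqk⟩ := exists_lqf_pullback f p fst ((yon S).map j) sq g c g'' hx
    (pullback.snd j g'') ((yon S).map (pullback.fst j g'')) (sqO.map (yon S))
  exact ⟨W, w, xx, sqx, hQ.of_isPullback sqk.flip ⟨⟨hcs, hcfl⟩, hcfp⟩ i5⟩

/-- A morphism of sheaves is representable with `Q` as soon as its base change along an epimorphism from a scheme is a
quasi-compact separated locally quasi-finite morphism of schemes with `Q`. -/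
theorem repWith_of_epi_chart (Q : MorphismProperty Scheme.{u}) [IsZariskiLocalAtTarget Q]
    [Q.IsStableUnderBaseChange] (hQ : Q.DescendsAlong fppfProp)
    {X Y : Sp S} (f : X ⟶ Y) {V R : Over S} (p : (yon S).obj V ⟶ Y) [Epi p]
    (fst : (yon S).obj R ⟶ X) (j : R ⟶ V) (sq : IsPullback fst ((yon S).map j) f p)
    [IsSeparated j.left] [LocallyQuasiFinite j.left] [LocallyOfFiniteType j.left]
    [QuasiCompact j.left] (hj : Q j.left) : RepWith Q f := by
  refine repWith_of_local_chart Q hQ f p (fun Z hZ g => ?_) fst j sq hj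
  have := hZ
  obtain ⟨Z', c, x, hZ', hcfl, hcfp, hcs, hx⟩ := exists_affine_fppf_lift p g
  obtain ⟨g'', rfl⟩ := (yon S).map_surjective x
  exact ⟨Z', c, g'', hZ', hcfl, hcfp, hcs, hx⟩

/-- The diagonal of a sheaf `Y` with an epimorphism `p : h_U ⟶ Y` from a scheme whose kernel pair is a scheme `R` with
`(t, s) : R ⟶ U × U` quasi-compact separated locally quasi-finite with `Q` is representable with `Q`. -/
theorem repWith_diag_of_epi_chart (Q : MorphismProperty Scheme.{u}) [IsZariskiLocalAtTarget Q]
    [Q.IsStableUnderBaseChange] (hQ : Q.DescendsAlong fppfProp)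
    {Y : Sp S} {U R : Over S} (p : (yon S).obj U ⟶ Y) [Epi p] (s t : R ⟶ U)
    (hk : IsPullback ((yon S).map t) ((yon S).map s) p p)
    [IsSeparated (prod.lift t s).left] [LocallyQuasiFinite (prod.lift t s).left]
    [LocallyOfFiniteType (prod.lift t s).left] [QuasiCompact (prod.lift t s).left]
    (hj : Q (prod.lift t s).left) : RepWith Q (Limits.diag Y) := by
  let p2 : (yon S).obj (U ⨯ U) ⟶ Y ⨯ Y :=
    prod.lift ((yon S).map prod.fst ≫ p) ((yon S).map prod.snd ≫ p)
  have hp2a : p2 ≫ prod.fst = (yon S).map prod.fst ≫ p := prod.lift_fst _ _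
  have hp2b : p2 ≫ prod.snd = (yon S).map prod.snd ≫ p := prod.lift_snd _ _
  have hj1 : (yon S).map (prod.lift t s) ≫ (yon S).map prod.fst = (yon S).map t := by
    rw [← Functor.map_comp, prod.lift_fst]
  have hj2 : (yon S).map (prod.lift t s) ≫ (yon S).map prod.snd = (yon S).map s := by
    rw [← Functor.map_comp, prod.lift_snd]
  have hd1 : Limits.diag Y ≫ prod.fst = 𝟙 Y := prod.lift_fst _ _
  have hd2 : Limits.diag Y ≫ prod.snd = 𝟙 Y := prod.lift_snd _ _
  have sq : IsPullback ((yon S).map t ≫ p) ((yon S).map (prod.lift t s)) (Limits.diag Y) p2 := by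
    have comm : ((yon S).map t ≫ p) ≫ Limits.diag Y = (yon S).map (prod.lift t s) ≫ p2 := by
      apply Limits.prod.hom_ext
      · simp only [Category.assoc, hp2a, hd1, Category.comp_id]
        rw [← Category.assoc, hj1]
      · simp only [Category.assoc, hp2b, hd2, Category.comp_id]
        rw [← Category.assoc, hj2, hk.w]
    refine ⟨⟨comm⟩, ⟨PullbackCone.IsLimit.mk _ (fun c => ?_) (fun c => ?_) (fun c => ?_)
      (fun c m h1 h2 => ?_)⟩⟩
    · refine hk.lift (c.snd ≫ (yon S).map prod.fst) (c.snd ≫ (yon S).map prod.snd) ?_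
      have e1 := congr($(c.condition) ≫ prod.fst)
      have e2 := congr($(c.condition) ≫ prod.snd)
      simp only [Category.assoc, hp2a, hp2b, hd1, hd2, Category.comp_id] at e1 e2
      rw [Category.assoc, Category.assoc, ← e1, ← e2]
    · have e1 := congr($(c.condition) ≫ prod.fst)
      simp only [Category.assoc, hp2a, hd1, Category.comp_id] at e1
      rw [← Category.assoc, hk.lift_fst, Category.assoc, ← e1]
    · have hpres : Mono (prodComparison (yon S) U U) := by
        have : IsIso (prodComparison (yon S) U U) := inferInstance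
        infer_instance
      rw [← cancel_mono (prodComparison (yon S) U U)]
      apply Limits.prod.hom_ext
      · simp only [Category.assoc, prodComparison_fst]
        rw [hj1, hk.lift_fst]
      · simp only [Category.assoc, prodComparison_snd]
        rw [hj2, hk.lift_snd]
    · apply hk.hom_ext
      · rw [hk.lift_fst, ← hj1, ← Category.assoc, h2]
      · rw [hk.lift_snd, ← hj2, ← Category.assoc, h2]
  refine repWith_of_local_chart Q hQ (Limits.diag Y) p2 (fun Z hZ g => ?_) _ _ sq hj
  have := hZ
  obtain ⟨Z1, c1, x1, hZ1, h1a, h1b, h1c, hx1⟩ := exists_affine_fppf_lift p (g ≫ prod.fst)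
  have := hZ1
  obtain ⟨Z2, c2, x2, hZ2, h2a, h2b, h2c, hx2⟩ :=
    exists_affine_fppf_lift p ((yon S).map c1 ≫ g ≫ prod.snd)
  obtain ⟨a1, rfl⟩ := (yon S).map_surjective x1
  obtain ⟨a2, rfl⟩ := (yon S).map_surjective x2
  refine ⟨Z2, c2 ≫ c1, prod.lift (c2 ≫ a1) a2, hZ2, ?_, ?_, ?_, ?_⟩
  · rw [Over.comp_left]; infer_instance
  · rw [Over.comp_left]; infer_instance
  · rw [Over.comp_left]; infer_instance
  · apply Limits.prod.hom_ext
    · rw [Category.assoc, hp2a, ← Category.assoc, ← Functor.map_comp, prod.lift_fst,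
        Functor.map_comp, Category.assoc, hx1, Functor.map_comp, Category.assoc, Category.assoc]
    · rw [Category.assoc, hp2b, ← Category.assoc, ← Functor.map_comp, prod.lift_snd, hx2,
        Functor.map_comp, Category.assoc, Category.assoc]

end Groth.Agent.H51.LqfDesc
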