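import Mathlib
import Groth.Agent.H69.DirColim
import Groth.Agent.H15.NilPair.Base
import Groth.Agent.H15.NilPair.Defs
import Groth.Agent.H15.NilPair.Sys

/-!
# (PP) for helper15 (S18016): the directed system of fibre products `CB j ×_{CD j} CD' j`
-/

set_option autoImplicit false
universe u
open CategoryTheory MvPolynomial Limits
open Groth.Agent.H69 Groth.Agent.H15.NilPair
open scoped Classical

namespace Groth.Agent.H51.NilPair_PP

/-- The equalizer subalgebra of `X × Y` is a pullback in `CommRingCat`. -/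
lemma isPullback_equalizer {R : Type u} [CommRing R] (X Y Z : Type u) [CommRing X] [CommRing Y]
    [CommRing Z] [Algebra R X] [Algebra R Y] [Algebra R Z] (φ : X →ₐ[R] Z) (ψ : Y →ₐ[R] Z) :
    IsPullback
      (CommRingCat.ofHom ((AlgHom.fst R X Y).comp
        (AlgHom.equalizer (φ.comp (AlgHom.fst R X Y)) (ψ.comp (AlgHom.snd R X Y))).val).toRingHom)
      (CommRingCat.ofHom ((AlgHom.snd R X Y).comp
        (AlgHom.equalizer (φ.comp (AlgHom.fst R X Y)) (ψ.comp (AlgHom.snd R X Y))).val).toRingHom)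
      (CommRingCat.ofHom φ.toRingHom) (CommRingCat.ofHom ψ.toRingHom) := by
  set E := AlgHom.equalizer (φ.comp (AlgHom.fst R X Y)) (ψ.comp (AlgHom.snd R X Y)) with hE
  have w : CommRingCat.ofHom ((AlgHom.fst R X Y).comp E.val).toRingHom ≫
      CommRingCat.ofHom φ.toRingHom =
      CommRingCat.ofHom ((AlgHom.snd R X Y).comp E.val).toRingHom ≫
        CommRingCat.ofHom ψ.toRingHom := by
    apply CommRingCat.hom_ext
    apply RingHom.ext
    intro z
    exact z.2
  refine ⟨⟨w⟩, ⟨PullbackCone.IsLimit.mk w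
    (fun s => CommRingCat.ofHom ((RingHom.prod s.fst.hom s.snd.hom).codRestrict E (fun a => by
      change φ (s.fst.hom a) = ψ (s.snd.hom a)
      exact congr($(s.condition).hom a)))) ?_ ?_ ?_⟩⟩
  · intro s
    apply CommRingCat.hom_ext
    apply RingHom.ext
    intro a
    rfl
  · intro s
    apply CommRingCat.hom_ext
    apply RingHom.ext
    intro a
    rfl
  · intro s m h1 h2
    apply CommRingCat.hom_ext
    apply RingHom.ext
    intro a
    apply Subtype.ext
    apply Prod.ext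
    · exact congr($(h1).hom a)
    · exact congr($(h2).hom a)

variable {R B D D' P : Type u} [CommRing R] [CommRing B] [CommRing D] [CommRing D'] [CommRing P]
  [Algebra R B] [Algebra R D] [Algebra R D'] [Algebra R P]

theorem exists_pullback_system
    (f : B →ₐ[R] D) (i : D' →ₐ[R] D) (q₁ : P →ₐ[R] B) (q₂ : P →ₐ[R] D')
    (hw : ∀ p, f (q₁ p) = i (q₂ p)) (hPb : ∀ b d', f b = i d' → ∃ p, q₁ p = b ∧ q₂ p = d')
    (hPinj : ∀ p, q₁ p = 0 → q₂ p = 0 → p = 0)
    {J : Type u} [Preorder J] [IsDirected J (· ≤ ·)] [Nonempty J]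
    (CB CD' CD : J → Type u) [∀ j, CommRing (CB j)] [∀ j, Algebra R (CB j)]
    [∀ j, CommRing (CD' j)] [∀ j, Algebra R (CD' j)] [∀ j, CommRing (CD j)] [∀ j, Algebra R (CD j)]
    (trB : ∀ {j k : J}, j ≤ k → CB j →ₐ[R] CB k) (trD' : ∀ {j k : J}, j ≤ k → CD' j →ₐ[R] CD' k)
    (trD : ∀ {j k : J}, j ≤ k → CD j →ₐ[R] CD k)
    (trB_refl : ∀ (j : J) (x : CB j), trB (le_refl j) x = x)
    (trB_trans : ∀ {j k l : J} (h1 : j ≤ k) (h2 : k ≤ l) (x : CB j),
      trB h2 (trB h1 x) = trB (h1.trans h2) x)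
    (trD'_refl : ∀ (j : J) (x : CD' j), trD' (le_refl j) x = x)
    (trD'_trans : ∀ {j k l : J} (h1 : j ≤ k) (h2 : k ≤ l) (x : CD' j),
      trD' h2 (trD' h1 x) = trD' (h1.trans h2) x)
    (trD_refl : ∀ (j : J) (x : CD j), trD (le_refl j) x = x)
    (trD_trans : ∀ {j k l : J} (h1 : j ≤ k) (h2 : k ≤ l) (x : CD j),
      trD h2 (trD h1 x) = trD (h1.trans h2) x)
    (toB : ∀ j, CB j →ₐ[R] B) (toB_tr : ∀ {j k : J} (h : j ≤ k) (x : CB j), toB k (trB h x) = toB j x)
    (toD' : ∀ j, CD' j →ₐ[R] D')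
    (toD'_tr : ∀ {j k : J} (h : j ≤ k) (x : CD' j), toD' k (trD' h x) = toD' j x)
    (toD : ∀ j, CD j →ₐ[R] D) (toD_tr : ∀ {j k : J} (h : j ≤ k) (x : CD j), toD k (trD h x) = toD j x)
    (phi : ∀ j, CB j →ₐ[R] CD j)
    (phi_tr : ∀ {j k : J} (h : j ≤ k) (x : CB j), phi k (trB h x) = trD h (phi j x))
    (psi : ∀ j, CD' j →ₐ[R] CD j)
    (psi_tr : ∀ {j k : J} (h : j ≤ k) (x : CD' j), psi k (trD' h x) = trD h (psi j x))
    (toD_phi : ∀ j x, toD j (phi j x) = f (toB j x))
    (toD_psi : ∀ j y, toD j (psi j y) = i (toD' j y))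
    (hsB : ∀ b : B, ∃ (j : J) (x : CB j), toB j x = b)
    (hkB : ∀ (j : J) (x : CB j), toB j x = 0 → ∃ (k : J) (h : j ≤ k), trB h x = 0)
    (hsD' : ∀ b : D', ∃ (j : J) (x : CD' j), toD' j x = b)
    (hkD' : ∀ (j : J) (x : CD' j), toD' j x = 0 → ∃ (k : J) (h : j ≤ k), trD' h x = 0)
    (hkD : ∀ (j : J) (x : CD j), toD j x = 0 → ∃ (k : J) (h : j ≤ k), trD h x = 0) :
    ∃ (DP : J ⥤ Under (CommRingCat.of R))
      (π₁ : DP ⟶ dirF CB trB trB_refl trB_trans) (π₂ : DP ⟶ dirF CD' trD' trD'_refl trD'_trans)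
      (cP : DP ⟶ (Functor.const J).obj (Under.mk (CommRingCat.ofHom (algebraMap R P)))),
      Nonempty (IsColimit (Cocone.mk _ cP)) ∧
      (∀ j, (π₁.app j).right ≫ ((dirCocone CB trB trB_refl trB_trans toB toB_tr).ι.app j).right =
        (cP.app j).right ≫ CommRingCat.ofHom q₁.toRingHom) ∧
      (∀ j, (π₂.app j).right ≫ ((dirCocone CD' trD' trD'_refl trD'_trans toD' toD'_tr).ι.app j).right =
        (cP.app j).right ≫ CommRingCat.ofHom q₂.toRingHom) ∧
      (∀ j, IsPullback (π₁.app j).right (π₂.app j).right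
        ((dirNat CB CD trB trD trB_refl trB_trans trD_refl trD_trans phi phi_tr).app j).right
        ((dirNat CD' CD trD' trD trD'_refl trD'_trans trD_refl trD_trans psi psi_tr).app j).right) := by
  classical
  -- uniqueness of elements of `P`
  have uniq : ∀ p p' : P, q₁ p = q₁ p' → q₂ p = q₂ p' → p = p' := by
    intro p p' h1 h2
    have := hPinj (p - p') (by rw [map_sub, h1, sub_self]) (by rw [map_sub, h2, sub_self])
    exact sub_eq_zero.mp this
  let E : ∀ j, Subalgebra R (CB j × CD' j) := fun j =>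
    AlgHom.equalizer ((phi j).comp (AlgHom.fst R (CB j) (CD' j)))
      ((psi j).comp (AlgHom.snd R (CB j) (CD' j)))
  have hE : ∀ j (z : CB j × CD' j), z ∈ E j ↔ phi j z.1 = psi j z.2 := fun j z => Iff.rfl
  let trP : ∀ {j k : J}, j ≤ k → (E j) →ₐ[R] (E k) := fun {j k} h =>
    ((AlgHom.prodMap (trB h) (trD' h)).comp (E j).val).codRestrict (E k) (fun z => by
      rw [hE]
      change phi k (trB h z.1.1) = psi k (trD' h z.1.2)
      rw [phi_tr, psi_tr, (hE j z.1).mp z.2])
  have trP_fst : ∀ {j k : J} (h : j ≤ k) (z : E j), (trP h z).1.1 = trB h z.1.1 :=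
    fun _ _ => rfl
  have trP_snd : ∀ {j k : J} (h : j ≤ k) (z : E j), (trP h z).1.2 = trD' h z.1.2 :=
    fun _ _ => rfl
  have trP_refl : ∀ (j : J) (z : E j), trP (le_refl j) z = z := by
    intro j z
    apply Subtype.ext
    apply Prod.ext
    · rw [trP_fst, trB_refl]
    · rw [trP_snd, trD'_refl]
  have trP_trans : ∀ {j k l : J} (h1 : j ≤ k) (h2 : k ≤ l) (z : E j),
      trP h2 (trP h1 z) = trP (h1.trans h2) z := by
    intro j k l h1 h2 z
    apply Subtype.ext
    apply Prod.ext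
    · rw [trP_fst, trP_fst, trP_fst, trB_trans]
    · rw [trP_snd, trP_snd, trP_snd, trD'_trans]
  -- the map to `P`
  have hex : ∀ j (z : E j), ∃ p : P, q₁ p = toB j z.1.1 ∧ q₂ p = toD' j z.1.2 := by
    intro j z
    apply hPb
    rw [← toD_phi, ← toD_psi, (hE j z.1).mp z.2]
  choose tp htp1 htp2 using hex
  have tp_char : ∀ j (z : E j) (p : P), q₁ p = toB j z.1.1 → q₂ p = toD' j z.1.2 → tp j z = p :=
    fun j z p h1 h2 => uniq _ _ ((htp1 j z).trans h1.symm) ((htp2 j z).trans h2.symm)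
  let toP : ∀ j, (E j) →ₐ[R] P := fun j =>
    { toFun := tp j
      map_one' := tp_char j 1 1 (by rw [map_one]; exact (map_one (toB j)).symm)
        (by rw [map_one]; exact (map_one (toD' j)).symm)
      map_mul' := fun z z' => tp_char j (z * z') (tp j z * tp j z')
        (by rw [map_mul, htp1, htp1]; exact (map_mul (toB j) _ _).symm)
        (by rw [map_mul, htp2, htp2]; exact (map_mul (toD' j) _ _).symm)
      map_zero' := tp_char j 0 0 (by rw [map_zero]; exact (map_zero (toB j)).symm)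
        (by rw [map_zero]; exact (map_zero (toD' j)).symm)
      map_add' := fun z z' => tp_char j (z + z') (tp j z + tp j z')
        (by rw [map_add, htp1, htp1]; exact (map_add (toB j) _ _).symm)
        (by rw [map_add, htp2, htp2]; exact (map_add (toD' j) _ _).symm)
      commutes' := fun r => tp_char j (algebraMap R (E j) r) (algebraMap R P r)
        (by rw [AlgHom.commutes]; exact ((toB j).commutes r).symm)
        (by rw [AlgHom.commutes]; exact ((toD' j).commutes r).symm) }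
  have toP_apply : ∀ j (z : E j), toP j z = tp j z := fun _ _ => rfl
  have toP_tr : ∀ {j k : J} (h : j ≤ k) (z : E j), toP k (trP h z) = toP j z := by
    intro j k h z
    rw [toP_apply, toP_apply]
    apply tp_char
    · rw [htp1, trP_fst, toB_tr]
    · rw [htp2, trP_snd, toD'_tr]
  let fstP : ∀ j, (E j) →ₐ[R] CB j := fun j => (AlgHom.fst R (CB j) (CD' j)).comp (E j).val
  let sndP : ∀ j, (E j) →ₐ[R] CD' j := fun j => (AlgHom.snd R (CB j) (CD' j)).comp (E j).val
  have hsurjP : ∀ p : P, ∃ (j : J) (z : E j), toP j z = p := by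
    intro p
    obtain ⟨j₁, x, hx⟩ := hsB (q₁ p)
    obtain ⟨j₂, y, hy⟩ := hsD' (q₂ p)
    obtain ⟨j, h1, h2⟩ := exists_ge_ge j₁ j₂
    have hz : toD j (phi j (trB h1 x) - psi j (trD' h2 y)) = 0 := by
      rw [map_sub, toD_phi, toD_psi, toB_tr, toD'_tr, hx, hy, hw, sub_self]
    obtain ⟨k, hjk, hk⟩ := hkD j _ hz
    rw [map_sub, sub_eq_zero, ← phi_tr, ← psi_tr] at hk
    refine ⟨k, ⟨(trB hjk (trB h1 x), trD' hjk (trD' h2 y)), (hE k _).mpr hk⟩, ?_⟩
    rw [toP_apply]
    apply tp_char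
    · change q₁ p = toB k (trB hjk (trB h1 x))
      rw [toB_tr, toB_tr, hx]
    · change q₂ p = toD' k (trD' hjk (trD' h2 y))
      rw [toD'_tr, toD'_tr, hy]
  have hkerP : ∀ (j : J) (z : E j), toP j z = 0 → ∃ (k : J) (h : j ≤ k), trP h z = 0 := by
    intro j z hz
    rw [toP_apply] at hz
    have h1 : toB j z.1.1 = 0 := by rw [← htp1, hz, map_zero]
    have h2 : toD' j z.1.2 = 0 := by rw [← htp2, hz, map_zero]
    obtain ⟨k₁, hk₁, e1⟩ := hkB j _ h1
    obtain ⟨k₂, hk₂, e2⟩ := hkD' j _ h2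
    obtain ⟨k, g1, g2⟩ := exists_ge_ge k₁ k₂
    refine ⟨k, hk₁.trans g1, ?_⟩
    apply Subtype.ext
    apply Prod.ext
    · rw [trP_fst, ← trB_trans hk₁ g1, e1, map_zero]
      rfl
    · rw [trP_snd]
      have : trD' (hk₁.trans g1) z.1.2 = trD' (hk₂.trans g2) z.1.2 := rfl
      rw [this, ← trD'_trans hk₂ g2, e2, map_zero]
      rfl
  refine ⟨dirF (fun j => E j) trP trP_refl trP_trans,
    dirNat (fun j => E j) CB trP trB trP_refl trP_trans trB_refl trB_trans fstP
      (fun h z => rfl),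
    dirNat (fun j => E j) CD' trP trD' trP_refl trP_trans trD'_refl trD'_trans sndP
      (fun h z => rfl),
    (dirCocone (fun j => E j) trP trP_refl trP_trans toP toP_tr).ι, ?_, ?_, ?_, ?_⟩
  · exact dir_isColimit (fun j => E j) trP trP_refl trP_trans toP toP_tr hsurjP hkerP
  · intro j
    apply CommRingCat.hom_ext
    apply RingHom.ext
    intro z
    exact (htp1 j z).symm
  · intro j
    apply CommRingCat.hom_ext
    apply RingHom.ext
    intro z
    exact (htp2 j z).symm
  · intro j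
    exact isPullback_equalizer (CB j) (CD' j) (CD j) (phi j) (psi j)

end Groth.Agent.H51.NilPair_PP
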