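import Mathlib
import Groth.Prelude.Def_QCohCat
import Groth.Prelude.Def_Coh
import Groth.Agent.H22.QCohLimits
import Groth.Agent.H8.IsoCover
import Groth.Agent.H8.SectionsExact
import Groth.Agent.H8.Coh

/-!
# (N1a) + (N1b) for helper22's S11129 squad: coherent ⇒ noetherian object of `QCoh(Y)`
-/

set_option autoImplicit false
universe u
open CategoryTheory CategoryTheory.Limits AlgebraicGeometry TopologicalSpace Opposite

namespace Groth.Agent.H51.NoethObj_N1b

/-- (N1a) a monomorphism of `QCoh(Y)` is a monomorphism of `O_Y`-modules. -/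
theorem mono_hom_of_mono {Y : Scheme.{u}} {A B : QCohCat.QCoh Y} (f : A ⟶ B) [Mono f] :
    Mono f.hom := by
  haveI : A.obj.IsQuasicoherent := A.property
  haveI : B.obj.IsQuasicoherent := B.property
  have hK : (kernel f.hom).IsQuasicoherent :=
    Groth.Agent.H22.QCohLimits.isQuasicoherent_kernel f.hom
  let K : QCohCat.QCoh Y := ⟨kernel f.hom, hK⟩
  let k : K ⟶ A := ObjectProperty.homMk (kernel.ι f.hom)
  let k' : K ⟶ A := ObjectProperty.homMk 0
  have h1 : k ≫ f = k' ≫ f := by
    apply ObjectProperty.hom_ext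
    simp [k, k', ObjectProperty.FullSubcategory.comp_hom]
  have h2 : k = k' := (cancel_mono f).1 h1
  have h3 : kernel.ι f.hom = 0 := congrArg (fun g => g.hom) h2
  exact Preadditive.mono_of_kernel_zero h3

/-- (N1b) a coherent module on a noetherian scheme is a noetherian object of `QCoh(Y)`. -/
theorem noeth_of_coh (Y : Scheme.{u}) [IsNoetherian Y] (M : QCohCat.QCoh Y)
    (h : Coh.IsCoh M.obj) : IsNoetherianObject M := by
  rw [isNoetherianObject_iff_monotone_chain_condition]
  intro f
  haveI : M.obj.IsQuasicoherent := M.property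
  let a : ∀ k, ((f k : QCohCat.QCoh Y)).obj ⟶ M.obj := fun k => (f k).arrow.hom
  haveI hmono : ∀ k, Mono (a k) := fun k => mono_hom_of_mono (f k).arrow
  have hfac : ∀ k m (hkm : k ≤ m),
      (Subobject.ofLE (f k) (f m) (f.monotone hkm)).hom ≫ a m = a k := by
    intro k m hkm
    change (Subobject.ofLE (f k) (f m) (f.monotone hkm)).hom ≫ (f m).arrow.hom = (f k).arrow.hom
    rw [← ObjectProperty.FullSubcategory.comp_hom, Subobject.ofLE_arrow]
  let S : ∀ (V : Y.Opens), ℕ → Submodule Γ(Y, V) Γ(M.obj, V) :=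
    fun V k => LinearMap.range (Groth.Agent.H8.appₗ (a k) V)
  have hS : ∀ V, Monotone (S V) := by
    intro V k m hkm
    rintro _ ⟨s, rfl⟩
    refine ⟨(Subobject.ofLE (f k) (f m) (f.monotone hkm)).hom.app V s, ?_⟩
    simp only [Groth.Agent.H8.appₗ_apply]
    rw [← hfac k m hkm]
    rfl
  let 𝒰 := Y.affineCover.finiteSubcover
  let U : 𝒰.I₀ → Y.Opens := fun i => (𝒰.f i).opensRange
  have hU : IsOpenCover U := 𝒰.isOpenCover_opensRange
  have hU' : ∀ i, IsAffineOpen (U i) := fun i => isAffineOpen_opensRange (𝒰.f i)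
  have hstab : ∀ i, ∃ n, ∀ m, n ≤ m → S (U i) n = S (U i) m := by
    intro i
    haveI : IsNoetherianRing Γ(Y, U i) :=
      IsLocallyNoetherian.component_noetherian ⟨U i, hU' i⟩
    haveI : Module.Finite Γ(Y, U i) Γ(M.obj, U i) :=
      Groth.Agent.H8.finite_sections_of_isCoh _ h (hU' i)
    haveI : IsNoetherian Γ(Y, U i) Γ(M.obj, U i) := isNoetherian_of_isNoetherianRing_of_finite _ _
    exact monotone_stabilizes_iff_noetherian.mpr inferInstance ⟨S (U i), hS (U i)⟩
  choose n hn using hstab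
  refine ⟨Finset.univ.sup n, fun m hm => ?_⟩
  have hle : ∀ i, n i ≤ Finset.univ.sup n := fun i => Finset.le_sup (Finset.mem_univ i)
  let j := Subobject.ofLE (f (Finset.univ.sup n)) (f m) (f.monotone hm)
  have hj : j.hom ≫ a m = a (Finset.univ.sup n) := hfac _ _ hm
  haveI : ((f (Finset.univ.sup n) : QCohCat.QCoh Y)).obj.IsQuasicoherent :=
    ((f (Finset.univ.sup n) : QCohCat.QCoh Y)).property
  haveI : ((f m : QCohCat.QCoh Y)).obj.IsQuasicoherent := ((f m : QCohCat.QCoh Y)).property
  haveI hiso : IsIso j.hom := by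
    refine Groth.Agent.H8.isIso_of_bijective_affine_cover j.hom U hU hU' (fun i => ⟨?_, ?_⟩)
    · haveI : Mono j.hom := mono_of_mono_fac hj
      exact Groth.Agent.H8.app_injective_of_mono j.hom (U i)
    · intro t
      have hmem : Groth.Agent.H8.appₗ (a m) (U i) t ∈ S (U i) m := ⟨t, rfl⟩
      rw [← hn i m ((hle i).trans hm), hn i _ (hle i)] at hmem
      obtain ⟨s, hs⟩ := hmem
      refine ⟨s, Groth.Agent.H8.app_injective_of_mono (a m) (U i) ?_⟩
      simp only [Groth.Agent.H8.appₗ_apply] at hs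
      rw [← hs, ← hj]
      rfl
  have hinv : (ObjectProperty.homMk (inv j.hom) :
      (f m : QCohCat.QCoh Y) ⟶ (f (Finset.univ.sup n) : QCohCat.QCoh Y)) ≫
        (f (Finset.univ.sup n)).arrow = (f m).arrow := by
    apply ObjectProperty.hom_ext
    rw [ObjectProperty.FullSubcategory.comp_hom]
    change inv j.hom ≫ a (Finset.univ.sup n) = a m
    rw [IsIso.inv_comp_eq, hj]
  exact le_antisymm (f.monotone hm) (Subobject.le_of_comm _ hinv)

end Groth.Agent.H51.NoethObj_N1b
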