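import Mathlib.Topology.Algebra.IsUniformGroup.Basic
import Mathlib.Topology.Algebra.Group.Quotient
import Mathlib.Topology.UniformSpace.Equiv
import Mathlib.GroupTheory.QuotientGroup.Basic

/-! Completeness of the image of a complete first countable group under an open surjection
(helper51). -/

set_option autoImplicit false
set_option linter.unusedSectionVars false
set_option linter.unusedVariables false
universe u v

open Topology Filter

namespace Groth.Agent.H51

theorem completeSpace_of_open_surjective {G : Type u} {H : Type v}
    [AddCommGroup G] [UniformSpace G] [IsUniformAddGroup G] [CompleteSpace G]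
    [FirstCountableTopology G]
    [AddCommGroup H] [UniformSpace H] [IsUniformAddGroup H]
    (f : G →+ H) (hc : Continuous f) (ho : IsOpenMap f) (hs : Function.Surjective f) :
    CompleteSpace H := by
  let N : AddSubgroup G := f.ker
  let _ : UniformSpace (G ⧸ N) := IsTopologicalAddGroup.rightUniformSpace (G ⧸ N)
  have : IsUniformAddGroup (G ⧸ N) := isUniformAddGroup_of_addCommGroup
  have : CompleteSpace (G ⧸ N) := QuotientAddGroup.completeSpace_right G N
  let e : G ⧸ N ≃+ H := QuotientAddGroup.quotientKerEquivOfSurjective f hs
  have hemk : ∀ g : G, e (QuotientAddGroup.mk g) = f g := fun g => rfl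
  have hec : Continuous e := by
    have hq : IsQuotientMap (QuotientAddGroup.mk : G → G ⧸ N) := QuotientAddGroup.isQuotientMap_mk N
    rw [hq.continuous_iff]
    exact hc
  have heo : IsOpenMap e := by
    intro U hU
    have : e '' U = f '' ((QuotientAddGroup.mk : G → G ⧸ N) ⁻¹' U) := by
      ext y
      constructor
      · rintro ⟨q, hq, rfl⟩
        obtain ⟨g, rfl⟩ := QuotientAddGroup.mk_surjective q
        exact ⟨g, hq, rfl⟩
      · rintro ⟨g, hg, rfl⟩
        exact ⟨QuotientAddGroup.mk g, hg, rfl⟩
    rw [this]
    exact ho _ (hU.preimage continuous_quot_mk)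
  have hesc : Continuous e.symm := by
    rw [continuous_def]
    intro U hU
    have : (e.symm : H → G ⧸ N) ⁻¹' U = e '' U := by
      ext y
      constructor
      · intro hy
        exact ⟨e.symm y, hy, e.apply_symm_apply y⟩
      · rintro ⟨q, hq, rfl⟩
        simpa using hq
    rw [this]
    exact heo U hU
  have hu1 : UniformContinuous e := uniformContinuous_addMonoidHom_of_continuous hec
  have hu2 : UniformContinuous e.symm := uniformContinuous_addMonoidHom_of_continuous hesc
  let ue : (G ⧸ N) ≃ᵤ H :=
    { toEquiv := e.toEquiv
      uniformContinuous_toFun := hu1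
      uniformContinuous_invFun := hu2 }
  exact ue.completeSpace_iff.mp inferInstance

end Groth.Agent.H51
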