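import Mathlib

/-!
# A point whose base change to a field extension is isolated in a quasi-finite open is open (helper51, for helper63)
-/

set_option autoImplicit false
universe u
open CategoryTheory CategoryTheory.Limits AlgebraicGeometry

namespace Groth.Agent.H51.PtOpenBC

theorem isOpen_singleton_of_baseChange {K L : Type u} [Field K] [Field L] {X : Scheme.{u}}
    (f : X ⟶ Spec (CommRingCat.of K))
    (j : Spec (CommRingCat.of L) ⟶ Spec (CommRingCat.of K))
    (N : (pullback f j).Opens) (hN : LocallyOfFiniteType (N.ι ≫ pullback.snd f j))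
    (hN' : LocallyQuasiFinite (N.ι ≫ pullback.snd f j))
    (x' : ↥(pullback f j)) (hx' : x' ∈ N) :
    IsOpen ({(pullback.fst f j) x'} : Set X) := by
  have _ := hN
  let g := N.ι ≫ pullback.snd f j
  let z : ↥(N.toScheme) := ⟨x', hx'⟩
  have hz : N.ι z = x' := rfl
  -- `N` is discrete
  have hsub : Subsingleton ↥(Spec (CommRingCat.of L)) := inferInstance
  have hdisc : _root_.IsDiscrete (g ⁻¹' {g z}) := g.isDiscrete_preimage_singleton _
  have huniv : g ⁻¹' {g z} = Set.univ := by
    ext w
    simp only [Set.mem_preimage, Set.mem_singleton_iff, Set.mem_univ, iff_true]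
    exact Subsingleton.elim _ _
  rw [huniv, isDiscrete_univ_iff] at hdisc
  have h1 : IsOpen ({z} : Set ↥(N.toScheme)) := isOpen_discrete _
  have h2 : IsOpen (N.ι '' ({z} : Set ↥(N.toScheme))) := N.ι.isOpenEmbedding.isOpenMap _ h1
  rw [Set.image_singleton, hz] at h2
  -- `pullback.fst f j` is open
  have hopen : UniversallyOpen (pullback.fst f j) := inferInstance
  have h4 := (pullback.fst f j).isOpenMap _ h2
  rwa [Set.image_singleton] at h4

end Groth.Agent.H51.PtOpenBC
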