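import Mathlib
import Groth.Agent.H50.Lfp

/-!
# Flatness descends along universally injective ring maps (helper51)

If `A → B → C → D` with `C` flat over `A` and `D` faithfully flat over `B`, then `B` is flat over `A`.
Scheme version: if `f' : U ⟶ V`, `k : V ⟶ W` and a family `s i : Ui i ⟶ U` with `s i ≫ f'` flat and
jointly surjective, and `f' ≫ k` is flat, then `k` is flat.
-/

set_option autoImplicit false
universe u

open CategoryTheory AlgebraicGeometry TensorProduct

namespace Groth.Agent.H51

/-- If `A → B → C → D` with `C` flat over `A` and `D` faithfully flat over `B`, then `B` is flat over `A`. -/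
theorem flat_of_flat_of_faithfullyFlat_comp (A B C D : Type*) [CommRing A] [CommRing B] [CommRing C]
    [CommRing D] [Algebra A B] [Algebra B C] [Algebra A C] [IsScalarTower A B C]
    [Algebra C D] [Algebra B D] [Algebra A D] [IsScalarTower B C D] [IsScalarTower A B D]
    [IsScalarTower A C D] [Module.Flat A C] [Module.FaithfullyFlat B D] : Module.Flat A B := by
  rw [Module.Flat.iff_lTensor_preserves_injective_linearMap]
  intro N P _ _ _ _ f hf
  let β : B →ₗ[A] C := (IsScalarTower.toAlgHom A B C).toLinearMap
  let δ : B →ₗ[A] D := (IsScalarTower.toAlgHom A B D).toLinearMap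
  let γ : C →ₗ[A] D := (IsScalarTower.toAlgHom A C D).toLinearMap
  have hδ : δ = γ ∘ₗ β := by
    ext b
    simp [β, γ, δ, ← IsScalarTower.algebraMap_apply B C D]
  have h1 : Function.Injective (f.lTensor C) :=
    Module.Flat.lTensor_preserves_injective_linearMap f hf
  have hδN : Function.Injective (δ.rTensor N) := by
    have key : ∀ x : B ⊗[A] N, δ.rTensor N x =
        (AlgebraTensorModule.cancelBaseChange A B D D N) ((1 : D) ⊗ₜ[B] x) := by
      intro x
      induction x with
      | zero => simp
      | add x y hx hy => simp only [map_add, tmul_add, hx, hy]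
      | tmul b n => simp [δ, Algebra.smul_def]
    intro x y hxy
    rw [key, key] at hxy
    exact Module.FaithfullyFlat.tensorProduct_mk_injective (A := B) (B := D) (B ⊗[A] N)
      ((AlgebraTensorModule.cancelBaseChange A B D D N).injective hxy)
  have hβN : Function.Injective (β.rTensor N) := by
    have h2 : δ.rTensor N = (γ.rTensor N) ∘ₗ (β.rTensor N) := by
      rw [hδ, LinearMap.rTensor_comp]
    have h3 : Function.Injective ((γ.rTensor N) ∘ (β.rTensor N)) := by
      rw [← LinearMap.coe_comp, ← h2]
      exact hδN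
    exact Function.Injective.of_comp h3
  have comm : ∀ z : B ⊗[A] N, f.lTensor C (β.rTensor N z) = β.rTensor P (f.lTensor B z) := by
    intro z
    rw [← LinearMap.comp_apply, ← LinearMap.comp_apply, LinearMap.lTensor_comp_rTensor,
      LinearMap.rTensor_comp_lTensor]
  intro x y hxy
  apply hβN
  apply h1
  rw [comm, comm, hxy]

/-- Ring hom version. -/
theorem _root_.RingHom.Flat.of_comp_of_faithfullyFlat_comp {A B C D : Type*} [CommRing A] [CommRing B]
    [CommRing C] [CommRing D] (α : A →+* B) (β : B →+* C) (γ : C →+* D)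
    (h1 : (β.comp α).Flat) (h2 : (γ.comp β).FaithfullyFlat) : α.Flat := by
  algebraize [α, β, γ, β.comp α, γ.comp β, γ.comp (β.comp α)]
  have : IsScalarTower A B D := IsScalarTower.of_algebraMap_eq fun _ => rfl
  have : Module.FaithfullyFlat B D := h2
  have : Module.Flat A C := h1
  exact flat_of_flat_of_faithfullyFlat_comp A B C D

/-- Flatness of `k` follows from flatness of `f' ≫ k` when `f'` admits, locally for a jointly surjective
flat family on its target, sections. -/
theorem flat_of_comp_of_local_sections {ι : Type*} {Ui : ι → Scheme.{u}} {U V W : Scheme.{u}}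
    (s : ∀ i, Ui i ⟶ U) (f' : U ⟶ V) (k : V ⟶ W) (he : ∀ i, Flat (s i ≫ f'))
    (hs : ∀ v : V, ∃ i, v ∈ Set.range (s i ≫ f')) (H : Flat (f' ≫ k)) : Flat k := by
  rw [Flat.iff_flat_stalkMap]
  intro v
  obtain ⟨i, x, rfl⟩ := hs v
  have := he i
  have h1 : ((f' ≫ k).stalkMap (s i x)).hom.Flat := Flat.stalkMap _ _
  rw [Scheme.Hom.stalkMap_comp] at h1
  have h2 : ((s i ≫ f').stalkMap x).hom.Flat := Flat.stalkMap _ x
  have h2' : IsLocalHom ((s i ≫ f').stalkMap x).hom := inferInstance
  rw [Scheme.Hom.stalkMap_comp] at h2 h2'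
  refine RingHom.Flat.of_comp_of_faithfullyFlat_comp (k.stalkMap (f' (s i x))).hom
    (f'.stalkMap (s i x)).hom ((s i).stalkMap x).hom h1 ?_
  have h3 : (((s i).stalkMap x).hom.comp (f'.stalkMap (s i x)).hom).Flat := h2
  have h3' : IsLocalHom (((s i).stalkMap x).hom.comp (f'.stalkMap (s i x)).hom) := h2'
  algebraize [(((s i).stalkMap x).hom.comp (f'.stalkMap (s i x)).hom)]
  have : Module.Flat (V.presheaf.stalk (f' (s i x))) ((Ui i).presheaf.stalk x) := h3
  have : IsLocalHom (algebraMap (V.presheaf.stalk (f' (s i x))) ((Ui i).presheaf.stalk x)) := h3'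
  exact Module.FaithfullyFlat.of_flat_of_isLocalHom

/-- Local finite type of `k` follows from that of `f' ≫ k` when `f'` admits fppf-local sections. -/
theorem lft_of_comp_of_local_sections {ι : Type*} {Ui : ι → Scheme.{u}} {U V W : Scheme.{u}}
    (s : ∀ i, Ui i ⟶ U) (f' : U ⟶ V) (k : V ⟶ W)
    (hft : ∀ i, LocallyOfFiniteType (s i ≫ f'))
    (H : LocallyOfFiniteType (f' ≫ k)) (i : ι) : LocallyOfFiniteType ((s i ≫ f') ≫ k) := by
  have := hft i
  have : LocallyOfFiniteType (s i) := locallyOfFiniteType_of_comp (s i) f'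
  rw [Category.assoc]
  infer_instance

/-- Local finite presentation of `k` follows from that of `f' ≫ k` when `f'` admits fppf-local sections. -/
theorem lfp_of_comp_of_local_sections {ι : Type*} {Ui : ι → Scheme.{u}} {U V W : Scheme.{u}}
    (s : ∀ i, Ui i ⟶ U) (f' : U ⟶ V) (k : V ⟶ W)
    (hfp : ∀ i, LocallyOfFinitePresentation (s i ≫ f'))
    (H : LocallyOfFinitePresentation (f' ≫ k)) (i : ι) :
    LocallyOfFinitePresentation ((s i ≫ f') ≫ k) := by
  have := hfp i
  have : LocallyOfFiniteType (f' ≫ k) := inferInstance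
  have hf' : LocallyOfFiniteType f' := locallyOfFiniteType_of_comp f' k
  have : LocallyOfFinitePresentation (s i) := Groth.Agent.H50.lfp_of_comp_of_lft (s i) f' (hfp i) hf'
  rw [Category.assoc]
  infer_instance

end Groth.Agent.H51
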