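import Groth.Prelude.Def_Desc
import Groth.Agent.H52.EpiBC
import Groth.Agent.H50.Basic
import Mathlib.CategoryTheory.Sites.RegularEpi

/-!
# Representability from effectivity of functor-of-points descent data (helper51)
-/

set_option autoImplicit false
universe u
open CategoryTheory CategoryTheory.Limits AlgebraicGeometry Opposite AlgSp

namespace Groth.Agent.H51.SchDDRep

variable {S : Scheme.{u}}

section

variable {Z Z' W' : Over S} (c : Z' ⟶ Z) (b' : W' ⟶ Z') {F : Sp S} (π : F ⟶ (yon S).obj Z)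
  (a : (yon S).obj W' ⟶ F)

/-- Two points of `W'` have the same image in `F`. -/
def SameF {T₀ : Scheme.{u}} (v v₁ : T₀ ⟶ W'.left) : Prop :=
  v ≫ W'.hom = v₁ ≫ W'.hom ∧ ∀ (s : T₀ ⟶ S) (hs : v ≫ W'.hom = s) (hs₁ : v₁ ≫ W'.hom = s),
    (yon S).map (Over.homMk v hs : Over.mk s ⟶ W') ≫ a =
      (yon S).map (Over.homMk v₁ hs₁ : Over.mk s ⟶ W') ≫ a

theorem SameF.refl {T₀ : Scheme.{u}} (v : T₀ ⟶ W'.left) : SameF a v v :=
  ⟨rfl, fun _ _ _ => rfl⟩

theorem SameF.symm {T₀ : Scheme.{u}} {v v₁ : T₀ ⟶ W'.left} (h : SameF a v v₁) : SameF a v₁ v :=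
  ⟨h.1.symm, fun s hs hs₁ => (h.2 s hs₁ hs).symm⟩

theorem SameF.trans {T₀ : Scheme.{u}} {v v₁ v₂ : T₀ ⟶ W'.left} (h : SameF a v v₁)
    (h' : SameF a v₁ v₂) : SameF a v v₂ :=
  ⟨h.1.trans h'.1, fun s hs hs₂ => (h.2 s hs (h.1.symm.trans hs)).trans (h'.2 s _ hs₂)⟩

theorem SameF.precomp {T₀ T₁ : Scheme.{u}} (g : T₁ ⟶ T₀) {v v₁ : T₀ ⟶ W'.left} (h : SameF a v v₁) :
    SameF a (g ≫ v) (g ≫ v₁) := by
  refine ⟨by rw [Category.assoc, Category.assoc, h.1], fun s' hs' hs₁' => ?_⟩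
  have hg : g ≫ (v ≫ W'.hom) = s' := by rw [← Category.assoc]; exact hs'
  let gh : Over.mk s' ⟶ Over.mk (v ≫ W'.hom) := Over.homMk g hg
  have e1 : (Over.homMk (g ≫ v) hs' : Over.mk s' ⟶ W') = gh ≫ Over.homMk v rfl := by
    apply Over.OverMorphism.ext
    rfl
  have e2 : (Over.homMk (g ≫ v₁) hs₁' : Over.mk s' ⟶ W') = gh ≫ Over.homMk v₁ h.1.symm := by
    apply Over.OverMorphism.ext
    rfl
  rw [e1, e2, Functor.map_comp, Functor.map_comp, Category.assoc, Category.assoc, h.2 _ rfl h.1.symm]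

variable {c b' π a}

theorem existsUnique_lift (sq0 : IsPullback a ((yon S).map b') π ((yon S).map c)) {T₀ : Scheme.{u}}
    (x₀ x₁ : T₀ ⟶ Z'.left) (h : x₀ ≫ c.left = x₁ ≫ c.left) (v : T₀ ⟶ W'.left)
    (hv : v ≫ b'.left = x₀) : ∃! v₁ : T₀ ⟶ W'.left, v₁ ≫ b'.left = x₁ ∧ SameF a v v₁ := by
  have hs : v ≫ W'.hom = x₀ ≫ Z'.hom := by rw [← Over.w b', ← Category.assoc, hv]
  have hx₁ : x₁ ≫ Z'.hom = x₀ ≫ Z'.hom := by
    rw [← Over.w c, ← Category.assoc, ← h, Category.assoc]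
  let vh : Over.mk (x₀ ≫ Z'.hom) ⟶ W' := Over.homMk v hs
  let xh₁ : Over.mk (x₀ ≫ Z'.hom) ⟶ Z' := Over.homMk x₁ hx₁
  have comm : ((yon S).map vh ≫ a) ≫ π = (yon S).map xh₁ ≫ (yon S).map c := by
    rw [Category.assoc, sq0.w, ← Functor.map_comp, ← Functor.map_comp, ← Functor.map_comp]
    congr 1
    apply Over.OverMorphism.ext
    change v ≫ b'.left ≫ c.left = x₁ ≫ c.left
    rw [← Category.assoc, hv, h]
  obtain ⟨v₁, hv₁⟩ := (yon S).map_surjective (sq0.lift _ _ comm)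
  have h1 : (yon S).map v₁ ≫ a = (yon S).map vh ≫ a := by rw [hv₁, sq0.lift_fst]
  have h2 : v₁ ≫ b' = xh₁ := (yon S).map_injective (by rw [Functor.map_comp, hv₁, sq0.lift_snd])
  have hw₁ : v₁.left ≫ W'.hom = x₀ ≫ Z'.hom := Over.w v₁
  refine ⟨v₁.left, ⟨congrArg CommaMorphism.left h2, hs.trans hw₁.symm, fun s' hs' hs₁' => ?_⟩, ?_⟩
  · obtain rfl : s' = x₀ ≫ Z'.hom := hs'.symm.trans hs
    exact h1.symm
  · rintro v₂ ⟨hv₂, hsame⟩
    have hs₂ : v₂ ≫ W'.hom = x₀ ≫ Z'.hom := hsame.1.symm.trans hs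
    let vh₂ : Over.mk (x₀ ≫ Z'.hom) ⟶ W' := Over.homMk v₂ hs₂
    have : (yon S).map vh₂ = (yon S).map v₁ := by
      apply sq0.hom_ext
      · rw [h1]
        exact (hsame.2 _ hs hs₂).symm
      · rw [← Functor.map_comp, ← Functor.map_comp, h2]
        congr 1
        apply Over.OverMorphism.ext
        exact hv₂
    exact congrArg CommaMorphism.left ((yon S).map_injective this)

/-- The transported point. -/
noncomputable def lift (sq0 : IsPullback a ((yon S).map b') π ((yon S).map c)) {T₀ : Scheme.{u}}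
    (x₀ x₁ : T₀ ⟶ Z'.left) (h : x₀ ≫ c.left = x₁ ≫ c.left)
    (v : Desc.Lifts (Over.mk b'.left) x₀) : Desc.Lifts (Over.mk b'.left) x₁ :=
  ⟨(existsUnique_lift sq0 x₀ x₁ h v.1 v.2).choose,
    (existsUnique_lift sq0 x₀ x₁ h v.1 v.2).choose_spec.1.1⟩

theorem lift_spec (sq0 : IsPullback a ((yon S).map b') π ((yon S).map c)) {T₀ : Scheme.{u}}
    (x₀ x₁ : T₀ ⟶ Z'.left) (h : x₀ ≫ c.left = x₁ ≫ c.left)
    (v : Desc.Lifts (Over.mk b'.left) x₀) : SameF a v.1 (lift sq0 x₀ x₁ h v).1 :=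
  (existsUnique_lift sq0 x₀ x₁ h v.1 v.2).choose_spec.1.2

theorem lift_unique (sq0 : IsPullback a ((yon S).map b') π ((yon S).map c)) {T₀ : Scheme.{u}}
    (x₀ x₁ : T₀ ⟶ Z'.left) (h : x₀ ≫ c.left = x₁ ≫ c.left)
    (v : Desc.Lifts (Over.mk b'.left) x₀) (v' : Desc.Lifts (Over.mk b'.left) x₁)
    (hs : SameF a v.1 v'.1) : lift sq0 x₀ x₁ h v = v' :=
  Subtype.ext ((existsUnique_lift sq0 x₀ x₁ h v.1 v.2).choose_spec.2 v'.1 ⟨v'.2, hs⟩).symm

/-- The descent datum on `W'` over `Z'` relative to `c` induced by a sheaf `F` over `Z` with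
`F ×_Z Z' = W'`. -/
noncomputable def dd (sq0 : IsPullback a ((yon S).map b') π ((yon S).map c)) :
    Desc.SchDD c.left where
  obj := Over.mk b'.left
  φ T₀ x₀ x₁ h :=
    { toFun := lift sq0 x₀ x₁ h
      invFun := lift sq0 x₁ x₀ h.symm
      left_inv := fun v => lift_unique sq0 _ _ _ _ _ (lift_spec sq0 x₀ x₁ h v).symm
      right_inv := fun v => lift_unique sq0 _ _ _ _ _ (lift_spec sq0 x₁ x₀ h.symm v).symm }
  φ_natural T₀ T₁ g x₀ x₁ h h' v v' hv' := by
    have key : lift sq0 (g ≫ x₀) (g ≫ x₁) h' v' =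
        ⟨g ≫ (lift sq0 x₀ x₁ h v).1, by
          rw [Category.assoc]
          exact congrArg (g ≫ ·) (lift sq0 x₀ x₁ h v).2⟩ := by
      refine lift_unique sq0 _ _ _ _ _ ?_
      change SameF a v'.1 (g ≫ (lift sq0 x₀ x₁ h v).1)
      rw [hv']
      exact (lift_spec sq0 x₀ x₁ h v).precomp a g
    exact congrArg Subtype.val key
  φ_self T₀ x v := lift_unique sq0 x x rfl v v (SameF.refl a v.1)
  φ_comp T₀ x₀ x₁ x₂ h₀₁ h₁₂ v := by
    symm
    exact lift_unique sq0 x₀ x₂ (h₀₁.trans h₁₂) v _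
      ((lift_spec sq0 x₀ x₁ h₀₁ v).trans a (lift_spec sq0 x₁ x₂ h₁₂ _))

end

/-- Two quotients of `h_{W'}` with the same kernel pair: if `F ×_Z Z' = W'` and `W ×_Z Z' = W'` and points of
`W'` identified in `F` are identified in `W`, then `F ≅ h_W` over `Z`. -/
theorem exists_iso_of_kernel {Z Z' W' W : Over S} (c : Z' ⟶ Z) [Epi ((yon S).map c)] (b' : W' ⟶ Z')
    {F : Sp S} (π : F ⟶ (yon S).obj Z) (a : (yon S).obj W' ⟶ F)
    (sq0 : IsPullback a ((yon S).map b') π ((yon S).map c))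
    (w : W ⟶ Z) (k : W' ⟶ W) (sqO : IsPullback k b' w c)
    (hker : ∀ (T : Over S) (v v' : T ⟶ W'), (yon S).map v ≫ a = (yon S).map v' ≫ a → v ≫ k = v' ≫ k) :
    ∃ ψ : F ≅ (yon S).obj W, ψ.hom ≫ (yon S).map w = π ∧ a ≫ ψ.hom = (yon S).map k := by
  obtain ⟨W2, a1, b2, hW2⟩ : ∃ (W2 : Over S) (a1 : W2 ⟶ W') (b2 : W2 ⟶ Z'),
      IsPullback a1 b2 (b' ≫ c) c := ⟨_, _, _, IsPullback.of_hasPullback _ _⟩
  have hcomm : ((yon S).map a1 ≫ a) ≫ π = (yon S).map b2 ≫ (yon S).map c := by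
    rw [Category.assoc, sq0.w, ← Functor.map_comp, ← Functor.map_comp, ← Functor.map_comp, ← hW2.w]
  obtain ⟨p2, hp2⟩ := (yon S).map_surjective (sq0.lift ((yon S).map a1 ≫ a) ((yon S).map b2) hcomm)
  have hp2a : (yon S).map p2 ≫ a = (yon S).map a1 ≫ a := by rw [hp2, sq0.lift_fst]
  have hp2b : p2 ≫ b' = b2 := (yon S).map_injective (by rw [Functor.map_comp, hp2, sq0.lift_snd])
  have hkw : k ≫ w = b' ≫ c := sqO.w
  have sqW : IsPullback ((yon S).map k) ((yon S).map b') ((yon S).map w) ((yon S).map c) :=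
    sqO.map (yon S)
  have hepia : Epi a := H52.epi_fst_of_isPullback sq0
  have ker : IsPullback ((yon S).map p2) ((yon S).map a1) a a := by
    have outer : IsPullback ((yon S).map p2 ≫ (yon S).map b') ((yon S).map a1) ((yon S).map c)
        (a ≫ π) := by
      rw [← Functor.map_comp, hp2b, sq0.w, ← Functor.map_comp]
      exact (hW2.map (yon S)).flip
    exact IsPullback.of_right outer hp2a sq0.flip
  have h1 : IsRegularEpi a := IsRegularEpiCategory.regularEpiOfEpi a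
  have h2 : EffectiveEpi a := (isRegularEpi_iff_effectiveEpi a).1 h1
  have hcol : IsColimit (Cofork.ofπ a ker.w) := isColimitCoforkOfEffectiveEpi a ker.cone ker.isLimit
  have hkk : (yon S).map p2 ≫ (yon S).map k = (yon S).map a1 ≫ (yon S).map k := by
    rw [← Functor.map_comp, ← Functor.map_comp, hker W2 p2 a1 hp2a]
  let ψ : F ⟶ (yon S).obj W := Cofork.IsColimit.desc hcol ((yon S).map k) hkk
  have haψ : a ≫ ψ = (yon S).map k := Cofork.IsColimit.π_desc hcol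
  have hψπ : ψ ≫ (yon S).map w = π := by
    rw [← cancel_epi a, ← Category.assoc, haψ, ← Functor.map_comp, hkw, sq0.w, Functor.map_comp]
  have hepik : Epi ((yon S).map k) := H52.epi_fst_of_isPullback sqW
  have hepiψ : Epi ψ := by
    have : Epi (a ≫ ψ) := by rw [haψ]; exact hepik
    exact epi_of_epi a ψ
  have hmonoψ : Mono ψ := by
    apply H50.mono_of_forall_yon
    intro T x₁ x₂ h12
    obtain ⟨z, hz⟩ := (yon S).map_surjective (x₁ ≫ π)
    have hz2 : (yon S).map z = x₂ ≫ π := by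
      rw [hz, ← hψπ, ← Category.assoc, h12, Category.assoc]
    obtain ⟨T', pr1, pr2, hT'⟩ : ∃ (T' : Over S) (pr1 : T' ⟶ T) (pr2 : T' ⟶ Z'),
        IsPullback pr1 pr2 z c := ⟨_, _, _, IsPullback.of_hasPullback _ _⟩
    have sqT := hT'.map (yon S)
    have hepi1 : Epi ((yon S).map pr1) := H52.epi_fst_of_isPullback sqT
    rw [← cancel_epi ((yon S).map pr1)]
    have c1 : ((yon S).map pr1 ≫ x₁) ≫ π = (yon S).map pr2 ≫ (yon S).map c := by
      rw [Category.assoc, ← hz, sqT.w]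
    have c2 : ((yon S).map pr1 ≫ x₂) ≫ π = (yon S).map pr2 ≫ (yon S).map c := by
      rw [Category.assoc, ← hz2, sqT.w]
    have e12 : sq0.lift _ _ c1 = sq0.lift _ _ c2 := by
      apply sqW.hom_ext
      · rw [← haψ, ← Category.assoc, ← Category.assoc, sq0.lift_fst, sq0.lift_fst, Category.assoc,
          Category.assoc, h12]
      · rw [sq0.lift_snd, sq0.lift_snd]
    rw [← sq0.lift_fst _ _ c1, ← sq0.lift_fst _ _ c2, e12]
  have hiso : IsIso ψ := isIso_of_mono_of_epi ψ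
  exact ⟨asIso ψ, hψπ, haψ⟩

/-- If the descent datum induced by a sheaf `F` over `Z` with `F ×_Z Z' = W'` is effective, then `F` is
representable. -/
theorem exists_rep_of_effective {Z Z' W' : Over S} (c : Z' ⟶ Z) [Epi ((yon S).map c)] (b' : W' ⟶ Z')
    {F : Sp S} (π : F ⟶ (yon S).obj Z) (a : (yon S).obj W' ⟶ F)
    (sq0 : IsPullback a ((yon S).map b') π ((yon S).map c))
    (heff : (Desc.toDD c.left).essImage (dd sq0)) :
    ∃ (W : Over S) (w : W ⟶ Z) (k : W' ⟶ W) (ψ : F ≅ (yon S).obj W),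
      ψ.hom ≫ (yon S).map w = π ∧ a ≫ ψ.hom = (yon S).map k ∧ IsPullback k b' w c := by
  obtain ⟨W₀, ⟨e⟩⟩ := heff
  obtain ⟨θ, hθ⟩ : ∃ θ : pullback c.left W₀.hom ⟶ W'.left, θ = e.hom.hom.left := ⟨_, rfl⟩
  obtain ⟨θi, hθi⟩ : ∃ θi : W'.left ⟶ pullback c.left W₀.hom, θi = e.inv.hom.left := ⟨_, rfl⟩
  have hθ1 : θ ≫ θi = 𝟙 _ := by
    have := congrArg (fun f => f.hom.left) e.hom_inv_id
    rw [hθ, hθi]
    exact this
  have hθ2 : θi ≫ θ = 𝟙 _ := by
    have := congrArg (fun f => f.hom.left) e.inv_hom_id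
    rw [hθ, hθi]
    exact this
  have hθb : θ ≫ b'.left = pullback.fst c.left W₀.hom := by
    rw [hθ]
    exact Over.w e.hom.hom
  have hθib : θi ≫ pullback.fst c.left W₀.hom = b'.left := by
    rw [hθi]
    exact Over.w e.inv.hom
  obtain ⟨k₀, hk₀d⟩ : ∃ k₀ : W'.left ⟶ W₀.left, k₀ = θi ≫ pullback.snd c.left W₀.hom := ⟨_, rfl⟩
  have hk₀ : k₀ ≫ W₀.hom = b'.left ≫ c.left := by
    rw [hk₀d, Category.assoc, ← pullback.condition, ← Category.assoc, hθib]
  let W : Over S := Over.mk (W₀.hom ≫ Z.hom)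
  let w : W ⟶ Z := Over.homMk W₀.hom rfl
  let k : W' ⟶ W := Over.homMk k₀ (by
    change k₀ ≫ W₀.hom ≫ Z.hom = W'.hom
    rw [← Category.assoc, hk₀, Category.assoc, Over.w c, Over.w b'])
  have sqS : IsPullback k₀ b'.left W₀.hom c.left := by
    have h0 := (IsPullback.of_hasPullback c.left W₀.hom).flip
    refine IsPullback.of_iso h0 ⟨θ, θi, hθ1, hθ2⟩ (Iso.refl _) (Iso.refl _) (Iso.refl _) ?_ ?_ ?_ ?_
    · change pullback.snd c.left W₀.hom ≫ 𝟙 _ = θ ≫ k₀
      rw [hk₀d, ← Category.assoc, hθ1, Category.id_comp, Category.comp_id]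
    · change pullback.fst c.left W₀.hom ≫ 𝟙 _ = θ ≫ b'.left
      rw [hθb, Category.comp_id]
    · simp
    · simp
  have sqO : IsPullback k b' w c :=
    IsPullback.of_map (Over.forget S) (by
      apply Over.OverMorphism.ext
      exact hk₀) sqS
  have hker : ∀ (T : Over S) (v v' : T ⟶ W'), (yon S).map v ≫ a = (yon S).map v' ≫ a →
      v ≫ k = v' ≫ k := by
    intro T v v' hvv'
    have hx : (v ≫ b').left ≫ c.left = (v' ≫ b').left ≫ c.left := by
      have h1 : (yon S).map (v ≫ b' ≫ c) = (yon S).map (v' ≫ b' ≫ c) := by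
        rw [Functor.map_comp, Functor.map_comp, Functor.map_comp, Functor.map_comp, ← sq0.w,
          ← Category.assoc, hvv', Category.assoc]
      have h2 := congrArg CommaMorphism.left ((yon S).map_injective h1)
      simpa using h2
    let vL : Desc.Lifts (Over.mk b'.left) (v ≫ b').left := ⟨v.left, rfl⟩
    let vL' : Desc.Lifts (Over.mk b'.left) (v' ≫ b').left := ⟨v'.left, rfl⟩
    have hlift : lift sq0 _ _ hx vL = vL' := by
      refine lift_unique sq0 _ _ hx vL vL' ⟨?_, fun s hs hs₁ => ?_⟩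
      · change v.left ≫ W'.hom = v'.left ≫ W'.hom
        rw [Over.w v, Over.w v']
      · obtain rfl : s = T.hom := hs.symm.trans (Over.w v)
        exact hvv'
    let vc : Desc.Lifts (Desc.canonicalDD c.left W₀).obj (v ≫ b').left := ⟨v.left ≫ θi, by
      change (v.left ≫ θi) ≫ pullback.fst c.left W₀.hom = (v ≫ b').left
      rw [Category.assoc, hθib]
      rfl⟩
    have hvθ : v.left = (v.left ≫ θi) ≫ θ := by rw [Category.assoc, hθ2, Category.comp_id]
    have hcomm := e.hom.comm (v ≫ b').left (v' ≫ b').left hx vc vL (by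
      rw [hθ] at hvθ
      exact hvθ)
    have hcomm' : v'.left = (Desc.canMap c.left W₀ _ _ hx vc).1 ≫ θ := by
      rw [hθ]
      have : ((dd sq0).φ (v ≫ b').left (v' ≫ b').left hx vL).1 = v'.left :=
        congrArg Subtype.val hlift
      rw [← this]
      exact hcomm
    have h3 : v'.left ≫ θi = (Desc.canMap c.left W₀ _ _ hx vc).1 := by
      rw [hcomm', Category.assoc, hθ1]
      exact Category.comp_id _
    apply Over.OverMorphism.ext
    change v.left ≫ k₀ = v'.left ≫ k₀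
    rw [hk₀d, ← Category.assoc, ← Category.assoc, h3, Desc.canMap_val, pullback.lift_snd]
    rfl
  obtain ⟨ψ, h1, h2⟩ := exists_iso_of_kernel c b' π a sq0 w k sqO hker
  exact ⟨W, w, k, ψ, h1, h2, sqO⟩

end Groth.Agent.H51.SchDDRep
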