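import Groth.Agent.H51.AffDesc
import Groth.Agent.H51.SchDDRep
import Mathlib.AlgebraicGeometry.QuasiAffine

/-!
# Effective descent of quasi-affine schemes along an affine flat surjective cover (helper51)

`Z, Z'` affine over `S`, `c : Z' ⟶ Z` flat surjective with `h_c` an epimorphism of sheaves, `π : F ⟶ h_Z` a sheaf over `Z`
whose base change `F ×_Z Z'` is (represented by) a quasi-affine scheme `W'`.  Then `F` is represented by a quasi-affine
scheme `W` over `Z`, and `W' = W ×_Z Z'`.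
-/

set_option autoImplicit false
universe u
open CategoryTheory CategoryTheory.Limits AlgebraicGeometry Opposite AlgSp

namespace Groth.Agent.H51.QAffDesc

open Groth.Agent.H51.AffDesc

/-- Flat base change for global sections of a qcqs scheme over an affine base. -/
theorem isPushout_appTop_of_flat {X Y B T : Scheme.{u}} {f : T ⟶ B} {g : Y ⟶ X} {iX : X ⟶ B}
    {iY : Y ⟶ T} (H : IsPullback g iY iX f) [Flat f] [IsAffine B] [IsAffine T] [CompactSpace X]
    [QuasiSeparatedSpace X] : IsPushout iX.appTop f.appTop g.appTop iY.appTop := by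
  have h1 : IsIso (pushoutSection H (US := ⊤) (UT := ⊤) (UX := ⊤) (UY := ⊤) le_top le_top
      (by simp)) :=
    isIso_pushoutSection_of_isQuasiSeparated_of_flat_right H _ _ _ (isAffineOpen_top _)
      (isAffineOpen_top _) isCompact_univ isQuasiSeparated_univ
  have h2 := (isIso_pushoutSection_iff H (US := ⊤) (UT := ⊤) (UX := ⊤) (UY := ⊤) le_top le_top
      (by simp)).1 h1
  have e : ∀ {A B' : Scheme.{u}} (m : A ⟶ B') (hm : (⊤ : A.Opens) ≤ m ⁻¹ᵁ ⊤),
      m.appLE ⊤ ⊤ hm = m.appTop := by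
    intro A B' m hm
    rw [Scheme.Hom.appTop, ← Scheme.Hom.appLE_eq_app]
    rfl
  rwa [e, e, e, e] at h2

theorem exists_point_of_isPullback_sch {P X Y Z : Scheme.{u}} {fst : P ⟶ X} {snd : P ⟶ Y}
    {f : X ⟶ Z} {g : Y ⟶ Z} (sq : IsPullback fst snd f g) (x : X) (y : Y) (h : f x = g y) :
    ∃ z : P, fst z = x ∧ snd z = y := by
  obtain ⟨z, hz1, hz2⟩ := Scheme.Pullback.exists_preimage_pullback x y h
  refine ⟨sq.isoPullback.inv z, ?_, ?_⟩
  · rw [← Scheme.Hom.comp_apply, sq.isoPullback_inv_fst, hz1]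
  · rw [← Scheme.Hom.comp_apply, sq.isoPullback_inv_snd, hz2]

variable {S : Scheme.{u}}

set_option maxHeartbeats 1600000 in
theorem exists_qaffine_rep {Z Z' W' : Over S} [IsAffine Z.left] [IsAffine Z'.left]
    [W'.left.IsQuasiAffine]
    (c : Z' ⟶ Z) [Flat c.left] [Surjective c.left] [Epi ((yon S).map c)] (b' : W' ⟶ Z') {F : Sp S}
    (π : F ⟶ (yon S).obj Z) (a : (yon S).obj W' ⟶ F)
    (sq0 : IsPullback a ((yon S).map b') π ((yon S).map c)) :
    ∃ (W : Over S) (w : W ⟶ Z) (k : W' ⟶ W) (ψ : F ≅ (yon S).obj W), W.left.IsQuasiAffine ∧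
      ψ.hom ≫ (yon S).map w = π ∧ a ≫ ψ.hom = (yon S).map k ∧
      IsPullback k.left b'.left w.left c.left := by
  -- the double and triple fibre products
  obtain ⟨W2, a1, b2, hW2⟩ : ∃ (W2 : Over S) (a1 : W2 ⟶ W') (b2 : W2 ⟶ Z'),
      IsPullback a1 b2 (b' ≫ c) c := ⟨_, _, _, IsPullback.of_hasPullback _ _⟩
  have hW2S : IsPullback a1.left b2.left (b' ≫ c).left c.left := hW2.map (Over.forget S)
  have hcomm : ((yon S).map a1 ≫ a) ≫ π = (yon S).map b2 ≫ (yon S).map c := by
    rw [Category.assoc, sq0.w, ← Functor.map_comp, ← Functor.map_comp, ← Functor.map_comp, ← hW2.w]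
  obtain ⟨p2, hp2⟩ := (yon S).map_surjective (sq0.lift ((yon S).map a1 ≫ a) ((yon S).map b2) hcomm)
  have hp2a : (yon S).map p2 ≫ a = (yon S).map a1 ≫ a := by rw [hp2, sq0.lift_fst]
  have hp2b : p2 ≫ b' = b2 := (yon S).map_injective (by rw [Functor.map_comp, hp2, sq0.lift_snd])
  obtain ⟨W3, a2, b3, hW3⟩ : ∃ (W3 : Over S) (a2 : W3 ⟶ W2) (b3 : W3 ⟶ Z'),
      IsPullback a2 b3 (a1 ≫ b' ≫ c) c := ⟨_, _, _, IsPullback.of_hasPullback _ _⟩
  have hW3S : IsPullback a2.left b3.left (a1 ≫ b' ≫ c).left c.left := hW3.map (Over.forget S)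
  have h13 : (a2 ≫ a1) ≫ (b' ≫ c) = b3 ≫ c := by rw [Category.assoc, hW3.w]
  have h23 : (a2 ≫ p2) ≫ (b' ≫ c) = b3 ≫ c := by
    rw [Category.assoc, ← Category.assoc p2, hp2b, ← hW2.w, hW3.w]
  obtain ⟨t13, t13a, t13b⟩ : ∃ t13 : W3 ⟶ W2, t13 ≫ a1 = a2 ≫ a1 ∧ t13 ≫ b2 = b3 :=
    ⟨hW2.lift _ _ h13, hW2.lift_fst _ _ _, hW2.lift_snd _ _ _⟩
  obtain ⟨t23, t23a, t23b⟩ : ∃ t23 : W3 ⟶ W2, t23 ≫ a1 = a2 ≫ p2 ∧ t23 ≫ b2 = b3 :=
    ⟨hW2.lift _ _ h23, hW2.lift_fst _ _ _, hW2.lift_snd _ _ _⟩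
  have hfork : t13 ≫ p2 = t23 ≫ p2 := by
    apply (yon S).map_injective
    apply sq0.hom_ext
    · rw [Functor.map_comp, Functor.map_comp, Category.assoc, Category.assoc, hp2a,
        ← Category.assoc, ← Category.assoc, ← Functor.map_comp, ← Functor.map_comp, t13a, t23a,
        Functor.map_comp, Functor.map_comp, Category.assoc, Category.assoc, hp2a]
    · rw [← Functor.map_comp, ← Functor.map_comp, Category.assoc, Category.assoc, hp2b, t13b, t23b]
  obtain ⟨δ, δa, δb⟩ : ∃ δ : W' ⟶ W2, δ ≫ a1 = 𝟙 W' ∧ δ ≫ b2 = b' :=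
    ⟨hW2.lift (𝟙 W') b' (by rw [Category.id_comp]), hW2.lift_fst _ _ _, hW2.lift_snd _ _ _⟩
  have hδ : δ ≫ p2 = 𝟙 W' := by
    apply (yon S).map_injective
    apply sq0.hom_ext
    · rw [Functor.map_comp, Category.assoc, hp2a, ← Category.assoc, ← Functor.map_comp, δa]
    · rw [← Functor.map_comp, Category.assoc, hp2b, δb, CategoryTheory.Functor.map_id, Category.id_comp]
  -- kernel pair of `a`
  have ker : IsPullback ((yon S).map p2) ((yon S).map a1) a a := by
    have outer : IsPullback ((yon S).map p2 ≫ (yon S).map b') ((yon S).map a1) ((yon S).map c)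
        (a ≫ π) := by
      rw [← Functor.map_comp, hp2b, sq0.w, ← Functor.map_comp]
      exact (hW2.map (yon S)).flip
    exact IsPullback.of_right outer hp2a sq0.flip
  -- `p2` is a base change of `c`
  have hp2S : IsPullback (a1 ≫ b').left p2.left c.left (b' ≫ c).left := by
    have h1 : IsPullback ((yon S).map a1 ≫ (yon S).map b') ((yon S).map p2) ((yon S).map c)
        (a ≫ π) := ker.flip.paste_horiz sq0.flip
    have hw : (a1 ≫ b') ≫ c = p2 ≫ (b' ≫ c) := by
      rw [Category.assoc, hW2.w, ← Category.assoc p2, hp2b]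
    have h2 : IsPullback (a1 ≫ b') p2 c (b' ≫ c) := by
      refine IsPullback.of_map (yon S) hw ?_
      rw [Functor.map_comp, Functor.map_comp, ← sq0.w]
      exact h1
    exact h2.map (Over.forget S)
  -- quasi-affineness
  have hcaff : IsAffineHom c.left := inferInstance
  have ha1aff : IsAffineHom a1.left := MorphismProperty.of_isPullback hW2S.flip hcaff
  have hp2aff : IsAffineHom p2.left := MorphismProperty.of_isPullback hp2S hcaff
  have hW2qa : W2.left.IsQuasiAffine := Scheme.IsQuasiAffine.of_isAffineHom a1.left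
  -- ring-level data
  have hflat : (G c).hom.Flat := (HasRingHomProperty.iff_of_isAffine (P := @Flat)).1 inferInstance
  have po1 : IsPushout (G c) (G c ≫ G b') (G b2) (G a1) :=
    (isPushout_appTop_of_flat hW2S).flip
  have po2 : IsPushout (G c) (G c ≫ G b' ≫ G a1) (G b3) (G a2) :=
    (isPushout_appTop_of_flat hW3S).flip
  have hβinj : Function.Injective (G p2).hom := by
    have h1 : G p2 ≫ G δ = 𝟙 _ := by rw [← G_comp, hδ]; rfl
    intro x y hxy
    have := congr_arg (G δ).hom hxy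
    have e : ∀ z, (G δ).hom ((G p2).hom z) = z := fun z =>
      congr_arg (fun m : Γ(W'.left, ⊤) ⟶ Γ(W'.left, ⊤) => m.hom z) h1
    rwa [e, e] at this
  obtain ⟨E, i, e, hi, po⟩ := AffDescAlg.exists_isPushout_equalizer (G c) hflat (G b') (G a1) (G p2)
    (G b2) (G a2) (G b3) (G t13) (G t23) po1 po2
    (by rw [← G_comp, ← G_comp, t13a])
    (by rw [← G_comp, t13b])
    (by rw [← G_comp, ← G_comp, t23a])
    (by rw [← G_comp, t23b])
    hβinj
    (by rw [← G_comp, ← G_comp, hfork])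
    (by rw [← G_comp, hp2b])
  -- `Spec B2 = Spec B' ×_{Spec E} Spec B'`
  have po3 : IsPushout i i (G p2) (G a1) := by
    have s : IsPushout (G c) (e ≫ i) (G b' ≫ G p2) (G a1) := by
      have h1 : G b' ≫ G p2 = G b2 := by rw [← G_comp, hp2b]
      rw [← po.w, h1]
      exact po1
    exact IsPushout.of_top s hi.symm po
  have sqSpec : IsPullback (Spec.map (G p2)) (Spec.map (G a1)) (Spec.map i) (Spec.map i) :=
    isPullback_SpecMap_of_isPushout i i (G p2) (G a1) po3
  -- the morphisms around `Spec E`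
  let j : W'.left ⟶ Spec Γ(W'.left, ⊤) := W'.left.toSpecΓ
  let bS : Spec Γ(W'.left, ⊤) ⟶ Z'.left := Spec.map (G b') ≫ Z'.left.isoSpec.inv
  let wE : Spec E ⟶ Z.left := Spec.map e ≫ Z.left.isoSpec.inv
  let q : Spec Γ(W'.left, ⊤) ⟶ Spec E := Spec.map i
  have hjb : j ≫ bS = b'.left := by
    change W'.left.toSpecΓ ≫ Spec.map b'.left.appTop ≫ Z'.left.isoSpec.inv = _
    rw [← Category.assoc, ← Scheme.toSpecΓ_naturality, Category.assoc]
    change b'.left ≫ Z'.left.isoSpec.hom ≫ Z'.left.isoSpec.inv = _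
    rw [Iso.hom_inv_id, Category.comp_id]
  have sqE : IsPullback q bS wE c.left := by
    have h0 := isPullback_SpecMap_of_isPushout (G c) e (G b') i po
    refine (IsPullback.of_iso h0 (Iso.refl _) Z'.left.isoSpec.symm (Iso.refl _)
      Z.left.isoSpec.symm ?_ ?_ ?_ ?_).flip
    · simp [bS]
    · simp [q]
    · exact Scheme.isoSpec_inv_naturality c.left
    · simp [wE]
  have hqflat : Flat q := MorphismProperty.of_isPullback sqE.flip inferInstance
  have hqsurj : Surjective q := MorphismProperty.of_isPullback sqE.flip inferInstance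
  have hquot : Topology.IsQuotientMap q := Flat.isQuotientMap_of_surjective q
  -- the saturated open
  let O' : (Spec Γ(W'.left, ⊤)).Opens := j.opensRange
  have hpre1 : Spec.map (G a1) ⁻¹ᵁ O' = W2.left.toSpecΓ.opensRange :=
    Scheme.preimage_opensRange_toSpecΓ a1.left
  have hpre2 : Spec.map (G p2) ⁻¹ᵁ O' = W2.left.toSpecΓ.opensRange :=
    Scheme.preimage_opensRange_toSpecΓ p2.left
  have hsat : ∀ x y : ↥(Spec Γ(W'.left, ⊤)), q x = q y → x ∈ O' → y ∈ O' := by
    intro x y hxy hx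
    obtain ⟨z, hz1, hz2⟩ := exists_point_of_isPullback_sch sqSpec x y hxy
    have h1 : z ∈ Spec.map (G p2) ⁻¹ᵁ O' := by
      change Spec.map (G p2) z ∈ O'
      rw [hz1]
      exact hx
    rw [hpre2, ← hpre1] at h1
    change Spec.map (G a1) z ∈ O' at h1
    rwa [hz2] at h1
  have hpreO : q ⁻¹' (q '' (O' : Set ↥(Spec Γ(W'.left, ⊤)))) = O' := by
    ext y
    constructor
    · rintro ⟨x, hx, hxy⟩
      exact hsat x y hxy hx
    · intro hy
      exact ⟨y, hy, rfl⟩
  have hOopen : IsOpen (q '' (O' : Set ↥(Spec Γ(W'.left, ⊤)))) := by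
    rw [← hquot.isOpen_preimage, hpreO]
    exact O'.isOpen
  let O : (Spec E).Opens := ⟨q '' (O' : Set ↥(Spec Γ(W'.left, ⊤))), hOopen⟩
  have hOpre : q ⁻¹ᵁ O = O' := by
    ext y
    exact Set.ext_iff.1 hpreO y
  -- the scheme `W`
  have hrange : Set.range (j ≫ q) ⊆ Set.range O.ι := by
    rw [Scheme.Opens.range_ι]
    rintro _ ⟨x, rfl⟩
    exact ⟨j x, ⟨x, rfl⟩, rfl⟩
  let kS : W'.left ⟶ O.toScheme := IsOpenImmersion.lift O.ι (j ≫ q) hrange
  have hkι : kS ≫ O.ι = j ≫ q := IsOpenImmersion.lift_fac _ _ _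
  have sqL : IsPullback kS j O.ι q := by
    refine IsOpenImmersion.isPullback kS j O.ι q hkι.symm ?_
    rw [Scheme.Opens.opensRange_ι]
    exact hOpre
  have sqS : IsPullback kS b'.left (O.ι ≫ wE) c.left := by
    have := sqL.paste_vert sqE
    rwa [hjb] at this
  let W : Over S := Over.mk ((O.ι ≫ wE) ≫ Z.hom)
  let w : W ⟶ Z := Over.homMk (O.ι ≫ wE) rfl
  let k : W' ⟶ W := Over.homMk kS (by
    change kS ≫ (O.ι ≫ wE) ≫ Z.hom = W'.hom
    rw [← Category.assoc, sqS.w, Category.assoc, Over.w, Over.w])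
  have hkw : k ≫ w = b' ≫ c := by
    apply Over.OverMorphism.ext
    exact sqS.w
  have sqO : IsPullback k b' w c := IsPullback.of_map (Over.forget S) hkw sqS
  have hpk : p2 ≫ k = a1 ≫ k := by
    apply Over.OverMorphism.ext
    change p2.left ≫ kS = a1.left ≫ kS
    rw [← cancel_mono O.ι, Category.assoc, Category.assoc, hkι]
    change p2.left ≫ W'.left.toSpecΓ ≫ Spec.map i = a1.left ≫ W'.left.toSpecΓ ≫ Spec.map i
    rw [← Category.assoc, ← Category.assoc, Scheme.toSpecΓ_naturality, Scheme.toSpecΓ_naturality,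
      Category.assoc, Category.assoc, ← Spec.map_comp, ← Spec.map_comp]
    congr 2
    exact hi.symm
  have hker : ∀ (T : Over S) (v v' : T ⟶ W'),
      (yon S).map v ≫ a = (yon S).map v' ≫ a → v ≫ k = v' ≫ k := by
    intro T v v' hvv
    obtain ⟨u, hu⟩ := (yon S).map_surjective (ker.lift ((yon S).map v) ((yon S).map v') hvv)
    have h1 : u ≫ p2 = v := (yon S).map_injective (by rw [Functor.map_comp, hu, ker.lift_fst])
    have h2 : u ≫ a1 = v' := (yon S).map_injective (by rw [Functor.map_comp, hu, ker.lift_snd])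
    rw [← h1, ← h2, Category.assoc, Category.assoc, hpk]
  obtain ⟨ψ, hψ1, hψ2⟩ := SchDDRep.exists_iso_of_kernel c b' π a sq0 w k sqO hker
  refine ⟨W, w, k, ψ, ?_, hψ1, hψ2, sqS⟩
  change (O.toScheme).IsQuasiAffine
  have hcomp : CompactSpace ↥O.toScheme := by
    refine isCompact_iff_compactSpace.1 ?_
    change IsCompact (q '' (Set.range j))
    exact (isCompact_range j.continuous).image q.continuous
  exact Scheme.IsQuasiAffine.of_isImmersion O.ι

end Groth.Agent.H51.QAffDesc
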