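import Groth.Agent.H51.ZarGlue

/-!
# Representability is Zariski local on the target (helper51)
-/

set_option autoImplicit false
universe u
open CategoryTheory CategoryTheory.Limits AlgebraicGeometry Opposite
open AlgSp

namespace Groth.Agent.H51.ZarGlue

variable {S : Scheme.{u}}

/-- A property of morphisms of schemes that is local on the target holds for `g` as soon as it holds for the base
changes of `g` to the members of an open cover of the target (given by any pullback squares). -/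
theorem of_openCover_of_isPullback (Q : MorphismProperty Scheme.{u}) [IsZariskiLocalAtTarget Q]
    {A B : Scheme.{u}} (g : A ⟶ B) (𝒰 : B.OpenCover) {Wa : 𝒰.I₀ → Scheme.{u}}
    (c : ∀ a, Wa a ⟶ A) (i : ∀ a, Wa a ⟶ 𝒰.X a) (sq : ∀ a, IsPullback (c a) (i a) g (𝒰.f a))
    (h : ∀ a, Q (i a)) : Q g := by
  have : Q.RespectsIso := inferInstance
  apply IsZariskiLocalAtTarget.of_openCover 𝒰
  intro a
  have e : (sq a).isoPullback.hom ≫ pullback.snd g (𝒰.f a) = i a := (sq a).isoPullback_hom_snd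
  show Q (pullback.snd g (𝒰.f a))
  rw [← Q.cancel_left_of_respectsIso (sq a).isoPullback.hom, e]
  exact h a

/-- The scheme over `S` cut out by a member of an open cover of a scheme over `S`. -/
noncomputable abbrev coverOver (T : Over S) (𝒰 : Scheme.OpenCover.{u} T.left) (a : 𝒰.I₀) : Over S :=
  Over.mk (𝒰.f a ≫ T.hom)

/-- The inclusion of a member of an open cover of a scheme over `S`. -/
noncomputable abbrev coverOverι (T : Over S) (𝒰 : Scheme.OpenCover.{u} T.left) (a : 𝒰.I₀) :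
    coverOver T 𝒰 a ⟶ T :=
  Over.homMk (𝒰.f a) rfl

/-- A sheaf over `h_T` whose restrictions to the members of an open cover of `T` are representable is representable. -/
theorem exists_iso_yon_of_openCover {P₀ : Sp S} {T : Over S} (psnd : P₀ ⟶ (yon S).obj T)
    (𝒰 : Scheme.OpenCover.{u} T.left) (Wa : 𝒰.I₀ → Over S) (i : ∀ a, Wa a ⟶ coverOver T 𝒰 a)
    (φ : ∀ a, (yon S).obj (Wa a) ⟶ P₀)
    (sq : ∀ a, IsPullback (φ a) ((yon S).map (i a)) psnd ((yon S).map (coverOverι T 𝒰 a))) :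
    ∃ (G : Over S) (e : (yon S).obj G ≅ P₀) (snd : G ⟶ T) (c : ∀ a, Wa a ⟶ G),
      e.hom ≫ psnd = (yon S).map snd ∧ (∀ a, (yon S).map (c a) ≫ e.hom = φ a) ∧
      ∀ a, IsPullback (c a).left (i a).left snd.left (𝒰.f a) := by
  have := AlgSp.repWith_isStableUnderBaseChange (S := S) @IsOpenImmersion
  have hφ : ∀ a, RepWith @IsOpenImmersion (φ a) := fun a =>
    MorphismProperty.of_isPullback (sq a).flip
      ((repWith_yon_map_iff @IsOpenImmersion (coverOverι T 𝒰 a)).2
        (inferInstanceAs (IsOpenImmersion (𝒰.f a))))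
  have hsurj : ∀ (Z : Over S) (y : (yon S).obj Z ⟶ P₀), ∃ Sg ∈ J S Z,
      ∀ ⦃Z' : Over S⦄ (ψ : Z' ⟶ Z), Sg ψ →
        ∃ (a : 𝒰.I₀) (x : (yon S).obj Z' ⟶ (yon S).obj (Wa a)), x ≫ φ a = (yon S).map ψ ≫ y := by
    intro Z y
    obtain ⟨z, hz⟩ := (yon S).map_surjective (y ≫ psnd)
    let Sg : Sieve Z :=
      { arrows := fun Z' ψ => ∃ (a : 𝒰.I₀) (x : (yon S).obj Z' ⟶ (yon S).obj (Wa a)),
          x ≫ φ a = (yon S).map ψ ≫ y
        downward_closed := by
          rintro Z' Z'' ψ ⟨a, x, hx⟩ ψ'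
          exact ⟨a, (yon S).map ψ' ≫ x, by rw [Category.assoc, hx, Functor.map_comp, Category.assoc]⟩ }
    refine ⟨Sg, ?_, fun Z' ψ hψ => hψ⟩
    have key : ∀ ζ : ↥Z.left, ∃ (N : Over S) (n : N ⟶ Z), IsOpenImmersion n.left ∧
        ζ ∈ Set.range n.left ∧ Sg n := by
      intro ζ
      obtain ⟨a, t, ht⟩ := 𝒰.exists_eq (z.left ζ)
      let O : Z.left.Opens := z.left ⁻¹ᵁ (𝒰.f a).opensRange
      have hζ : ζ ∈ O := ⟨t, ht⟩
      let N : Over S := Over.mk (O.ι ≫ Z.hom)
      let n : N ⟶ Z := Over.homMk O.ι rfl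
      have hr : Set.range (O.ι ≫ z.left) ⊆ Set.range (𝒰.f a) := by
        rintro _ ⟨q, rfl⟩
        exact q.2
      let zN : N ⟶ coverOver T 𝒰 a :=
        Over.homMk (IsOpenImmersion.lift (𝒰.f a) (O.ι ≫ z.left) hr) (by
          show _ ≫ 𝒰.f a ≫ T.hom = O.ι ≫ Z.hom
          rw [← Category.assoc, IsOpenImmersion.lift_fac, Category.assoc, Over.w z])
      have hzN : zN ≫ coverOverι T 𝒰 a = n ≫ z := by
        ext1
        exact IsOpenImmersion.lift_fac _ _ hr
      have hcomm : ((yon S).map n ≫ y) ≫ psnd = (yon S).map zN ≫ (yon S).map (coverOverι T 𝒰 a) := by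
        rw [Category.assoc, ← hz, ← Functor.map_comp, ← Functor.map_comp, hzN]
      refine ⟨N, n, inferInstanceAs (IsOpenImmersion O.ι), ⟨⟨ζ, hζ⟩, rfl⟩, a,
        (sq a).lift _ _ hcomm, (sq a).lift_fst _ _ hcomm⟩
    choose N n hno hnζ hn using key
    refine Groth.Agent.H50.mem_J_of_fppf_family N n (fun ζ => ?_) (fun ζ => ?_) (fun ζ => ?_) Sg
      (fun ζ => hn ζ)
    · obtain ⟨q, hq⟩ := hnζ ζ
      exact ⟨ζ, q, hq⟩
    · have := hno ζ
      infer_instance
    · have := hno ζ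
      infer_instance
  obtain ⟨G, e, c, hc, -, -⟩ := exists_iso_yon hφ hsurj
  obtain ⟨snd, hsnd⟩ := (yon S).map_surjective (e.hom ≫ psnd)
  refine ⟨G, e, snd, c, hsnd.symm, hc, fun a => ?_⟩
  have sq1 : IsPullback ((yon S).map (c a)) ((yon S).map (i a)) ((yon S).map snd)
      ((yon S).map (coverOverι T 𝒰 a)) := by
    rw [hsnd]
    refine IsPullback.of_iso (sq a) (Iso.refl _) e.symm (Iso.refl _) (Iso.refl _) ?_ ?_ ?_ ?_
    · rw [Iso.refl_hom, Category.id_comp, Iso.symm_hom, ← hc a, Category.assoc, Iso.hom_inv_id,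
        Category.comp_id]
    · simp
    · simp
    · simp
  have hcomm : c a ≫ snd = i a ≫ coverOverι T 𝒰 a := by
    apply (yon S).map_injective
    rw [Functor.map_comp, Functor.map_comp]
    exact sq1.w
  have sq2 : IsPullback (c a) (i a) snd (coverOverι T 𝒰 a) := IsPullback.of_map (yon S) hcomm sq1
  exact sq2.map (Over.forget S)

end Groth.Agent.H51.ZarGlue
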