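import Groth.Agent.H51.QAffDesc
import Groth.Agent.H51.AffDescChart
import Groth.Agent.H51.ZarGlueRep
import Groth.Agent.H52.FibProd

/-!
# Quasi-affine morphisms: descent along an etale chart of the target (helper51)
-/

set_option autoImplicit false
universe u
open CategoryTheory CategoryTheory.Limits AlgebraicGeometry Opposite AlgSp

namespace Groth.Agent.H51.QAffDesc

open Groth.Agent.H50

variable {S : Scheme.{u}}

/-- Step B: descent of the quasi-affine fibre product along the affine etale cover. -/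
theorem exists_qaffine_pullback {X Y : Sp S} (f : X ⟶ Y) {V : Over S} (p : (yon S).obj V ⟶ Y)
    {P : Sp S} (fst : P ⟶ X) (snd : P ⟶ (yon S).obj V) (sq : IsPullback fst snd f p)
    {Z Z' W' : Over S} [IsAffine Z.left] [IsAffine Z'.left] [W'.left.IsQuasiAffine]
    (g : (yon S).obj Z ⟶ Y) (c : Z' ⟶ Z) [Etale c.left] [Surjective c.left] (g'' : Z' ⟶ V)
    (hg : (yon S).map g'' ≫ p = (yon S).map c ≫ g) (b' : W' ⟶ Z') (x' : (yon S).obj W' ⟶ P)
    (sqW' : IsPullback x' ((yon S).map b') snd ((yon S).map g'')) :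
    ∃ (W : Over S) (w : W ⟶ Z) (k : W' ⟶ W) (x : (yon S).obj W ⟶ X), W.left.IsQuasiAffine ∧
      IsPullback x ((yon S).map w) f g ∧ IsPullback k.left b'.left w.left c.left := by
  have big : IsPullback (x' ≫ fst) ((yon S).map b') f ((yon S).map c ≫ g) := by
    rw [← hg]
    exact sqW'.paste_horiz sq
  have sqF := IsPullback.of_hasPullback f g
  have sq0 : IsPullback (pullback.lift (x' ≫ fst) ((yon S).map b' ≫ (yon S).map c)
      (by rw [big.w, Category.assoc])) ((yon S).map b') (pullback.snd f g) ((yon S).map c) := by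
    refine IsPullback.of_right ?_ (pullback.lift_snd _ _ _) sqF
    rw [pullback.lift_fst]
    exact big
  have hepi : Epi ((yon S).map c) := H52.epi_of_etale_surjective _
    ((repWith_yon_map_iff @Etale c).2 inferInstance)
    ((repWith_yon_map_iff @Surjective c).2 inferInstance)
  obtain ⟨W, w, k, ψ, hW, hψπ, -, sqS⟩ := exists_qaffine_rep c b' (pullback.snd f g) _ sq0
  refine ⟨W, w, k, ψ.inv ≫ pullback.fst f g, hW, ?_, sqS⟩
  refine IsPullback.of_iso sqF ψ (Iso.refl _) (Iso.refl _) (Iso.refl _) ?_ ?_ ?_ ?_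
  · simp
  · simp [hψπ]
  · simp
  · simp

/-- Quasi-affineness of a morphism of sheaves descends along an etale surjective chart of the target. -/
theorem isQuasiAffineMor_of_chart {X Y : Sp S} (f : X ⟶ Y) {V : Over S} (p : (yon S).obj V ⟶ Y)
    (hp : RepWith @Etale p) (hps : RepWith @Surjective p)
    {P : Sp S} (fst : P ⟶ X) (snd : P ⟶ (yon S).obj V) (sq : IsPullback fst snd f p)
    (h : IsQuasiAffineMor snd) : IsQuasiAffineMor f := by
  intro Z hZ g
  have := hZ
  obtain ⟨Z', c, g'', hZ', hce, hcs, hg⟩ := AffDesc.exists_affine_etale_cover p hp hps g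
  obtain ⟨W', b', x', sqW', hW'⟩ := h hZ' ((yon S).map g'')
  obtain ⟨W, w, k, x, hW, sqx, -⟩ := exists_qaffine_pullback f p fst snd sq g c g'' hg b' x' sqW'
  exact ⟨W, w, x, sqx, hW⟩

/-- A morphism of sheaves whose base changes to affine schemes are representable is representable. -/
theorem representable_of_affine {X Y : Sp S} (f : X ⟶ Y)
    (h : ∀ ⦃Z : Over S⦄, IsAffine Z.left → ∀ (g : (yon S).obj Z ⟶ Y),
      ∃ (W : Over S) (i : W ⟶ Z) (fst : (yon S).obj W ⟶ X), IsPullback fst ((yon S).map i) f g) :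
    Representable f := by
  intro T g
  let 𝒰 : Scheme.OpenCover.{u} T.left := T.left.affineCover
  have hx : ∀ a : 𝒰.I₀, ∃ (Wa : Over S) (i : Wa ⟶ ZarGlue.coverOver T 𝒰 a)
      (fst : (yon S).obj Wa ⟶ X),
      IsPullback fst ((yon S).map i) f ((yon S).map (ZarGlue.coverOverι T 𝒰 a) ≫ g) := fun a =>
    h (Z := ZarGlue.coverOver T 𝒰 a) (inferInstanceAs (IsAffine (𝒰.X a))) _
  choose Wa i fst sqa using hx
  have hcomm : ∀ a, fst a ≫ f = (yon S).map (i a ≫ ZarGlue.coverOverι T 𝒰 a) ≫ g := by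
    intro a
    rw [(sqa a).w, Functor.map_comp, Category.assoc]
  let φ : ∀ a, (yon S).obj (Wa a) ⟶ pullback f g := fun a =>
    pullback.lift (fst a) ((yon S).map (i a ≫ ZarGlue.coverOverι T 𝒰 a)) (hcomm a)
  have sq : ∀ a, IsPullback (φ a) ((yon S).map (i a)) (pullback.snd f g)
      ((yon S).map (ZarGlue.coverOverι T 𝒰 a)) := by
    intro a
    exact H52.isPullback_lift_of_comp_right (IsPullback.of_hasPullback f g) (sqa a)
      (φ a) (pullback.lift_fst _ _ _) (by rw [pullback.lift_snd, Functor.map_comp])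
  obtain ⟨G, e, snd, c, he, hc, hsq⟩ :=
    ZarGlue.exists_iso_yon_of_openCover (pullback.snd f g) 𝒰 Wa i φ sq
  refine ⟨G, snd, e.hom ≫ pullback.fst f g, ?_⟩
  refine IsPullback.of_iso (IsPullback.of_hasPullback f g) e.symm (Iso.refl _) (Iso.refl _)
    (Iso.refl _) ?_ ?_ ?_ ?_
  · simp
  · simp [← he]
  · simp
  · simp

theorem representable_of_isQuasiAffineMor {X Y : Sp S} (f : X ⟶ Y) (h : IsQuasiAffineMor f) :
    Representable f :=
  representable_of_affine f fun Z hZ g => by
    obtain ⟨W, i, fst, sq, -⟩ := h hZ g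
    exact ⟨W, i, fst, sq⟩

end Groth.Agent.H51.QAffDesc
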