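import Groth.Agent.H51.QAffDesc
import Groth.Agent.H51.AffDescFpqc

/-!
# helper51: effective descent of quasi-affine schemes along a faithfully flat morphism of affine schemes, for algebraic
spaces (fpqc version of `Groth.Agent.H51.QAffDesc.exists_qaffine_rep`)
-/

set_option autoImplicit false
universe u
open CategoryTheory CategoryTheory.Limits AlgebraicGeometry Opposite AlgSp

namespace Groth.Agent.H51.QAffDescFpqc

open Groth.Agent.H51.AffDesc Groth.Agent.H51.QAffDesc Groth.Agent.H51.AffDescFpqc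

variable {S : Scheme.{u}}

set_option maxHeartbeats 3200000 in
/-- Effective descent of quasi-affine schemes along a faithfully flat morphism of affine schemes, for algebraic spaces. -/
theorem exists_qaffine_rep_fpqc {Z Z' W' : Over S} [IsAffine Z.left] [IsAffine Z'.left]
    [W'.left.IsQuasiAffine] (c : Z' ⟶ Z) [Flat c.left] [Surjective c.left] (b' : W' ⟶ Z')
    {F : Sp S} (hF : IsAlgSpace F) (π : F ⟶ (yon S).obj Z) (a : (yon S).obj W' ⟶ F)
    (sq0 : IsPullback a ((yon S).map b') π ((yon S).map c)) :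
    ∃ (W : Over S) (w : W ⟶ Z) (k : W' ⟶ W) (x : (yon S).obj W ⟶ F), W.left.IsQuasiAffine ∧
      IsIso x ∧ x ≫ π = (yon S).map w ∧ (yon S).map k ≫ x = a ∧
      IsPullback k.left b'.left w.left c.left := by
  -- the double and triple fibre products
  obtain ⟨W2, a1, b2, hW2⟩ : ∃ (W2 : Over S) (a1 : W2 ⟶ W') (b2 : W2 ⟶ Z'),
      IsPullback a1 b2 (b' ≫ c) c := ⟨_, _, _, IsPullback.of_hasPullback _ _⟩
  have hW2S : IsPullback a1.left b2.left (b' ≫ c).left c.left := hW2.map (Over.forget S)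
  have hcomm : ((yon S).map a1 ≫ a) ≫ π = (yon S).map b2 ≫ (yon S).map c := by
    rw [Category.assoc, sq0.w, ← Functor.map_comp, ← Functor.map_comp, ← Functor.map_comp, ← hW2.w]
  obtain ⟨p2, hp2⟩ := (yon S).map_surjective (sq0.lift ((yon S).map a1 ≫ a) ((yon S).map b2) hcomm)
  have hp2a : (yon S).map p2 ≫ a = (yon S).map a1 ≫ a := by rw [hp2, sq0.lift_fst]
  have hp2b : p2 ≫ b' = b2 := (yon S).map_injective (by rw [Functor.map_comp, hp2, sq0.lift_snd])
  obtain ⟨W3, a2, b3, hW3⟩ : ∃ (W3 : Over S) (a2 : W3 ⟶ W2) (b3 : W3 ⟶ Z'),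
      IsPullback a2 b3 (a1 ≫ b' ≫ c) c := ⟨_, _, _, IsPullback.of_hasPullback _ _⟩
  have hW3S : IsPullback a2.left b3.left (a1 ≫ b' ≫ c).left c.left := hW3.map (Over.forget S)
  have h13 : (a2 ≫ a1) ≫ (b' ≫ c) = b3 ≫ c := by rw [Category.assoc, hW3.w]
  have h23 : (a2 ≫ p2) ≫ (b' ≫ c) = b3 ≫ c := by
    rw [Category.assoc, ← Category.assoc p2, hp2b, ← hW2.w, hW3.w]
  obtain ⟨t13, t13a, t13b⟩ : ∃ t13 : W3 ⟶ W2, t13 ≫ a1 = a2 ≫ a1 ∧ t13 ≫ b2 = b3 :=
    ⟨hW2.lift _ _ h13, hW2.lift_fst _ _ _, hW2.lift_snd _ _ _⟩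
  obtain ⟨t23, t23a, t23b⟩ : ∃ t23 : W3 ⟶ W2, t23 ≫ a1 = a2 ≫ p2 ∧ t23 ≫ b2 = b3 :=
    ⟨hW2.lift _ _ h23, hW2.lift_fst _ _ _, hW2.lift_snd _ _ _⟩
  have hfork : t13 ≫ p2 = t23 ≫ p2 := by
    apply (yon S).map_injective
    apply sq0.hom_ext
    · rw [Functor.map_comp, Functor.map_comp, Category.assoc, Category.assoc, hp2a,
        ← Category.assoc, ← Category.assoc, ← Functor.map_comp, ← Functor.map_comp, t13a, t23a,
        Functor.map_comp, Functor.map_comp, Category.assoc, Category.assoc, hp2a]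
    · rw [← Functor.map_comp, ← Functor.map_comp, Category.assoc, Category.assoc, hp2b, t13b, t23b]
  obtain ⟨δ, δa, δb⟩ : ∃ δ : W' ⟶ W2, δ ≫ a1 = 𝟙 W' ∧ δ ≫ b2 = b' :=
    ⟨hW2.lift (𝟙 W') b' (by rw [Category.id_comp]), hW2.lift_fst _ _ _, hW2.lift_snd _ _ _⟩
  have hδ : δ ≫ p2 = 𝟙 W' := by
    apply (yon S).map_injective
    apply sq0.hom_ext
    · rw [Functor.map_comp, Category.assoc, hp2a, ← Category.assoc, ← Functor.map_comp, δa]
    · rw [← Functor.map_comp, Category.assoc, hp2b, δb, CategoryTheory.Functor.map_id, Category.id_comp]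
  -- kernel pair of `a`
  have ker : IsPullback ((yon S).map p2) ((yon S).map a1) a a := by
    have outer : IsPullback ((yon S).map p2 ≫ (yon S).map b') ((yon S).map a1) ((yon S).map c)
        (a ≫ π) := by
      rw [← Functor.map_comp, hp2b, sq0.w, ← Functor.map_comp]
      exact (hW2.map (yon S)).flip
    exact IsPullback.of_right outer hp2a sq0.flip
  -- `p2` is a base change of `c`
  have hp2S : IsPullback (a1 ≫ b').left p2.left c.left (b' ≫ c).left := by
    have h1 : IsPullback ((yon S).map a1 ≫ (yon S).map b') ((yon S).map p2) ((yon S).map c)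
        (a ≫ π) := ker.flip.paste_horiz sq0.flip
    have hw : (a1 ≫ b') ≫ c = p2 ≫ (b' ≫ c) := by
      rw [Category.assoc, hW2.w, ← Category.assoc p2, hp2b]
    have h2 : IsPullback (a1 ≫ b') p2 c (b' ≫ c) := by
      refine IsPullback.of_map (yon S) hw ?_
      rw [Functor.map_comp, Functor.map_comp, ← sq0.w]
      exact h1
    exact h2.map (Over.forget S)
  -- quasi-affineness
  have hcaff : IsAffineHom c.left := inferInstance
  have ha1aff : IsAffineHom a1.left := MorphismProperty.of_isPullback hW2S.flip hcaff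
  have hp2aff : IsAffineHom p2.left := MorphismProperty.of_isPullback hp2S hcaff
  have hW2qa : W2.left.IsQuasiAffine := Scheme.IsQuasiAffine.of_isAffineHom a1.left
  -- ring-level data
  have hflat : (G c).hom.Flat := (HasRingHomProperty.iff_of_isAffine (P := @Flat)).1 inferInstance
  have po1 : IsPushout (G c) (G c ≫ G b') (G b2) (G a1) :=
    (isPushout_appTop_of_flat hW2S).flip
  have po2 : IsPushout (G c) (G c ≫ G b' ≫ G a1) (G b3) (G a2) :=
    (isPushout_appTop_of_flat hW3S).flip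
  have hβinj : Function.Injective (G p2).hom := by
    have h1 : G p2 ≫ G δ = 𝟙 _ := by rw [← G_comp, hδ]; rfl
    intro x y hxy
    have := congr_arg (G δ).hom hxy
    have e : ∀ z, (G δ).hom ((G p2).hom z) = z := fun z =>
      congr_arg (fun m : Γ(W'.left, ⊤) ⟶ Γ(W'.left, ⊤) => m.hom z) h1
    rwa [e, e] at this
  obtain ⟨E, i, e, hi, po⟩ := AffDescAlg.exists_isPushout_equalizer (G c) hflat (G b') (G a1) (G p2)
    (G b2) (G a2) (G b3) (G t13) (G t23) po1 po2
    (by rw [← G_comp, ← G_comp, t13a])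
    (by rw [← G_comp, t13b])
    (by rw [← G_comp, ← G_comp, t23a])
    (by rw [← G_comp, t23b])
    hβinj
    (by rw [← G_comp, ← G_comp, hfork])
    (by rw [← G_comp, hp2b])
  -- `Spec B2 = Spec B' ×_{Spec E} Spec B'`
  have po3 : IsPushout i i (G p2) (G a1) := by
    have s : IsPushout (G c) (e ≫ i) (G b' ≫ G p2) (G a1) := by
      have h1 : G b' ≫ G p2 = G b2 := by rw [← G_comp, hp2b]
      rw [← po.w, h1]
      exact po1
    exact IsPushout.of_top s hi.symm po
  have sqSpec : IsPullback (Spec.map (G p2)) (Spec.map (G a1)) (Spec.map i) (Spec.map i) :=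
    isPullback_SpecMap_of_isPushout i i (G p2) (G a1) po3
  -- the morphisms around `Spec E`
  let j : W'.left ⟶ Spec Γ(W'.left, ⊤) := W'.left.toSpecΓ
  let bS : Spec Γ(W'.left, ⊤) ⟶ Z'.left := Spec.map (G b') ≫ Z'.left.isoSpec.inv
  let wE : Spec E ⟶ Z.left := Spec.map e ≫ Z.left.isoSpec.inv
  let q : Spec Γ(W'.left, ⊤) ⟶ Spec E := Spec.map i
  have hjb : j ≫ bS = b'.left := by
    change W'.left.toSpecΓ ≫ Spec.map b'.left.appTop ≫ Z'.left.isoSpec.inv = _
    rw [← Category.assoc, ← Scheme.toSpecΓ_naturality, Category.assoc]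
    change b'.left ≫ Z'.left.isoSpec.hom ≫ Z'.left.isoSpec.inv = _
    rw [Iso.hom_inv_id, Category.comp_id]
  have sqE : IsPullback q bS wE c.left := by
    have h0 := isPullback_SpecMap_of_isPushout (G c) e (G b') i po
    refine (IsPullback.of_iso h0 (Iso.refl _) Z'.left.isoSpec.symm (Iso.refl _)
      Z.left.isoSpec.symm ?_ ?_ ?_ ?_).flip
    · simp [bS]
    · simp [q]
    · exact Scheme.isoSpec_inv_naturality c.left
    · simp [wE]
  have hqflat : Flat q := MorphismProperty.of_isPullback sqE.flip inferInstance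
  have hqsurj : Surjective q := MorphismProperty.of_isPullback sqE.flip inferInstance
  have hquot : Topology.IsQuotientMap q := Flat.isQuotientMap_of_surjective q
  -- the saturated open
  let O' : (Spec Γ(W'.left, ⊤)).Opens := j.opensRange
  have hpre1 : Spec.map (G a1) ⁻¹ᵁ O' = W2.left.toSpecΓ.opensRange :=
    Scheme.preimage_opensRange_toSpecΓ a1.left
  have hpre2 : Spec.map (G p2) ⁻¹ᵁ O' = W2.left.toSpecΓ.opensRange :=
    Scheme.preimage_opensRange_toSpecΓ p2.left
  have hsat : ∀ x y : ↥(Spec Γ(W'.left, ⊤)), q x = q y → x ∈ O' → y ∈ O' := by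
    intro x y hxy hx
    obtain ⟨z, hz1, hz2⟩ := exists_point_of_isPullback_sch sqSpec x y hxy
    have h1 : z ∈ Spec.map (G p2) ⁻¹ᵁ O' := by
      change Spec.map (G p2) z ∈ O'
      rw [hz1]
      exact hx
    rw [hpre2, ← hpre1] at h1
    change Spec.map (G a1) z ∈ O' at h1
    rwa [hz2] at h1
  have hpreO : q ⁻¹' (q '' (O' : Set ↥(Spec Γ(W'.left, ⊤)))) = O' := by
    ext y
    constructor
    · rintro ⟨x, hx, hxy⟩
      exact hsat x y hxy hx
    · intro hy
      exact ⟨y, hy, rfl⟩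
  have hOopen : IsOpen (q '' (O' : Set ↥(Spec Γ(W'.left, ⊤)))) := by
    rw [← hquot.isOpen_preimage, hpreO]
    exact O'.isOpen
  let O : (Spec E).Opens := ⟨q '' (O' : Set ↥(Spec Γ(W'.left, ⊤))), hOopen⟩
  have hOpre : q ⁻¹ᵁ O = O' := by
    ext y
    exact Set.ext_iff.1 hpreO y
  -- the scheme `W`
  have hrange : Set.range (j ≫ q) ⊆ Set.range O.ι := by
    rw [Scheme.Opens.range_ι]
    rintro _ ⟨x, rfl⟩
    exact ⟨j x, ⟨x, rfl⟩, rfl⟩
  let kS : W'.left ⟶ O.toScheme := IsOpenImmersion.lift O.ι (j ≫ q) hrange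
  have hkι : kS ≫ O.ι = j ≫ q := IsOpenImmersion.lift_fac _ _ _
  have sqL : IsPullback kS j O.ι q := by
    refine IsOpenImmersion.isPullback kS j O.ι q hkι.symm ?_
    rw [Scheme.Opens.opensRange_ι]
    exact hOpre
  have sqS : IsPullback kS b'.left (O.ι ≫ wE) c.left := by
    have := sqL.paste_vert sqE
    rwa [hjb] at this
  let W : Over S := Over.mk ((O.ι ≫ wE) ≫ Z.hom)
  let w : W ⟶ Z := Over.homMk (O.ι ≫ wE) rfl
  let k : W' ⟶ W := Over.homMk kS (by
    change kS ≫ (O.ι ≫ wE) ≫ Z.hom = W'.hom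
    rw [← Category.assoc, sqS.w, Category.assoc, Over.w, Over.w])
  have hkw : k ≫ w = b' ≫ c := by
    apply Over.OverMorphism.ext
    exact sqS.w
  have sqO : IsPullback k b' w c := IsPullback.of_map (Over.forget S) hkw sqS
  have hpk : p2 ≫ k = a1 ≫ k := by
    apply Over.OverMorphism.ext
    change p2.left ≫ kS = a1.left ≫ kS
    rw [← cancel_mono O.ι, Category.assoc, Category.assoc, hkι]
    change p2.left ≫ W'.left.toSpecΓ ≫ Spec.map i = a1.left ≫ W'.left.toSpecΓ ≫ Spec.map i
    rw [← Category.assoc, ← Category.assoc, Scheme.toSpecΓ_naturality, Scheme.toSpecΓ_naturality,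
      Category.assoc, Category.assoc, ← Spec.map_comp, ← Spec.map_comp]
    congr 2
    exact hi.symm
  have hWqa : W.left.IsQuasiAffine := by
    change (O.toScheme).IsQuasiAffine
    have hcomp : CompactSpace ↥O.toScheme := by
      refine isCompact_iff_compactSpace.1 ?_
      change IsCompact (q '' (Set.range j))
      exact (isCompact_range j.continuous).image q.continuous
    exact Scheme.IsQuasiAffine.of_isImmersion O.ι
  have sqW : IsPullback ((yon S).map k) ((yon S).map b') ((yon S).map w) ((yon S).map c) :=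
    sqO.map (yon S)
  have sqS' : IsPullback k.left b'.left w.left c.left := sqS
  clear_value W w k
  -- `π` is separated
  have hcovZ : IsFpqcCover (fun _ : PUnit.{u + 1} => (yon S).obj Z') (fun _ => (yon S).map c) :=
    isFpqcCover_of_isPullback c (𝟙 _) ((yon S).map c) (𝟙 _) (IsPullback.of_vert_isIso ⟨by simp⟩)
  have hb'sep : IsSeparatedMor ((yon S).map b') := by
    rw [isSeparatedMor_yon_map_iff, ← hjb]
    have : IsAffine (Spec Γ(W'.left, ⊤)) := inferInstance
    have : IsSeparated bS := inferInstance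
    infer_instance
  have hsepπ : IsSeparatedMor π :=
    (Groth.Agent.H51.isLocalOnBase_fpqc_isSeparatedMor (fun _ : PUnit.{u + 1} => (yon S).obj Z')
      (fun _ => (yon S).map c) (IsAlgSpace.yon_obj _) (fun _ => IsAlgSpace.yon_obj _) hcovZ π hF
      (fun _ => (yon S).obj W') (fun _ => (yon S).map b') (fun _ => a)
      (fun _ => IsAlgSpace.yon_obj _) (fun _ => sq0)).2 (fun _ => hb'sep)
  -- the base change of `F` to `W`
  let q : pullback π ((yon S).map w) ⟶ (yon S).obj W := pullback.snd π ((yon S).map w)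
  let pF : pullback π ((yon S).map w) ⟶ F := pullback.fst π ((yon S).map w)
  have hpq : pF ≫ π = q ≫ (yon S).map w := pullback.condition
  have hsep : RepWith @IsClosedImmersion (pullback.diagonal q) :=
    MorphismProperty.of_isPullback (P := (RepWith (S := S) @IsClosedImmersion).diagonal)
      (IsPullback.of_hasPullback π ((yon S).map w)) hsepπ
  have hFW : IsAlgSpace (pullback π ((yon S).map w)) :=
    H52.isAlgSpace_of_isPullback (IsPullback.of_hasPullback π ((yon S).map w))
      (IsAlgSpace.yon_obj Z).diag hF (IsAlgSpace.yon_obj _)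
  obtain ⟨U, p, hpe, hps⟩ := hFW.atlas
  have hpfl : RepWith @Flat p :=
    H50.repWith_mono (fun A B k (hk : Etale k) => (inferInstance : Flat k)) hpe
  have hplfp : RepWith @LocallyOfFinitePresentation p :=
    H50.repWith_mono (fun A B k (hk : Etale k) =>
      (inferInstance : LocallyOfFinitePresentation k)) hpe
  have haπ : a ≫ π = (yon S).map k ≫ (yon S).map w := by
    rw [sq0.w, ← Functor.map_comp, ← Functor.map_comp, hkw]
  let ξ' : (yon S).obj W' ⟶ pullback π ((yon S).map w) := pullback.lift a ((yon S).map k) haπ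
  have hξ'q : ξ' ≫ q = (yon S).map k := pullback.lift_snd _ _ _
  have hξ'p : ξ' ≫ pF = a := pullback.lift_fst _ _ _
  clear_value ξ'
  have hkfl : Flat k.left := MorphismProperty.of_isPullback sqS'.flip ‹Flat c.left›
  have hksurj : Surjective k.left := MorphismProperty.of_isPullback sqS'.flip ‹Surjective c.left›
  have hkaff : IsAffineHom k.left := MorphismProperty.of_isPullback sqS'.flip hcaff
  have heq : ∀ (T₁ : Over S) (τ₁ τ₂ : T₁ ⟶ W'), τ₁ ≫ k = τ₂ ≫ k →
      (yon S).map τ₁ ≫ ξ' = (yon S).map τ₂ ≫ ξ' := by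
    intro T₁ τ₁ τ₂ hτ
    have hcond : τ₁ ≫ (b' ≫ c) = (τ₂ ≫ b') ≫ c := by
      rw [← hkw, ← Category.assoc, hτ, Category.assoc, hkw, Category.assoc]
    let t : T₁ ⟶ W2 := hW2.lift τ₁ (τ₂ ≫ b') hcond
    have ht1 : t ≫ a1 = τ₁ := hW2.lift_fst _ _ _
    have ht2 : t ≫ b2 = τ₂ ≫ b' := hW2.lift_snd _ _ _
    have ht3 : t ≫ p2 = τ₂ := by
      apply sqO.hom_ext
      · rw [Category.assoc, hpk, ← Category.assoc, ht1, hτ]
      · rw [Category.assoc, hp2b, ht2]
    apply pullback.hom_ext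
    · change ((yon S).map τ₁ ≫ ξ') ≫ pF = ((yon S).map τ₂ ≫ ξ') ≫ pF
      rw [Category.assoc, Category.assoc, hξ'p, ← ht1, ← ht3, Functor.map_comp, Functor.map_comp,
        Category.assoc, Category.assoc, hp2a]
    · change ((yon S).map τ₁ ≫ ξ') ≫ q = ((yon S).map τ₂ ≫ ξ') ≫ q
      rw [Category.assoc, Category.assoc, hξ'q, ← Functor.map_comp, ← Functor.map_comp, hτ]
  obtain ⟨ξ, hξq, hξf⟩ := SepFpqc.exists_section_of_fpqc k q hsep p hpfl hplfp hps ξ' hξ'q heq
  have hxπ : (ξ ≫ pF) ≫ π = (yon S).map w := by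
    rw [Category.assoc, hpq, ← Category.assoc, hξq, Category.id_comp]
  have hkx : (yon S).map k ≫ ξ ≫ pF = a := by
    rw [← Category.assoc, hξf, hξ'p]
  -- the base change of `x` to `W'` is the identity
  have sqx : IsPullback ((yon S).map k) (𝟙 _) (ξ ≫ pF) a := by
    refine IsPullback.of_bot ?_ (by rw [hkx, Category.id_comp]) sq0
    rw [Category.id_comp, hxπ]
    exact sqW
  have hcovF : IsFpqcCover (fun _ : PUnit.{u + 1} => (yon S).obj W') (fun _ => a) :=
    isFpqcCover_of_isPullback c π a ((yon S).map b') sq0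
  have hiso : IsIso (ξ ≫ pF) := by
    have key := Groth.Agent.H51.isLocalOnBase_fpqc_isomorphisms (S := S)
      (fun _ : PUnit.{u + 1} => (yon S).obj W') (fun _ => a) hF (fun _ => IsAlgSpace.yon_obj _)
      hcovF (ξ ≫ pF) (IsAlgSpace.yon_obj _) (fun _ => (yon S).obj W') (fun _ => 𝟙 _)
      (fun _ => (yon S).map k) (fun _ => IsAlgSpace.yon_obj _) (fun _ => sqx)
    exact (MorphismProperty.isomorphisms.iff _).1
      (key.2 (fun _ => (MorphismProperty.isomorphisms.iff _).2 inferInstance))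
  exact ⟨W, w, k, ξ ≫ pF, hWqa, hiso, hxπ, hkx, sqS'⟩

end Groth.Agent.H51.QAffDescFpqc
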