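import Groth.Agent.H51.QAffDesc
import Groth.Agent.H51.AffQuot

/-!
# Quotient of a quasi-affine scheme by a descent relation along a faithfully flat morphism of affine schemes (helper51)
-/

set_option autoImplicit false
universe u
open CategoryTheory CategoryTheory.Limits AlgebraicGeometry Opposite

namespace Groth.Agent.H51.QAffQuot

open Groth.Agent.H51.QAffDesc

set_option maxHeartbeats 1600000 in
/-- Quasi-affine descent, geometric form.  `W2 = W' ×_Z Z'`, `W3 = W2 ×_Z Z'`, `p2 : W2 ⟶ W'` the second structure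
map of a descent relation (with its unit `δ` and cocycle condition `hfork`), assumed affine.  Then there is a
quasi-affine `W` over `Z` with `W' = W ×_Z Z'` and `p2 ≫ k = a1 ≫ k`. -/
theorem exists_qaffine_quotient {Z Z' W' W2 W3 : Scheme.{u}} [IsAffine Z] [IsAffine Z']
    [W'.IsQuasiAffine]
    (c : Z' ⟶ Z) [Flat c] [Surjective c] (b' : W' ⟶ Z')
    (a1 : W2 ⟶ W') (b2 : W2 ⟶ Z') (hW2 : IsPullback a1 b2 (b' ≫ c) c)
    (p2 : W2 ⟶ W') (hp2b : p2 ≫ b' = b2) [hp2aff : IsAffineHom p2]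
    (a2 : W3 ⟶ W2) (b3 : W3 ⟶ Z') (hW3 : IsPullback a2 b3 (a1 ≫ b' ≫ c) c)
    (t13 t23 : W3 ⟶ W2) (t13a : t13 ≫ a1 = a2 ≫ a1) (t13b : t13 ≫ b2 = b3)
    (t23a : t23 ≫ a1 = a2 ≫ p2) (t23b : t23 ≫ b2 = b3)
    (hfork : t13 ≫ p2 = t23 ≫ p2)
    (δ : W' ⟶ W2) (hδ : δ ≫ p2 = 𝟙 W') :
    ∃ (W : Scheme.{u}) (w : W ⟶ Z) (k : W' ⟶ W), W.IsQuasiAffine ∧ IsPullback k b' w c ∧
      p2 ≫ k = a1 ≫ k := by
  have hcaff : IsAffineHom c := inferInstance
  have ha1aff : IsAffineHom a1 := MorphismProperty.of_isPullback hW2.flip hcaff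
  have hW2qa : W2.IsQuasiAffine := Scheme.IsQuasiAffine.of_isAffineHom a1
  have hflat : c.appTop.hom.Flat := (HasRingHomProperty.iff_of_isAffine (P := @Flat)).1 inferInstance
  have po1 : IsPushout c.appTop (c.appTop ≫ b'.appTop) b2.appTop a1.appTop :=
    (isPushout_appTop_of_flat hW2).flip
  have po2 : IsPushout c.appTop (c.appTop ≫ b'.appTop ≫ a1.appTop) b3.appTop a2.appTop :=
    (isPushout_appTop_of_flat hW3).flip
  have hβinj : Function.Injective p2.appTop.hom := by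
    have h1 : p2.appTop ≫ δ.appTop = 𝟙 _ := by
      rw [← Scheme.Hom.comp_appTop, hδ]; rfl
    intro x y hxy
    have := congr_arg δ.appTop.hom hxy
    have e : ∀ z, δ.appTop.hom (p2.appTop.hom z) = z := fun z =>
      congr_arg (fun m : Γ(W', ⊤) ⟶ Γ(W', ⊤) => m.hom z) h1
    rwa [e, e] at this
  obtain ⟨E, i, e, hi, po⟩ := AffDescAlg.exists_isPushout_equalizer c.appTop hflat b'.appTop
    a1.appTop p2.appTop b2.appTop a2.appTop b3.appTop t13.appTop t23.appTop po1 po2
    (by rw [← Scheme.Hom.comp_appTop, ← Scheme.Hom.comp_appTop, t13a])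
    (by rw [← Scheme.Hom.comp_appTop, t13b])
    (by rw [← Scheme.Hom.comp_appTop, ← Scheme.Hom.comp_appTop, t23a])
    (by rw [← Scheme.Hom.comp_appTop, t23b])
    hβinj
    (by rw [← Scheme.Hom.comp_appTop, ← Scheme.Hom.comp_appTop, hfork])
    (by rw [← Scheme.Hom.comp_appTop, hp2b])
  -- `Spec B2 = Spec B' ×_{Spec E} Spec B'`
  have po3 : IsPushout i i p2.appTop a1.appTop := by
    have s : IsPushout c.appTop (e ≫ i) (b'.appTop ≫ p2.appTop) a1.appTop := by
      have h1 : b'.appTop ≫ p2.appTop = b2.appTop := by rw [← Scheme.Hom.comp_appTop, hp2b]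
      rw [← po.w, h1]
      exact po1
    exact IsPushout.of_top s hi.symm po
  have sqSpec : IsPullback (Spec.map p2.appTop) (Spec.map a1.appTop) (Spec.map i) (Spec.map i) :=
    isPullback_SpecMap_of_isPushout i i p2.appTop a1.appTop po3
  -- the morphisms around `Spec E`
  let j : W' ⟶ Spec Γ(W', ⊤) := W'.toSpecΓ
  let bS : Spec Γ(W', ⊤) ⟶ Z' := Spec.map b'.appTop ≫ Z'.isoSpec.inv
  let wE : Spec E ⟶ Z := Spec.map e ≫ Z.isoSpec.inv
  let q : Spec Γ(W', ⊤) ⟶ Spec E := Spec.map i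
  have hjb : j ≫ bS = b' := by
    change W'.toSpecΓ ≫ Spec.map b'.appTop ≫ Z'.isoSpec.inv = _
    rw [← Category.assoc, ← Scheme.toSpecΓ_naturality, Category.assoc]
    change b' ≫ Z'.isoSpec.hom ≫ Z'.isoSpec.inv = _
    rw [Iso.hom_inv_id, Category.comp_id]
  have sqE : IsPullback q bS wE c := by
    have h0 := isPullback_SpecMap_of_isPushout c.appTop e b'.appTop i po
    refine (IsPullback.of_iso h0 (Iso.refl _) Z'.isoSpec.symm (Iso.refl _)
      Z.isoSpec.symm ?_ ?_ ?_ ?_).flip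
    · simp [bS]
    · simp [q]
    · exact Scheme.isoSpec_inv_naturality c
    · simp [wE]
  have hqflat : Flat q := MorphismProperty.of_isPullback sqE.flip inferInstance
  have hqsurj : Surjective q := MorphismProperty.of_isPullback sqE.flip inferInstance
  have hquot : Topology.IsQuotientMap q := Flat.isQuotientMap_of_surjective q
  -- the saturated open
  let O' : (Spec Γ(W', ⊤)).Opens := j.opensRange
  have hpre1 : Spec.map a1.appTop ⁻¹ᵁ O' = W2.toSpecΓ.opensRange :=
    Scheme.preimage_opensRange_toSpecΓ a1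
  have hpre2 : Spec.map p2.appTop ⁻¹ᵁ O' = W2.toSpecΓ.opensRange :=
    Scheme.preimage_opensRange_toSpecΓ p2
  have hsat : ∀ x y : ↥(Spec Γ(W', ⊤)), q x = q y → x ∈ O' → y ∈ O' := by
    intro x y hxy hx
    obtain ⟨z, hz1, hz2⟩ := exists_point_of_isPullback_sch sqSpec x y hxy
    have h1 : z ∈ Spec.map p2.appTop ⁻¹ᵁ O' := by
      change Spec.map p2.appTop z ∈ O'
      rw [hz1]
      exact hx
    rw [hpre2, ← hpre1] at h1
    change Spec.map a1.appTop z ∈ O' at h1
    rwa [hz2] at h1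
  have hpreO : q ⁻¹' (q '' (O' : Set ↥(Spec Γ(W', ⊤)))) = O' := by
    ext y
    constructor
    · rintro ⟨x, hx, hxy⟩
      exact hsat x y hxy hx
    · intro hy
      exact ⟨y, hy, rfl⟩
  have hOopen : IsOpen (q '' (O' : Set ↥(Spec Γ(W', ⊤)))) := by
    rw [← hquot.isOpen_preimage, hpreO]
    exact O'.isOpen
  let O : (Spec E).Opens := ⟨q '' (O' : Set ↥(Spec Γ(W', ⊤))), hOopen⟩
  have hOpre : q ⁻¹ᵁ O = O' := by
    ext y
    exact Set.ext_iff.1 hpreO y
  -- the scheme `W`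
  have hrange : Set.range (j ≫ q) ⊆ Set.range O.ι := by
    rw [Scheme.Opens.range_ι]
    rintro _ ⟨x, rfl⟩
    exact ⟨j x, ⟨x, rfl⟩, rfl⟩
  let kS : W' ⟶ O.toScheme := IsOpenImmersion.lift O.ι (j ≫ q) hrange
  have hkι : kS ≫ O.ι = j ≫ q := IsOpenImmersion.lift_fac _ _ _
  have sqL : IsPullback kS j O.ι q := by
    refine IsOpenImmersion.isPullback kS j O.ι q hkι.symm ?_
    rw [Scheme.Opens.opensRange_ι]
    exact hOpre
  have sqS : IsPullback kS b' (O.ι ≫ wE) c := by
    have := sqL.paste_vert sqE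
    rwa [hjb] at this
  have hpk : p2 ≫ kS = a1 ≫ kS := by
    rw [← cancel_mono O.ι, Category.assoc, Category.assoc, hkι]
    change p2 ≫ W'.toSpecΓ ≫ Spec.map i = a1 ≫ W'.toSpecΓ ≫ Spec.map i
    rw [← Category.assoc, ← Category.assoc, Scheme.toSpecΓ_naturality, Scheme.toSpecΓ_naturality,
      Category.assoc, Category.assoc, ← Spec.map_comp, ← Spec.map_comp]
    congr 2
    exact hi.symm
  have hWqa : (O.toScheme).IsQuasiAffine := by
    have hcomp : CompactSpace ↥O.toScheme := by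
      refine isCompact_iff_compactSpace.1 ?_
      change IsCompact (q '' (Set.range j))
      exact (isCompact_range j.continuous).image q.continuous
    exact Scheme.IsQuasiAffine.of_isImmersion O.ι
  exact ⟨O.toScheme, O.ι ≫ wE, kS, hWqa, sqS, hpk⟩

end Groth.Agent.H51.QAffQuot
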