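import Mathlib.Topology.Algebra.GroupCompletion
import Mathlib.Topology.Algebra.Nonarchimedean.Completion
import Mathlib.Topology.Algebra.Group.Quotient
import Mathlib.Topology.Algebra.IsUniformGroup.Basic
import Groth.Agent.H51.OpenMap

/-! Completion of a quotient of a nonarchimedean abelian group (helper51). -/

set_option autoImplicit false
set_option linter.unusedSectionVars false
set_option linter.unusedVariables false
universe u v

open Topology Filter UniformSpace UniformSpace.Completion

namespace Groth.Agent.H51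

section Compl

variable {G : Type u} [AddCommGroup G] [UniformSpace G] [IsUniformAddGroup G]

/-- closure in the completion of the image of a subgroup -/
noncomputable def cl (W : AddSubgroup G) : AddSubgroup (Completion G) :=
  (W.map toCompl).topologicalClosure

theorem coe_cl (W : AddSubgroup G) :
    (cl W : Set (Completion G)) = closure ((↑) '' (W : Set G)) := rfl

theorem cl_mono {W W' : AddSubgroup G} (h : W ≤ W') : cl W ≤ cl W' :=
  fun _ hx => closure_mono (Set.image_mono h) hx

theorem coe_mem_cl {W : AddSubgroup G} {g : G} (hg : g ∈ W) : (g : Completion G) ∈ cl W :=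
  subset_closure ⟨g, hg, rfl⟩

theorem isOpen_cl (W : AddSubgroup G) (hW : IsOpen (W : Set G)) :
    IsOpen (cl W : Set (Completion G)) := by
  apply AddSubgroup.isOpen_of_mem_nhds (g := 0)
  have := (isDenseInducing_coe (α := G)).closure_image_mem_nhds (hW.mem_nhds W.zero_mem)
  rw [coe_zero] at this
  exact this

/-- preimage of the closure of the image of an open subgroup -/
theorem coe_mem_cl_iff (W : AddSubgroup G) (hW : IsOpen (W : Set G)) (g : G) :
    (g : Completion G) ∈ cl W ↔ g ∈ W := by
  constructor
  · intro h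
    have hcl : IsClosed (W : Set G) := W.isClosed_of_isOpen hW
    have h1 : g ∈ closure (W : Set G) := by
      rw [(isDenseInducing_coe (α := G)).isInducing.closure_eq_preimage_closure_image]
      exact h
    rwa [hcl.closure_eq] at h1
  · exact coe_mem_cl

theorem exists_cl_subset {ι : Sort*} (W : ι → AddSubgroup G)
    (hb : ∀ U ∈ 𝓝 (0 : G), ∃ i, (W i : Set G) ⊆ U) {U : Set (Completion G)}
    (hU : U ∈ 𝓝 (0 : Completion G)) : ∃ i, (cl (W i) : Set (Completion G)) ⊆ U := by
  obtain ⟨C, ⟨hC, C_closed⟩, hCU⟩ := (closed_nhds_basis (0 : Completion G)).mem_iff.mp hU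
  have hpre : ((↑) : G → Completion G) ⁻¹' C ∈ 𝓝 (0 : G) := by
    apply (continuous_coe G).continuousAt.preimage_mem_nhds
    rwa [coe_zero]
  obtain ⟨i, hi⟩ := hb _ hpre
  refine ⟨i, Set.Subset.trans ?_ hCU⟩
  exact closure_minimal (Set.image_subset_iff.mpr hi) C_closed

end Compl


section Quot

variable {G : Type u} [AddCommGroup G] [UniformSpace G] [IsUniformAddGroup G] (N : AddSubgroup G)

/-- the uniform structure on the quotient used in the statements -/
@[reducible] def quotUniformSpace : UniformSpace (G ⧸ N) :=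
  IsTopologicalAddGroup.rightUniformSpace (G ⧸ N)

attribute [local instance] quotUniformSpace

theorem quot_isUniformAddGroup : IsUniformAddGroup (G ⧸ N) := isUniformAddGroup_of_addCommGroup

attribute [local instance] quot_isUniformAddGroup

/-- the completed quotient map -/
noncomputable def πc : Completion G →+ Completion (G ⧸ N) :=
  AddMonoidHom.completion (QuotientAddGroup.mk' N) continuous_quot_mk

theorem πc_eq : ⇑(πc N) = Completion.map (QuotientAddGroup.mk' N) := rfl

theorem πc_coe (g : G) : πc N (g : Completion G) = ((QuotientAddGroup.mk g : G ⧸ N) : Completion (G ⧸ N)) :=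
  AddMonoidHom.completion_coe _ _ g

theorem continuous_πc : Continuous (πc N) := AddMonoidHom.continuous_completion _ _

theorem isOpen_map_mk (W : AddSubgroup G) (hW : IsOpen (W : Set G)) :
    IsOpen ((W.map (QuotientAddGroup.mk' N) : AddSubgroup (G ⧸ N)) : Set (G ⧸ N)) := by
  rw [AddSubgroup.coe_map]
  exact QuotientAddGroup.isOpenMap_coe _ hW

/-- image of `cl W` under the completed quotient map lies in `cl (mk W)` -/
theorem πc_image_cl_subset (W : AddSubgroup G) :
    πc N '' (cl W : Set (Completion G)) ⊆ (cl (W.map (QuotientAddGroup.mk' N)) : Set (Completion (G ⧸ N))) := by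
  rw [coe_cl, coe_cl]
  refine (image_closure_subset_closure_image (continuous_πc N)).trans (closure_mono ?_)
  rintro _ ⟨_, ⟨w, hw, rfl⟩, rfl⟩
  exact ⟨QuotientAddGroup.mk w, ⟨w, hw, rfl⟩, (πc_coe N w).symm⟩

theorem closure_πc_image_cl (W : AddSubgroup G) :
    closure (πc N '' (cl W : Set (Completion G))) =
      (cl (W.map (QuotientAddGroup.mk' N)) : Set (Completion (G ⧸ N))) := by
  apply Set.Subset.antisymm
  · exact closure_minimal (πc_image_cl_subset N W) (AddSubgroup.isClosed_topologicalClosure _)
  · rw [coe_cl]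
    apply closure_mono
    rintro _ ⟨_, ⟨w, hw, rfl⟩, rfl⟩
    exact ⟨(w : Completion G), coe_mem_cl hw, πc_coe N w⟩

variable [NonarchimedeanAddGroup G]

theorem hasBasis_open_addSubgroup :
    (𝓝 (0 : G)).HasBasis (fun W : AddSubgroup G => IsOpen (W : Set G)) (fun W => (W : Set G)) := by
  rw [Filter.hasBasis_iff]
  intro t
  constructor
  · intro ht
    obtain ⟨V, hV⟩ := NonarchimedeanAddGroup.is_nonarchimedean t ht
    exact ⟨V.toAddSubgroup, V.isOpen', hV⟩
  · rintro ⟨W, hW, hWt⟩
    exact Filter.mem_of_superset (hW.mem_nhds W.zero_mem) hWt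

/-- The kernel of the completed quotient map is the closure of the image of `N`. -/
theorem ker_πc : (πc N) ⁻¹' {0} = closure (((↑) : G → Completion G) '' (N : Set G)) := by
  apply Set.Subset.antisymm
  · intro x hx
    have hx0 : πc N x = 0 := hx
    rw [mem_closure_iff_nhds]
    intro t ht
    -- a basic neighbourhood x + cl W inside t
    have hpre : (fun y => x + y) ⁻¹' t ∈ 𝓝 (0 : Completion G) := by
      have hc : Continuous (fun y : Completion G => x + y) := continuous_const.add continuous_id
      apply hc.continuousAt.preimage_mem_nhds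
      simpa using ht
    obtain ⟨W, hW⟩ := exists_cl_subset (fun W : {W : AddSubgroup G // IsOpen (W : Set G)} => W.1)
      (fun U hU => by
        obtain ⟨W, hWo, hWU⟩ := (hasBasis_open_addSubgroup (G := G)).mem_iff.mp hU
        exact ⟨⟨W, hWo⟩, hWU⟩) hpre
    obtain ⟨W, hWo⟩ := W
    simp only at hW
    -- a point of G in x + cl W
    have hopen : IsOpen ((fun y => y - x) ⁻¹' (cl W : Set (Completion G))) :=
      (isOpen_cl W hWo).preimage (continuous_id.sub continuous_const)
    have hne : ((fun y => y - x) ⁻¹' (cl W : Set (Completion G))).Nonempty :=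
      ⟨x, by simp⟩
    obtain ⟨m, hm⟩ := (denseRange_coe (α := G)).exists_mem_open hopen hne
    have hm' : (m : Completion G) - x ∈ cl W := hm
    -- its image lies in cl (mk W)
    have h1 : πc N ((m : Completion G) - x) ∈ cl (W.map (QuotientAddGroup.mk' N)) :=
      πc_image_cl_subset N W ⟨_, hm', rfl⟩
    rw [map_sub, hx0, sub_zero, πc_coe] at h1
    have h2 := (coe_mem_cl_iff _ (isOpen_map_mk N W hWo) _).mp h1
    obtain ⟨w, hw, hwm⟩ := h2
    have hn : m - w ∈ N := by
      have : (QuotientAddGroup.mk (m - w) : G ⧸ N) = 0 := by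
        rw [QuotientAddGroup.mk_sub]
        have : (QuotientAddGroup.mk w : G ⧸ N) = QuotientAddGroup.mk m := hwm
        rw [this, sub_self]
      exact (QuotientAddGroup.eq_zero_iff _).mp this
    refine ⟨((m - w : G) : Completion G), ?_, ⟨m - w, hn, rfl⟩⟩
    have h3 : ((m : Completion G) - x) - (w : Completion G) ∈ cl W :=
      (cl W).sub_mem hm' (coe_mem_cl hw)
    have h4 : x + (((m : Completion G) - x) - (w : Completion G)) ∈ t := hW h3
    have h5 : x + (((m : Completion G) - x) - (w : Completion G)) = ((m - w : G) : Completion G) := by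
      rw [coe_sub]; abel
    rwa [h5] at h4
  · apply closure_minimal
    · rintro _ ⟨n, hn, rfl⟩
      change πc N (n : Completion G) = 0
      rw [πc_coe]
      have : (QuotientAddGroup.mk n : G ⧸ N) = 0 := (QuotientAddGroup.eq_zero_iff _).mpr hn
      rw [this, coe_zero]
    · exact isClosed_singleton.preimage (continuous_πc N)


theorem denseRange_πc : DenseRange (πc N) := by
  have h : Set.range ((↑) : (G ⧸ N) → Completion (G ⧸ N)) ⊆ Set.range (πc N) := by
    rintro _ ⟨q, rfl⟩
    obtain ⟨g, rfl⟩ := QuotientAddGroup.mk_surjective q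
    exact ⟨(g : Completion G), πc_coe N g⟩
  exact (denseRange_coe (α := G ⧸ N)).mono h

/-- With a countable basis, the completed quotient map is surjective and open. -/
theorem πc_surjective_isOpenMap (hc : (𝓝 (0 : G)).IsCountablyGenerated) :
    Function.Surjective (πc N) ∧ IsOpenMap (πc N) := by
  have := hc
  obtain ⟨W, hWo, hW⟩ := (hasBasis_open_addSubgroup (G := G)).exists_antitone_subbasis
  have hWb : ∀ U ∈ 𝓝 (0 : G), ∃ n, (W n : Set G) ⊆ U := fun U hU => by
    obtain ⟨n, -, hn⟩ := hW.toHasBasis.mem_iff.mp hU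
    exact ⟨n, hn⟩
  let Gn : ℕ → AddSubgroup (Completion G) := fun n => cl (W n)
  have hGo : ∀ n, IsOpen (Gn n : Set (Completion G)) := fun n => isOpen_cl _ (hWo n)
  have hGa : Antitone Gn := fun a b hab => cl_mono (SetLike.coe_subset_coe.mp (hW.antitone hab))
  have hGb : ∀ U ∈ 𝓝 (0 : Completion G), ∃ n, (Gn n : Set (Completion G)) ⊆ U :=
    fun U hU => exists_cl_subset W hWb hU
  have hHo : ∀ n, IsOpen (closure (πc N '' (Gn n : Set (Completion G)))) := by
    intro n
    rw [closure_πc_image_cl]
    exact isOpen_cl _ (isOpen_map_mk N _ (hWo n))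
  have hHb : ∀ U ∈ 𝓝 (0 : Completion (G ⧸ N)), ∃ n,
      closure (πc N '' (Gn n : Set (Completion G))) ⊆ U := by
    intro U hU
    have hb : ∀ V ∈ 𝓝 (0 : G ⧸ N), ∃ n,
        (((W n).map (QuotientAddGroup.mk' N) : AddSubgroup (G ⧸ N)) : Set (G ⧸ N)) ⊆ V := by
      intro V hV
      have hpre : (QuotientAddGroup.mk : G → G ⧸ N) ⁻¹' V ∈ 𝓝 (0 : G) := by
        have hcq : Continuous (QuotientAddGroup.mk : G → G ⧸ N) := continuous_quot_mk
        exact hcq.continuousAt.preimage_mem_nhds hV
      obtain ⟨n, hn⟩ := hWb _ hpre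
      refine ⟨n, ?_⟩
      rintro _ ⟨w, hw, rfl⟩
      exact hn hw
    obtain ⟨n, hn⟩ := exists_cl_subset (fun n => (W n).map (QuotientAddGroup.mk' N)) hb hU
    exact ⟨n, by rw [closure_πc_image_cl]; exact hn⟩
  exact ⟨surjective_of_closure_image (πc N) (continuous_πc N) Gn hGo hGa hGb hHo hHb
      (denseRange_πc N),
    isOpenMap_of_closure_image (πc N) (continuous_πc N) Gn hGo hGa hGb hHo hHb⟩

end Quot

end Groth.Agent.H51
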