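import Groth.Agent.H51.QuotKer
import Groth.Agent.H50.Kernel

/-!
# Quotients by pre-equivalence relations: points with the same image are locally related (helper51)
-/

set_option autoImplicit false
universe u
open CategoryTheory CategoryTheory.Limits AlgebraicGeometry Opposite AlgSp

namespace Groth.Agent.H51.QuotKer

variable {S : Scheme.{u}} {R U : Over S} (s t : R ⟶ U)

/-- Comparison map from the prelude's `QuotSh.quot` to the coequalizer of `h_s, h_t` in `Sp S`. -/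
theorem exists_comparison :
    ∃ θ : QuotSh.quot Scheme.fppfPrecoverage s t ⟶ AlgSp.quotSp ((AlgSp.yon S).map s) ((AlgSp.yon S).map t),
      qmap s t ≫ θ = AlgSp.quotSpπ ((AlgSp.yon S).map s) ((AlgSp.yon S).map t) := by
  have h1 := repIso_naturality (S := S) s
  have h2 := repIso_naturality (S := S) t
  have w : QuotSh.repMap Scheme.fppfPrecoverage s ≫
      ((QuotSh.repIsoUliftYoneda Scheme.fppfPrecoverage U).hom ≫
        AlgSp.quotSpπ ((AlgSp.yon S).map s) ((AlgSp.yon S).map t)) =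
      QuotSh.repMap Scheme.fppfPrecoverage t ≫
      ((QuotSh.repIsoUliftYoneda Scheme.fppfPrecoverage U).hom ≫
        AlgSp.quotSpπ ((AlgSp.yon S).map s) ((AlgSp.yon S).map t)) := by
    rw [← Category.assoc, h1, ← Category.assoc, h2, Category.assoc, Category.assoc,
      AlgSp.quotSp_condition]
  obtain ⟨θ, key⟩ : ∃ θ : QuotSh.quot Scheme.fppfPrecoverage s t ⟶
      AlgSp.quotSp ((AlgSp.yon S).map s) ((AlgSp.yon S).map t),
      QuotSh.quotπ Scheme.fppfPrecoverage s t ≫ θ =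
        (QuotSh.repIsoUliftYoneda Scheme.fppfPrecoverage U).hom ≫
          AlgSp.quotSpπ ((AlgSp.yon S).map s) ((AlgSp.yon S).map t) :=
    ⟨coequalizer.desc _ w, coequalizer.π_desc _ _⟩
  refine ⟨θ, ?_⟩
  calc qmap s t ≫ θ = (QuotSh.repIsoUliftYoneda Scheme.fppfPrecoverage U).inv ≫
        (QuotSh.quotπ Scheme.fppfPrecoverage s t ≫ θ) := Category.assoc _ _ _
    _ = (QuotSh.repIsoUliftYoneda Scheme.fppfPrecoverage U).inv ≫
        (QuotSh.repIsoUliftYoneda Scheme.fppfPrecoverage U).hom ≫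
          AlgSp.quotSpπ ((AlgSp.yon S).map s) ((AlgSp.yon S).map t) := by rw [key]
    _ = AlgSp.quotSpπ ((AlgSp.yon S).map s) ((AlgSp.yon S).map t) := Iso.inv_hom_id_assoc _ _

/-- Two points of `U` with the same image in `U/R` are locally related, for a pre-equivalence relation. -/
theorem exists_local_rel_qmap
    (hpre : ∀ T : Over S, Equivalence (fun a b : T ⟶ U => ∃ r : T ⟶ R, r ≫ t = a ∧ r ≫ s = b))
    {X : Over S} (a b : X ⟶ U)
    (h : (AlgSp.yon S).map a ≫ qmap s t = (AlgSp.yon S).map b ≫ qmap s t) :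
    ∃ Sg ∈ AlgSp.J S X, ∀ ⦃X' : Over S⦄ (f : X' ⟶ X), Sg f →
      ∃ ρ : X' ⟶ R, ρ ≫ t = f ≫ a ∧ ρ ≫ s = f ≫ b := by
  have hpreSp : AlgSp.IsPreEqvRelSp ((AlgSp.yon S).map s) ((AlgSp.yon S).map t) := by
    intro T
    refine ⟨fun a => ?_, fun {a b} hab => ?_, fun {a b c} hab hbc => ?_⟩
    · obtain ⟨a₀, rfl⟩ := (AlgSp.yon S).map_surjective a
      obtain ⟨r, h1, h2⟩ := (hpre T).refl a₀
      exact ⟨(AlgSp.yon S).map r, by rw [← Functor.map_comp, h1], by rw [← Functor.map_comp, h2]⟩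
    · obtain ⟨a₀, rfl⟩ := (AlgSp.yon S).map_surjective a
      obtain ⟨b₀, rfl⟩ := (AlgSp.yon S).map_surjective b
      obtain ⟨r, h1, h2⟩ := hab
      obtain ⟨r₀, rfl⟩ := (AlgSp.yon S).map_surjective r
      rw [← Functor.map_comp] at h1 h2
      obtain ⟨r', h1', h2'⟩ := (hpre T).symm ⟨r₀, (AlgSp.yon S).map_injective h1,
        (AlgSp.yon S).map_injective h2⟩
      exact ⟨(AlgSp.yon S).map r', by rw [← Functor.map_comp, h1'], by rw [← Functor.map_comp, h2']⟩
    · obtain ⟨a₀, rfl⟩ := (AlgSp.yon S).map_surjective a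
      obtain ⟨b₀, rfl⟩ := (AlgSp.yon S).map_surjective b
      obtain ⟨c₀, rfl⟩ := (AlgSp.yon S).map_surjective c
      obtain ⟨r, h1, h2⟩ := hab
      obtain ⟨r₀, rfl⟩ := (AlgSp.yon S).map_surjective r
      obtain ⟨r2, h3, h4⟩ := hbc
      obtain ⟨r₂, rfl⟩ := (AlgSp.yon S).map_surjective r2
      rw [← Functor.map_comp] at h1 h2 h3 h4
      obtain ⟨r', h1', h2'⟩ := (hpre T).trans
        ⟨r₀, (AlgSp.yon S).map_injective h1, (AlgSp.yon S).map_injective h2⟩
        ⟨r₂, (AlgSp.yon S).map_injective h3, (AlgSp.yon S).map_injective h4⟩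
      exact ⟨(AlgSp.yon S).map r', by rw [← Functor.map_comp, h1'], by rw [← Functor.map_comp, h2']⟩
  obtain ⟨θ, hθ⟩ := exists_comparison s t
  have h' : (AlgSp.yon S).map a ≫ AlgSp.quotSpπ ((AlgSp.yon S).map s) ((AlgSp.yon S).map t) =
      (AlgSp.yon S).map b ≫ AlgSp.quotSpπ ((AlgSp.yon S).map s) ((AlgSp.yon S).map t) := by
    rw [← hθ, ← Category.assoc, h, Category.assoc]
  obtain ⟨Sg, hSg, hl⟩ := Groth.Agent.H50.exists_local_rel _ _ hpreSp _ _ h'
  refine ⟨Sg, hSg, fun X' f hf => ?_⟩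
  obtain ⟨ρ, h1, h2⟩ := hl f hf
  obtain ⟨ρ₀, rfl⟩ := (AlgSp.yon S).map_surjective ρ
  rw [← Functor.map_comp, ← Functor.map_comp] at h1 h2
  exact ⟨ρ₀, (AlgSp.yon S).map_injective h1, (AlgSp.yon S).map_injective h2⟩

end Groth.Agent.H51.QuotKer
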