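import Groth.Agent.H51.ZarGlueRep
import Groth.Prelude.Def_AlgSpMor5
import Mathlib.AlgebraicGeometry.Normalization

/-!
# Integral morphisms to a scheme are schemes; the scheme normalization is the sheaf-level normalization (helper51)
-/

set_option autoImplicit false
universe u
open CategoryTheory CategoryTheory.Limits AlgebraicGeometry Opposite AlgSp

namespace Groth.Agent.H51.RelNorm

variable {S : Scheme.{u}}

/-- An integral morphism of sheaves to a representable sheaf is (represented by) an integral morphism of schemes. -/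
theorem exists_rep_of_isIntegralMor {Z : Sp S} {U : Over S} (π : Z ⟶ (yon S).obj U)
    (hπ : IsIntegralMor π) :
    ∃ (G : Over S) (ε : (yon S).obj G ≅ Z) (snd : G ⟶ U), ε.hom ≫ π = (yon S).map snd ∧
      IsIntegralHom snd.left := by
  let 𝒰 : Scheme.OpenCover.{u} U.left := U.left.affineCover
  have hx : ∀ a : 𝒰.I₀, ∃ (Wa : Over S) (i : Wa ⟶ ZarGlue.coverOver U 𝒰 a)
      (fst : (yon S).obj Wa ⟶ Z),
      IsPullback fst ((yon S).map i) π ((yon S).map (ZarGlue.coverOverι U 𝒰 a)) ∧
        IsAffine Wa.left ∧ IsIntegralHom i.left := fun a =>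
    hπ (Z := ZarGlue.coverOver U 𝒰 a) (inferInstanceAs (IsAffine (𝒰.X a))) _
  choose Wa i fst sqa haff hint using hx
  obtain ⟨G, ε, snd, c, he, hc, hsq⟩ := ZarGlue.exists_iso_yon_of_openCover π 𝒰 Wa i fst sqa
  refine ⟨G, ε, snd, he, ?_⟩
  exact ZarGlue.of_openCover_of_isPullback @IsIntegralHom snd.left 𝒰 (fun a => (c a).left)
    (fun a => (i a).left) hsq hint

/-- A morphism of schemes over `S` which is integral gives an integral morphism of sheaves. -/
theorem isIntegralMor_yon_map {N U : Over S} (ν : N ⟶ U) [IsIntegralHom ν.left] :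
    IsIntegralMor ((yon S).map ν) := by
  intro Z hZ γ0
  have := hZ
  obtain ⟨γ, rfl⟩ := (yon S).map_surjective γ0
  have sqO := IsPullback.of_hasPullback ν γ
  have sqS : IsPullback (pullback.fst ν γ).left (pullback.snd ν γ).left ν.left γ.left :=
    sqO.map (Over.forget S)
  have hi : IsIntegralHom (pullback.snd ν γ).left :=
    MorphismProperty.of_isPullback (P := @IsIntegralHom) sqS inferInstance
  exact ⟨pullback ν γ, pullback.snd ν γ, (yon S).map (pullback.fst ν γ), sqO.map (yon S),
    isAffine_of_isAffineHom (pullback.snd ν γ).left, hi⟩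

/-- The relative normalization of schemes is the normalization in the sense of sheaves. -/
theorem isRelNormalization_yon {V U N : Over S} (g : V ⟶ U)
    [QuasiCompact g.left] [QuasiSeparated g.left] (f' : V ⟶ N) (ν : N ⟶ U)
    (e : N.left ≅ g.left.normalization) (he1 : f'.left ≫ e.hom = g.left.toNormalization)
    (he2 : e.hom ≫ g.left.fromNormalization = ν.left) :
    IsRelNormalization ((yon S).map g) ((yon S).map ν) ((yon S).map f') := by
  have hν : IsIntegralHom ν.left := by rw [← he2]; infer_instance
  have hfac : f' ≫ ν = g := by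
    apply Over.OverMorphism.ext
    rw [Over.comp_left, ← he2, ← Category.assoc, he1, Scheme.Hom.toNormalization_fromNormalization]
  have he1' : g.left.toNormalization ≫ e.inv = f'.left := by rw [← he1, Category.assoc, Iso.hom_inv_id, Category.comp_id]
  have he2' : e.inv ≫ ν.left = g.left.fromNormalization := by rw [← he2, Iso.inv_hom_id_assoc]
  refine ⟨by rw [← Functor.map_comp, hfac], isIntegralMor_yon_map ν, ?_⟩
  intro Z _ π gg hπ hgg
  obtain ⟨G, ε, snd, hε, hsnd⟩ := exists_rep_of_isIntegralMor π hπ
  obtain ⟨γ1, hγ1⟩ := (yon S).map_surjective (gg ≫ ε.inv)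
  have hγ : γ1 ≫ snd = g := (yon S).map_injective (by
    rw [Functor.map_comp, hγ1, ← hε, Category.assoc, Iso.inv_hom_id_assoc, hgg])
  have H : g.left = γ1.left ≫ snd.left := by rw [← Over.comp_left, hγ]
  let d : g.left.normalization ⟶ G.left := g.left.normalizationDesc γ1.left snd.left H
  have hd1 : g.left.toNormalization ≫ d = γ1.left := g.left.toNormalization_normalizationDesc _ _ H
  have hd2 : d ≫ snd.left = g.left.fromNormalization := g.left.normalizationDesc_comp _ _ H
  let h0 : N ⟶ G := Over.homMk (e.hom ≫ d) (by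
    rw [← Over.w snd, Category.assoc, ← Category.assoc d, hd2, ← Category.assoc, he2, Over.w])
  have hf'h0 : f' ≫ h0 = γ1 := by
    apply Over.OverMorphism.ext
    change f'.left ≫ e.hom ≫ d = γ1.left
    rw [← Category.assoc, he1, hd1]
  have hh0snd : h0 ≫ snd = ν := by
    apply Over.OverMorphism.ext
    change (e.hom ≫ d) ≫ snd.left = ν.left
    rw [Category.assoc, hd2, he2]
  refine ⟨(yon S).map h0 ≫ ε.hom, ⟨?_, ?_⟩, ?_⟩
  · rw [← Category.assoc, ← Functor.map_comp, hf'h0, hγ1, Category.assoc, Iso.inv_hom_id, Category.comp_id]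
  · rw [Category.assoc, hε, ← Functor.map_comp, hh0snd]
  · rintro h' ⟨h'1, h'2⟩
    obtain ⟨k, hk⟩ := (yon S).map_surjective (h' ≫ ε.inv)
    have hk' : h' = (yon S).map k ≫ ε.hom := by rw [hk, Category.assoc, Iso.inv_hom_id, Category.comp_id]
    rw [hk']
    congr 2
    have hfk : f' ≫ k = γ1 := (yon S).map_injective (by
      rw [Functor.map_comp, hk, ← Category.assoc, h'1, hγ1])
    have hks : k ≫ snd = ν := (yon S).map_injective (by
      rw [Functor.map_comp, hk, Category.assoc, ← hε, Iso.inv_hom_id_assoc, h'2])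
    apply Over.OverMorphism.ext
    change k.left = e.hom ≫ d
    have haff : IsAffineHom snd.left := inferInstance
    have key : e.inv ≫ k.left = d := by
      refine Scheme.Hom.normalization.hom_ext g.left _ _ snd.left ?_ ?_ hd2
      · rw [← Category.assoc, he1', ← Over.comp_left, hfk, hd1]
      · rw [Category.assoc, ← Over.comp_left, hks, he2']
    rw [← key, Iso.hom_inv_id_assoc]

end Groth.Agent.H51.RelNorm
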