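import Groth.Agent.H51.SrcLocP

/-!
# `RepLocT` can be tested on one surjective etale chart (helper51)
-/

universe u

open CategoryTheory CategoryTheory.Limits AlgebraicGeometry Opposite AlgSp MorphismProperty

namespace Groth.Agent.H51

variable {S : Scheme.{u}}

/-- Etale base change for a property which is local at the target for the etale precoverage. -/
theorem P_snd_of_isPullback_etale (P : MorphismProperty Scheme.{u})
    [P.IsLocalAtTarget Scheme.etalePrecoverage] {X Y X' Y' : Scheme.{u}} {f : X ⟶ Y} {g : Y' ⟶ Y}
    {fst : X' ⟶ X} {snd : X' ⟶ Y'} (sq : IsPullback fst snd f g) (hg : Etale g) (hf : P f) : P snd := by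
  have h1 : P (pullback.snd f g) :=
    IsLocalAtTarget.pullbackSnd (K := Scheme.etalePrecoverage)
      (pairF_mem_precoverage @Etale g hg) (pairF_mem g) hf
  rw [← P.cancel_left_of_respectsIso sq.isoPullback.inv, sq.isoPullback_inv_snd]
  exact h1

/-- Etale surjective descent for a property which is local at the target for the etale precoverage. -/
theorem P_of_isPullback_etale_surjective (P : MorphismProperty Scheme.{u})
    [P.IsLocalAtTarget Scheme.etalePrecoverage] {X Y X' Y' : Scheme.{u}} {f : X ⟶ Y} {g : Y' ⟶ Y}
    {fst : X' ⟶ X} {snd : X' ⟶ Y'} (sq : IsPullback fst snd f g) (hg : Etale g) (hg' : Surjective g)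
    (hsnd : P snd) : P f := by
  refine IsLocalAtTarget.of_forall_pullbackSnd (K := Scheme.etalePrecoverage)
    (singleton_mem_precoverage_of_etale @Etale (fun A B q hq => hq) g hg hg') ?_
  rintro _ _ _ ⟨⟩
  rw [← P.cancel_left_of_respectsIso sq.isoPullback.hom, sq.isoPullback_hom_snd]
  exact hsnd

/-- One surjective etale chart suffices for `RepLocT`. -/
theorem repLocT_of_surjective_etale_chart (P : MorphismProperty Scheme.{u})
    [P.IsLocalAtTarget Scheme.etalePrecoverage] {X Y : Sp S} (f : X ⟶ Y) (hf : Representable f)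
    {V W : Over S} (b : (yon S).obj V ⟶ Y) (hb1 : RepWith @Etale b) (hb2 : RepWith @Surjective b)
    (fst : (yon S).obj W ⟶ X) (snd : W ⟶ V)
    (sq : IsPullback fst ((yon S).map snd) f b) (hP : P snd.left) : RepLocT P f := by
  refine ⟨hf, fun V' W' b' fst' snd' hb' sq' => ?_⟩
  -- V'' = V ×_Y V'
  have sqV := hb1.rep.isPullback' b'
  have he2 : Etale (hb1.rep.snd b').left := hb1.property_snd b'
  have hs2 : Surjective (hb1.rep.snd b').left := hb2.property_snd b'
  have he1 : Etale (hb1.rep.fst' b').left := hb'.2 _ _ _ sqV.flip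
  -- the two scheme-level pullbacks
  have sq1 := IsPullback.of_hasPullback snd (hb1.rep.fst' b')
  have sq2 := IsPullback.of_hasPullback snd' (hb1.rep.snd b')
  have sq1y := sq1.map (yon S)
  have sq2y := sq2.map (yon S)
  have big1 : IsPullback ((yon S).map (pullback.fst snd (hb1.rep.fst' b')) ≫ fst)
      ((yon S).map (pullback.snd snd (hb1.rep.fst' b'))) f ((yon S).map (hb1.rep.fst' b') ≫ b) :=
    sq1y.paste_horiz sq
  have big2 : IsPullback ((yon S).map (pullback.fst snd' (hb1.rep.snd b')) ≫ fst')
      ((yon S).map (pullback.snd snd' (hb1.rep.snd b'))) f ((yon S).map (hb1.rep.snd b') ≫ b') :=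
    sq2y.paste_horiz sq'
  rw [← sqV.w] at big2
  -- P for the first
  have hP1 : P (pullback.snd snd (hb1.rep.fst' b')).left :=
    P_snd_of_isPullback_etale P (sq1.map (Over.forget S)) he1 hP
  -- transport
  let e := big1.isoIsPullback _ _ big2
  have he : e.hom ≫ (yon S).map (pullback.snd snd' (hb1.rep.snd b')) =
      (yon S).map (pullback.snd snd (hb1.rep.fst' b')) := big1.isoIsPullback_hom_snd _ _ big2
  let e' := (yon S).preimageIso e
  have he' : e'.hom ≫ pullback.snd snd' (hb1.rep.snd b') = pullback.snd snd (hb1.rep.fst' b') := by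
    apply (yon S).map_injective
    rw [Functor.map_comp, Functor.preimageIso_hom, Functor.map_preimage]
    exact he
  have hP2 : P (pullback.snd snd' (hb1.rep.snd b')).left := by
    have h3 : IsIso e'.hom.left := (inferInstance : IsIso ((Over.forget S).map e'.hom))
    rw [← P.cancel_left_of_respectsIso e'.hom.left, ← Over.comp_left, he']
    exact hP1
  exact P_of_isPullback_etale_surjective P (sq2.map (Over.forget S)) he2 hs2 hP2

end Groth.Agent.H51
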