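import Groth.Agent.H51.EtQuotGen
import Groth.Agent.H52.EtaleField
import Groth.Agent.H52.DecentField
import Groth.Agent.H52.PairFibre
import Groth.Agent.H50.EpiPts
import Groth.Agent.H50.Etale
import Mathlib.CategoryTheory.Sites.Subsheaf

/-!
# Existence of the residual space of a point of an algebraic space (helper51)

For an algebraic space `X` and `x ∈ |X|`, choose an etale chart `a : h_U ⟶ X` and `u ∈ U` over `x`; the image sheaf `Z`
of `Spec κ(u) ⟶ X` is an algebraic space: the kernel pair of `Spec κ(u) ⟶ Z` is `Spec κ(u) ×_X Spec κ(u)`, an open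
subscheme of the scheme `Spec κ(u) ×_X U` etale over `κ(u)`, so `EtQuotGen.isAlgSpace_of_epi_chart` applies.
`Z ⟶ X` is a monomorphism with image `{x}` and `Spec κ(u) ⟶ Z` is representable etale surjective.
-/

set_option autoImplicit false
universe u
open CategoryTheory CategoryTheory.Limits AlgebraicGeometry Opposite AlgSp

namespace Groth.Agent.H51.ResidualSp

open Groth.Agent.H50 Groth.Agent.H52

variable {S : Scheme.{u}}

theorem isPullback_of_comp_mono {C : Type*} [Category C] {P A B D : C} {fst snd : P ⟶ A}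
    {p p' : A ⟶ B} (i : B ⟶ D) [Mono i] (h : IsPullback fst snd (p ≫ i) (p' ≫ i)) :
    IsPullback fst snd p p' := by
  have w : fst ≫ p = snd ≫ p' := by
    rw [← cancel_mono i, Category.assoc, Category.assoc, h.w]
  refine ⟨⟨w⟩, ⟨PullbackCone.IsLimit.mk _
    (fun c => h.lift c.fst c.snd (by rw [← Category.assoc, c.condition, Category.assoc]))
    (fun c => h.lift_fst _ _ _) (fun c => h.lift_snd _ _ _) (fun c m h1 h2 => ?_)⟩⟩
  apply h.hom_ext
  · rw [h.lift_fst]; exact h1
  · rw [h.lift_snd]; exact h2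

set_option maxHeartbeats 1600000 in
/-- Existence of the residual space. -/
theorem exists_residual {X : Sp S} (hX : IsAlgSpace X) (x : Points X) :
    ∃ (Z : Sp S) (_ : IsAlgSpace Z) (i : Z ⟶ X), Mono i ∧ Set.range (Points.map i) = {x} ∧
      ∃ (k : Type u) (_ : Field k) (str : Spec (CommRingCat.of k) ⟶ S)
        (p : (yon S).obj (Over.mk str) ⟶ Z), RepWith @Etale p ∧ RepWith @Surjective p ∧ Epi p := by
  obtain ⟨U, a, hae, has⟩ := hX.atlas
  obtain ⟨u, hu⟩ := surjective_ofPt_of_surjective a has x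
  obtain ⟨q, hq⟩ : ∃ q : FieldPt X, q = FieldPt.ofPt a u := ⟨_, rfl⟩
  have hg : (FieldPt.ofPt a u).toHom = (yon S).map (ptIncl a u) ≫ a := FieldPt.toHom_ofPt a u
  have hxq : Points.mk (FieldPt.ofPt a u) = x := hu
  -- `V = Spec κ(u) ×_X U`
  obtain ⟨V, v1, fstV, sqV⟩ := hae.1 ((yon S).map (ptIncl a u) ≫ a)
  have hv1 : Etale v1.left := hae.2 _ _ _ sqV
  obtain ⟨v2, rfl⟩ := (yon S).map_surjective fstV
  -- `R₀ = Spec κ(u) ×_U V`
  have sqR := IsPullback.of_hasPullback (ptIncl a u) v2
  have sqRS : IsPullback (pullback.fst (ptIncl a u) v2).left (pullback.snd (ptIncl a u) v2).left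
      (ptIncl a u).left v2.left := sqR.map (Over.forget S)
  have hkg : IsPullback ((yon S).map (pullback.fst (ptIncl a u) v2))
      ((yon S).map (pullback.snd (ptIncl a u) v2 ≫ v1)) ((yon S).map (ptIncl a u) ≫ a)
      ((yon S).map (ptIncl a u) ≫ a) := by
    rw [Functor.map_comp]
    exact (sqR.map (yon S)).paste_vert sqV
  have hmι : Mono (ptIncl a u).left := inferInstanceAs (Mono (U.left.fromSpecResidueField u))
  have hmono : Mono (pullback.snd (ptIncl a u) v2).left := by
    have : MorphismProperty.monomorphisms Scheme.{u} (pullback.snd (ptIncl a u) v2).left :=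
      MorphismProperty.of_isPullback (P := MorphismProperty.monomorphisms Scheme.{u}) sqRS
        (MorphismProperty.monomorphisms.infer_property _)
    exact this
  obtain ⟨hd, hr⟩ := discrete_reduced_of_etale_field (k := (FieldPt.ofPt a u).K) v1.left
  have hflat : Flat (pullback.snd (ptIncl a u) v2).left :=
    flat_of_isField_stalk _ (fun y => isField_stalk_of_discrete_reduced y)
  have hoi : IsOpenImmersion (pullback.snd (ptIncl a u) v2).left :=
    isOpenImmersion_of_flat_mono_discrete _
  have het : Etale (pullback.snd (ptIncl a u) v2 ≫ v1).left := by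
    rw [Over.comp_left]; infer_instance
  -- the image sheaf
  have hpi := Sheaf.toImage_ι ((yon S).map (ptIncl a u) ≫ a)
  have hkp : IsPullback ((yon S).map (pullback.fst (ptIncl a u) v2))
      ((yon S).map (pullback.snd (ptIncl a u) v2 ≫ v1))
      (Sheaf.toImage ((yon S).map (ptIncl a u) ≫ a))
      (Sheaf.toImage ((yon S).map (ptIncl a u) ≫ a)) := by
    apply isPullback_of_comp_mono (Sheaf.imageι ((yon S).map (ptIncl a u) ≫ a))
    rw [hpi]
    exact hkg
  obtain ⟨hZ, hpe, hps⟩ := EtQuotGen.isAlgSpace_of_epi_chart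
    (Sheaf.toImage ((yon S).map (ptIncl a u) ≫ a)) _ _ hkp
  refine ⟨Sheaf.image ((yon S).map (ptIncl a u) ≫ a), hZ,
    Sheaf.imageι ((yon S).map (ptIncl a u) ≫ a), inferInstance, ?_,
    (FieldPt.ofPt a u).K, inferInstance, (FieldPt.ofPt a u).str,
    Sheaf.toImage ((yon S).map (ptIncl a u) ≫ a), hpe, hps, inferInstance⟩
  have hpt : ∀ s : ↥(FieldPt.ofPt a u).pt.left,
      Points.map (Sheaf.imageι ((yon S).map (ptIncl a u) ≫ a))
        (Points.ofPt (Sheaf.toImage ((yon S).map (ptIncl a u) ≫ a)) s) = x := by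
    intro s
    rw [Points.map_ofPt, hpi, ← hg, Points.ofPt_toHom, hxq]
  apply Set.Subset.antisymm
  · rintro _ ⟨z, rfl⟩
    obtain ⟨s, rfl⟩ := surjective_ofPt_of_surjective _ hps z
    exact hpt s
  · rintro _ rfl
    exact ⟨_, hpt (IsLocalRing.closedPoint (FieldPt.ofPt a u).K : PrimeSpectrum (FieldPt.ofPt a u).K)⟩

end Groth.Agent.H51.ResidualSp
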