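import Groth.Agent.H52.DescCI
import Groth.Agent.H51.DiagSep
import Groth.Agent.H51.ClosedProper
import Groth.Agent.H52.SrcFlat
import Groth.Agent.H52.Topology
import Groth.Agent.H51.OpenDesc

/-!
# Separatedness can be tested on an etale cover of the source (helper51)
-/

set_option autoImplicit false
universe u

open CategoryTheory CategoryTheory.Limits AlgebraicGeometry Opposite AlgSp MorphismProperty

namespace Groth.Agent.H51.SepCover

open Groth.Agent.H50 (fppfProp)

/-- A property which is Zariski local on the target and satisfies fppf descent can be checked on a jointly surjective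
family of etale morphisms to the target. -/
theorem of_etale_family (P : MorphismProperty Scheme.{u}) [IsZariskiLocalAtTarget P]
    (hP : P.DescendsAlong fppfProp)
    {E T : Scheme.{u}} (f : E ⟶ T) {ι : Type*} (R : ι → Scheme.{u}) (r : ∀ i, R i ⟶ T)
    (hr : ∀ i, Etale (r i)) (hsurj : ∀ x : T, ∃ (i : ι) (y : R i), r i y = x)
    (A : ι → Scheme.{u}) (fst : ∀ i, A i ⟶ R i) (snd : ∀ i, A i ⟶ E)
    (sq : ∀ i, IsPullback (fst i) (snd i) (r i) f) (h : ∀ i, P (fst i)) : P f := by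
  have hopen : ∀ i, IsOpen (Set.range (r i)) := fun i => by
    have := hr i
    exact (r i).isOpenMap.isOpen_range
  let U : ι → T.Opens := fun i => ⟨Set.range (r i), hopen i⟩
  have hU : iSup U = ⊤ := by
    rw [eq_top_iff]
    intro x _
    obtain ⟨i, y, rfl⟩ := hsurj x
    exact TopologicalSpace.Opens.mem_iSup.2 ⟨i, ⟨y, rfl⟩⟩
  rw [IsZariskiLocalAtTarget.iff_of_iSup_eq_top (P := P) U hU]
  intro i
  have hsub : Set.range (r i) ⊆ Set.range (U i).ι := by
    rw [Scheme.Opens.range_ι]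
    exact subset_rfl
  let r' : R i ⟶ (U i).toScheme := IsOpenImmersion.lift (U i).ι (r i) hsub
  have hr' : r' ≫ (U i).ι = r i := IsOpenImmersion.lift_fac _ _ _
  have hbig : IsPullback (fst i) (snd i) (r' ≫ (U i).ι) f := by
    rw [hr']
    exact sq i
  have hres := isPullback_morphismRestrict f (U i)
  obtain ⟨s, hs1, hs2⟩ : ∃ s : A i ⟶ (f ⁻¹ᵁ U i).toScheme, s ≫ (f ∣_ U i) = fst i ≫ r' ∧
      s ≫ (f ⁻¹ᵁ U i).ι = snd i :=
    ⟨hres.lift (fst i ≫ r') (snd i) (by rw [Category.assoc]; exact hbig.w),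
      hres.lift_fst _ _ _, hres.lift_snd _ _ _⟩
  have hsmall : IsPullback (fst i) s r' (f ∣_ U i) := by
    refine IsPullback.of_bot ?_ hs1.symm hres
    rw [hs2]
    exact hbig
  have hfppf : fppfProp r' := by
    have h1 : Etale r' := by
      have : Etale (r' ≫ (U i).ι) := by rw [hr']; exact hr i
      exact MorphismProperty.of_postcomp (W := @Etale) (W' := @IsOpenImmersion) r' (U i).ι
        inferInstance this
    have h2 : Surjective r' := by
      refine ⟨fun z => ?_⟩
      obtain ⟨y, hy⟩ : ((U i).ι z) ∈ Set.range (r i) := z.2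
      refine ⟨y, ?_⟩
      apply (U i).ι.isOpenEmbedding.injective
      rw [← Scheme.Hom.comp_apply, hr', hy]
    exact Groth.Agent.H50.fppfProp_of_etale_of_surjective r' h1 h2
  exact hP.of_isPullback hsmall hfppf (h i)


section Magic

variable {C : Type*} [Category C]

/-- The magic square: the base change of the diagonal `δ : X ⟶ X ×_Y X` along `A ×_Y A' ⟶ X ×_Y X` is
`A ×_X A' ⟶ A ×_Y A'`. -/
theorem isPullback_magic {X Y Q A A' PX PY : C} {g : X ⟶ Y} {p1 p2 : Q ⟶ X}
    (sqQ : IsPullback p1 p2 g g) (δ : X ⟶ Q) (hδ1 : δ ≫ p1 = 𝟙 X) (hδ2 : δ ≫ p2 = 𝟙 X)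
    {a : A ⟶ X} {a' : A' ⟶ X} {pX : PX ⟶ A} {qX : PX ⟶ A'} (hPX : IsPullback pX qX a a')
    {pY : PY ⟶ A} {qY : PY ⟶ A'} (hPY : IsPullback pY qY (a ≫ g) (a' ≫ g))
    (c : PX ⟶ PY) (hc1 : c ≫ pY = pX) (hc2 : c ≫ qY = qX)
    (τ : PY ⟶ Q) (hτ1 : τ ≫ p1 = pY ≫ a) (hτ2 : τ ≫ p2 = qY ≫ a') :
    IsPullback (pX ≫ a) c δ τ := by
  have comm : (pX ≫ a) ≫ δ = c ≫ τ := by
    apply sqQ.hom_ext
    · rw [Category.assoc, Category.assoc, hδ1, Category.comp_id, Category.assoc, hτ1, ← Category.assoc, hc1]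
    · rw [Category.assoc, Category.assoc, hδ2, Category.comp_id, Category.assoc, hτ2, ← Category.assoc, hc2, hPX.w]
  refine ⟨⟨comm⟩, ⟨PullbackCone.IsLimit.mk _
    (fun s => hPX.lift (s.snd ≫ pY) (s.snd ≫ qY) ?_) (fun s => ?_) (fun s => ?_) (fun s m h1 h2 => ?_)⟩⟩
  · have e1 : s.fst = s.snd ≫ pY ≫ a := by
      have := congr($(s.condition) ≫ p1)
      simpa only [Category.assoc, hδ1, Category.comp_id, hτ1] using this
    have e2 : s.fst = s.snd ≫ qY ≫ a' := by
      have := congr($(s.condition) ≫ p2)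
      simpa only [Category.assoc, hδ2, Category.comp_id, hτ2] using this
    rw [Category.assoc, Category.assoc, ← e1, ← e2]
  · have e1 : s.fst = s.snd ≫ pY ≫ a := by
      have := congr($(s.condition) ≫ p1)
      simpa only [Category.assoc, hδ1, Category.comp_id, hτ1] using this
    rw [← Category.assoc, hPX.lift_fst, Category.assoc, ← e1]
  · apply hPY.hom_ext
    · rw [Category.assoc, hc1, hPX.lift_fst]
    · rw [Category.assoc, hc2, hPX.lift_snd]
  · apply hPX.hom_ext
    · rw [hPX.lift_fst, ← h2, Category.assoc, hc1]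
    · rw [hPX.lift_snd, ← h2, Category.assoc, hc2]


/-- The graph square: `U ×_X V` is the locus in `W' = (U ×_Y V) ×_X U` where the two maps to `U` agree. -/
theorem isPullback_graph {X Y U V PX PY W' QU : C} {g : X ⟶ Y} {j : U ⟶ X} {f : V ⟶ X}
    {pX : PX ⟶ U} {qX : PX ⟶ V} (hPX : IsPullback pX qX j f)
    {pY : PY ⟶ U} {qY : PY ⟶ V} (hPY : IsPullback pY qY (j ≫ g) (f ≫ g))
    (c : PX ⟶ PY) (hc1 : c ≫ pY = pX) (hc2 : c ≫ qY = qX)
    {o : W' ⟶ PY} {u' : W' ⟶ U} (hW : IsPullback u' o j (qY ≫ f))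
    {p1 p2 : QU ⟶ U} (hQU : IsPullback p1 p2 (j ≫ g) (j ≫ g)) (Δ : U ⟶ QU)
    (hΔ1 : Δ ≫ p1 = 𝟙 U) (hΔ2 : Δ ≫ p2 = 𝟙 U)
    (m : PX ⟶ W') (hm1 : m ≫ o = c) (hm2 : m ≫ u' = pX)
    (κ : W' ⟶ QU) (hκ1 : κ ≫ p1 = o ≫ pY) (hκ2 : κ ≫ p2 = u') :
    IsPullback pX m Δ κ := by
  have comm : pX ≫ Δ = m ≫ κ := by
    apply hQU.hom_ext
    · rw [Category.assoc, hΔ1, Category.comp_id, Category.assoc, hκ1, ← Category.assoc, hm1, hc1]
    · rw [Category.assoc, hΔ2, Category.comp_id, Category.assoc, hκ2, hm2]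
  have E1 : ∀ s : PullbackCone Δ κ, s.fst = s.snd ≫ o ≫ pY := fun s => by
    have := congr($(s.condition) ≫ p1)
    simpa only [Category.assoc, hΔ1, Category.comp_id, hκ1] using this
  have E2 : ∀ s : PullbackCone Δ κ, s.fst = s.snd ≫ u' := fun s => by
    have := congr($(s.condition) ≫ p2)
    simpa only [Category.assoc, hΔ2, Category.comp_id, hκ2] using this
  refine ⟨⟨comm⟩, ⟨PullbackCone.IsLimit.mk _
    (fun s => hPX.lift s.fst (s.snd ≫ o ≫ qY) ?_) (fun s => ?_) (fun s => ?_) (fun s m' h1 h2 => ?_)⟩⟩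
  · rw [E2 s, Category.assoc, hW.w, Category.assoc, Category.assoc]
  · exact hPX.lift_fst _ _ _
  · apply hW.hom_ext
    · rw [Category.assoc, hm2, hPX.lift_fst, ← E2 s]
    · rw [Category.assoc, hm1]
      apply hPY.hom_ext
      · rw [Category.assoc, hc1, hPX.lift_fst, Category.assoc, ← E1 s]
      · rw [Category.assoc, hc2, hPX.lift_snd, Category.assoc]
  · apply hPX.hom_ext
    · rw [hPX.lift_fst, h1]
    · rw [hPX.lift_snd, ← h2, ← hc2, ← hm1]
      simp only [Category.assoc]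

end Magic

variable {S : Scheme.{u}}

/-- Separatedness of `g : X ⟶ Y` can be tested on a jointly surjective family of etale morphisms `A k ⟶ X` from
algebraic spaces: it suffices that all `A k ×_X A l ⟶ A k ×_Y A l` are closed immersions. -/
theorem isSeparatedMor_of_etale_cover {X Y : Sp S} (hX : IsAlgSpace X) (g : X ⟶ Y)
    {ι : Type*} (A : ι → Sp S) (hA : ∀ k, IsAlgSpace (A k)) (a : ∀ k, A k ⟶ X)
    (ha : ∀ k, IsEtaleMor (a k))
    (hsurj : ∀ x : Points X, ∃ (k : ι) (y : Points (A k)), Points.map (a k) y = x)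
    (hpieces : ∀ k l, ∃ (PX PY : Sp S) (pX : PX ⟶ A k) (qX : PX ⟶ A l) (pY : PY ⟶ A k)
      (qY : PY ⟶ A l) (c : PX ⟶ PY), IsPullback pX qX (a k) (a l) ∧
        IsPullback pY qY (a k ≫ g) (a l ≫ g) ∧ c ≫ pY = pX ∧ c ≫ qY = qX ∧
        RepWith @IsClosedImmersion c) :
    IsSeparatedMor g := by
  have hrep := Groth.Agent.H51.representable_pullback_diagonal hX g
  have sqQ : IsPullback (pullback.fst g g) (pullback.snd g g) g g := IsPullback.of_hasPullback g g
  have hδ1 : pullback.diagonal g ≫ pullback.fst g g = 𝟙 X := pullback.diagonal_fst g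
  have hδ2 : pullback.diagonal g ≫ pullback.snd g g = 𝟙 X := pullback.diagonal_snd g
  refine ⟨hrep, fun T E t fst e sq => ?_⟩
  change IsClosedImmersion e.left
  choose B α hαe hαs using fun k => (hA k).atlas
  have hb : ∀ k, RepWith @Etale (α k ≫ a k) := fun k => ha k (α k) (hαe k)
  -- base changes of the charts along the two components of `t`
  have h1 : ∀ k, ∃ (T1 : Over S) (u1 : T1 ⟶ T) (f1 : T1 ⟶ B k),
      IsPullback ((yon S).map f1) ((yon S).map u1) (α k ≫ a k) (t ≫ pullback.fst g g) := by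
    intro k
    obtain ⟨T1, u1, f1, sq1⟩ := (hb k).rep (t ≫ pullback.fst g g)
    obtain ⟨f1, rfl⟩ := (yon S).map_surjective f1
    exact ⟨T1, u1, f1, sq1⟩
  have h2 : ∀ l, ∃ (T2 : Over S) (u2 : T2 ⟶ T) (f2 : T2 ⟶ B l),
      IsPullback ((yon S).map f2) ((yon S).map u2) (α l ≫ a l) (t ≫ pullback.snd g g) := by
    intro l
    obtain ⟨T2, u2, f2, sq2⟩ := (hb l).rep (t ≫ pullback.snd g g)
    obtain ⟨f2, rfl⟩ := (yon S).map_surjective f2
    exact ⟨T2, u2, f2, sq2⟩
  choose T1 u1 f1 sq1 using h1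
  choose T2 u2 f2 sq2 using h2
  have hu1 : ∀ k, Etale (u1 k).left := fun k => (hb k).property _ _ (u1 k) (sq1 k)
  have hu2 : ∀ l, Etale (u2 l).left := fun l => (hb l).property _ _ (u2 l) (sq2 l)
  -- surjectivity of the two families
  have hs1 : ∀ (x : T.left), ∃ (k : ι) (y : (T1 k).left), (u1 k).left y = x := by
    intro x
    obtain ⟨k, z, hz⟩ := hsurj (Points.ofPt (t ≫ pullback.fst g g) x)
    obtain ⟨β, rfl⟩ := Groth.Agent.H52.surjective_ofPt_of_surjective (α k) (hαs k) z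
    rw [Points.map_ofPt] at hz
    obtain ⟨y, -, hy⟩ := Groth.Agent.H52.exists_of_ofPt_eq_ofPt (sq1 k) β x hz
    exact ⟨k, y, hy⟩
  have hs2 : ∀ (x : T.left), ∃ (l : ι) (y : (T2 l).left), (u2 l).left y = x := by
    intro x
    obtain ⟨l, z, hz⟩ := hsurj (Points.ofPt (t ≫ pullback.snd g g) x)
    obtain ⟨β, rfl⟩ := Groth.Agent.H52.surjective_ofPt_of_surjective (α l) (hαs l) z
    rw [Points.map_ofPt] at hz
    obtain ⟨y, -, hy⟩ := Groth.Agent.H52.exists_of_ofPt_eq_ofPt (sq2 l) β x hz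
    exact ⟨l, y, hy⟩
  -- the family of fibre products
  let R : ι × ι → Over S := fun kl => pullback (u1 kl.1) (u2 kl.2)
  let r : ∀ kl, R kl ⟶ T := fun kl => pullback.fst (u1 kl.1) (u2 kl.2) ≫ u1 kl.1
  have hRsq : ∀ kl : ι × ι, IsPullback (pullback.fst (u1 kl.1) (u2 kl.2)).left
      (pullback.snd (u1 kl.1) (u2 kl.2)).left (u1 kl.1).left (u2 kl.2).left := fun kl =>
    (IsPullback.of_hasPullback (u1 kl.1) (u2 kl.2)).map (Over.forget S)
  have hr : ∀ kl, Etale (r kl).left := by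
    intro kl
    have h3 : Etale (pullback.fst (u1 kl.1) (u2 kl.2)).left :=
      MorphismProperty.of_isPullback (P := @Etale) (hRsq kl).flip (hu2 kl.2)
    have := hu1 kl.1
    change Etale ((pullback.fst (u1 kl.1) (u2 kl.2)).left ≫ (u1 kl.1).left)
    infer_instance
  have hrs : ∀ x : T.left, ∃ (kl : ι × ι) (y : (R kl).left), (r kl).left y = x := by
    intro x
    obtain ⟨k, y1, hy1⟩ := hs1 x
    obtain ⟨l, y2, hy2⟩ := hs2 x
    obtain ⟨y, hy, -⟩ := OpenDesc.exists_preimage_of_isPullback (hRsq (k, l)) y1 y2 (by rw [hy1, hy2])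
    refine ⟨(k, l), y, ?_⟩
    change ((pullback.fst (u1 k) (u2 l)).left ≫ (u1 k).left) y = x
    rw [Scheme.Hom.comp_apply, hy, hy1]
  -- the base change of `e` to each member is a closed immersion
  have key : ∀ kl : ι × ι, ∃ (Akl : Over S) (fA : Akl ⟶ R kl) (sA : Akl ⟶ E),
      IsPullback fA.left sA.left (r kl).left e.left ∧ IsClosedImmersion fA.left := by
    rintro ⟨k, l⟩
    obtain ⟨PX, PY, pX, qX, pY, qY, c, hPX, hPY, hc1, hc2, hc⟩ := hpieces k l
    obtain ⟨τ, hτ1, hτ2⟩ : ∃ τ : PY ⟶ pullback g g, τ ≫ pullback.fst g g = pY ≫ a k ∧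
        τ ≫ pullback.snd g g = qY ≫ a l :=
      ⟨sqQ.lift (pY ≫ a k) (qY ≫ a l) (by rw [Category.assoc, Category.assoc]; exact hPY.w),
        sqQ.lift_fst _ _ _, sqQ.lift_snd _ _ _⟩
    have magic := isPullback_magic sqQ (pullback.diagonal g) hδ1 hδ2 hPX hPY c hc1 hc2 τ hτ1 hτ2
    have hcond : pullback.fst (u1 k) (u2 l) ≫ u1 k = pullback.snd (u1 k) (u2 l) ≫ u2 l :=
      pullback.condition
    have e1 : (yon S).map (pullback.fst (u1 k) (u2 l) ≫ f1 k) ≫ α k ≫ a k =
        (yon S).map (r (k, l)) ≫ t ≫ pullback.fst g g := by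
      rw [Functor.map_comp, Category.assoc, (sq1 k).w, ← Category.assoc, ← Functor.map_comp]
    have e2 : (yon S).map (pullback.snd (u1 k) (u2 l) ≫ f2 l) ≫ α l ≫ a l =
        (yon S).map (r (k, l)) ≫ t ≫ pullback.snd g g := by
      rw [Functor.map_comp, Category.assoc, (sq2 l).w, ← Category.assoc, ← Functor.map_comp,
        ← hcond]
    obtain ⟨ρ, hρ1, hρ2⟩ : ∃ ρ : (yon S).obj (R (k, l)) ⟶ PY,
        ρ ≫ pY = (yon S).map (pullback.fst (u1 k) (u2 l) ≫ f1 k) ≫ α k ∧
        ρ ≫ qY = (yon S).map (pullback.snd (u1 k) (u2 l) ≫ f2 l) ≫ α l := by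
      refine ⟨hPY.lift _ _ ?_, hPY.lift_fst _ _ _, hPY.lift_snd _ _ _⟩
      have e1' := congr($e1 ≫ g)
      have e2' := congr($e2 ≫ g)
      simp only [Category.assoc] at e1' e2' ⊢
      rw [e1', e2', pullback.condition]
    have hρτ : ρ ≫ τ = (yon S).map (r (k, l)) ≫ t := by
      apply sqQ.hom_ext
      · rw [Category.assoc, hτ1, ← Category.assoc, hρ1, Category.assoc, e1, Category.assoc]
      · rw [Category.assoc, hτ2, ← Category.assoc, hρ2, Category.assoc, e2, Category.assoc]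
    obtain ⟨Akl, fA, sA', sqA⟩ := hc.rep ρ
    have hfA : IsClosedImmersion fA.left := hc.property ρ sA' fA sqA
    have hbig : IsPullback (sA' ≫ pX ≫ a k) ((yon S).map fA) (pullback.diagonal g)
        ((yon S).map (r (k, l)) ≫ t) := by
      rw [← hρτ]
      exact sqA.paste_horiz magic
    obtain ⟨sA, hsA⟩ : ∃ sA : Akl ⟶ E, (yon S).map sA =
        sq.lift (sA' ≫ pX ≫ a k) ((yon S).map fA ≫ (yon S).map (r (k, l)))
          (by rw [Category.assoc]; exact hbig.w) :=
      ⟨(yon S).preimage _, Functor.map_preimage _ _⟩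
    have hl : IsPullback ((yon S).map sA) ((yon S).map fA) ((yon S).map e)
        ((yon S).map (r (k, l))) := by
      refine IsPullback.of_right ?_ ?_ sq
      · rw [hsA, sq.lift_fst]
        exact hbig
      · rw [hsA, sq.lift_snd]
    have hl' : IsPullback sA fA e (r (k, l)) :=
      IsPullback.of_map (yon S) (by
        apply (yon S).map_injective
        rw [Functor.map_comp, Functor.map_comp]
        exact hl.w) hl
    exact ⟨Akl, fA, sA, (hl'.map (Over.forget S)).flip, hfA⟩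
  choose Akl fA sA hsq hci using key
  exact of_etale_family @IsClosedImmersion Groth.Agent.H52.isClosedImmersion_descendsAlong_fppf e.left
    (fun kl => (R kl).left) (fun kl => (r kl).left) hr hrs (fun kl => (Akl kl).left)
    (fun kl => (fA kl).left) (fun kl => (sA kl).left) hsq hci


/-- For an open immersion `j : U ⟶ X` with `U` separated over `Y`, the comparison `U ×_X V ⟶ U ×_Y V` is an
immersion; if it is closed on points, it is a closed immersion. -/
theorem repWith_closedImmersion_of_isClosedMor {X Y U V PX PY : Sp S} (g : X ⟶ Y)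
    (j : U ⟶ X) (hj : RepWith @IsOpenImmersion j) (f : V ⟶ X)
    (hU : IsSeparatedMor (j ≫ g))
    {pX : PX ⟶ U} {qX : PX ⟶ V} (hPX : IsPullback pX qX j f)
    {pY : PY ⟶ U} {qY : PY ⟶ V} (hPY : IsPullback pY qY (j ≫ g) (f ≫ g))
    (c : PX ⟶ PY) (hc1 : c ≫ pY = pX) (hc2 : c ≫ qY = qX) (hcl : IsClosedMor c) :
    RepWith @IsClosedImmersion c := by
  have hW : IsPullback (pullback.snd (qY ≫ f) j) (pullback.fst (qY ≫ f) j) j (qY ≫ f) :=
    (IsPullback.of_hasPullback (qY ≫ f) j).flip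
  have ho : RepWith @IsOpenImmersion (pullback.fst (qY ≫ f) j) :=
    MorphismProperty.of_isPullback hW hj
  have hQU := IsPullback.of_hasPullback (j ≫ g) (j ≫ g)
  obtain ⟨m, hm1, hm2⟩ : ∃ m : PX ⟶ pullback (qY ≫ f) j, m ≫ pullback.fst _ _ = c ∧
      m ≫ pullback.snd _ _ = pX :=
    ⟨pullback.lift c pX (by rw [← Category.assoc, hc2, hPX.w]), pullback.lift_fst _ _ _,
      pullback.lift_snd _ _ _⟩
  obtain ⟨κ, hκ1, hκ2⟩ : ∃ κ : pullback (qY ≫ f) j ⟶ pullback (j ≫ g) (j ≫ g),
      κ ≫ pullback.fst _ _ = pullback.fst _ _ ≫ pY ∧ κ ≫ pullback.snd _ _ = pullback.snd _ _ := by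
    refine ⟨pullback.lift (pullback.fst _ _ ≫ pY) (pullback.snd _ _) ?_, pullback.lift_fst _ _ _,
      pullback.lift_snd _ _ _⟩
    rw [Category.assoc, hPY.w, ← Category.assoc qY, ← Category.assoc, pullback.condition,
      Category.assoc]
  have hgr := isPullback_graph hPX hPY c hc1 hc2 hW hQU (pullback.diagonal (j ≫ g))
    (pullback.diagonal_fst _) (pullback.diagonal_snd _) m hm1 hm2 κ hκ1 hκ2
  have hmci : RepWith @IsClosedImmersion m := MorphismProperty.of_isPullback hgr hU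
  have hcimm : RepWith @IsImmersion c := by
    rw [← hm1]
    exact (RepWith @IsImmersion).comp_mem _ _
      (Groth.Agent.H51.repWith_mono
        (fun _ _ k (hk : IsClosedImmersion k) => (inferInstance : IsImmersion k)) hmci)
      (Groth.Agent.H51.repWith_mono
        (fun _ _ k (hk : IsOpenImmersion k) => (inferInstance : IsImmersion k)) ho)
  refine ⟨hcimm.1, fun T E t fst e sq => ?_⟩
  have himm : IsImmersion e.left := hcimm.2 t fst e sq
  have hrange := Groth.Agent.H51.range_map_eq_preimage_of_isPullback sq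
  have hclosed : IsClosed (Set.range (Points.map c)) := by
    rw [← Set.image_univ]
    exact hcl _ isClosed_univ
  have h1 : IsClosed (Set.range (Points.map ((yon S).map e))) := by
    rw [hrange]
    exact hclosed.preimage (Points.continuous_map t)
  have h2 : Set.range e.left =
      (Points.schemeHomeo T) ⁻¹' Set.range (Points.map ((yon S).map e)) := by
    ext x
    constructor
    · rintro ⟨y, rfl⟩
      exact ⟨Points.schemeHomeo E y, Points.map_yon_map_apply e y⟩
    · rintro ⟨z, hz⟩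
      obtain ⟨y, rfl⟩ := (Points.schemeHomeo E).surjective z
      rw [Points.map_yon_map_apply] at hz
      exact ⟨y, (Points.schemeHomeo T).injective hz⟩
  change IsClosedImmersion e.left
  exact IsClosedImmersion.of_isPreimmersion e.left
    (by rw [h2]; exact h1.preimage (Points.schemeHomeo T).continuous)

end Groth.Agent.H51.SepCover
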