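import Groth.Prelude.Def_AlgSp3
import Groth.Agent.H50.ClosedDesc
import Mathlib.AlgebraicGeometry.Morphisms.FlatDescent

/-!
# helper51: closed equalizers for maps into a sheaf with closed relative diagonal, and fpqc separatedness
-/

set_option autoImplicit false
universe u
open CategoryTheory CategoryTheory.Limits AlgebraicGeometry

namespace Groth.Agent.H51.SepFpqc

open AlgSp

variable {S : Scheme.{u}}

/-- The equalizer of two maps from a scheme into a sheaf with closed relative diagonal is a closed subscheme. -/
theorem exists_closed_equalizer {F G : Sp S} (q : F ⟶ G)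
    (hsep : RepWith @IsClosedImmersion (pullback.diagonal q)) {Y : Over S}
    (a b : (yon S).obj Y ⟶ F) (hab : a ≫ q = b ≫ q) :
    ∃ (E : Over S) (e : E ⟶ Y), IsClosedImmersion e.left ∧
      (yon S).map e ≫ a = (yon S).map e ≫ b ∧
      ∀ (W : Over S) (w : W ⟶ Y), (yon S).map w ≫ a = (yon S).map w ≫ b →
        ∃ z : W ⟶ E, z ≫ e = w := by
  obtain ⟨E, e, fst, pb⟩ := hsep.1 (pullback.lift a b hab)
  have hcl : IsClosedImmersion e.left := hsep.2 _ _ _ pb
  have h1 : (yon S).map e ≫ a = fst := by
    have := congrArg (· ≫ pullback.fst q q) pb.w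
    simp only [Category.assoc, pullback.diagonal_fst, pullback.lift_fst, Category.comp_id] at this
    exact this.symm
  have h2 : (yon S).map e ≫ b = fst := by
    have := congrArg (· ≫ pullback.snd q q) pb.w
    simp only [Category.assoc, pullback.diagonal_snd, pullback.lift_snd, Category.comp_id] at this
    exact this.symm
  refine ⟨E, e, hcl, h1.trans h2.symm, fun W w hw => ?_⟩
  have hc : ((yon S).map w ≫ a) ≫ pullback.diagonal q = (yon S).map w ≫ pullback.lift a b hab := by
    apply pullback.hom_ext
    · simp only [Category.assoc, pullback.diagonal_fst, pullback.lift_fst, Category.comp_id]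
    · simp only [Category.assoc, pullback.diagonal_snd, pullback.lift_snd, Category.comp_id, hw]
  refine ⟨(yon S).preimage (pb.lift _ _ hc), ?_⟩
  apply (yon S).map_injective
  rw [Functor.map_comp, (yon S).map_preimage, pb.lift_snd]

/-- A closed immersion whose base change along a flat surjective quasi-compact morphism has a section is an
isomorphism. -/
theorem isIso_of_closedImmersion_of_section {E Y Y' : Scheme.{u}} (e : E ⟶ Y) [IsClosedImmersion e]
    (c : Y' ⟶ Y) [Flat c] [Surjective c] [QuasiCompact c] (σ : Y' ⟶ E) (hσ : σ ≫ e = c) :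
    IsIso e := by
  have hiso : IsIso (pullback.fst c e) := by
    -- it is a monomorphism with a section
    let τ : Y' ⟶ pullback c e := pullback.lift (𝟙 _) σ (by rw [Category.id_comp, hσ])
    have hτ : τ ≫ pullback.fst c e = 𝟙 _ := pullback.lift_fst _ _ _
    have hmono : Mono (pullback.fst c e) := inferInstance
    have : pullback.fst c e ≫ τ = 𝟙 _ := by
      rw [← cancel_mono (pullback.fst c e), Category.assoc, hτ, Category.comp_id, Category.id_comp]
    exact ⟨τ, this, hτ⟩
  have hQ : (@Surjective ⊓ @Flat ⊓ @QuasiCompact : MorphismProperty Scheme.{u}) c :=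
    ⟨⟨inferInstance, inferInstance⟩, inferInstance⟩
  exact MorphismProperty.of_pullback_fst_of_descendsAlong (P := MorphismProperty.isomorphisms Scheme.{u})
    (Q := @Surjective ⊓ @Flat ⊓ @QuasiCompact) (f := c) (g := e) hQ hiso

/-- Two maps from a scheme into a sheaf with closed relative diagonal that agree over the base and after a flat surjective
quasi-compact base change are equal. -/
theorem eq_of_fpqc_cover {F G : Sp S} (q : F ⟶ G)
    (hsep : RepWith @IsClosedImmersion (pullback.diagonal q)) {Y Y' : Over S} (c : Y' ⟶ Y)
    [Flat c.left] [Surjective c.left] [QuasiCompact c.left]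
    (a b : (yon S).obj Y ⟶ F) (hab : a ≫ q = b ≫ q)
    (h : (yon S).map c ≫ a = (yon S).map c ≫ b) : a = b := by
  obtain ⟨E, e, hcl, he, huniv⟩ := exists_closed_equalizer q hsep a b hab
  obtain ⟨σ, hσ⟩ := huniv Y' c h
  have : IsIso e.left := isIso_of_closedImmersion_of_section e.left c.left σ.left
    (congrArg CommaMorphism.left hσ)
  have : IsIso e := by
    have : IsIso ((Over.forget S).map e) := this
    exact isIso_of_reflects_iso e (Over.forget S)
  rw [← cancel_epi ((yon S).map e)]
  exact he

end Groth.Agent.H51.SepFpqc
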