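import Groth.Agent.H51.ClosedSub

/-!
# Separatedness descends along surjective universally closed morphisms (helper51)
-/

set_option autoImplicit false
universe u
open CategoryTheory CategoryTheory.Limits AlgebraicGeometry
open AlgSp

namespace Groth.Agent.H51

section Cat

variable {C : Type*} [Category C] [HasPullbacks C]

theorem isPullback_map_snd {W R Z B : C} (s : W ⟶ B) (k : R ⟶ Z) (q : Z ⟶ B) :
    IsPullback (pullback.snd s (k ≫ q))
      (pullback.map s (k ≫ q) s q (𝟙 W) k (𝟙 B) (by simp) (by simp)) k (pullback.snd s q) := by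
  refine IsPullback.of_bot ?_ (pullback.lift_snd _ _ _).symm (IsPullback.of_hasPullback s q).flip
  have e : pullback.map s (k ≫ q) s q (𝟙 W) k (𝟙 B) (by simp) (by simp) ≫ pullback.fst s q =
      pullback.fst s (k ≫ q) := by
    rw [pullback.lift_fst, Category.comp_id]
  rw [e]
  exact (IsPullback.of_hasPullback s (k ≫ q)).flip

theorem isPullback_map_fst {W R Z B : C} (s : W ⟶ B) (k : R ⟶ Z) (q : Z ⟶ B) :
    IsPullback (pullback.fst (k ≫ q) s)
      (pullback.map (k ≫ q) s q s k (𝟙 W) (𝟙 B) (by simp) (by simp)) k (pullback.fst q s) := by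
  refine IsPullback.of_bot ?_ (pullback.lift_fst _ _ _).symm (IsPullback.of_hasPullback q s)
  have e : pullback.map (k ≫ q) s q s k (𝟙 W) (𝟙 B) (by simp) (by simp) ≫ pullback.snd q s =
      pullback.snd (k ≫ q) s := by
    rw [pullback.lift_snd, Category.comp_id]
  rw [e]
  exact IsPullback.of_hasPullback (k ≫ q) s

theorem map_map_eq {R Z B : C} (k : R ⟶ Z) (q : Z ⟶ B) :
    pullback.map (k ≫ q) (k ≫ q) q q k k (𝟙 B) ((Category.comp_id _).trans rfl)
        ((Category.comp_id _).trans rfl) =
      pullback.map (k ≫ q) (k ≫ q) (k ≫ q) q (𝟙 R) k (𝟙 B) (by simp) (by simp) ≫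
        pullback.map (k ≫ q) q q q k (𝟙 Z) (𝟙 B) (by simp) (by simp) := by
  apply pullback.hom_ext
  · rw [pullback.lift_fst, Category.assoc, pullback.lift_fst, ← Category.assoc, pullback.lift_fst,
      Category.comp_id]
  · rw [pullback.lift_snd, Category.assoc, pullback.lift_snd]
    rw [Category.comp_id (pullback.snd (k ≫ q) q), pullback.lift_snd]

end Cat

variable {S : Scheme.{u}}

/-- Separatedness over `B` descends along a surjective universally closed morphism. -/
theorem isSeparatedMor_of_surjective_univClosed {X Y B : AlgSp.Space S} (f : X ⟶ Y) (q : Y ⟶ B)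
    (hs : IsSurjectiveMor f.hom) (hc : IsUnivClosedMor f.hom) (hp : IsSeparatedMor (f ≫ q).hom) :
    IsSeparatedMor q.hom := by
  -- the three fibre products
  have hXX : IsAlgSpace (pullback (f.hom ≫ q.hom) (f.hom ≫ q.hom)) :=
    Groth.Agent.H52.isAlgSpace_of_isPullback (IsPullback.of_hasPullback _ _) B.property.diag
      X.property X.property
  have hXY : IsAlgSpace (pullback (f.hom ≫ q.hom) q.hom) :=
    Groth.Agent.H52.isAlgSpace_of_isPullback (IsPullback.of_hasPullback _ _) B.property.diag
      X.property Y.property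
  have hYY : IsAlgSpace (pullback q.hom q.hom) :=
    Groth.Agent.H52.isAlgSpace_of_isPullback (IsPullback.of_hasPullback _ _) B.property.diag
      Y.property Y.property
  let C' : AlgSp.Space S := ⟨pullback q.hom q.hom, hYY⟩
  let d' : Y ⟶ C' := ObjectProperty.homMk (pullback.diagonal q.hom)
  have h1 : IsUnivClosedMor (pullback.map (f.hom ≫ q.hom) (f.hom ≫ q.hom) (f.hom ≫ q.hom) q.hom
      (𝟙 X.obj) f.hom (𝟙 B.obj) (by simp) (by simp)) :=
    univSp_of_isPullback _ (isPullback_map_snd (f.hom ≫ q.hom) f.hom q.hom) hc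
  have h2 : IsUnivClosedMor (pullback.map (f.hom ≫ q.hom) q.hom q.hom q.hom
      f.hom (𝟙 Y.obj) (𝟙 B.obj) (by simp) (by simp)) :=
    univSp_of_isPullback _ (isPullback_map_fst q.hom f.hom q.hom) hc
  have h3 : IsUnivClosedMor (pullback.map (f.hom ≫ q.hom) (f.hom ≫ q.hom) q.hom q.hom f.hom f.hom
      (𝟙 B.obj) ((Category.comp_id _).trans rfl) ((Category.comp_id _).trans rfl)) := by
    rw [map_map_eq]
    exact univSp_comp IsClosedMor isClosedMor_comp hXY hYY h1 h2
  have hd : IsUnivClosedMor (pullback.diagonal (f.hom ≫ q.hom)) :=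
    (Groth.Agent.S10280.result (f ≫ q)).1.1 hp
  have h4 : IsUnivClosedMor (f.hom ≫ pullback.diagonal q.hom) := by
    rw [comp_diagonal_eq]
    exact univSp_comp IsClosedMor isClosedMor_comp hXX hYY hd h3
  have h5 : IsUnivClosedMor d'.hom := Groth.Agent.S10279.result f (f ≫ d') d' rfl h4 hs
  exact (Groth.Agent.S10280.result q).1.2 h5

end Groth.Agent.H51
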