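import Mathlib.AlgebraicGeometry.Limits
import Mathlib.AlgebraicGeometry.Cover.Open
import Mathlib.AlgebraicGeometry.Gluing

/-!
# Auxiliary facts on coproducts of schemes (helper51)
-/

set_option autoImplicit false
universe v u
open CategoryTheory CategoryTheory.Limits AlgebraicGeometry Opposite

namespace Groth.Agent.H51.SigmaAux

variable {ι : Type v} [Small.{u} ι]

/-- Every point of a coproduct lies in a summand. -/
theorem exists_sigmaι_eq (A : ι → Scheme.{u}) (z : ↥(∐ A)) : ∃ (k : ι) (z' : A k), Sigma.ι A k z' = z := by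
  obtain ⟨z', hz'⟩ := (sigmaOpenCover A).covers z
  exact ⟨_, z', hz'⟩

/-- The coprojection squares of a coproduct of morphisms are cartesian. -/
theorem isPullback_ι_map {A B : ι → Scheme.{u}} (g : ∀ k, A k ⟶ B k) (k : ι) :
    IsPullback (Sigma.ι A k) (g k) (Limits.Sigma.map g) (Sigma.ι B k) := by
  refine (IsOpenImmersion.isPullback (g k) (Sigma.ι A k) (Sigma.ι B k) (Limits.Sigma.map g)
    (Limits.Sigma.ι_map _ _) ?_).flip
  ext z
  obtain ⟨l, z', rfl⟩ := exists_sigmaι_eq A z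
  have e : (Limits.Sigma.map g) (Sigma.ι A l z') = Sigma.ι B l (g l z') := by
    rw [← Scheme.Hom.comp_apply, ← Scheme.Hom.comp_apply, Limits.Sigma.ι_map]
  constructor
  · intro hz
    change (Limits.Sigma.map g) (Sigma.ι A l z') ∈ (Sigma.ι B k).opensRange at hz
    rw [e] at hz
    obtain ⟨y, hy⟩ := hz
    obtain ⟨rfl⟩ : k = l := by
      have := (sigmaι_eq_iff B k l y (g l z')).1 hy
      exact congrArg Sigma.fst this
    exact ⟨z', rfl⟩
  · rintro ⟨y, hy⟩
    obtain ⟨rfl⟩ : k = l := by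
      have := (sigmaι_eq_iff A k l y z').1 hy
      exact congrArg Sigma.fst this
    change (Limits.Sigma.map g) (Sigma.ι A k z') ∈ (Sigma.ι B k).opensRange
    rw [e]
    exact ⟨_, rfl⟩

/-- Morphisms out of `T` can be compared locally with respect to a morphism `T ⟶ ∐ W`. -/
theorem hom_ext_sigma {W : ι → Scheme.{u}} {T Y : Scheme.{u}} (x : T ⟶ ∐ W) (w w' : T ⟶ Y)
    (h : ∀ (T' : Scheme.{u}) (t : T' ⟶ T) (k : ι) (y : T' ⟶ W k), t ≫ x = y ≫ Sigma.ι W k →
      t ≫ w = t ≫ w') : w = w' := by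
  refine Scheme.Cover.hom_ext ((sigmaOpenCover W).pullback₁ x) _ _ (fun k => ?_)
  exact h _ _ k (pullback.snd x (Sigma.ι W k)) pullback.condition

/-- Two morphisms from a scheme mapping to two different summands agree. -/
theorem eq_of_sigmaι_ne {W : ι → Scheme.{u}} {Z Y : Scheme.{u}} {k l : ι} (hkl : k ≠ l)
    (a : Z ⟶ W k) (b : Z ⟶ W l) (h : a ≫ Sigma.ι W k = b ≫ Sigma.ι W l) (w w' : Z ⟶ Y) : w = w' := by
  have : IsEmpty Z := isEmpty_of_commSq_sigmaι_of_ne ⟨h⟩ hkl
  exact (isInitialOfIsEmpty (X := Z)).hom_ext _ _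

end Groth.Agent.H51.SigmaAux
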