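import Groth.Agent.H51.SigmaAux
import Groth.Prelude.Def_DescFam

/-!
# The descent datum on a coproduct attached to a descent datum relative to a family (helper51)

For `a k : W k ⟶ S` and a descent datum `E` relative to the family `a`, the scheme `∐ (E.obj k).left` over `∐ W`
carries a descent datum relative to `Sigma.desc a : ∐ W ⟶ S`, given locally by the gluing bijections of `E`.
-/

set_option autoImplicit false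
universe v u
open CategoryTheory CategoryTheory.Limits AlgebraicGeometry Opposite Desc

namespace Groth.Agent.H51.SigmaDD

open Groth.Agent.H51.SigmaAux

variable {ι : Type v} [Small.{u} ι] {S : Scheme.{u}} {W : ι → Scheme.{u}} (a : ∀ k, W k ⟶ S)
  (E : SchDDFam a)

omit [Small.{u} ι] in
theorem φ_congr {T : Scheme.{u}} {i j : ι} {x₀ x₀' : T ⟶ W i} {x₁ x₁' : T ⟶ W j}
    (h : x₀ ≫ a i = x₁ ≫ a j) (h' : x₀' ≫ a i = x₁' ≫ a j) (e₀ : x₀ = x₀') (e₁ : x₁ = x₁')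
    (v : Lifts (E.obj i) x₀) (v' : Lifts (E.obj i) x₀') (hv : v.1 = v'.1) :
    (E.φ x₀ x₁ h v).1 = (E.φ x₀' x₁' h' v').1 := by
  subst e₀ e₁
  obtain rfl : v = v' := Subtype.ext hv
  rfl

/-- The summands of the total space. -/
abbrev VV (k : ι) : Scheme.{u} := (E.obj k).left

/-- The structure morphism of the total space. -/
noncomputable abbrev hh : (∐ VV a E) ⟶ ∐ W := Limits.Sigma.map (fun k => (E.obj k).hom)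

theorem sqk (k : ι) : IsPullback (Sigma.ι (VV a E) k) (E.obj k).hom (hh a E) (Sigma.ι W k) :=
  isPullback_ι_map (fun k => (E.obj k).hom) k

section loc

variable {a E} {T : Scheme.{u}} {x₀ x₁ : T ⟶ ∐ W} (hx : x₀ ≫ Sigma.desc a = x₁ ≫ Sigma.desc a)
  {v : T ⟶ ∐ VV a E} (hv : v ≫ hh a E = x₀)

include hx in
theorem hy {T' : Scheme.{u}} (t : T' ⟶ T) {k l : ι} (y₀ : T' ⟶ W k) (y₁ : T' ⟶ W l)
    (h₀ : t ≫ x₀ = y₀ ≫ Sigma.ι W k) (h₁ : t ≫ x₁ = y₁ ≫ Sigma.ι W l) : y₀ ≫ a k = y₁ ≫ a l := by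
  rw [← Sigma.ι_desc a k, ← Category.assoc, ← h₀, Category.assoc, hx, ← Category.assoc, h₁,
    Category.assoc, Sigma.ι_desc]

/-- The local lift of `v` to a summand. -/
noncomputable def lft {T' : Scheme.{u}} (t : T' ⟶ T) {k : ι} (y₀ : T' ⟶ W k)
    (h₀ : t ≫ x₀ = y₀ ≫ Sigma.ι W k) : Lifts (E.obj k) y₀ :=
  ⟨(sqk a E k).lift (t ≫ v) y₀ (by rw [Category.assoc, hv, h₀]), (sqk a E k).lift_snd _ _ _⟩

theorem lft_ι {T' : Scheme.{u}} (t : T' ⟶ T) {k : ι} (y₀ : T' ⟶ W k)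
    (h₀ : t ≫ x₀ = y₀ ≫ Sigma.ι W k) : (lft hv t y₀ h₀).1 ≫ Sigma.ι (VV a E) k = t ≫ v :=
  (sqk a E k).lift_fst _ _ _

theorem lft_unique {T' : Scheme.{u}} (t : T' ⟶ T) {k : ι} (y₀ : T' ⟶ W k)
    (h₀ : t ≫ x₀ = y₀ ≫ Sigma.ι W k) (v' : T' ⟶ (E.obj k).left)
    (hv' : v' ≫ Sigma.ι (VV a E) k = t ≫ v) : (lft hv t y₀ h₀).1 = v' := by
  rw [← cancel_mono (Sigma.ι (VV a E) k), lft_ι, hv']

/-- The local value of the glued point. -/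
noncomputable def loc {T' : Scheme.{u}} (t : T' ⟶ T) {k l : ι} (y₀ : T' ⟶ W k) (y₁ : T' ⟶ W l)
    (h₀ : t ≫ x₀ = y₀ ≫ Sigma.ι W k) (h₁ : t ≫ x₁ = y₁ ≫ Sigma.ι W l) : T' ⟶ ∐ VV a E :=
  (E.φ y₀ y₁ (hy hx t y₀ y₁ h₀ h₁) (lft hv t y₀ h₀)).1 ≫ Sigma.ι (VV a E) l

theorem loc_congr {T' : Scheme.{u}} {t t' : T' ⟶ T} {k l : ι} {y₀ y₀' : T' ⟶ W k}
    {y₁ y₁' : T' ⟶ W l} (h₀ : t ≫ x₀ = y₀ ≫ Sigma.ι W k) (h₁ : t ≫ x₁ = y₁ ≫ Sigma.ι W l)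
    (h₀' : t' ≫ x₀ = y₀' ≫ Sigma.ι W k) (h₁' : t' ≫ x₁ = y₁' ≫ Sigma.ι W l)
    (et : t = t') : loc hx hv t y₀ y₁ h₀ h₁ = loc hx hv t' y₀' y₁' h₀' h₁' := by
  subst et
  obtain rfl : y₀ = y₀' := by rw [← cancel_mono (Sigma.ι W k), ← h₀, h₀']
  obtain rfl : y₁ = y₁' := by rw [← cancel_mono (Sigma.ι W l), ← h₁, h₁']
  rfl

theorem loc_comp {T' T'' : Scheme.{u}} (s : T'' ⟶ T') (t : T' ⟶ T) {k l : ι} (y₀ : T' ⟶ W k)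
    (y₁ : T' ⟶ W l) (h₀ : t ≫ x₀ = y₀ ≫ Sigma.ι W k) (h₁ : t ≫ x₁ = y₁ ≫ Sigma.ι W l) :
    s ≫ loc hx hv t y₀ y₁ h₀ h₁ = loc hx hv (s ≫ t) (s ≫ y₀) (s ≫ y₁)
      (by rw [Category.assoc, h₀, Category.assoc]) (by rw [Category.assoc, h₁, Category.assoc]) := by
  unfold loc
  rw [← Category.assoc]
  congr 1
  symm
  refine E.φ_natural s y₀ y₁ _ (s ≫ y₀) (s ≫ y₁) rfl rfl _ (lft hv t y₀ h₀) _ ?_
  apply lft_unique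
  rw [Category.assoc, lft_ι, Category.assoc]

theorem loc_hh {T' : Scheme.{u}} (t : T' ⟶ T) {k l : ι} (y₀ : T' ⟶ W k) (y₁ : T' ⟶ W l)
    (h₀ : t ≫ x₀ = y₀ ≫ Sigma.ι W k) (h₁ : t ≫ x₁ = y₁ ≫ Sigma.ι W l) :
    loc hx hv t y₀ y₁ h₀ h₁ ≫ hh a E = t ≫ x₁ := by
  unfold loc
  rw [Category.assoc, (sqk a E l).w, ← Category.assoc,
    (E.φ y₀ y₁ (hy hx t y₀ y₁ h₀ h₁) (lft hv t y₀ h₀)).2, h₁]

end loc

section glue

variable {a E} {T : Scheme.{u}} (x₀ x₁ : T ⟶ ∐ W)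

/-- The open cover of `T` by the loci where `x₀` lands in `W k` and `x₁` lands in `W l`. -/
noncomputable def cov : T.OpenCover :=
  ((sigmaOpenCover W).pullback₁ x₀).bind
    (fun k => (sigmaOpenCover W).pullback₁ (((sigmaOpenCover W).pullback₁ x₀).f k ≫ x₁))

/-- The first local factorisation. -/
noncomputable def cy₀ (p : Σ _ : ι, ι) : (cov x₀ x₁).X p ⟶ W p.1 :=
  pullback.fst (pullback.fst x₀ (Sigma.ι W p.1) ≫ x₁) (Sigma.ι W p.2) ≫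
    pullback.snd x₀ (Sigma.ι W p.1)

/-- The second local factorisation. -/
noncomputable def cy₁ (p : Σ _ : ι, ι) : (cov x₀ x₁).X p ⟶ W p.2 :=
  pullback.snd (pullback.fst x₀ (Sigma.ι W p.1) ≫ x₁) (Sigma.ι W p.2)

/-- The structure map of a member of the cover. -/
noncomputable def ct (p : Σ _ : ι, ι) : (cov x₀ x₁).X p ⟶ T :=
  pullback.fst (pullback.fst x₀ (Sigma.ι W p.1) ≫ x₁) (Sigma.ι W p.2) ≫
    pullback.fst x₀ (Sigma.ι W p.1)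

theorem cov_f (p : Σ _ : ι, ι) : (cov x₀ x₁).f p = ct x₀ x₁ p := rfl

theorem ch₀ (p : Σ _ : ι, ι) : ct x₀ x₁ p ≫ x₀ = cy₀ x₀ x₁ p ≫ Sigma.ι W p.1 := by
  unfold ct cy₀
  rw [Category.assoc, Category.assoc, pullback.condition]

theorem ch₁ (p : Σ _ : ι, ι) : ct x₀ x₁ p ≫ x₁ = cy₁ x₀ x₁ p ≫ Sigma.ι W p.2 := by
  unfold ct cy₁
  rw [Category.assoc]
  exact pullback.condition

variable {x₀ x₁} (hx : x₀ ≫ Sigma.desc a = x₁ ≫ Sigma.desc a)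
  {v : T ⟶ ∐ VV a E} (hv : v ≫ hh a E = x₀)

/-- The local pieces of the glued point. -/
noncomputable def gl (p : Σ _ : ι, ι) : (cov x₀ x₁).X p ⟶ ∐ VV a E :=
  loc hx hv (ct x₀ x₁ p) (cy₀ x₀ x₁ p) (cy₁ x₀ x₁ p) (ch₀ x₀ x₁ p) (ch₁ x₀ x₁ p)

theorem gl_compat (p p' : Σ _ : ι, ι) :
    pullback.fst ((cov x₀ x₁).f p) ((cov x₀ x₁).f p') ≫ gl hx hv p =
      pullback.snd ((cov x₀ x₁).f p) ((cov x₀ x₁).f p') ≫ gl hx hv p' := by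
  have hc : pullback.fst ((cov x₀ x₁).f p) ((cov x₀ x₁).f p') ≫ ct x₀ x₁ p =
      pullback.snd ((cov x₀ x₁).f p) ((cov x₀ x₁).f p') ≫ ct x₀ x₁ p' := pullback.condition
  obtain ⟨k, l⟩ := p
  obtain ⟨k', l'⟩ := p'
  by_cases hk : k = k'
  · subst hk
    by_cases hl : l = l'
    · subst hl
      unfold gl
      rw [loc_comp, loc_comp]
      exact loc_congr hx hv _ _ _ _ hc
    · refine eq_of_sigmaι_ne hl (pullback.fst _ _ ≫ cy₁ x₀ x₁ ⟨k, l⟩)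
        (pullback.snd _ _ ≫ cy₁ x₀ x₁ ⟨k, l'⟩) ?_ _ _
      rw [Category.assoc, Category.assoc, ← ch₁ x₀ x₁ ⟨k, l⟩, ← ch₁ x₀ x₁ ⟨k, l'⟩,
        ← Category.assoc, ← Category.assoc, hc]
  · refine eq_of_sigmaι_ne hk (pullback.fst _ _ ≫ cy₀ x₀ x₁ ⟨k, l⟩)
      (pullback.snd _ _ ≫ cy₀ x₀ x₁ ⟨k', l'⟩) ?_ _ _
    rw [Category.assoc, Category.assoc, ← ch₀ x₀ x₁ ⟨k, l⟩, ← ch₀ x₀ x₁ ⟨k', l'⟩,
      ← Category.assoc, ← Category.assoc, hc]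

/-- The glued point. -/
noncomputable def φfun : T ⟶ ∐ VV a E :=
  Scheme.Cover.glueMorphisms (cov x₀ x₁) (fun p => gl (ι := ι) hx hv p)
    (fun p p' => gl_compat (ι := ι) hx hv p p')

/-- The local formula for the glued point. -/
theorem φfun_local {T' : Scheme.{u}} (t : T' ⟶ T) {k l : ι} (y₀ : T' ⟶ W k) (y₁ : T' ⟶ W l)
    (h₀ : t ≫ x₀ = y₀ ≫ Sigma.ι W k) (h₁ : t ≫ x₁ = y₁ ≫ Sigma.ι W l) :
    t ≫ φfun hx hv = loc hx hv t y₀ y₁ h₀ h₁ := by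
  let s₁ : T' ⟶ pullback x₀ (Sigma.ι W k) := pullback.lift t y₀ h₀
  have hs₁ : s₁ ≫ pullback.fst x₀ (Sigma.ι W k) = t := pullback.lift_fst _ _ _
  let s : T' ⟶ (cov x₀ x₁).X (⟨k, l⟩ : Σ _ : ι, ι) :=
    pullback.lift (f := pullback.fst x₀ (Sigma.ι W k) ≫ x₁) (g := Sigma.ι W l) s₁ y₁
      (by rw [← Category.assoc, hs₁, h₁])
  have hs : s ≫ ct x₀ x₁ (⟨k, l⟩ : Σ _ : ι, ι) = t := by
    unfold ct
    rw [← Category.assoc]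
    have : s ≫ pullback.fst (pullback.fst x₀ (Sigma.ι W k) ≫ x₁) (Sigma.ι W l) = s₁ :=
      pullback.lift_fst _ _ _
    rw [this, hs₁]
  have e1 : t ≫ φfun hx hv = s ≫ gl hx hv (⟨k, l⟩ : Σ _ : ι, ι) := by
    rw [φfun, ← Scheme.Cover.ι_glueMorphisms (cov x₀ x₁) (fun p => gl (ι := ι) hx hv p)
      (fun p p' => gl_compat (ι := ι) hx hv p p') (⟨k, l⟩ : Σ _ : ι, ι), ← Category.assoc, cov_f, hs]
  rw [e1, gl, loc_comp]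
  exact loc_congr hx hv _ _ _ _ hs

theorem φfun_hh : φfun hx hv ≫ hh a E = x₁ := by
  refine Scheme.Cover.hom_ext (cov x₀ x₁) _ _ (fun p => ?_)
  rw [← Category.assoc, cov_f, φfun_local hx hv _ _ _ (ch₀ x₀ x₁ p) (ch₁ x₀ x₁ p), loc_hh]

end glue

section props

variable {a E} {T : Scheme.{u}}

omit [Small.{u} ι] in
theorem assoc₃ {A B C D Y : Scheme.{u}} (t₃ : A ⟶ B) (t₂ : B ⟶ C) (t₁ : C ⟶ D) (w : D ⟶ Y) :
    t₃ ≫ t₂ ≫ t₁ ≫ w = (t₃ ≫ t₂ ≫ t₁) ≫ w := by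
  simp only [Category.assoc]

theorem hom_ext_sigma₂ {Y : Scheme.{u}} (x₀ x₁ : T ⟶ ∐ W) (w w' : T ⟶ Y)
    (h : ∀ (T' : Scheme.{u}) (t : T' ⟶ T) (k l : ι) (y₀ : T' ⟶ W k) (y₁ : T' ⟶ W l),
      t ≫ x₀ = y₀ ≫ Sigma.ι W k → t ≫ x₁ = y₁ ≫ Sigma.ι W l → t ≫ w = t ≫ w') : w = w' := by
  refine hom_ext_sigma x₀ _ _ (fun T₁ t₁ k y₀ hy₀ => ?_)
  refine hom_ext_sigma (t₁ ≫ x₁) _ _ (fun T₂ t₂ l y₁ hy₁ => ?_)
  have := h T₂ (t₂ ≫ t₁) k l (t₂ ≫ y₀) y₁ (by rw [Category.assoc, hy₀, Category.assoc])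
    (by rw [Category.assoc, hy₁])
  rw [Category.assoc, Category.assoc] at this
  exact this

theorem hom_ext_sigma₃ {Y : Scheme.{u}} (x₀ x₁ x₂ : T ⟶ ∐ W) (w w' : T ⟶ Y)
    (h : ∀ (T' : Scheme.{u}) (t : T' ⟶ T) (k l m : ι) (y₀ : T' ⟶ W k) (y₁ : T' ⟶ W l)
      (y₂ : T' ⟶ W m), t ≫ x₀ = y₀ ≫ Sigma.ι W k → t ≫ x₁ = y₁ ≫ Sigma.ι W l →
      t ≫ x₂ = y₂ ≫ Sigma.ι W m → t ≫ w = t ≫ w') : w = w' := by
  refine hom_ext_sigma x₀ _ _ (fun T₁ t₁ k y₀ hy₀ => ?_)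
  refine hom_ext_sigma₂ (t₁ ≫ x₁) (t₁ ≫ x₂) _ _ (fun T₂ t₂ l m y₁ y₂ hy₁ hy₂ => ?_)
  have := h T₂ (t₂ ≫ t₁) k l m (t₂ ≫ y₀) y₁ y₂ (by rw [Category.assoc, hy₀, Category.assoc])
    (by rw [Category.assoc, hy₁]) (by rw [Category.assoc, hy₂])
  rw [Category.assoc, Category.assoc] at this
  exact this

theorem φfun_self {x : T ⟶ ∐ W} {v : T ⟶ ∐ VV a E} (hv : v ≫ hh a E = x) :
    φfun (x₀ := x) (x₁ := x) rfl hv = v := by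
  refine hom_ext_sigma x _ _ (fun T' t k y hy => ?_)
  rw [φfun_local rfl hv t y y hy hy]
  unfold loc
  rw [E.φ_self, lft_ι]

theorem φfun_comp {x₀ x₁ x₂ : T ⟶ ∐ W} (h₀₁ : x₀ ≫ Sigma.desc a = x₁ ≫ Sigma.desc a)
    (h₁₂ : x₁ ≫ Sigma.desc a = x₂ ≫ Sigma.desc a) {v : T ⟶ ∐ VV a E} (hv : v ≫ hh a E = x₀) :
    φfun h₁₂ (φfun_hh h₀₁ hv) = φfun (h₀₁.trans h₁₂) hv := by
  refine hom_ext_sigma₃ x₀ x₁ x₂ _ _ (fun T' t k l m y₀ y₁ y₂ hy₀ hy₁ hy₂ => ?_)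
  rw [φfun_local h₁₂ (φfun_hh h₀₁ hv) t y₁ y₂ hy₁ hy₂,
    φfun_local (h₀₁.trans h₁₂) hv t y₀ y₂ hy₀ hy₂]
  unfold loc
  congr 1
  have key : lft (φfun_hh h₀₁ hv) t y₁ hy₁ =
      E.φ y₀ y₁ (hy h₀₁ t y₀ y₁ hy₀ hy₁) (lft hv t y₀ hy₀) := by
    apply Subtype.ext
    apply lft_unique
    rw [φfun_local h₀₁ hv t y₀ y₁ hy₀ hy₁]
    rfl
  rw [key, E.φ_comp]

theorem φfun_natural {T' : Scheme.{u}} (g : T' ⟶ T) {x₀ x₁ : T ⟶ ∐ W}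
    (h : x₀ ≫ Sigma.desc a = x₁ ≫ Sigma.desc a)
    (h' : (g ≫ x₀) ≫ Sigma.desc a = (g ≫ x₁) ≫ Sigma.desc a)
    {v : T ⟶ ∐ VV a E} (hv : v ≫ hh a E = x₀) {v' : T' ⟶ ∐ VV a E}
    (hv' : v' ≫ hh a E = g ≫ x₀) (e : v' = g ≫ v) :
    φfun h' hv' = g ≫ φfun h hv := by
  refine hom_ext_sigma₂ (g ≫ x₀) (g ≫ x₁) _ _ (fun T'' t k l y₀ y₁ hy₀ hy₁ => ?_)
  have hy₀' : (t ≫ g) ≫ x₀ = y₀ ≫ Sigma.ι W k := by rw [Category.assoc, hy₀]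
  have hy₁' : (t ≫ g) ≫ x₁ = y₁ ≫ Sigma.ι W l := by rw [Category.assoc, hy₁]
  rw [φfun_local h' hv' t y₀ y₁ hy₀ hy₁, ← Category.assoc,
    φfun_local h hv (t ≫ g) y₀ y₁ hy₀' hy₁']
  unfold loc
  congr 1
  refine φ_congr a E _ _ rfl rfl _ _ ?_
  apply lft_unique
  rw [lft_ι, e, Category.assoc]

end props

/-- The descent datum on the coproduct. -/
noncomputable def sigmaDD : SchDD (Sigma.desc a) where
  obj := Over.mk (hh a E)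
  φ T x₀ x₁ hx :=
    { toFun := fun v => ⟨φfun hx v.2, φfun_hh hx v.2⟩
      invFun := fun w => ⟨φfun hx.symm w.2, φfun_hh hx.symm w.2⟩
      left_inv := fun v => Subtype.ext (by
        change φfun hx.symm (φfun_hh hx v.2) = v.1
        rw [φfun_comp, φfun_self])
      right_inv := fun w => Subtype.ext (by
        change φfun hx (φfun_hh hx.symm w.2) = w.1
        rw [φfun_comp, φfun_self]) }
  φ_natural T T' g x₀ x₁ h h' v v' hv' := φfun_natural g h h' v.2 v'.2 hv'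
  φ_self T x v := Subtype.ext (φfun_self v.2)
  φ_comp T x₀ x₁ x₂ h₀₁ h₁₂ v := Subtype.ext (φfun_comp h₀₁ h₁₂ v.2)

/-- The local formula for the gluing bijections of `sigmaDD`. -/
theorem sigmaDD_φ {T : Scheme.{u}} {k l : ι} (y₀ : T ⟶ W k) (y₁ : T ⟶ W l)
    (hy : y₀ ≫ a k = y₁ ≫ a l) (v' : Lifts (E.obj k) y₀)
    (hx : (y₀ ≫ Sigma.ι W k) ≫ Sigma.desc a = (y₁ ≫ Sigma.ι W l) ≫ Sigma.desc a)
    (v : Lifts (sigmaDD a E).obj (y₀ ≫ Sigma.ι W k)) (hv : v.1 = v'.1 ≫ Sigma.ι (VV a E) k) :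
    ((sigmaDD a E).φ (y₀ ≫ Sigma.ι W k) (y₁ ≫ Sigma.ι W l) hx v).1 =
      (E.φ y₀ y₁ hy v').1 ≫ Sigma.ι (VV a E) l := by
  change φfun hx v.2 = _
  have h1 := φfun_local hx v.2 (𝟙 T) y₀ y₁ (Category.id_comp _) (Category.id_comp _)
  rw [Category.id_comp] at h1
  rw [h1]
  unfold loc
  congr 1
  refine φ_congr a E _ _ rfl rfl _ _ ?_
  apply lft_unique
  rw [Category.id_comp, hv]

end Groth.Agent.H51.SigmaDD
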