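import Groth.Agent.H51.SigmaDD
import Groth.Agent.H51.AffEff

/-!
# Effectivity of a family descent datum from effectivity of the associated datum on the coproduct (helper51)
-/

set_option autoImplicit false
universe v u
open CategoryTheory CategoryTheory.Limits AlgebraicGeometry Opposite Desc

namespace Groth.Agent.H51.SigmaEff

open Groth.Agent.H51.SigmaDD Groth.Agent.H51.DescCrit Groth.Agent.H51.AffEff

variable {ι : Type v} [Small.{u} ι] {S : Scheme.{u}} {W : ι → Scheme.{u}} (a : ∀ k, W k ⟶ S)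
  (E : SchDDFam a)

/-- A solution of the descent problem on the coproduct restricts to a solution of the family problem. -/
theorem isSol_of_sigma (U : Over S) (kk : (∐ VV a E) ⟶ U.left)
    (sq : IsPullback kk (hh a E) U.hom (Sigma.desc a))
    (inv : ∀ ⦃T : Scheme.{u}⦄ (x₀ x₁ : T ⟶ ∐ W) (h : x₀ ≫ Sigma.desc a = x₁ ≫ Sigma.desc a)
      (v : Lifts (sigmaDD a E).obj x₀), ((sigmaDD a E).φ x₀ x₁ h v).1 ≫ kk = v.1 ≫ kk) :
    IsSol E U (fun l => Sigma.ι (VV a E) l ≫ kk) where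
  sq l := by
    have := (sqk a E l).paste_horiz sq
    rwa [Sigma.ι_desc] at this
  inv T k l y₀ y₁ hy v' := by
    have hx : (y₀ ≫ Sigma.ι W k) ≫ Sigma.desc a = (y₁ ≫ Sigma.ι W l) ≫ Sigma.desc a := by
      rw [Category.assoc, Category.assoc, Sigma.ι_desc, Sigma.ι_desc, hy]
    have hv0 : (v'.1 ≫ Sigma.ι (VV a E) k) ≫ hh a E = y₀ ≫ Sigma.ι W k := by
      rw [Category.assoc, (sqk a E k).w, ← Category.assoc, v'.2]
    have e := sigmaDD_φ (a := a) (E := E) y₀ y₁ hy v' hx ⟨v'.1 ≫ Sigma.ι (VV a E) k, hv0⟩ rfl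
    have e2 := inv (y₀ ≫ Sigma.ι W k) (y₁ ≫ Sigma.ι W l) hx ⟨v'.1 ≫ Sigma.ι (VV a E) k, hv0⟩
    rw [← Category.assoc, ← e]
    exact e2.trans (Category.assoc _ _ _)

/-- If the descent datum on the coproduct is effective, so is the family descent datum. -/
theorem isEffective_of_sigmaDD
    (h : ∃ U : Over S, Nonempty ((toDD (Sigma.desc a)).obj U ≅ sigmaDD a E)) : E.IsEffective := by
  have h1 := (eff_iff (Sigma.desc a) (sigmaDD a E)).1 h
  obtain ⟨U, kk, hs⟩ := exists_isSol_of_isEffective h1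
  exact (isSol_of_sigma a E U (kk PUnit.unit) (hs.sq PUnit.unit)
    (fun T x₀ x₁ hx v => hs.inv x₀ x₁ hx v)).isEffective

end Groth.Agent.H51.SigmaEff
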