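import Groth.Agent.H51.SigmaDD
import Groth.Agent.H49.DescFF
import Mathlib.AlgebraicGeometry.Sites.Fpqc

/-!
# Descent data relative to a family and relative to the coproduct (helper51)
-/

set_option autoImplicit false
universe u
open CategoryTheory CategoryTheory.Limits AlgebraicGeometry Opposite Desc

namespace Groth.Agent.H51.SigmaEquiv

open Groth.Agent.H51.SigmaDD Groth.Agent.H51.SigmaAux

variable {ι : Type u} {S : Scheme.{u}} {X : ι → Scheme.{u}} (f : ∀ i, X i ⟶ S)

/-- The compatibility of the coprojections with the structure maps. -/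
theorem ww (i : ι) : Sigma.ι X i ≫ (fun _ : PUnit.{u + 1} => Sigma.desc f) PUnit.unit = f i ≫ 𝟙 S :=
  (Sigma.ι_desc f i).trans (Category.comp_id (f i)).symm

/-- The pullback functor to the family. -/
noncomputable abbrev pullF : SchDDFam (fun _ : PUnit.{u + 1} => Sigma.desc f) ⥤ SchDDFam f :=
  pullDDFam (f := fun _ : PUnit.{u + 1} => Sigma.desc f) (f' := f) (α := fun _ => PUnit.unit)
    (p := 𝟙 S) (p' := fun i => Sigma.ι X i) (ww f)

variable (E : SchDDFam f)

/-- The pulled back datum of `sigmaDD`. -/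
noncomputable abbrev E' : SchDDFam f :=
  (pullF f).obj ((SchDDFam.ofSchDD.{u} (Sigma.desc f)).obj (sigmaDD f E))

theorem E'_φ_fst {T : Scheme.{u}} {k l : ι} (x₀ : T ⟶ X k) (x₁ : T ⟶ X l) (h : x₀ ≫ f k = x₁ ≫ f l)
    (v : Lifts ((E' f E).obj k) x₀) :
    ((E' f E).φ x₀ x₁ h v).1 ≫ pullback.fst (hh f E) (Sigma.ι X l) =
      ((sigmaDD f E).φ (x₀ ≫ Sigma.ι X k) (x₁ ≫ Sigma.ι X l) (pull_compat (ww f) x₀ x₁ h)
        (liftsPullbackEquiv (Over.mk (hh f E)) (Sigma.ι X k) x₀ v)).1 :=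
  pullback.lift_fst _ _ _

/-- From points of the pullback to points of the summand. -/
noncomputable def toV {T : Scheme.{u}} {k : ι} (x : T ⟶ X k)
    (v0 : T ⟶ pullback (hh f E) (Sigma.ι X k))
    (hv0 : v0 ≫ pullback.snd (hh f E) (Sigma.ι X k) = x) : Lifts (E.obj k) x :=
  ⟨(sqk f E k).lift (v0 ≫ pullback.fst (hh f E) (Sigma.ι X k)) x (by
      rw [Category.assoc, pullback.condition, ← Category.assoc, hv0]), (sqk f E k).lift_snd _ _ _⟩

theorem toV_ι {T : Scheme.{u}} {k : ι} (x : T ⟶ X k) (v0 : T ⟶ pullback (hh f E) (Sigma.ι X k))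
    (hv0 : v0 ≫ pullback.snd (hh f E) (Sigma.ι X k) = x) :
    (toV f E x v0 hv0).1 ≫ Sigma.ι (VV f E) k = v0 ≫ pullback.fst (hh f E) (Sigma.ι X k) :=
  (sqk f E k).lift_fst _ _ _

/-- From points of the summand to points of the pullback. -/
noncomputable def ofV {T : Scheme.{u}} {k : ι} (x : T ⟶ X k) (v' : Lifts (E.obj k) x) :
    T ⟶ pullback (hh f E) (Sigma.ι X k) :=
  pullback.lift (v'.1 ≫ Sigma.ι (VV f E) k) x (by
    rw [Category.assoc, (sqk f E k).w, ← Category.assoc, v'.2])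

theorem ofV_fst {T : Scheme.{u}} {k : ι} (x : T ⟶ X k) (v' : Lifts (E.obj k) x) :
    ofV f E x v' ≫ pullback.fst (hh f E) (Sigma.ι X k) = v'.1 ≫ Sigma.ι (VV f E) k :=
  pullback.lift_fst _ _ _

theorem ofV_snd {T : Scheme.{u}} {k : ι} (x : T ⟶ X k) (v' : Lifts (E.obj k) x) :
    ofV f E x v' ≫ pullback.snd (hh f E) (Sigma.ι X k) = x :=
  pullback.lift_snd _ _ _

/-- The comparison of points. -/
noncomputable def ee {T : Scheme.{u}} {k : ι} (x : T ⟶ X k) :
    Lifts ((E' f E).obj k) x ≃ Lifts (E.obj k) x where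
  toFun v := toV f E x v.1 v.2
  invFun v' := ⟨ofV f E x v', ofV_snd f E x v'⟩
  left_inv v := by
    apply Subtype.ext
    change ofV f E x (toV f E x v.1 v.2) = v.1
    apply pullback.hom_ext
    · rw [ofV_fst, toV_ι]
    · rw [ofV_snd]
      exact v.2.symm
  right_inv v' := by
    apply Subtype.ext
    change (toV f E x (ofV f E x v') (ofV_snd f E x v')).1 = v'.1
    rw [← cancel_mono (Sigma.ι (VV f E) k), toV_ι, ofV_fst]

theorem ee_ι {T : Scheme.{u}} {k : ι} (x : T ⟶ X k) (v : Lifts ((E' f E).obj k) x) :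
    (ee f E x v).1 ≫ Sigma.ι (VV f E) k = v.1 ≫ pullback.fst (hh f E) (Sigma.ι X k) :=
  toV_ι f E x v.1 v.2

/-- The comparison isomorphism on points. -/
noncomputable def ptIso : Groth.Agent.H49.PtIso (E' f E) E where
  e _ _ x := ee f E x
  natural T T' g k x y hy v v' hv' := by
    rw [← cancel_mono (Sigma.ι (VV f E) k), ee_ι, Category.assoc, ee_ι, hv', Category.assoc]
  compat T k l x₀ x₁ h v := by
    apply Subtype.ext
    rw [← cancel_mono (Sigma.ι (VV f E) l), ee_ι, E'_φ_fst]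
    have hx := pull_compat (ww f) x₀ x₁ h
    have e := sigmaDD_φ (a := f) (E := E) x₀ x₁ h (ee f E x₀ v) hx
      (liftsPullbackEquiv (Over.mk (hh f E)) (Sigma.ι X k) x₀ v) (ee_ι f E x₀ v).symm
    exact e.symm

/-- Every descent datum relative to the family comes from the coproduct. -/
noncomputable def isoE : E' f E ≅ E := (ptIso f E).toIso

/-- The sheaf condition needed for full faithfulness. -/
theorem hsh ⦃T : Scheme.{u}⦄ ⦃j : PUnit.{u + 1}⦄ (y : T ⟶ ∐ X) (Z : Scheme.{u}) :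
    Presieve.IsSheafFor (yoneda.obj Z)
      ((Sieve.ofArrows X f).pullback (y ≫ (fun _ : PUnit.{u + 1} => Sigma.desc f) j)).arrows := by
  have hcov : Sieve.generate ((sigmaOpenCover X).pullback₁ y).presieve₀ ∈ Scheme.fpqcTopology T :=
    Precoverage.generate_mem_toGrothendieck
      (Scheme.zariskiPrecoverage_le_fpqcPrecoverage _ ((sigmaOpenCover X).pullback₁ y).mem₀)
  have hle : Sieve.generate ((sigmaOpenCover X).pullback₁ y).presieve₀ ≤
      (Sieve.ofArrows X f).pullback (y ≫ Sigma.desc f) := by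
    rw [Sieve.generate_le_iff]
    rintro _ _ ⟨k⟩
    refine ⟨X k, pullback.snd y (Sigma.ι X k), f k, ⟨k⟩, ?_⟩
    change pullback.snd y (Sigma.ι X k) ≫ f k = pullback.fst y (Sigma.ι X k) ≫ y ≫ Sigma.desc f
    rw [← Category.assoc, pullback.condition, Category.assoc, Sigma.ι_desc]
  exact (GrothendieckTopology.Subcanonical.isSheaf_of_isRepresentable
    (J := Scheme.fpqcTopology) (yoneda.obj Z)) _
    (Scheme.fpqcTopology.superset_covering hle hcov)

theorem pullF_full_faithful : (pullF f).Full ∧ (pullF f).Faithful :=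
  Groth.Agent.H49.pullDDFam_full_faithful (a := f) (b := fun _ : PUnit.{u + 1} => Sigma.desc f)
    (α := fun _ => PUnit.unit) (g := fun i => Sigma.ι X i) (ww f) (hsh f)

theorem pullF_isEquivalence : (pullF f).IsEquivalence where
  faithful := (pullF_full_faithful f).2
  full := (pullF_full_faithful f).1
  essSurj := ⟨fun E => ⟨(SchDDFam.ofSchDD.{u} (Sigma.desc f)).obj (sigmaDD f E), ⟨isoE f E⟩⟩⟩

theorem ofSchDD_isEquivalence {X₀ : Scheme.{u}} (p : X₀ ⟶ S) :
    (SchDDFam.ofSchDD.{u} p).IsEquivalence :=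
  inferInstanceAs (SchDDFam.oneEquiv.{u} p).inverse.IsEquivalence

theorem main : (SchDDFam.ofSchDD.{u} (Sigma.desc f) ⋙ pullF f).IsEquivalence := by
  have := pullF_isEquivalence f
  have := ofSchDD_isEquivalence (Sigma.desc f)
  infer_instance

end Groth.Agent.H51.SigmaEquiv
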