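import Mathlib
import Groth.Agent.S10929

/-!
# Ring-level generic smoothness in characteristic zero (helper51, for helper70's S10938 squad)
-/

set_option autoImplicit false
universe u
open IsLocalRing AlgebraicGeometry CategoryTheory

namespace Groth.Agent.H51.SmoothAway

theorem exists_smooth_away {k A B : Type u} [Field k] [IsAlgClosed k] [CharZero k] [CommRing A]
    [CommRing B] [IsDomain A] [IsDomain B] [Algebra k A] [Algebra.FiniteType k A] (φ : A →+* B)
    (hφ : φ.FiniteType) (hinj : Function.Injective φ) :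
    ∃ b : B, b ≠ 0 ∧ ((algebraMap B (Localization.Away b)).comp φ).Smooth := by
  let f : Spec (CommRingCat.of B) ⟶ Spec (CommRingCat.of A) := Spec.map (CommRingCat.ofHom φ)
  let qY : Spec (CommRingCat.of A) ⟶ Spec (CommRingCat.of k) :=
    Spec.map (CommRingCat.ofHom (algebraMap k A))
  have hqY : LocallyOfFiniteType qY := by
    rw [HasRingHomProperty.Spec_iff (P := @LocallyOfFiniteType)]
    change (algebraMap k A).FiniteType
    rw [RingHom.finiteType_algebraMap]
    infer_instance
  have hf : LocallyOfFiniteType f := by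
    rw [HasRingHomProperty.Spec_iff (P := @LocallyOfFiniteType)]
    exact hφ
  have hqX : LocallyOfFiniteType (f ≫ qY) := inferInstance
  have hdom : DenseRange f.base := by
    change DenseRange (PrimeSpectrum.comap φ)
    rw [PrimeSpectrum.denseRange_comap_iff_ker_le_nilRadical]
    rw [(RingHom.injective_iff_ker_eq_bot φ).1 hinj]
    exact bot_le
  obtain ⟨U, ⟨x, hxU⟩, hU⟩ := Groth.Agent.S10929.result k (f ≫ qY) qY f rfl hdom
  -- shrink to a basic open
  obtain ⟨_, ⟨b, rfl⟩, hxb, hbU⟩ := PrimeSpectrum.isTopologicalBasis_basic_opens.exists_subset_of_mem_open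
    hxU U.isOpen
  have hb0 : b ≠ 0 := by
    rintro rfl
    simp at hxb
  refine ⟨b, hb0, ?_⟩
  have hle : (PrimeSpectrum.basicOpen b : (Spec (CommRingCat.of B)).Opens) ≤ U := hbU
  have h1 : Smooth ((Spec (CommRingCat.of B)).homOfLE hle ≫ U.ι ≫ f) := inferInstance
  rw [← Category.assoc, Scheme.homOfLE_ι] at h1
  have h2 : Smooth ((basicOpenIsoSpecAway (R := CommRingCat.of B) b).inv ≫
      Scheme.Opens.ι (X := Spec (CommRingCat.of B)) (PrimeSpectrum.basicOpen b) ≫ f) := inferInstance
  rw [← Category.assoc, ← basicOpenIsoSpecAway_hom_SpecMap, Iso.inv_hom_id_assoc,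
    ← Spec.map_comp] at h2
  rw [HasRingHomProperty.Spec_iff (P := @Smooth)] at h2
  exact h2

end Groth.Agent.H51.SmoothAway
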