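import Mathlib.RingTheory.Spectrum.Prime.Chevalley
import Mathlib.RingTheory.Flat.EquationalCriterion
import Mathlib.RingTheory.Flat.FaithfullyFlat.Basic
import Mathlib.RingTheory.Ideal.Colon
import Mathlib.RingTheory.FiniteType
import Mathlib.RingTheory.Ideal.GoingDown

/-! Core lemma for descent of finite type along an etale covering on the source (helper51).

If `R → B → C` with `C` flat and finitely presented over `R`, `Spec C → Spec B` surjective and
`B ⊗[R] C → C` injective (in the form `b ⊗ 1 = 1 ⊗ b`), then `B` is of finite type over `R`. -/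

set_option autoImplicit false
set_option linter.unusedSectionVars false
universe u
open TensorProduct PrimeSpectrum

namespace Groth.Agent.H51

section

variable {R B C : Type u} [CommRing R] [CommRing B] [CommRing C] [Algebra R B] [Algebra B C]
  [Algebra R C] [IsScalarTower R B C]

/-- the conductor ideal of `b` into the image of `R` -/
noncomputable def cond (R : Type u) {B : Type u} [CommRing R] [CommRing B] [Algebra R B] (b : B) :
    Ideal R :=
  (LinearMap.range (Algebra.linearMap R B)).colon {b}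

theorem mem_cond {b : B} {r : R} : r ∈ cond R b ↔ ∃ r' : R, algebraMap R B r' = r • b := by
  unfold cond
  rw [Submodule.mem_colon_singleton]
  simp [LinearMap.mem_range]

theorem one_mem_map_cond [Module.Flat R C]
    (hμ : ∀ b : B, b ⊗ₜ[R] (1 : C) = (1 : B) ⊗ₜ[R] algebraMap B C b) (b : B) :
    Ideal.map (algebraMap R C) (cond R b) = ⊤ := by
  rw [Ideal.eq_top_iff_one]
  have hsum : ∑ i : Fin 2, (![b, 1] : Fin 2 → B) i ⊗ₜ[R]
      (![1, - algebraMap B C b] : Fin 2 → C) i = 0 := by
    simp [Fin.sum_univ_two, hμ b, TensorProduct.tmul_neg]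
  have hinj : Function.Injective
      (LinearMap.rTensor C (Submodule.span R (Set.range (![b, 1] : Fin 2 → B))).subtype) :=
    Module.Flat.rTensor_preserves_injective_linearMap _ (Submodule.injective_subtype _)
  obtain ⟨k, a, y, h1, h2⟩ :=
    TensorProduct.vanishesTrivially_of_sum_tmul_eq_zero_of_rTensor_injective R hinj hsum
  have h10 : (1 : C) = ∑ j, a 0 j • y j := by simpa using h1 0
  rw [h10]
  refine Ideal.sum_mem _ (fun j _ => ?_)
  rw [Algebra.smul_def]
  refine Ideal.mul_mem_right _ _ (Ideal.mem_map_of_mem _ ?_)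
  rw [mem_cond]
  have h2j := h2 j
  simp only [Fin.sum_univ_two, Matrix.cons_val_zero, Matrix.cons_val_one] at h2j
  refine ⟨- a 1 j, ?_⟩
  have : a 1 j • (1 : B) = algebraMap R B (a 1 j) := by rw [Algebra.smul_def, mul_one]
  rw [map_neg, ← this]
  linear_combination (exp := 1) -h2j

/-- **Core lemma.** -/
theorem finiteType_of_tmul_eq [Module.Flat R C] [Algebra.FinitePresentation R C]
    (hμ : ∀ b : B, b ⊗ₜ[R] (1 : C) = (1 : B) ⊗ₜ[R] algebraMap B C b)
    (hsurj : Function.Surjective (PrimeSpectrum.comap (algebraMap B C))) :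
    Algebra.FiniteType R B := by
  classical
  -- the open image
  have hopen : IsOpen (Set.range (PrimeSpectrum.comap (algebraMap R C))) :=
    (PrimeSpectrum.isOpenMap_comap_of_hasGoingDown_of_finitePresentation
      (R := R) (S := C)).isOpen_range
  set U : Set (PrimeSpectrum R) := Set.range (PrimeSpectrum.comap (algebraMap R C)) with hU
  set I : Ideal R := vanishingIdeal Uᶜ with hI
  have hzI : zeroLocus (I : Set R) = Uᶜ := by
    rw [hI, zeroLocus_vanishingIdeal_eq_closure, hopen.isClosed_compl.closure_eq]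
  -- I ≤ radical (cond b)
  have hrad : ∀ b : B, I ≤ (cond R b).radical := by
    intro b
    rw [← zeroLocus_subset_zeroLocus_iff, hzI]
    intro 𝔭 h𝔭 hmem
    obtain ⟨𝔮, rfl⟩ := hmem
    have h1 : Ideal.map (algebraMap R C) (cond R b) ≤ 𝔮.asIdeal := by
      rw [Ideal.map_le_iff_le_comap]
      exact h𝔭
    rw [one_mem_map_cond hμ b] at h1
    exact 𝔮.isPrime.ne_top (top_le_iff.mp h1)
  -- I B = B
  have hIB : Ideal.map (algebraMap R B) I = ⊤ := by
    by_contra hne
    obtain ⟨𝔐, h𝔐, hle⟩ := Ideal.exists_le_maximal _ hne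
    obtain ⟨𝔮, h𝔮⟩ := hsurj ⟨𝔐, h𝔐.isPrime⟩
    have hmemU : PrimeSpectrum.comap (algebraMap R C) 𝔮 ∈ U := ⟨𝔮, rfl⟩
    have hmemZ : PrimeSpectrum.comap (algebraMap R C) 𝔮 ∈ zeroLocus (I : Set R) := by
      intro x hx
      have hx' : algebraMap R B x ∈ 𝔐 := hle (Ideal.mem_map_of_mem _ hx)
      have h𝔮' : (PrimeSpectrum.comap (algebraMap B C) 𝔮).asIdeal = 𝔐 := by rw [h𝔮]
      change algebraMap R C x ∈ 𝔮.asIdeal
      rw [IsScalarTower.algebraMap_apply R B C]
      have : algebraMap R B x ∈ (PrimeSpectrum.comap (algebraMap B C) 𝔮).asIdeal := by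
        rw [h𝔮']; exact hx'
      exact this
    rw [hzI] at hmemZ
    exact hmemZ hmemU
  -- finite data
  have hspan : Ideal.span ((algebraMap R B) '' (I : Set R)) = ⊤ := hIB
  obtain ⟨s', hs'sub, hs'top⟩ := (Ideal.span_eq_top_iff_finite _).mp hspan
  have h1mem : (1 : B) ∈ Ideal.span (s' : Set B) := by rw [hs'top]; trivial
  obtain ⟨f, -, hf⟩ := Submodule.mem_span_finset.mp h1mem
  simp only [smul_eq_mul] at hf
  -- the subalgebra
  let B₂ : Subalgebra R B := Algebra.adjoin R ((s'.image f : Finset B) : Set B)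
  have hfmem : ∀ y ∈ s', f y ∈ B₂ := fun y hy =>
    Algebra.subset_adjoin (Finset.mem_coe.mpr (Finset.mem_image_of_mem f hy))
  have hymem : ∀ y ∈ s', y ∈ B₂ := by
    intro y hy
    obtain ⟨x, -, rfl⟩ := hs'sub hy
    exact Subalgebra.algebraMap_mem _ _
  have htop : B₂ = ⊤ := by
    rw [eq_top_iff]
    rintro b -
    -- conductor of b into B₂ as ideal of B₂
    let 𝔠 : Ideal B₂ :=
      { carrier := {r | (r : B) * b ∈ B₂}
        add_mem' := fun {r r'} hr hr' => by
          change ((r + r' : B₂) : B) * b ∈ B₂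
          rw [Subalgebra.coe_add, add_mul]; exact B₂.add_mem hr hr'
        zero_mem' := by
          change ((0 : B₂) : B) * b ∈ B₂
          rw [Subalgebra.coe_zero, zero_mul]; exact B₂.zero_mem
        smul_mem' := fun c r hr => by
          change ((c • r : B₂) : B) * b ∈ B₂
          rw [smul_eq_mul, Subalgebra.coe_mul, mul_assoc]; exact B₂.mul_mem c.2 hr }
    -- powers
    have hpow : ∀ y : s', ∃ m : ℕ, ((⟨y.1, hymem y.1 y.2⟩ : B₂) ^ m) ∈ 𝔠 := by
      intro y
      obtain ⟨x, hx, hxy⟩ := hs'sub y.2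
      obtain ⟨m, hm⟩ := hrad b hx
      obtain ⟨r', hr'⟩ := mem_cond.mp hm
      refine ⟨m, ?_⟩
      change ((⟨y.1, hymem y.1 y.2⟩ : B₂) ^ m : B₂).1 * b ∈ B₂
      rw [Subalgebra.coe_pow]
      change y.1 ^ m * b ∈ B₂
      rw [← hxy, ← map_pow, ← Algebra.smul_def, ← hr']
      exact Subalgebra.algebraMap_mem _ _
    choose m hm using hpow
    let n : ℕ := Finset.univ.sup m
    have hpow' : ∀ y : s', ((⟨y.1, hymem y.1 y.2⟩ : B₂) ^ n) ∈ 𝔠 := by
      intro y
      have hle : m y ≤ n := Finset.le_sup (Finset.mem_univ y)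
      obtain ⟨d, hd⟩ := Nat.exists_eq_add_of_le hle
      rw [hd, pow_add]
      exact 𝔠.mul_mem_right _ (hm y)
    -- the y's generate the unit ideal of B₂
    let T : Set B₂ := Set.range (fun y : s' => (⟨y.1, hymem y.1 y.2⟩ : B₂))
    have hT : Ideal.span T = ⊤ := by
      rw [Ideal.eq_top_iff_one]
      have h1 : (1 : B₂) = ∑ y ∈ s'.attach, (⟨f y.1, hfmem y.1 y.2⟩ : B₂) * ⟨y.1, hymem y.1 y.2⟩ := by
        apply Subtype.ext
        rw [Subalgebra.coe_one]
        rw [← hf, ← Finset.sum_attach s']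
        simp only [AddSubmonoidClass.coe_finsetSum, Subalgebra.coe_mul]
      rw [h1]
      refine Ideal.sum_mem _ (fun y _ => Ideal.mul_mem_left _ _ (Ideal.subset_span ⟨y, rfl⟩))
    have hTn := Ideal.span_pow_eq_top T hT n
    have hle : Ideal.span ((fun x : B₂ => x ^ n) '' T) ≤ 𝔠 := by
      rw [Ideal.span_le]
      rintro _ ⟨_, ⟨y, rfl⟩, rfl⟩
      exact hpow' y
    rw [hTn] at hle
    have h1 : (1 : B₂) ∈ 𝔠 := hle trivial
    have : ((1 : B₂) : B) * b ∈ B₂ := h1
    rwa [Subalgebra.coe_one, one_mul] at this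
  exact ⟨⟨s'.image f, htop⟩⟩

end

end Groth.Agent.H51
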