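import Groth.Agent.H51.SrcRep
import Groth.Agent.H52.Topology
import Groth.Prelude.Def_AlgSpCov
import Mathlib.AlgebraicGeometry.PullbackCarrier

/-! Etale coverings of algebraic spaces and locality on the source (helper51). -/

set_option autoImplicit false
set_option linter.style.haveILetI false
universe u
open CategoryTheory CategoryTheory.Limits AlgebraicGeometry
open AlgSp

namespace Groth.Agent.H51

variable {S : Scheme.{u}}

theorem exists_preimage_of_isPullback {P X Y Z : Scheme.{u}} {fst : P ⟶ X} {snd : P ⟶ Y}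
    {f : X ⟶ Z} {g : Y ⟶ Z} (sq : IsPullback fst snd f g) (x : X) (y : Y) (h : f x = g y) :
    ∃ z : P, fst z = x ∧ snd z = y := by
  obtain ⟨z, hz1, hz2⟩ := Scheme.Pullback.exists_preimage_pullback (f := f) (g := g) x y h
  refine ⟨sq.isoPullback.inv z, ?_, ?_⟩
  · rw [← Scheme.Hom.comp_apply, sq.isoPullback_inv_fst]; exact hz1
  · rw [← Scheme.Hom.comp_apply, sq.isoPullback_inv_snd]; exact hz2

/-- Family version of `repWith_etale_of_comp_surjective_etale`. -/
theorem repWith_etale_of_comp_jointly_surjective_etale {F : Sp S} (hF : IsAlgSpace F)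
    {U' : Over S} (φ' : (yon S).obj U' ⟶ F)
    (H : ∀ u' : U'.left, ∃ (U : Over S) (χ : U ⟶ U') (u : U.left), Etale χ.left ∧ χ.left u = u' ∧
      RepWith @Etale ((yon S).map χ ≫ φ')) : RepWith @Etale φ' := by
  have hrep : Representable φ' := hF.representable_from_yon φ'
  refine MorphismProperty.relative_of_snd hrep (fun T g' => ?_)
  change Etale (hrep.snd g').left
  obtain ⟨p, hp⟩ := (yon S).map_surjective (hrep.fst g')
  have sqb := hrep.isPullback g'
  rw [← hp] at sqb
  apply etale_of_etale_jointly_surjective_comp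
  intro v
  obtain ⟨U, χ, u, hχ, hu, h⟩ := H (p.left v)
  have sqt : IsPullback ((yon S).map (pullback.snd p χ)) ((yon S).map (pullback.fst p χ))
      ((yon S).map χ) ((yon S).map p) :=
    ((IsPullback.of_hasPullback p χ).map (yon S)).flip
  have sq := sqt.paste_vert sqb
  rw [← Functor.map_comp] at sq
  have hE : Etale (pullback.fst p χ ≫ hrep.snd g').left := h.2 g' _ _ sq
  have sqS : IsPullback (pullback.fst p χ).left (pullback.snd p χ).left p.left χ.left :=
    (IsPullback.of_hasPullback p χ).map (Over.forget S)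
  have : Etale (pullback.fst p χ).left :=
    MorphismProperty.of_isPullback (P := @Etale) sqS.flip hχ
  obtain ⟨z, hz1, -⟩ := exists_preimage_of_isPullback sqS v u hu.symm
  refine ⟨(pullback p χ).left, (pullback.fst p χ).left, z, this, hz1, ?_⟩
  rw [← Over.comp_left]; exact hE

/-- Chart refinement along an etale covering: for an etale covering `g i : Xi i ⟶ X` by algebraic
spaces, a representable etale `φ : h_W ⟶ X` and a point `w` of `W`, there are `i`, an etale
`q : T ⟶ W` hitting `w` and a representable etale `e : h_T ⟶ Xi i` with `h_q ≫ φ = e ≫ g i`. -/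
theorem exists_chart_refinement {ι : Type u} {X : Sp S} (Xi : ι → Sp S) (g : ∀ i, Xi i ⟶ X)
    (hXi : ∀ i, IsAlgSpace (Xi i)) (hg : IsEtCover Xi g) {W : Over S}
    (φ : (yon S).obj W ⟶ X) (hφ : RepWith @Etale φ) (w : W.left) :
    ∃ (i : ι) (T : Over S) (q : T ⟶ W) (t : T.left) (e : (yon S).obj T ⟶ Xi i),
      Etale q.left ∧ q.left t = w ∧ RepWith @Etale e ∧ (yon S).map q ≫ φ = e ≫ g i := by
  have inst2 := AlgSp.repWith_isMultiplicative (S := S) @Etale
  obtain ⟨i, xi, hxi⟩ := hg.2 (Points.ofPt φ w)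
  obtain ⟨Wi, c, hc, hcs⟩ := (hXi i).atlas
  obtain ⟨wi, rfl⟩ := Groth.Agent.H52.surjective_ofPt_of_surjective c hcs xi
  rw [Points.map_ofPt] at hxi
  have hd : RepWith @Etale (c ≫ g i) := hg.1 i c hc
  have sq := hφ.rep.isPullback (c ≫ g i)
  obtain ⟨q, hq⟩ := (yon S).map_surjective (hφ.rep.fst (c ≫ g i))
  rw [← hq] at sq
  have hqE : Etale q.left := hd.2 φ _ q sq.flip
  have hsE : Etale (hφ.rep.snd (c ≫ g i)).left := hφ.property_snd _
  obtain ⟨t, ht1, ht2⟩ := Groth.Agent.H52.exists_of_ofPt_eq_ofPt sq w wi hxi.symm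
  refine ⟨i, _, q, t, (yon S).map (hφ.rep.snd (c ≫ g i)) ≫ c, hqE, ht1, ?_, ?_⟩
  · exact (RepWith @Etale).comp_mem _ _ ((repWith_yon_map_iff _ _).2 hsE) hc
  · rw [sq.w, Category.assoc]

/-- `IsEtaleMor` is etale local on the source. -/
theorem isLocalOnSource_etale_isEtaleMor (S : Scheme.{u}) :
    AlgSp.IsLocalOnSource (AlgSp.IsEtCover (S := S)) AlgSp.IsEtaleMor := by
  intro ι X Xi g hX hXi hg Y f hY
  constructor
  · intro hf i W φ hφ
    rw [← Category.assoc]
    exact hf _ (hg.1 i φ hφ)
  · intro hf W φ hφ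
    refine repWith_etale_of_comp_jointly_surjective_etale hY (φ ≫ f) (fun w => ?_)
    obtain ⟨i, T, q, t, e, hq, ht, he, hw⟩ := exists_chart_refinement Xi g hXi hg φ hφ w
    refine ⟨T, q, t, hq, ht, ?_⟩
    rw [← Category.assoc, hw, Category.assoc]
    exact hf i e he

/-- `LocP P` is etale local on the source as soon as `P` is etale local on the source for
schemes (family form). -/
theorem isLocalOnSource_etale_locP (S : Scheme.{u}) (P : MorphismProperty Scheme.{u})
    (hP : ∀ {X Y : Scheme.{u}} (g : X ⟶ Y),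
      (∀ x : X, ∃ (X' : Scheme.{u}) (f : X' ⟶ X) (x' : X'), Etale f ∧ f x' = x ∧ P (f ≫ g)) →
      P g) :
    AlgSp.IsLocalOnSource (AlgSp.IsEtCover (S := S)) (AlgSp.LocP P) := by
  intro ι X Xi g hX hXi hg Y f hY
  constructor
  · intro hf i U V a b h ha hb hw
    exact hf (a ≫ g i) b h (hg.1 i a ha) hb (by rw [Category.assoc]; exact hw)
  · intro hf U V a b h ha hb hw
    apply hP
    intro u
    obtain ⟨i, T, q, t, e, hq, ht, he, hw'⟩ := exists_chart_refinement Xi g hXi hg a ha u
    refine ⟨T.left, q.left, t, hq, ht, ?_⟩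
    rw [← Over.comp_left]
    refine hf i e b (q ≫ h) he hb ?_
    rw [Functor.map_comp, Category.assoc, ← hw, ← Category.assoc e, ← hw', Category.assoc]

end Groth.Agent.H51
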