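import Groth.Agent.H51.SrcFT
import Mathlib.AlgebraicGeometry.Morphisms.Etale
import Mathlib.AlgebraicGeometry.Morphisms.Flat
import Mathlib.AlgebraicGeometry.Morphisms.UniversallyOpen
import Mathlib.AlgebraicGeometry.Morphisms.QuasiFinite
import Mathlib.AlgebraicGeometry.Morphisms.FormallyUnramified
import Mathlib.RingTheory.Etale.Kaehler

/-! Etale-local on the source (helper51): ring-level descent facts along an etale faithfully flat
map `B → C` and the scheme-level reduction: if `f : X' ⟶ X` is etale surjective and `P (f ≫ g)`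
then `P g`, for `P` given by a ring hom property `Q` that descends. -/

set_option autoImplicit false
set_option linter.unusedSectionVars false
set_option linter.style.haveILetI false
universe u
open CategoryTheory AlgebraicGeometry TopologicalSpace TensorProduct

namespace Groth.Agent.H51

/-! ### ring level -/

theorem formallyUnramified_of_formallyEtale_of_faithfullyFlat (A B C : Type u) [CommRing A]
    [CommRing B] [CommRing C] [Algebra A B] [Algebra B C] [Algebra A C] [IsScalarTower A B C]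
    [Algebra.FormallyEtale B C] [Module.FaithfullyFlat B C] [Algebra.FormallyUnramified A C] :
    Algebra.FormallyUnramified A B := by
  constructor
  have e := KaehlerDifferential.tensorKaehlerEquivOfFormallyEtale A B C
  haveI : Subsingleton (C ⊗[B] Ω[B⁄A]) := e.toEquiv.subsingleton
  exact Module.FaithfullyFlat.lTensor_reflects_triviality B C _

theorem quasiFinite_of_faithfullyFlat (A B C : Type u) [CommRing A]
    [CommRing B] [CommRing C] [Algebra A B] [Algebra B C] [Algebra A C] [IsScalarTower A B C]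
    [Module.FaithfullyFlat B C] [Algebra.QuasiFinite A C] [Algebra.FiniteType A B] :
    Algebra.QuasiFinite A B := by
  rw [Algebra.QuasiFinite.iff_finite_comap_preimage_singleton]
  intro x
  refine ((Algebra.QuasiFinite.finite_comap_preimage_singleton (R := A) (S := C) x).image
    (PrimeSpectrum.comap (algebraMap B C))).subset ?_
  intro q hq
  obtain ⟨r, rfl⟩ := PrimeSpectrum.comap_surjective_of_faithfullyFlat (B := C) q
  refine ⟨r, ?_, rfl⟩
  simp only [Set.mem_preimage, Set.mem_singleton_iff] at hq ⊢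
  rw [← hq, IsScalarTower.algebraMap_eq A B C, PrimeSpectrum.comap_comp_apply]

section RingHom

variable {A B C : Type u} [CommRing A] [CommRing B] [CommRing C]

theorem ringHom_finiteType_of_comp (φ : A →+* B) (ψ : B →+* C) (h1 : ψ.Etale)
    (h2 : ψ.FaithfullyFlat) (h3 : (ψ.comp φ).FiniteType) : φ.FiniteType := by
  letI := φ.toAlgebra
  letI := ψ.toAlgebra
  letI := (ψ.comp φ).toAlgebra
  haveI : IsScalarTower A B C := IsScalarTower.of_algebraMap_eq' rfl
  haveI : Algebra.Etale B C := h1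
  haveI : Module.FaithfullyFlat B C := h2
  haveI : Algebra.FiniteType A C := h3
  exact finiteType_of_etale_of_faithfullyFlat A B C

theorem ringHom_formallyUnramified_of_comp (φ : A →+* B) (ψ : B →+* C) (h1 : ψ.Etale)
    (h2 : ψ.FaithfullyFlat) (h3 : (ψ.comp φ).FormallyUnramified) : φ.FormallyUnramified := by
  letI := φ.toAlgebra
  letI := ψ.toAlgebra
  letI := (ψ.comp φ).toAlgebra
  haveI : IsScalarTower A B C := IsScalarTower.of_algebraMap_eq' rfl
  haveI : Algebra.Etale B C := h1
  haveI : Module.FaithfullyFlat B C := h2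
  haveI : Algebra.FormallyUnramified A C := h3
  exact formallyUnramified_of_formallyEtale_of_faithfullyFlat A B C

theorem ringHom_quasiFinite_of_comp (φ : A →+* B) (ψ : B →+* C)
    (h2 : ψ.FaithfullyFlat) (h3 : (ψ.comp φ).QuasiFinite) (h4 : φ.FiniteType) :
    φ.QuasiFinite := by
  letI := φ.toAlgebra
  letI := ψ.toAlgebra
  letI := (ψ.comp φ).toAlgebra
  haveI : IsScalarTower A B C := IsScalarTower.of_algebraMap_eq' rfl
  haveI : Module.FaithfullyFlat B C := h2
  haveI : Algebra.QuasiFinite A C := h3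
  haveI : Algebra.FiniteType A B := h4
  exact quasiFinite_of_faithfullyFlat A B C

end RingHom

/-! ### scheme level -/

theorem exists_affine_etale_chart {X' X Y : Scheme.{u}} (f : X' ⟶ X) (g : X ⟶ Y) [Etale f]
    [Surjective f] (x : X) :
    ∃ (U : Y.Opens) (V : X.Opens) (W : X'.Opens) (_ : IsAffineOpen U) (_ : IsAffineOpen V)
      (_ : IsAffineOpen W) (_ : x ∈ V) (_ : V ≤ g ⁻¹ᵁ U) (e' : W ≤ f ⁻¹ᵁ V),
      Surjective (f.resLE V W e') := by
  obtain ⟨x', rfl⟩ := f.surjective x
  obtain ⟨U, hU, hgx, -⟩ := Opens.isBasis_iff_nbhd.mp Y.isBasis_affineOpens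
    (Opens.mem_top (g (f x')))
  obtain ⟨V₀, hV₀, hxV₀, e₀⟩ := Opens.isBasis_iff_nbhd.mp X.isBasis_affineOpens
    (show f x' ∈ g ⁻¹ᵁ U from hgx)
  obtain ⟨W₀, hW₀, hxW₀, e₁⟩ := Opens.isBasis_iff_nbhd.mp X'.isBasis_affineOpens
    (show x' ∈ f ⁻¹ᵁ V₀ from hxV₀)
  let O : X.Opens := ⟨f '' W₀, f.isOpenMap _ W₀.2⟩
  have hxO : f x' ∈ O := ⟨x', hxW₀, rfl⟩
  obtain ⟨h, hle, hxh⟩ := hV₀.exists_basicOpen_le ⟨f x', hxO⟩ hxV₀
  have e' : X'.basicOpen (f.appLE V₀ W₀ e₁ h) ≤ f ⁻¹ᵁ X.basicOpen h := by
    rw [Scheme.basicOpen_appLE]; exact inf_le_right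
  refine ⟨U, X.basicOpen h, X'.basicOpen (f.appLE V₀ W₀ e₁ h), hU, hV₀.basicOpen h,
    hW₀.basicOpen _, hxh, (X.basicOpen_le h).trans e₀, e', ?_⟩
  refine ⟨fun v => ?_⟩
  have hv : (X.basicOpen h).ι v ∈ X.basicOpen h := v.2
  obtain ⟨w, hw, hwv⟩ := hle hv
  have hwW : w ∈ X'.basicOpen (f.appLE V₀ W₀ e₁ h) := by
    rw [Scheme.basicOpen_appLE]
    refine ⟨hw, ?_⟩
    change f w ∈ X.basicOpen h
    rw [hwv]; exact hv
  let w' : (X'.basicOpen (f.appLE V₀ W₀ e₁ h)).toScheme := ⟨w, hwW⟩
  refine ⟨w', ?_⟩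
  apply (X.basicOpen h).ι.isOpenEmbedding.injective
  have key : (X.basicOpen h).ι (f.resLE _ _ e' w') =
      f ((X'.basicOpen (f.appLE V₀ W₀ e₁ h)).ι w') := by
    rw [← Scheme.Hom.comp_apply, ← Scheme.Hom.comp_apply, Scheme.Hom.resLE_comp_ι]
  rw [key]
  exact hwv

theorem of_etale_surjective_comp {P : MorphismProperty Scheme.{u}}
    {Q : ∀ {R S : Type u} [CommRing R] [CommRing S], (R →+* S) → Prop}
    [HasRingHomProperty P Q] [P.RespectsRight @IsOpenImmersion]
    (hQ : ∀ {A B C : Type u} [CommRing A] [CommRing B] [CommRing C] (φ : A →+* B)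
      (ψ : B →+* C), ψ.Etale → ψ.FaithfullyFlat → Q (ψ.comp φ) → Q φ)
    {X' X Y : Scheme.{u}} (f : X' ⟶ X) (g : X ⟶ Y) [Etale f] [Surjective f]
    (h : P (f ≫ g)) : P g := by
  rw [IsZariskiLocalAtSource.iff_exists_resLE (P := P)]
  intro x
  obtain ⟨U, V, W, hU, hV, hW, hxV, e, e', hsurj⟩ := exists_affine_etale_chart f g x
  refine ⟨U, V, hxV, e, ?_⟩
  haveI : IsAffine U.toScheme := hU
  haveI : IsAffine V.toScheme := hV
  haveI : IsAffine W.toScheme := hW
  have h1 : P ((f ≫ g).resLE U W (e'.trans ((Opens.map f.base).map (homOfLE e)).le)) :=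
    IsZariskiLocalAtSource.resLE _ h
  rw [← Scheme.Hom.resLE_comp_resLE] at h1
  rw [HasRingHomProperty.iff_of_isAffine (P := P)] at h1 ⊢
  rw [Scheme.Hom.comp_appTop] at h1
  apply hQ _ (f.resLE V W e').appTop.hom
  · exact HasRingHomProperty.appTop (P := @Etale) _ inferInstance
  · exact (Flat.flat_and_surjective_iff_faithfullyFlat_of_isAffine
      (f := f.resLE V W e')).mp ⟨inferInstance, hsurj⟩
  · exact h1

theorem respectsRight_isOpenImmersion_of_le (P : MorphismProperty Scheme.{u})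
    [P.IsStableUnderComposition] (h : @IsOpenImmersion ≤ P) :
    P.RespectsRight @IsOpenImmersion :=
  ⟨fun i hi f hf => P.comp_mem f i hf (h _ hi)⟩

theorem locallyOfFiniteType_of_etale_surjective_comp {X' X Y : Scheme.{u}} (f : X' ⟶ X)
    (g : X ⟶ Y) [Etale f] [Surjective f] [LocallyOfFiniteType (f ≫ g)] :
    LocallyOfFiniteType g := by
  haveI := respectsRight_isOpenImmersion_of_le @LocallyOfFiniteType
    (fun _ _ i (hi : IsOpenImmersion i) => inferInstance)
  exact of_etale_surjective_comp (P := @LocallyOfFiniteType)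
    (fun φ ψ h1 h2 h3 => ringHom_finiteType_of_comp φ ψ h1 h2 h3) f g inferInstance

theorem formallyUnramified_of_etale_surjective_comp {X' X Y : Scheme.{u}} (f : X' ⟶ X)
    (g : X ⟶ Y) [Etale f] [Surjective f] [FormallyUnramified (f ≫ g)] :
    FormallyUnramified g := by
  haveI := respectsRight_isOpenImmersion_of_le @FormallyUnramified
    (fun _ _ i (hi : IsOpenImmersion i) => inferInstance)
  exact of_etale_surjective_comp (P := @FormallyUnramified)
    (fun φ ψ h1 h2 h3 => ringHom_formallyUnramified_of_comp φ ψ h1 h2 h3) f g inferInstance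

theorem locallyQuasiFinite_of_etale_surjective_comp {X' X Y : Scheme.{u}} (f : X' ⟶ X)
    (g : X ⟶ Y) [Etale f] [Surjective f] [LocallyQuasiFinite (f ≫ g)]
    [LocallyOfFiniteType (f ≫ g)] : LocallyQuasiFinite g := by
  have r1 := respectsRight_isOpenImmersion_of_le @LocallyOfFiniteType
    (fun _ _ i (hi : IsOpenImmersion i) => inferInstance)
  have r2 : MorphismProperty.RespectsRight (@LocallyQuasiFinite.{u}) @IsOpenImmersion :=
    (inferInstance : MorphismProperty.Respects (@LocallyQuasiFinite.{u})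
      @IsOpenImmersion).toRespectsRight
  haveI : MorphismProperty.RespectsRight (@LocallyQuasiFinite.{u} ⊓ @LocallyOfFiniteType.{u})
      @IsOpenImmersion :=
    ⟨fun i hi f hf => ⟨r2.postcomp i hi f hf.1, r1.postcomp i hi f hf.2⟩⟩
  haveI : HasRingHomProperty (@LocallyQuasiFinite ⊓ @LocallyOfFiniteType)
      (fun f => RingHom.QuasiFinite f ∧ RingHom.FiniteType f) := HasRingHomProperty.inf
  have := of_etale_surjective_comp (P := @LocallyQuasiFinite ⊓ @LocallyOfFiniteType)
    (Q := fun f => RingHom.QuasiFinite f ∧ RingHom.FiniteType f)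
    (fun φ ψ h1 h2 h3 => ⟨ringHom_quasiFinite_of_comp φ ψ h2 h3.1
        (ringHom_finiteType_of_comp φ ψ h1 h2 h3.2),
      ringHom_finiteType_of_comp φ ψ h1 h2 h3.2⟩) f g ⟨inferInstance, inferInstance⟩
  exact this.1

end Groth.Agent.H51
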