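import Groth.Agent.H51.SrcFP
import Groth.Agent.H51.SrcSch
import Mathlib.RingTheory.RingHom.Etale

/-! Etale is etale-local on the source (helper51). Ring level: `A → B → C`, `B → C` etale and
faithfully flat, `A → C` etale ⟹ `A → B` etale. Scheme level: `f : X' ⟶ X` etale surjective,
`f ≫ g` etale ⟹ `g` etale; also for locally of finite presentation and flat. -/

set_option autoImplicit false
set_option linter.unusedSectionVars false
set_option linter.style.haveILetI false
universe u
open CategoryTheory AlgebraicGeometry TopologicalSpace TensorProduct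

namespace Groth.Agent.H51

theorem flat_of_flat_of_faithfullyFlat (A B C : Type u) [CommRing A] [CommRing B] [CommRing C]
    [Algebra A B] [Algebra B C] [Algebra A C] [IsScalarTower A B C] [Module.Flat A C]
    [Module.FaithfullyFlat B C] : Module.Flat A B := by
  rw [Module.Flat.iff_lTensor_preserves_injective_linearMap]
  intro N N' _ _ _ _ f hf
  have h1 : Function.Injective (f.baseChange B) := by
    rw [← Module.FaithfullyFlat.lTensor_injective_iff_injective B C]
    have key : ∀ x, AlgebraTensorModule.cancelBaseChange A B C C N'
        (LinearMap.lTensor C (f.baseChange B) x) =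
        LinearMap.lTensor C f (AlgebraTensorModule.cancelBaseChange A B C C N x) := by
      intro x
      induction x using TensorProduct.induction_on with
      | zero => simp
      | add x y hx hy => simp only [map_add, hx, hy]
      | tmul c y =>
        induction y using TensorProduct.induction_on with
        | zero => simp
        | add y z hy hz => simp only [TensorProduct.tmul_add, map_add, hy, hz]
        | tmul b n => simp
    intro x y hxy
    have h2 := congrArg (AlgebraTensorModule.cancelBaseChange A B C C N') hxy
    rw [key, key] at h2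
    have h3 := Module.Flat.lTensor_preserves_injective_linearMap (M := C) f hf h2
    exact (AlgebraTensorModule.cancelBaseChange A B C C N).injective h3
  exact h1

theorem etale_of_etale_of_faithfullyFlat (A B C : Type u) [CommRing A] [CommRing B] [CommRing C]
    [Algebra A B] [Algebra B C] [Algebra A C] [IsScalarTower A B C] [Algebra.Etale B C]
    [Module.FaithfullyFlat B C] [Algebra.Etale A C] : Algebra.Etale A B := by
  haveI : Algebra.FinitePresentation A B := finitePresentation_of_etale_of_faithfullyFlat A B C
  haveI : Module.Flat A B := flat_of_flat_of_faithfullyFlat A B C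
  haveI : Algebra.FormallyUnramified A B :=
    formallyUnramified_of_formallyEtale_of_faithfullyFlat A B C
  exact Algebra.Etale.of_formallyUnramified_of_flat

section RingHom

variable {A B C : Type u} [CommRing A] [CommRing B] [CommRing C]

theorem ringHom_finitePresentation_of_comp (φ : A →+* B) (ψ : B →+* C) (h1 : ψ.Etale)
    (h2 : ψ.FaithfullyFlat) (h3 : (ψ.comp φ).FinitePresentation) : φ.FinitePresentation := by
  letI := φ.toAlgebra
  letI := ψ.toAlgebra
  letI := (ψ.comp φ).toAlgebra
  haveI : IsScalarTower A B C := IsScalarTower.of_algebraMap_eq' rfl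
  haveI : Algebra.Etale B C := h1
  haveI : Module.FaithfullyFlat B C := h2
  haveI : Algebra.FinitePresentation A C := h3
  exact finitePresentation_of_etale_of_faithfullyFlat A B C

theorem ringHom_flat_of_comp (φ : A →+* B) (ψ : B →+* C)
    (h2 : ψ.FaithfullyFlat) (h3 : (ψ.comp φ).Flat) : φ.Flat := by
  letI := φ.toAlgebra
  letI := ψ.toAlgebra
  letI := (ψ.comp φ).toAlgebra
  haveI : IsScalarTower A B C := IsScalarTower.of_algebraMap_eq' rfl
  haveI : Module.FaithfullyFlat B C := h2
  haveI : Module.Flat A C := h3
  exact flat_of_flat_of_faithfullyFlat A B C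

theorem ringHom_etale_of_comp (φ : A →+* B) (ψ : B →+* C) (h1 : ψ.Etale)
    (h2 : ψ.FaithfullyFlat) (h3 : (ψ.comp φ).Etale) : φ.Etale := by
  letI := φ.toAlgebra
  letI := ψ.toAlgebra
  letI := (ψ.comp φ).toAlgebra
  haveI : IsScalarTower A B C := IsScalarTower.of_algebraMap_eq' rfl
  haveI : Algebra.Etale B C := h1
  haveI : Module.FaithfullyFlat B C := h2
  haveI : Algebra.Etale A C := h3
  exact etale_of_etale_of_faithfullyFlat A B C

end RingHom

theorem etale_of_etale_surjective_comp {X' X Y : Scheme.{u}} (f : X' ⟶ X)
    (g : X ⟶ Y) [Etale f] [Surjective f] [Etale (f ≫ g)] : Etale g := by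
  haveI : MorphismProperty.IsStableUnderComposition (@Etale.{u}) :=
    (inferInstance : MorphismProperty.IsMultiplicative (@Etale.{u})).toIsStableUnderComposition
  haveI := respectsRight_isOpenImmersion_of_le @Etale
    (fun _ _ i (hi : IsOpenImmersion i) => inferInstance)
  exact of_etale_surjective_comp (P := @Etale)
    (fun φ ψ h1 h2 h3 => ringHom_etale_of_comp φ ψ h1 h2 h3) f g inferInstance

theorem locallyOfFinitePresentation_of_etale_surjective_comp {X' X Y : Scheme.{u}} (f : X' ⟶ X)
    (g : X ⟶ Y) [Etale f] [Surjective f] [LocallyOfFinitePresentation (f ≫ g)] :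
    LocallyOfFinitePresentation g := by
  haveI := respectsRight_isOpenImmersion_of_le @LocallyOfFinitePresentation
    (fun _ _ i (hi : IsOpenImmersion i) => inferInstance)
  exact of_etale_surjective_comp (P := @LocallyOfFinitePresentation)
    (fun φ ψ h1 h2 h3 => ringHom_finitePresentation_of_comp φ ψ h1 h2 h3) f g inferInstance

theorem flat_of_etale_surjective_comp {X' X Y : Scheme.{u}} (f : X' ⟶ X)
    (g : X ⟶ Y) [Etale f] [Surjective f] [Flat (f ≫ g)] : Flat g := by
  haveI := respectsRight_isOpenImmersion_of_le @Flat
    (fun _ _ i (hi : IsOpenImmersion i) => inferInstance)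
  exact of_etale_surjective_comp (P := @Flat)
    (fun φ ψ _ h2 h3 => ringHom_flat_of_comp φ ψ h2 h3) f g inferInstance

end Groth.Agent.H51
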