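import Groth.Agent.H51.SrcFT
import Mathlib.RingTheory.Spectrum.Prime.Chevalley
import Mathlib.RingTheory.Flat.EquationalCriterion
import Mathlib.RingTheory.Ideal.GoingDown
import Mathlib.RingTheory.Smooth.Fiber

/-! Descent of finite presentation along an etale faithfully flat map on the source
(ring level, helper51): `A → B → C`, `B → C` etale and faithfully flat, `A → C` of finite
presentation ⟹ `A → B` of finite presentation. -/

set_option autoImplicit false
set_option linter.unusedSectionVars false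
set_option linter.style.haveILetI false
universe u
open TensorProduct

namespace Groth.Agent.H51

/-- If `B₀ ↠ B`, and `C` is a flat finitely presented `B₀`-algebra factoring through `B` such that
`Spec C → Spec B` is surjective, then the kernel of `B₀ → B` is generated by an idempotent. -/
theorem ker_fg_of_flat_of_finitePresentation_of_comap_surjective
    (B₀ B C : Type u) [CommRing B₀] [CommRing B] [CommRing C] [Algebra B₀ B] [Algebra B C]
    [Algebra B₀ C] [IsScalarTower B₀ B C] [Module.Flat B₀ C] [Algebra.FinitePresentation B₀ C]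
    (hsurj : Function.Surjective (algebraMap B₀ B))
    (hspec : Function.Surjective (PrimeSpectrum.comap (algebraMap B C))) :
    (RingHom.ker (algebraMap B₀ B)).FG := by
  classical
  set N := RingHom.ker (algebraMap B₀ B) with hN
  have hNC : ∀ n ∈ N, algebraMap B₀ C n = 0 := by
    intro n hn
    rw [IsScalarTower.algebraMap_apply B₀ B C, (RingHom.mem_ker).mp hn, map_zero]
  set Z := Set.range (PrimeSpectrum.comap (algebraMap B₀ C)) with hZdef
  have hZopen : IsOpen Z :=
    (PrimeSpectrum.isOpenMap_comap_of_hasGoingDown_of_finitePresentation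
      (R := B₀) (S := C)).isOpen_range
  have hZ : Z = PrimeSpectrum.zeroLocus (N : Set B₀) := by
    rw [hN, ← range_comap_of_surjective _ _ hsurj]
    apply Set.Subset.antisymm
    · rintro _ ⟨q, rfl⟩
      refine ⟨PrimeSpectrum.comap (algebraMap B C) q, ?_⟩
      rw [← PrimeSpectrum.comap_comp_apply, ← IsScalarTower.algebraMap_eq]
    · rintro _ ⟨p', rfl⟩
      obtain ⟨q, rfl⟩ := hspec p'
      refine ⟨q, ?_⟩
      rw [← PrimeSpectrum.comap_comp_apply, ← IsScalarTower.algebraMap_eq]
  have hclopen : IsClopen Z := ⟨hZ ▸ PrimeSpectrum.isClosed_zeroLocus _, hZopen⟩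
  obtain ⟨e, he, hZe⟩ := PrimeSpectrum.isClopen_iff_zeroLocus.mp hclopen
  have hVV : PrimeSpectrum.zeroLocus (N : Set B₀) =
      PrimeSpectrum.zeroLocus ((Ideal.span {e} : Ideal B₀) : Set B₀) := by
    rw [PrimeSpectrum.zeroLocus_span, ← hZ, hZe]
  -- e ∈ N
  have heN : e ∈ N := by
    have h1 : Ideal.span {e} ≤ N.radical :=
      (PrimeSpectrum.zeroLocus_subset_zeroLocus_iff _ _).mp hVV.le
    obtain ⟨k, hk⟩ := h1 (Ideal.subset_span rfl)
    rcases k with _ | k
    · rw [pow_zero] at hk
      rw [(Ideal.eq_top_iff_one N).mpr hk]; trivial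
    · rwa [he.pow_succ_eq] at hk
  have hNrad : N ≤ (Ideal.span {e}).radical :=
    (PrimeSpectrum.zeroLocus_subset_zeroLocus_iff _ _).mp hVV.ge
  -- purity
  have hpure : ∀ n ∈ N, ∃ m ∈ N, n = n * m := by
    intro n hn
    have hrel : ∑ i : Unit, (fun _ => n) i • (fun _ => (1 : C)) i = 0 := by
      simp only [Finset.univ_unique, Finset.sum_singleton]
      rw [Algebra.smul_def, mul_one]; exact hNC n hn
    obtain ⟨k, a, y, h1, h2⟩ := Module.Flat.isTrivialRelation_of_sum_smul_eq_zero hrel
    have h1' : (1 : C) = ∑ j, a () j • y j := h1 ()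
    have h2' : ∀ j, n * a () j = 0 := by
      intro j; simpa using h2 j
    set J : Ideal B₀ := Ideal.span (Set.range (a ())) with hJ
    have hJann : ∀ b ∈ J, n * b = 0 := by
      intro b hb
      have : J ≤ (Ideal.span {n}).annihilator := by
        rw [hJ, Ideal.span_le]
        rintro _ ⟨j, rfl⟩
        exact Submodule.mem_annihilator_span_singleton _ _ |>.mpr
          (by rw [smul_eq_mul, mul_comm]; exact h2' j)
      have := (Submodule.mem_annihilator_span_singleton _ _).mp (this hb)
      rwa [smul_eq_mul, mul_comm] at this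
    have htop : J ⊔ N = ⊤ := by
      by_contra hne
      obtain ⟨p, hp, hle⟩ := Ideal.exists_le_maximal _ hne
      have hpZ : (⟨p, hp.isPrime⟩ : PrimeSpectrum B₀) ∈ Z := by
        rw [hZ]
        exact fun x hx => hle (Ideal.mem_sup_right hx)
      obtain ⟨q, hq⟩ := hpZ
      have hqa : ∀ j, algebraMap B₀ C (a () j) ∈ q.asIdeal := by
        intro j
        have : a () j ∈ (PrimeSpectrum.comap (algebraMap B₀ C) q).asIdeal := by
          rw [hq]
          exact hle (Ideal.mem_sup_left (Ideal.subset_span ⟨j, rfl⟩))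
        exact this
      apply q.isPrime.ne_top
      rw [Ideal.eq_top_iff_one, h1']
      refine Ideal.sum_mem _ fun j _ => ?_
      rw [Algebra.smul_def]
      exact Ideal.mul_mem_right _ _ (hqa j)
    have h1mem : (1 : B₀) ∈ J ⊔ N := by rw [htop]; trivial
    obtain ⟨a', ha', m, hm, ham⟩ := Submodule.mem_sup.mp h1mem
    refine ⟨m, hm, ?_⟩
    calc n = n * 1 := (mul_one n).symm
      _ = n * (a' + m) := by rw [ham]
      _ = n * m := by rw [mul_add, hJann a' ha', zero_add]
  have hmem : ∀ n ∈ N, n = e * n := by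
    intro n hn
    obtain ⟨m, hm, hnm⟩ := hpure n hn
    obtain ⟨k, hk⟩ := hNrad hm
    obtain ⟨c, hc⟩ := Ideal.mem_span_singleton'.mp hk
    have hpow : ∀ k : ℕ, n = n * m ^ k := by
      intro k
      induction k with
      | zero => rw [pow_zero, mul_one]
      | succ k ih => rw [pow_succ, ← mul_assoc, ← ih, ← hnm]
    have h0 : (1 - e) * n = 0 := by
      rw [hpow k, ← hc]
      have : (1 - e) * e = 0 := by rw [sub_mul, one_mul, he.eq, sub_self]
      calc (1 - e) * (n * (c * e)) = ((1 - e) * e) * (n * c) := by ring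
        _ = 0 := by rw [this, zero_mul]
    have : n - e * n = 0 := by rw [← h0]; ring
    exact sub_eq_zero.mp this
  have hNe : N = Ideal.span {e} := by
    apply le_antisymm
    · intro n hn
      rw [hmem n hn]
      exact Ideal.mul_mem_right _ _ (Ideal.subset_span rfl)
    · rw [Ideal.span_le]
      rintro _ rfl
      exact heN
  rw [hNe]
  exact ⟨{e}, by simp⟩

/-- Transport a submersive presentation of `C` over `B` to one over `B₀ ↠ B`, given lifts of
the relations that generate the kernel over `B₀`. -/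
theorem etale_of_surjective_of_submersivePresentation
    {B₀ B C : Type u} [CommRing B₀] [CommRing B] [CommRing C] [Algebra B₀ B] [Algebra B C]
    [Algebra B₀ C] [IsScalarTower B₀ B C]
    (hsurj : Function.Surjective (algebraMap B₀ B))
    {ι σ : Type} [Finite ι] [Finite σ] (Pr : Algebra.SubmersivePresentation B C ι σ)
    (hdim : Pr.dimension = 0)
    (F₀ : σ → MvPolynomial ι B₀)
    (hF₀ : ∀ j, MvPolynomial.map (algebraMap B₀ B) (F₀ j) = Pr.relation j)
    (hker : RingHom.ker (MvPolynomial.aeval (R := B₀) Pr.val) ≤ Ideal.span (Set.range F₀)) :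
    Algebra.Etale B₀ C := by
  classical
  have hcomp : ∀ q : MvPolynomial ι B₀, MvPolynomial.aeval (R := B₀) Pr.val q =
      MvPolynomial.aeval (R := B) Pr.val (MvPolynomial.map (algebraMap B₀ B) q) :=
    fun q => (MvPolynomial.aeval_map_algebraMap B Pr.val q).symm
  have hsurj' : Function.Surjective (MvPolynomial.aeval (R := B₀) Pr.val) := by
    intro c
    obtain ⟨q, hq⟩ := MvPolynomial.map_surjective (algebraMap B₀ B) hsurj (Pr.σ c)
    exact ⟨q, by rw [hcomp, hq, Pr.aeval_val_σ]⟩
  let G : Algebra.Generators B₀ C ι := Algebra.Generators.ofSurjective Pr.val hsurj'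
  have hGker : G.ker = RingHom.ker (MvPolynomial.aeval (R := B₀) Pr.val) :=
    G.ker_eq_ker_aeval_val
  let Pres : Algebra.Presentation B₀ C ι σ :=
    { toGenerators := G
      relation := F₀
      span_range_relation_eq_ker := by
        apply le_antisymm
        · rw [Ideal.span_le]
          rintro _ ⟨j, rfl⟩
          change F₀ j ∈ G.ker
          rw [hGker, RingHom.mem_ker, hcomp, hF₀, Pr.aeval_val_relation]
        · rw [hGker]; exact hker }
  let Pre : Algebra.PreSubmersivePresentation B₀ C ι σ :=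
    { toPresentation := Pres
      map := Pr.map
      map_inj := Pr.map_inj }
  have hdiff : Pre.aevalDifferential = Pr.aevalDifferential := by
    unfold Algebra.PreSubmersivePresentation.aevalDifferential
    congr 1
    funext j i
    change MvPolynomial.aeval (R := B₀) Pr.val (MvPolynomial.pderiv (Pr.map i) (F₀ j)) =
      MvPolynomial.aeval (R := B) Pr.val (MvPolynomial.pderiv (Pr.map i) (Pr.relation j))
    rw [hcomp, ← MvPolynomial.pderiv_map, hF₀]
  have hjac : IsUnit Pre.jacobian := by
    rw [Pre.isUnit_jacobian_iff_aevalDifferential_bijective, hdiff,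
      ← Pr.isUnit_jacobian_iff_aevalDifferential_bijective]
    exact Pr.jacobian_isUnit
  let Sub : Algebra.SubmersivePresentation B₀ C ι σ :=
    { toPreSubmersivePresentation := Pre
      jacobian_isUnit := hjac }
  have hd : Sub.dimension = 0 := hdim
  exact Algebra.Etale.iff_isStandardSmoothOfRelativeDimension_zero.mpr
    (Sub.isStandardSmoothOfRelativeDimension hd)

theorem exists_fg_le_mem_map {R S : Type*} [CommRing R] [CommRing S] (f : R →+* S)
    (I : Ideal R) (u : S) (hu : u ∈ I.map f) :
    ∃ I₀ : Ideal R, I₀ ≤ I ∧ I₀.FG ∧ u ∈ I₀.map f := by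
  unfold Ideal.map at hu
  induction hu using Submodule.span_induction with
  | mem x hx =>
    obtain ⟨i, hi, rfl⟩ := hx
    refine ⟨Ideal.span {i}, ?_, ⟨{i}, by simp⟩, ?_⟩
    · rw [Ideal.span_le]; rintro _ rfl; exact hi
    · exact Ideal.mem_map_of_mem f (Ideal.subset_span rfl)
  | zero => exact ⟨⊥, bot_le, Submodule.fg_bot, Ideal.zero_mem _⟩
  | add x y _ _ hx hy =>
    obtain ⟨I₁, h1, h1', h1''⟩ := hx
    obtain ⟨I₂, h2, h2', h2''⟩ := hy
    refine ⟨I₁ ⊔ I₂, sup_le h1 h2, Submodule.FG.sup h1' h2', ?_⟩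
    rw [Ideal.map_sup]
    exact Ideal.add_mem _ (Ideal.mem_sup_left h1'') (Ideal.mem_sup_right h2'')
  | smul a x _ hx =>
    obtain ⟨I₁, h1, h1', h1''⟩ := hx
    exact ⟨I₁, h1, h1', Ideal.mul_mem_left _ _ h1''⟩

theorem exists_fg_le_le_map_sup {R S : Type*} [CommRing R] [CommRing S] (f : R →+* S)
    (I : Ideal R) (J K : Ideal S) (hK : K.FG) (hle : K ≤ I.map f ⊔ J) :
    ∃ I₀ : Ideal R, I₀ ≤ I ∧ I₀.FG ∧ K ≤ I₀.map f ⊔ J := by
  revert hle
  refine Submodule.fg_induction (R := S) (M := S)
    (motive := fun K _ => K ≤ I.map f ⊔ J →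
      ∃ I₀ : Ideal R, I₀ ≤ I ∧ I₀.FG ∧ K ≤ I₀.map f ⊔ J) ?_ ?_ K hK
  · intro k hk
    have hk' : k ∈ I.map f ⊔ J := hk (Submodule.mem_span_singleton_self k)
    obtain ⟨u, hu, v, hv, rfl⟩ := Submodule.mem_sup.mp hk'
    obtain ⟨I₀, h1, h2, h3⟩ := exists_fg_le_mem_map f I u hu
    refine ⟨I₀, h1, h2, ?_⟩
    rw [Submodule.span_singleton_le_iff_mem]
    exact Submodule.add_mem _ (Ideal.mem_sup_left h3) (Ideal.mem_sup_right hv)
  · intro K₁ K₂ _ _ ih1 ih2 hle
    obtain ⟨I₁, h1, h1', h1''⟩ := ih1 (le_sup_left.trans hle)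
    obtain ⟨I₂, h2, h2', h2''⟩ := ih2 (le_sup_right.trans hle)
    refine ⟨I₁ ⊔ I₂, sup_le h1 h2, Submodule.FG.sup h1' h2', ?_⟩
    rw [Ideal.map_sup]
    refine sup_le (h1''.trans ?_) (h2''.trans ?_)
    · exact sup_le_sup_right le_sup_left _
    · exact sup_le_sup_right le_sup_right _

theorem finitePresentation_of_etale_of_faithfullyFlat (A B C : Type u) [CommRing A] [CommRing B]
    [CommRing C] [Algebra A B] [Algebra B C] [Algebra A C] [IsScalarTower A B C]
    [Algebra.Etale B C] [Module.FaithfullyFlat B C] [Algebra.FinitePresentation A C] :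
    Algebra.FinitePresentation A B := by
  classical
  have hftC : Algebra.FiniteType A C := inferInstance
  have hft : Algebra.FiniteType A B := finiteType_of_etale_of_faithfullyFlat A B C
  obtain ⟨n, π, hπ⟩ := Algebra.FiniteType.iff_quotient_mvPolynomial''.mp hft
  have hss : Algebra.IsStandardSmoothOfRelativeDimension 0 B C :=
    Algebra.Etale.iff_isStandardSmoothOfRelativeDimension_zero.mp inferInstance
  obtain ⟨ι, σ, _, _, Pr, hP⟩ := hss.out
  letI algPB : Algebra (MvPolynomial (Fin n) A) B := π.toRingHom.toAlgebra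
  letI algPC : Algebra (MvPolynomial (Fin n) A) C :=
    ((algebraMap B C).comp π.toRingHom).toAlgebra
  haveI : IsScalarTower (MvPolynomial (Fin n) A) B C := IsScalarTower.of_algebraMap_eq' rfl
  haveI : IsScalarTower A (MvPolynomial (Fin n) A) C := IsScalarTower.of_algebraMap_eq (fun a => by
    change algebraMap A C a = algebraMap B C (π (algebraMap A _ a))
    rw [π.commutes, ← IsScalarTower.algebraMap_apply])
  haveI : Algebra.FinitePresentation A (MvPolynomial ι (MvPolynomial (Fin n) A)) :=
    Algebra.FinitePresentation.mvPolynomial_of_finitePresentation ι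
  let Φ : MvPolynomial ι (MvPolynomial (Fin n) A) →ₐ[A] C :=
    (MvPolynomial.aeval (R := MvPolynomial (Fin n) A) Pr.val).restrictScalars A
  have hΦ : ∀ q, Φ q = MvPolynomial.aeval (R := B) Pr.val (MvPolynomial.map π.toRingHom q) :=
    fun q => (MvPolynomial.aeval_map_algebraMap B Pr.val q).symm
  have hΦsurj : Function.Surjective Φ := by
    intro c
    obtain ⟨q, hq⟩ := MvPolynomial.map_surjective π.toRingHom hπ (Pr.σ c)
    exact ⟨q, by rw [hΦ, hq, Pr.aeval_val_σ]⟩
  have hKfg : (RingHom.ker Φ.toRingHom).FG :=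
    Algebra.FinitePresentation.ker_fG_of_surjective Φ hΦsurj
  have hF : ∀ j, ∃ q, MvPolynomial.map π.toRingHom q = Pr.relation j :=
    fun j => MvPolynomial.map_surjective π.toRingHom hπ (Pr.relation j)
  choose F hF using hF
  have hKle : RingHom.ker Φ.toRingHom ≤
      (RingHom.ker π.toRingHom).map MvPolynomial.C ⊔ Ideal.span (Set.range F) := by
    intro q hq
    have hq0 : MvPolynomial.aeval (R := B) Pr.val (MvPolynomial.map π.toRingHom q) = 0 := by
      rw [← hΦ]; exact hq
    have hmem : MvPolynomial.map π.toRingHom q ∈ Ideal.span (Set.range Pr.relation) := by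
      rw [Pr.span_range_relation_eq_ker, Pr.ker_eq_ker_aeval_val]
      exact hq0
    have hrange : Set.range Pr.relation = (MvPolynomial.map π.toRingHom) '' Set.range F := by
      rw [← Set.range_comp]
      congr 1
      funext j
      exact (hF j).symm
    rw [hrange, ← Ideal.map_span] at hmem
    obtain ⟨q', hq', hqq'⟩ := (Ideal.mem_map_iff_of_surjective _
      (MvPolynomial.map_surjective π.toRingHom hπ)).mp hmem
    have hsub : q - q' ∈ (RingHom.ker π.toRingHom).map MvPolynomial.C := by
      rw [← MvPolynomial.ker_map, RingHom.mem_ker, map_sub, hqq', sub_self]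
    have : q = (q - q') + q' := by ring
    rw [this]
    exact Ideal.add_mem _ (Ideal.mem_sup_left hsub) (Ideal.mem_sup_right hq')
  obtain ⟨I₀, hI₀le, hI₀fg, hKle'⟩ := exists_fg_le_le_map_sup _ _ _ _ hKfg hKle
  -- the finitely presented algebra B₀
  haveI : Algebra.FinitePresentation A (MvPolynomial (Fin n) A ⧸ I₀) :=
    Algebra.FinitePresentation.quotient hI₀fg
  let ρ : (MvPolynomial (Fin n) A ⧸ I₀) →ₐ[A] B :=
    Ideal.Quotient.liftₐ I₀ π (fun a ha => hI₀le ha)
  have hρmk : ∀ p, ρ (Ideal.Quotient.mk I₀ p) = π p := fun p => rfl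
  letI algB₀B : Algebra (MvPolynomial (Fin n) A ⧸ I₀) B := ρ.toRingHom.toAlgebra
  letI algB₀C : Algebra (MvPolynomial (Fin n) A ⧸ I₀) C :=
    ((algebraMap B C).comp ρ.toRingHom).toAlgebra
  haveI : IsScalarTower (MvPolynomial (Fin n) A ⧸ I₀) B C := IsScalarTower.of_algebraMap_eq' rfl
  have hρsurj : Function.Surjective ρ := by
    intro b
    obtain ⟨p, rfl⟩ := hπ b
    exact ⟨Ideal.Quotient.mk I₀ p, hρmk p⟩
  have hcompρ : (algebraMap (MvPolynomial (Fin n) A ⧸ I₀) B).comp (Ideal.Quotient.mk I₀) =
      π.toRingHom := RingHom.ext fun p => hρmk p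
  let F₀ : σ → MvPolynomial ι (MvPolynomial (Fin n) A ⧸ I₀) :=
    fun j => MvPolynomial.map (Ideal.Quotient.mk I₀) (F j)
  have hF₀ : ∀ j, MvPolynomial.map (algebraMap (MvPolynomial (Fin n) A ⧸ I₀) B) (F₀ j) =
      Pr.relation j := by
    intro j
    change MvPolynomial.map _ (MvPolynomial.map _ (F j)) = _
    rw [MvPolynomial.map_map, hcompρ, hF j]
  have hker : RingHom.ker (MvPolynomial.aeval (R := MvPolynomial (Fin n) A ⧸ I₀) Pr.val) ≤
      Ideal.span (Set.range F₀) := by
    intro z hz
    obtain ⟨q, rfl⟩ := MvPolynomial.map_surjective (Ideal.Quotient.mk I₀)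
      Ideal.Quotient.mk_surjective z
    have hqK : q ∈ RingHom.ker Φ.toRingHom := by
      change Φ q = 0
      rw [hΦ, ← hcompρ, ← MvPolynomial.map_map, MvPolynomial.aeval_map_algebraMap]
      exact hz
    have hq' := hKle' hqK
    have himg : MvPolynomial.map (Ideal.Quotient.mk I₀) q ∈
        Ideal.map (MvPolynomial.map (Ideal.Quotient.mk I₀))
          (I₀.map MvPolynomial.C ⊔ Ideal.span (Set.range F)) :=
      Ideal.mem_map_of_mem _ hq'
    rw [Ideal.map_sup, Ideal.map_map, Ideal.map_span, ← Set.range_comp] at himg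
    have hbot : Ideal.map ((MvPolynomial.map (Ideal.Quotient.mk I₀)).comp
        (MvPolynomial.C (σ := ι))) I₀ = ⊥ := by
      rw [eq_bot_iff, Ideal.map_le_iff_le_comap]
      intro i hi
      rw [Ideal.mem_comap, RingHom.comp_apply, MvPolynomial.map_C,
        Ideal.Quotient.eq_zero_iff_mem.mpr hi, map_zero]
      exact Ideal.zero_mem _
    rw [hbot, bot_sup_eq] at himg
    exact himg
  haveI hEt : Algebra.Etale (MvPolynomial (Fin n) A ⧸ I₀) C :=
    etale_of_surjective_of_submersivePresentation hρsurj Pr hP F₀ hF₀ hker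
  have hkerfg : (RingHom.ker (algebraMap (MvPolynomial (Fin n) A ⧸ I₀) B)).FG :=
    ker_fg_of_flat_of_finitePresentation_of_comap_surjective _ B C hρsurj
      PrimeSpectrum.comap_surjective_of_faithfullyFlat
  exact Algebra.FinitePresentation.of_surjective (f := ρ) hρsurj hkerfg

end Groth.Agent.H51
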