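import Groth.Agent.H51.SrcCore
import Mathlib.RingTheory.Smooth.NoetherianDescent
import Mathlib.RingTheory.Smooth.StandardSmoothOfFree
import Mathlib.RingTheory.Smooth.Flat
import Mathlib.RingTheory.Flat.FaithfullyFlat.Algebra
import Mathlib.RingTheory.Etale.Basic

/-! Descent of finite type along an etale faithfully flat map on the source (ring level, helper51):
`A → B → C`, `B → C` etale and faithfully flat, `A → C` of finite type ⟹ `A → B` of finite type. -/

set_option autoImplicit false
set_option linter.unusedSectionVars false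
universe u
open TensorProduct

namespace Groth.Agent.H51

theorem finiteType_of_etale_of_faithfullyFlat (A B C : Type u) [CommRing A] [CommRing B]
    [CommRing C] [Algebra A B] [Algebra B C] [Algebra A C] [IsScalarTower A B C]
    [Algebra.Etale B C] [Module.FaithfullyFlat B C] [Algebra.FiniteType A C] :
    Algebra.FiniteType A B := by
  classical
  have hss : Algebra.IsStandardSmoothOfRelativeDimension 0 B C :=
    Algebra.Etale.iff_isStandardSmoothOfRelativeDimension_zero.mp inferInstance
  obtain ⟨ι, σ, _, _, P, hP⟩ := hss.out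
  -- generators of C over A
  obtain ⟨s, hs⟩ := (Algebra.FiniteType.out : (⊤ : Subalgebra A C).FG)
  -- choose polynomials
  have hp : ∀ c : C, ∃ p : MvPolynomial ι B, MvPolynomial.aeval P.val p = c :=
    P.aeval_val_surjective
  choose p hp using hp
  let F : Set B := ⋃ c ∈ s, ((p c).coeffs : Set B)
  have hF : F.Finite := Set.Finite.biUnion s.finite_toSet (fun c _ => Finset.finite_toSet _)
  let B₁ : Subalgebra A B := Algebra.adjoin A (P.coeffs ∪ F)
  have hB₁fg : B₁.FG := ⟨(P.finite_coeffs.union hF).toFinset, by simp [B₁]⟩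
  have hB₁ft : Algebra.FiniteType A B₁ := (Subalgebra.fg_iff_finiteType B₁).mp hB₁fg
  have hcoef : P.HasCoeffs B₁ :=
    ⟨fun x hx => ⟨⟨x, Algebra.subset_adjoin (Or.inl hx)⟩, rfl⟩⟩
  have hMet : Algebra.Etale B₁ (P.ModelOfHasCoeffs B₁) :=
    Algebra.Etale.iff_isStandardSmoothOfRelativeDimension_zero.mpr
      ⟨_, _, _, inferInstance, P.ofHasCoeffs B₁, hP⟩
  have hMflat : Module.Flat B₁ (P.ModelOfHasCoeffs B₁) := inferInstance
  let e := P.tensorModelOfHasCoeffsEquiv B₁
  let φ : P.ModelOfHasCoeffs B₁ →ₐ[B₁] C :=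
    (e.toAlgHom.restrictScalars B₁).comp Algebra.TensorProduct.includeRight
  have hφ : ∀ m : P.ModelOfHasCoeffs B₁, φ m = e (1 ⊗ₜ[B₁] m) := fun m => rfl
  have hφmk : ∀ x : MvPolynomial ι B₁, φ (Ideal.Quotient.mk _ x) = MvPolynomial.aeval P.val x := by
    intro x
    rw [hφ]
    have := P.tensorModelOfHasCoeffsEquiv_tmul B₁ 1 x
    rw [map_one, one_mul] at this
    exact this
  have hinj : Function.Injective φ := by
    have h1 : Function.Injective (Algebra.TensorProduct.includeRight :
        P.ModelOfHasCoeffs B₁ →ₐ[B₁] B ⊗[B₁] P.ModelOfHasCoeffs B₁) :=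
      Algebra.TensorProduct.includeRight_injective (Subtype.val_injective)
    exact e.injective.comp h1
  have hsurj : Function.Surjective φ := by
    have hle : Algebra.adjoin A (s : Set C) ≤ φ.range.restrictScalars A := by
      apply Algebra.adjoin_le
      intro c hc
      have hcoeffs : ((p c).coeffs : Set B) ⊆ Set.range (algebraMap B₁ B) := by
        intro x hx
        exact ⟨⟨x, Algebra.subset_adjoin (Or.inr (Set.mem_biUnion hc hx))⟩, rfl⟩
      obtain ⟨q, hq⟩ := MvPolynomial.mem_range_map_iff_coeffs_subset.mpr hcoeffs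
      refine ⟨Ideal.Quotient.mk _ q, ?_⟩
      change φ (Ideal.Quotient.mk _ q) = c
      rw [hφmk, ← hp c, ← hq, MvPolynomial.aeval_map_algebraMap]
    rw [hs] at hle
    intro c
    obtain ⟨m, hm⟩ := hle (Algebra.mem_top : c ∈ (⊤ : Subalgebra A C))
    exact ⟨m, hm⟩
  let ψ : P.ModelOfHasCoeffs B₁ ≃ₐ[B₁] C := AlgEquiv.ofBijective φ ⟨hinj, hsurj⟩
  have hCet : Algebra.Etale B₁ C := Algebra.Etale.of_equiv ψ
  have hCflat : Module.Flat B₁ C := inferInstance
  have hCfp : Algebra.FinitePresentation B₁ C := inferInstance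
  -- the tensor identity
  have he : ∀ (b : B) (m : P.ModelOfHasCoeffs B₁), e (b ⊗ₜ[B₁] m) = algebraMap B C b * φ m := by
    intro b m
    have : b ⊗ₜ[B₁] m = b • ((1 : B) ⊗ₜ[B₁] m) := by rw [TensorProduct.smul_tmul', smul_eq_mul, mul_one]
    rw [this, map_smul, Algebra.smul_def, hφ]
  let Θ : B ⊗[B₁] C ≃ₗ[B₁] B ⊗[B₁] P.ModelOfHasCoeffs B₁ :=
    TensorProduct.congr (LinearEquiv.refl B₁ B) ψ.symm.toLinearEquiv
  have hΘ : ∀ (b : B) (c : C), e (Θ (b ⊗ₜ[B₁] c)) = algebraMap B C b * c := by
    intro b c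
    change e (b ⊗ₜ[B₁] (ψ.symm c)) = _
    rw [he]
    congr 1
    exact ψ.apply_symm_apply c
  have hμ : ∀ b : B, b ⊗ₜ[B₁] (1 : C) = (1 : B) ⊗ₜ[B₁] algebraMap B C b := by
    intro b
    apply Θ.injective
    apply e.injective
    rw [hΘ, hΘ, map_one, mul_one, one_mul]
  have hspec : Function.Surjective (PrimeSpectrum.comap (algebraMap B C)) :=
    PrimeSpectrum.comap_surjective_of_faithfullyFlat
  have hft : Algebra.FiniteType B₁ B := finiteType_of_tmul_eq hμ hspec
  exact Algebra.FiniteType.trans hB₁ft hft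

end Groth.Agent.H51
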