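import Groth.Agent.H51.SrcLocP

/-!
# `LocP P` is fpqc local on the source when `P` is fpqc local at the source for schemes (helper51)
-/

universe u

open CategoryTheory CategoryTheory.Limits AlgebraicGeometry Opposite AlgSp MorphismProperty

namespace Groth.Agent.H51

variable {S : Scheme.{u}}

theorem pairF_mem_qcPrecoverage {A B : Scheme.{u}} (q : A ⟶ B) :
    Presieve.ofArrows (pairX (A := A) (B := B)) (pairF q) ∈ Scheme.qcPrecoverage B := by
  let E : PreZeroHypercover.{0} B := { I₀ := Bool, X := pairX, f := pairF q }
  refine (Scheme.presieve₀_mem_qcPrecoverage_iff (E := E)).2 ⟨fun {U₀} hU₀ => ?_⟩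
  have h := IsCompactOpenCovered.image (f := fun i => (E.f i : E.X i → B)) (i := false) U₀
    hU₀.isCompact
  convert h using 1
  ext x
  constructor
  · intro hx
    exact ⟨x, hx, rfl⟩
  · rintro ⟨y, hy, rfl⟩
    exact hy

/-- fpqc case. -/
theorem isLocalOnSource_fpqc_locP (P : MorphismProperty Scheme.{u})
    [P.IsLocalAtSource Scheme.fpqcPrecoverage] :
    IsLocalOnSource (IsFpqcCover (S := S)) (LocP P) := by
  have : MorphismProperty.ContainsIdentities (@Flat : MorphismProperty Scheme.{u}) :=
    ⟨fun X => (inferInstance : Flat (𝟙 X))⟩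
  have hfpqc : ∀ {B : Scheme.{u}} {R : Presieve B}, R ∈ Scheme.qcPrecoverage B →
      R ∈ Scheme.precoverage @Flat B → R ∈ Scheme.fpqcPrecoverage B := fun h1 h2 => ⟨h1, h2⟩
  refine isLocalOnSource_locP_of_precoverage P Scheme.fpqcPrecoverage _
    (fun q h1 h2 => Scheme.fppfPrecoverage_le_fpqcPrecoverage _
      (singleton_mem_precoverage_of_etale (@Flat ⊓ @LocallyOfFinitePresentation)
        (fun A B q hq => by have := hq; exact ⟨inferInstance, inferInstance⟩) q h1 h2)) ?_ ?_
  · intro ι X Xi g hX hXi hg i U'' U' a'' b' q ha'' hb' comm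
    exact ⟨_, hfpqc (pairF_mem_qcPrecoverage q.left)
      (pairF_mem_precoverage @Flat q.left (hg.1 i a'' b' q ha'' hb' comm)), pairF_mem q.left⟩
  · intro ι X Xi g hX hXi hg U a ha
    obtain ⟨V, c, l, hl, hs, hP, het, hfac⟩ :=
      exists_chart_lifts' hX Xi g hXi (surjective_of_isFpqcCover Xi g hg) U a
    refine ⟨ι, V, c, hfpqc ?_ ?_, fun i => ⟨i, l i, het ha i, hl i⟩⟩
    · let E : PreZeroHypercover.{u} U.left :=
        { I₀ := ι, X := fun i => (V i).left, f := fun i => (c i).left }
      refine (Scheme.presieve₀_mem_qcPrecoverage_iff (E := E)).2 ⟨fun {U₀} hU₀ => ?_⟩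
      -- the affine open as an object over `S`
      let Z : Over S := Over.mk (U₀.ι ≫ U.hom)
      let ιZ : Z ⟶ U := Over.homMk U₀.ι rfl
      have hZ : IsAffine Z.left := hU₀
      obtain ⟨m, W, c', hW, hflat, hsurj, hlift⟩ := hg.2 Z hZ ((yon S).map ιZ ≫ a)
      choose i' l' hl' using hlift
      have key := fun j => hfac (i' j) (W j) (c' j ≫ ιZ) (l' j)
        (by rw [hl' j, Functor.map_comp, Category.assoc])
      choose T' e v he hes hv using key
      -- compact opens of `T' j` surjecting onto `W j`
      have hK : ∀ j, ∃ K : (T' j).left.Opens, IsCompact (K : Set (T' j).left) ∧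
          (e j).left '' (K : Set (T' j).left) = Set.univ := fun j => by
        have := he j
        have := hes j
        have := hW j
        exact (e j).left.isOpenMap.exists_opens_image_eq_of_prespectralSpace (e j).left.continuous
          (fun x _ => (e j).left.surjective x) isOpen_univ isCompact_univ
      choose K hKc hKs using hK
      -- `U₀` is compact-open covered by the `T' j`
      have hcov : IsCompactOpenCovered
          (fun j : Fin m => ((e j ≫ c' j ≫ ιZ).left : (T' j).left → U.left)) (U₀ : Set U.left) := by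
        refine IsCompactOpenCovered.of_finite (a := id) K hKc ?_
        ext x
        simp only [Set.mem_iUnion, Set.mem_image, id]
        constructor
        · rintro ⟨j, y, -, rfl⟩
          change ((e j ≫ c' j ≫ ιZ).left y) ∈ (U₀ : Set U.left)
          rw [Over.comp_left, Over.comp_left]
          simp only [Scheme.Hom.comp_apply]
          exact (Scheme.Opens.range_ι U₀ ▸ Set.mem_range_self _ :
            U₀.ι ((c' j).left ((e j).left y)) ∈ (U₀ : Set U.left))
        · intro hx
          obtain ⟨z, rfl⟩ : ∃ z : Z.left, U₀.ι z = x := by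
            have : x ∈ Set.range U₀.ι := by rw [Scheme.Opens.range_ι]; exact hx
            exact this
          obtain ⟨j, w, rfl⟩ := hsurj z
          have hw : w ∈ (e j).left '' (K j : Set (T' j).left) := by rw [hKs j]; trivial
          obtain ⟨y, hy, rfl⟩ := hw
          refine ⟨j, y, hy, ?_⟩
          rw [Over.comp_left, Over.comp_left]
          rfl
      refine IsCompactOpenCovered.of_comp (f := fun i => ((E.f i : E.X i → U.left)))
        (fun j : Fin m => ((e j ≫ c' j ≫ ιZ).left : (T' j).left → U.left))
        (a := i') (fun j => ((v j).left : (T' j).left → (V (i' j)).left))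
        (fun j => (v j).left.continuous) (fun j => ?_) (fun i => (c i).left.continuous)
        U₀.isOpen hcov
      funext y
      change (e j ≫ c' j ≫ ιZ).left y = (c (i' j)).left ((v j).left y)
      rw [← Scheme.Hom.comp_apply, ← Over.comp_left, hv j]
    · rw [Scheme.ofArrows_mem_precoverage_iff]
      exact ⟨hs, fun i => hP @Flat Groth.Agent.H52.etLocal_flat i (hg.1 i)⟩

end Groth.Agent.H51
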