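import Groth.Agent.H51.SrcEt
import Mathlib.AlgebraicGeometry.Sites.Etale

/-! Etale-local on the source, family versions (helper51): if for every point `x` of `X` there is
an etale `f : X' ⟶ X` hitting `x` with `P (f ≫ g)`, then `P g`. -/

set_option autoImplicit false
set_option linter.unusedSectionVars false
set_option linter.style.haveILetI false
universe u
open CategoryTheory AlgebraicGeometry TopologicalSpace

namespace Groth.Agent.H51

theorem exists_affine_etale_chart' {X' X Y : Scheme.{u}} (f : X' ⟶ X) (g : X ⟶ Y) [Etale f]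
    (x' : X') :
    ∃ (U : Y.Opens) (V : X.Opens) (W : X'.Opens) (_ : IsAffineOpen U) (_ : IsAffineOpen V)
      (_ : IsAffineOpen W) (_ : f x' ∈ V) (_ : V ≤ g ⁻¹ᵁ U) (e' : W ≤ f ⁻¹ᵁ V),
      Surjective (f.resLE V W e') := by
  obtain ⟨U, hU, hgx, -⟩ := Opens.isBasis_iff_nbhd.mp Y.isBasis_affineOpens
    (Opens.mem_top (g (f x')))
  obtain ⟨V₀, hV₀, hxV₀, e₀⟩ := Opens.isBasis_iff_nbhd.mp X.isBasis_affineOpens
    (show f x' ∈ g ⁻¹ᵁ U from hgx)
  obtain ⟨W₀, hW₀, hxW₀, e₁⟩ := Opens.isBasis_iff_nbhd.mp X'.isBasis_affineOpens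
    (show x' ∈ f ⁻¹ᵁ V₀ from hxV₀)
  let O : X.Opens := ⟨f '' W₀, f.isOpenMap _ W₀.2⟩
  have hxO : f x' ∈ O := ⟨x', hxW₀, rfl⟩
  obtain ⟨h, hle, hxh⟩ := hV₀.exists_basicOpen_le ⟨f x', hxO⟩ hxV₀
  have e' : X'.basicOpen (f.appLE V₀ W₀ e₁ h) ≤ f ⁻¹ᵁ X.basicOpen h := by
    rw [Scheme.basicOpen_appLE]; exact inf_le_right
  refine ⟨U, X.basicOpen h, X'.basicOpen (f.appLE V₀ W₀ e₁ h), hU, hV₀.basicOpen h,
    hW₀.basicOpen _, hxh, (X.basicOpen_le h).trans e₀, e', ?_⟩
  refine ⟨fun v => ?_⟩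
  have hv : (X.basicOpen h).ι v ∈ X.basicOpen h := v.2
  obtain ⟨w, hw, hwv⟩ := hle hv
  have hwW : w ∈ X'.basicOpen (f.appLE V₀ W₀ e₁ h) := by
    rw [Scheme.basicOpen_appLE]
    refine ⟨hw, ?_⟩
    change f w ∈ X.basicOpen h
    rw [hwv]; exact hv
  let w' : (X'.basicOpen (f.appLE V₀ W₀ e₁ h)).toScheme := ⟨w, hwW⟩
  refine ⟨w', ?_⟩
  apply (X.basicOpen h).ι.isOpenEmbedding.injective
  have key : (X.basicOpen h).ι (f.resLE _ _ e' w') =
      f ((X'.basicOpen (f.appLE V₀ W₀ e₁ h)).ι w') := by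
    rw [← Scheme.Hom.comp_apply, ← Scheme.Hom.comp_apply, Scheme.Hom.resLE_comp_ι]
  rw [key]
  exact hwv

theorem of_etale_jointly_surjective_comp {P : MorphismProperty Scheme.{u}}
    {Q : ∀ {R S : Type u} [CommRing R] [CommRing S], (R →+* S) → Prop}
    [HasRingHomProperty P Q] [P.RespectsRight @IsOpenImmersion]
    (hQ : ∀ {A B C : Type u} [CommRing A] [CommRing B] [CommRing C] (φ : A →+* B)
      (ψ : B →+* C), ψ.Etale → ψ.FaithfullyFlat → Q (ψ.comp φ) → Q φ)
    {X Y : Scheme.{u}} (g : X ⟶ Y)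
    (H : ∀ x : X, ∃ (X' : Scheme.{u}) (f : X' ⟶ X) (x' : X'), Etale f ∧ f x' = x ∧ P (f ≫ g)) :
    P g := by
  rw [IsZariskiLocalAtSource.iff_exists_resLE (P := P)]
  intro x
  obtain ⟨X', f, x', hf, rfl, h⟩ := H x
  obtain ⟨U, V, W, hU, hV, hW, hxV, e, e', hsurj⟩ := exists_affine_etale_chart' f g x'
  refine ⟨U, V, hxV, e, ?_⟩
  haveI : IsAffine U.toScheme := hU
  haveI : IsAffine V.toScheme := hV
  haveI : IsAffine W.toScheme := hW
  have h1 : P ((f ≫ g).resLE U W (e'.trans ((Opens.map f.base).map (homOfLE e)).le)) :=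
    IsZariskiLocalAtSource.resLE _ h
  rw [← Scheme.Hom.resLE_comp_resLE] at h1
  rw [HasRingHomProperty.iff_of_isAffine (P := P)] at h1 ⊢
  rw [Scheme.Hom.comp_appTop] at h1
  apply hQ _ (f.resLE V W e').appTop.hom
  · exact HasRingHomProperty.appTop (P := @Etale) _ inferInstance
  · exact (Flat.flat_and_surjective_iff_faithfullyFlat_of_isAffine
      (f := f.resLE V W e')).mp ⟨inferInstance, hsurj⟩
  · exact h1

/-- Family version for etale. -/
theorem etale_of_etale_jointly_surjective_comp {X Y : Scheme.{u}} (g : X ⟶ Y)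
    (H : ∀ x : X, ∃ (X' : Scheme.{u}) (f : X' ⟶ X) (x' : X'),
      Etale f ∧ f x' = x ∧ Etale (f ≫ g)) : Etale g := by
  haveI : MorphismProperty.IsStableUnderComposition (@Etale.{u}) :=
    (inferInstance : MorphismProperty.IsMultiplicative (@Etale.{u})).toIsStableUnderComposition
  haveI := respectsRight_isOpenImmersion_of_le @Etale
    (fun _ _ i (hi : IsOpenImmersion i) => inferInstance)
  exact of_etale_jointly_surjective_comp (P := @Etale)
    (fun φ ψ h1 h2 h3 => ringHom_etale_of_comp φ ψ h1 h2 h3) g H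

/-- Family version for a general `P` that is an inf of two ring-hom properties is obtained by
`HasRingHomProperty.inf`; here the two families used for algebraic spaces. -/
theorem lqf_loft_of_etale_jointly_surjective_comp {X Y : Scheme.{u}} (g : X ⟶ Y)
    (H : ∀ x : X, ∃ (X' : Scheme.{u}) (f : X' ⟶ X) (x' : X'),
      Etale f ∧ f x' = x ∧ (@LocallyQuasiFinite ⊓ @LocallyOfFiniteType) (f ≫ g)) :
    (@LocallyQuasiFinite ⊓ @LocallyOfFiniteType) g := by
  have r1 := respectsRight_isOpenImmersion_of_le @LocallyOfFiniteType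
    (fun _ _ i (hi : IsOpenImmersion i) => inferInstance)
  have r2 : MorphismProperty.RespectsRight (@LocallyQuasiFinite.{u}) @IsOpenImmersion :=
    (inferInstance : MorphismProperty.Respects (@LocallyQuasiFinite.{u})
      @IsOpenImmersion).toRespectsRight
  haveI : MorphismProperty.RespectsRight (@LocallyQuasiFinite.{u} ⊓ @LocallyOfFiniteType.{u})
      @IsOpenImmersion :=
    ⟨fun i hi f hf => ⟨r2.postcomp i hi f hf.1, r1.postcomp i hi f hf.2⟩⟩
  haveI : HasRingHomProperty (@LocallyQuasiFinite ⊓ @LocallyOfFiniteType)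
      (fun f => RingHom.QuasiFinite f ∧ RingHom.FiniteType f) := HasRingHomProperty.inf
  exact of_etale_jointly_surjective_comp (P := @LocallyQuasiFinite ⊓ @LocallyOfFiniteType)
    (Q := fun f => RingHom.QuasiFinite f ∧ RingHom.FiniteType f)
    (fun φ ψ h1 h2 h3 => ⟨ringHom_quasiFinite_of_comp φ ψ h2 h3.1
        (ringHom_finiteType_of_comp φ ψ h1 h2 h3.2),
      ringHom_finiteType_of_comp φ ψ h1 h2 h3.2⟩) g H

theorem loft_unramified_of_etale_jointly_surjective_comp {X Y : Scheme.{u}} (g : X ⟶ Y)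
    (H : ∀ x : X, ∃ (X' : Scheme.{u}) (f : X' ⟶ X) (x' : X'),
      Etale f ∧ f x' = x ∧ (@LocallyOfFiniteType ⊓ @FormallyUnramified) (f ≫ g)) :
    (@LocallyOfFiniteType ⊓ @FormallyUnramified) g := by
  have r1 := respectsRight_isOpenImmersion_of_le @LocallyOfFiniteType
    (fun _ _ i (hi : IsOpenImmersion i) => inferInstance)
  have r2 := respectsRight_isOpenImmersion_of_le @FormallyUnramified
    (fun _ _ i (hi : IsOpenImmersion i) => inferInstance)
  haveI : MorphismProperty.RespectsRight (@LocallyOfFiniteType.{u} ⊓ @FormallyUnramified.{u})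
      @IsOpenImmersion :=
    ⟨fun i hi f hf => ⟨r1.postcomp i hi f hf.1, r2.postcomp i hi f hf.2⟩⟩
  haveI : HasRingHomProperty (@LocallyOfFiniteType ⊓ @FormallyUnramified)
      (fun f => RingHom.FiniteType f ∧ RingHom.FormallyUnramified f) := HasRingHomProperty.inf
  exact of_etale_jointly_surjective_comp (P := @LocallyOfFiniteType ⊓ @FormallyUnramified)
    (Q := fun f => RingHom.FiniteType f ∧ RingHom.FormallyUnramified f)
    (fun φ ψ h1 h2 h3 => ⟨ringHom_finiteType_of_comp φ ψ h1 h2 h3.1,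
      ringHom_formallyUnramified_of_comp φ ψ h1 h2 h3.2⟩) g H

end Groth.Agent.H51
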