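import Groth.Agent.H51.CoprodRepMain

/-!
# Properties stable under disjoint unions (helper51)
-/

set_option autoImplicit false
universe u
open CategoryTheory CategoryTheory.Limits AlgebraicGeometry Opposite
open AlgSp

namespace Groth.Agent.H51

theorem sumStable_top : SumStable (⊤ : MorphismProperty Scheme.{u}) :=
  fun _ _ _ _ _ _ _ _ _ _ _ _ => trivial

theorem sumStable_of_isZariskiLocalAtSource (P : MorphismProperty Scheme.{u})
    [IsZariskiLocalAtSource P] [P.IsStableUnderComposition]
    (hP : ∀ ⦃A B : Scheme.{u}⦄ (g : A ⟶ B), IsOpenImmersion g → P g) : SumStable P := by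
  intro ι Wt T W V k g w m hk hg hkc _ hkm hw
  let 𝒰 : Wt.OpenCover := Scheme.Cover.mkOfCovers ι W k (fun z => by
    obtain ⟨i, y, hy⟩ := hkc z
    exact ⟨i, y, hy⟩) hk
  apply IsZariskiLocalAtSource.of_openCover 𝒰
  intro i
  show P (k i ≫ m)
  rw [hkm i]
  exact P.comp_mem _ _ (hw i) (hP _ (hg i))

theorem sumStable_etale : SumStable (@Etale : MorphismProperty Scheme.{u}) :=
  sumStable_of_isZariskiLocalAtSource _ (fun _ _ g (_ : IsOpenImmersion g) => (inferInstance : Etale g))

theorem sumStable_surjective : SumStable (@Surjective : MorphismProperty Scheme.{u}) := by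
  intro ι Wt T W V k g w m _ _ _ hgc hkm hw
  have := hw
  refine ⟨fun t => ?_⟩
  obtain ⟨i, v, hv⟩ := hgc t
  obtain ⟨x, hx⟩ := (w i).surjective v
  refine ⟨k i x, ?_⟩
  rw [← hv, ← hx, ← Scheme.Hom.comp_apply, hkm i, Scheme.Hom.comp_apply]

end Groth.Agent.H51
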