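import Groth.Agent.H30.ShQuotOver
import Groth.Agent.H52.SrcFlat
import Groth.Agent.H48.FppfSource

/-!
# Third isomorphism theorem for fppf quotients of group schemes (helper51)

`(G/H)/(K/H) = G/K` for `H ⊆ K ⊆ G` group schemes over `S`, in the form of kernel pairs of fppf coverings.
Everything happens in `Over S`: fppf coverings are effective epimorphisms, stable under base change.
-/

set_option autoImplicit false
set_option linter.unusedSectionVars false
universe v u
open CategoryTheory CategoryTheory.Limits AlgebraicGeometry MonoidalCategory CartesianMonoidalCategory MonObj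

namespace Groth.Agent.H51.ThirdIso

open Groth.Agent.H30.ShQuot

/-- A monomorphism through which an effective epimorphism factors is an isomorphism. -/
theorem isIso_of_mono_of_fac {C : Type u} [Category.{v} C] {A B T : C} (c : A ⟶ B) [Mono c]
    (π : T ⟶ B) [EffectiveEpi π] (l : T ⟶ A) (h : l ≫ c = π) : IsIso c := by
  have hcompat : ∀ {Z : C} (g₁ g₂ : Z ⟶ T), g₁ ≫ π = g₂ ≫ π → g₁ ≫ l = g₂ ≫ l := by
    intro Z g₁ g₂ hg
    rw [← cancel_mono c, Category.assoc, Category.assoc, h, hg]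
  have h1 : π ≫ EffectiveEpi.desc π l hcompat = l := EffectiveEpi.fac π l hcompat
  refine ⟨EffectiveEpi.desc π l hcompat, ?_, ?_⟩
  · rw [← cancel_mono c, Category.assoc, Category.id_comp]
    have : EffectiveEpi.desc π l hcompat ≫ c = 𝟙 B := by
      rw [← cancel_epi π, ← Category.assoc, h1, h, Category.comp_id]
    rw [this, Category.comp_id]
  · rw [← cancel_epi π, ← Category.assoc, h1, h, Category.comp_id]

variable {S : Scheme.{u}} {H K G QH Kb : Over S} [GrpObj H] [GrpObj K] [GrpObj G]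

section

variable (h : H ⟶ K) (k : K ⟶ G)
  (qH : G ⟶ QH) (fH : IsFppf qH) (pbH : IsPullback (fst G H) ((G ◁ (h ≫ k)) ≫ μ[G]) qH qH)
  (qKb : K ⟶ Kb) (fKb : IsFppf qKb) (pbKb : IsPullback (fst K H) ((K ◁ h) ≫ μ[K]) qKb qKb)
  (act : QH ⊗ Kb ⟶ QH) (hact : (qH ⊗ₘ qKb) ≫ act = (G ◁ k) ≫ μ[G] ≫ qH)

include hact in
theorem act_pts {T : Over S} (g : T ⟶ G) (κ : T ⟶ K) :
    lift (g ≫ qH) (κ ≫ qKb) ≫ act = (g * (κ ≫ k)) ≫ qH := by
  have e : lift (g ≫ qH) (κ ≫ qKb) = lift g κ ≫ (qH ⊗ₘ qKb) := (lift_map g κ qH qKb).symm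
  rw [e, Category.assoc, hact, ← lift_whisker_mul k g κ, Category.assoc, Category.assoc]

variable [Mono k] [IsMonHom k]

include fH pbH fKb pbKb hact in
/-- part (i): kernel pair of `G/H ⟶ G/K`. -/
theorem isPullback_of_quot {QK : Over S} (qK : G ⟶ QK)
    (pbK : IsPullback (fst G K) ((G ◁ k) ≫ μ[G]) qK qK) (qbar : QH ⟶ QK) (hq : qH ≫ qbar = qK) :
    IsPullback (fst QH Kb) act qbar qbar := by
  have hepi : Epi (qH ⊗ₘ qKb) := (fH.tensorHom fKb).epi
  have comm : fst QH Kb ≫ qbar = act ≫ qbar := by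
    rw [← cancel_epi (qH ⊗ₘ qKb), ← Category.assoc, tensorHom_fst, Category.assoc, hq,
      ← Category.assoc, hact, Category.assoc, Category.assoc, hq]
    exact pbK.w.trans (Category.assoc _ _ _)
  have hmono : Mono (pullback.lift (fst QH Kb) act comm) := by
    refine ⟨fun {T} l l' hll => ?_⟩
    have e1 : l ≫ fst QH Kb = l' ≫ fst QH Kb := by
      have := congrArg (fun m => m ≫ pullback.fst qbar qbar) hll
      simpa only [Category.assoc, pullback.lift_fst] using this
    have e2 : l ≫ act = l' ≫ act := by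
      have := congrArg (fun m => m ≫ pullback.snd qbar qbar) hll
      simpa only [Category.assoc, pullback.lift_snd] using this
    -- the covering
    have fp₁ : IsFppf (pullback.snd qH (l ≫ fst QH Kb)) :=
      IsFppf.of_isPullback (IsPullback.of_hasPullback qH (l ≫ fst QH Kb)).flip fH
    have hg := pullback.condition (f := qH) (g := l ≫ fst QH Kb)
    have fp₂ : IsFppf (pullback.snd qKb (pullback.snd qH (l ≫ fst QH Kb) ≫ l ≫ snd QH Kb)) :=
      IsFppf.of_isPullback (IsPullback.of_hasPullback qKb _).flip fKb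
    have hκ := pullback.condition (f := qKb)
      (g := pullback.snd qH (l ≫ fst QH Kb) ≫ l ≫ snd QH Kb)
    have fp₃ : IsFppf (pullback.snd qKb
        (pullback.snd qKb (pullback.snd qH (l ≫ fst QH Kb) ≫ l ≫ snd QH Kb) ≫
          pullback.snd qH (l ≫ fst QH Kb) ≫ l' ≫ snd QH Kb)) :=
      IsFppf.of_isPullback (IsPullback.of_hasPullback qKb _).flip fKb
    have hκ' := pullback.condition (f := qKb)
      (g := pullback.snd qKb (pullback.snd qH (l ≫ fst QH Kb) ≫ l ≫ snd QH Kb) ≫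
          pullback.snd qH (l ≫ fst QH Kb) ≫ l' ≫ snd QH Kb)
    set p₁ := pullback.snd qH (l ≫ fst QH Kb) with hp₁
    set g := pullback.fst qH (l ≫ fst QH Kb) with hgdef
    set p₂ := pullback.snd qKb (p₁ ≫ l ≫ snd QH Kb) with hp₂
    set κ := pullback.fst qKb (p₁ ≫ l ≫ snd QH Kb) with hκdef
    set p₃ := pullback.snd qKb (p₂ ≫ p₁ ≫ l' ≫ snd QH Kb) with hp₃
    set κ' := pullback.fst qKb (p₂ ≫ p₁ ≫ l' ≫ snd QH Kb) with hκ'def
    have hπ : Epi (p₃ ≫ p₂ ≫ p₁) := (fp₃.comp (fp₂.comp fp₁)).epi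
    have el : (p₃ ≫ p₂ ≫ p₁) ≫ l = lift ((p₃ ≫ p₂ ≫ g) ≫ qH) ((p₃ ≫ κ) ≫ qKb) := by
      apply CartesianMonoidalCategory.hom_ext
      · rw [lift_fst]
        simp only [Category.assoc]
        rw [hg]
      · rw [lift_snd]
        simp only [Category.assoc]
        rw [hκ]
    have el' : (p₃ ≫ p₂ ≫ p₁) ≫ l' = lift ((p₃ ≫ p₂ ≫ g) ≫ qH) (κ' ≫ qKb) := by
      apply CartesianMonoidalCategory.hom_ext
      · rw [lift_fst]
        simp only [Category.assoc]
        rw [← e1, hg]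
      · rw [lift_snd]
        simp only [Category.assoc]
        rw [hκ']
    have e3 : ((p₃ ≫ p₂ ≫ g) * ((p₃ ≫ κ) ≫ k)) ≫ qH = ((p₃ ≫ p₂ ≫ g) * (κ' ≫ k)) ≫ qH := by
      rw [← act_pts k qH qKb act hact, ← act_pts k qH qKb act hact, ← el, ← el']
      simp only [Category.assoc]
      rw [e2]
    obtain ⟨ζ, hζ⟩ := exists_of_eq pbH _ _ e3
    have e4 : κ' ≫ k = ((p₃ ≫ κ) * (ζ ≫ h)) ≫ k := by
      rw [MonObj.mul_comp, Category.assoc ζ h k]
      have := hζ
      rw [_root_.mul_assoc] at this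
      exact mul_left_cancel this
    have e5 : κ' = (p₃ ≫ κ) * (ζ ≫ h) := by
      rw [← cancel_mono k]; exact e4
    have e6 : κ' ≫ qKb = (p₃ ≫ κ) ≫ qKb := by
      rw [e5]; exact eq_of_mul pbKb _ _
    have e7 : (p₃ ≫ p₂ ≫ p₁) ≫ l = (p₃ ≫ p₂ ≫ p₁) ≫ l' := by
      rw [el, el', e6]
    exact (cancel_epi _).1 e7
  have hiso : IsIso (pullback.lift (fst QH Kb) act comm) := by
    have fp₁ : IsFppf (pullback.snd qH (pullback.fst qbar qbar)) :=
      IsFppf.of_isPullback (IsPullback.of_hasPullback qH _).flip fH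
    have hg := pullback.condition (f := qH) (g := pullback.fst qbar qbar)
    have fp₂ : IsFppf (pullback.snd qH
        (pullback.snd qH (pullback.fst qbar qbar) ≫ pullback.snd qbar qbar)) :=
      IsFppf.of_isPullback (IsPullback.of_hasPullback qH _).flip fH
    have hg' := pullback.condition (f := qH)
      (g := pullback.snd qH (pullback.fst qbar qbar) ≫ pullback.snd qbar qbar)
    set p₁ := pullback.snd qH (pullback.fst qbar qbar) with hp₁
    set g := pullback.fst qH (pullback.fst qbar qbar) with hgdef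
    set p₂ := pullback.snd qH (p₁ ≫ pullback.snd qbar qbar) with hp₂
    set g' := pullback.fst qH (p₁ ≫ pullback.snd qbar qbar) with hg'def
    have e1 : (p₂ ≫ g) ≫ qK = g' ≫ qK := by
      rw [← hq, ← Category.assoc, ← Category.assoc g', hg', Category.assoc p₂ g, hg]
      simp only [Category.assoc]
      rw [pullback.condition]
    obtain ⟨κ, hκ⟩ := exists_of_eq pbK _ _ e1
    have heff : EffectiveEpi (p₂ ≫ p₁) := (fp₂.comp fp₁).effectiveEpi
    refine isIso_of_mono_of_fac _ (p₂ ≫ p₁)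
      (lift (p₂ ≫ p₁ ≫ pullback.fst qbar qbar) (κ ≫ qKb)) ?_
    apply pullback.hom_ext
    · rw [Category.assoc, pullback.lift_fst, lift_fst, Category.assoc]
    · rw [Category.assoc, pullback.lift_snd]
      have e2 : p₂ ≫ p₁ ≫ pullback.fst qbar qbar = (p₂ ≫ g) ≫ qH := by
        rw [Category.assoc, hg]
      rw [e2, act_pts k qH qKb act hact, ← hκ, hg', Category.assoc]
  exact IsPullback.of_iso_pullback ⟨comm⟩ (asIso (pullback.lift (fst QH Kb) act comm))
    (pullback.lift_fst _ _ _) (pullback.lift_snd _ _ _)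

include fH pbH fKb hact in
/-- part (ii): `G ⟶ G/H ⟶ Y` has kernel pair `G × K`. -/
theorem isPullback_comp {Y : Over S} (p : QH ⟶ Y) (pbp : IsPullback (fst QH Kb) act p p) :
    IsPullback (fst G K) ((G ◁ k) ≫ μ[G]) (qH ≫ p) (qH ≫ p) := by
  have comm : fst G K ≫ qH ≫ p = ((G ◁ k) ≫ μ[G]) ≫ qH ≫ p := by
    have e : ((G ◁ k) ≫ μ[G]) ≫ qH ≫ p = ((qH ⊗ₘ qKb) ≫ act) ≫ p := by
      rw [hact]; simp only [Category.assoc]
    rw [e, Category.assoc, ← pbp.w, ← Category.assoc (qH ⊗ₘ qKb), tensorHom_fst, Category.assoc]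
  have hmono : Mono (pullback.lift (fst G K) ((G ◁ k) ≫ μ[G]) comm) := by
    refine ⟨fun {T} l l' hll => ?_⟩
    have e1 : l ≫ fst G K = l' ≫ fst G K := by
      have := congrArg (fun m => m ≫ pullback.fst (qH ≫ p) (qH ≫ p)) hll
      simpa only [Category.assoc, pullback.lift_fst] using this
    have e2 : l ≫ (G ◁ k) ≫ μ[G] = l' ≫ (G ◁ k) ≫ μ[G] := by
      have := congrArg (fun m => m ≫ pullback.snd (qH ≫ p) (qH ≫ p)) hll
      simpa only [Category.assoc, pullback.lift_snd] using this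
    rw [comp_p₂ k l, comp_p₂ k l', e1] at e2
    have e3 : (l ≫ snd G K) ≫ k = (l' ≫ snd G K) ≫ k := mul_left_cancel e2
    have e4 : l ≫ snd G K = l' ≫ snd G K := (cancel_mono k).1 e3
    exact CartesianMonoidalCategory.hom_ext _ _ e1 e4
  have hiso : IsIso (pullback.lift (fst G K) ((G ◁ k) ≫ μ[G]) comm) := by
    have hab : (pullback.fst (qH ≫ p) (qH ≫ p) ≫ qH) ≫ p =
        (pullback.snd (qH ≫ p) (qH ≫ p) ≫ qH) ≫ p := by
      rw [Category.assoc, Category.assoc, pullback.condition]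
    obtain ⟨m, hm1, hm2⟩ := pbp.exists_lift _ _ hab
    have fp₁ : IsFppf (pullback.snd qKb (m ≫ snd QH Kb)) :=
      IsFppf.of_isPullback (IsPullback.of_hasPullback qKb _).flip fKb
    have hκ := pullback.condition (f := qKb) (g := m ≫ snd QH Kb)
    set p₁ := pullback.snd qKb (m ≫ snd QH Kb) with hp₁
    set κ := pullback.fst qKb (m ≫ snd QH Kb) with hκdef
    have em : p₁ ≫ m = lift ((p₁ ≫ pullback.fst (qH ≫ p) (qH ≫ p)) ≫ qH) (κ ≫ qKb) := by
      apply CartesianMonoidalCategory.hom_ext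
      · rw [lift_fst, Category.assoc, hm1, Category.assoc]
      · rw [lift_snd, Category.assoc, hκ]
    have e1 : ((p₁ ≫ pullback.fst (qH ≫ p) (qH ≫ p)) * (κ ≫ k)) ≫ qH =
        (p₁ ≫ pullback.snd (qH ≫ p) (qH ≫ p)) ≫ qH := by
      rw [← act_pts k qH qKb act hact, ← em, Category.assoc, hm2, Category.assoc]
    obtain ⟨ζ, hζ⟩ := exists_of_eq pbH _ _ e1
    have heff : EffectiveEpi p₁ := fp₁.effectiveEpi
    refine isIso_of_mono_of_fac _ p₁
      (lift (p₁ ≫ pullback.fst (qH ≫ p) (qH ≫ p)) (κ * (ζ ≫ h))) ?_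
    apply pullback.hom_ext
    · rw [Category.assoc, pullback.lift_fst, lift_fst]
    · rw [Category.assoc, pullback.lift_snd, lift_whisker_mul, MonObj.mul_comp, hζ,
        _root_.mul_assoc, Category.assoc ζ h k]
  exact IsPullback.of_iso_pullback ⟨comm⟩
    (asIso (pullback.lift (fst G K) ((G ◁ k) ≫ μ[G]) comm))
    (pullback.lift_fst _ _ _) (pullback.lift_snd _ _ _)

end

end Groth.Agent.H51.ThirdIso
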