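import Mathlib

/-!
# Descending a lift along a dominating extension of valuation rings (schemes)
-/

universe u

open CategoryTheory CategoryTheory.Limits AlgebraicGeometry

namespace Groth.Agent.H51.ValExt

theorem mem_range_of_dominates {A K A' K' : Type u} [CommRing A] [IsDomain A] [ValuationRing A]
    [Field K] [Algebra A K] [IsFractionRing A K] [CommRing A'] [IsDomain A'] [Field K']
    [Algebra A' K'] [IsFractionRing A' K'] (φ : A →+* A') (ψ : K →+* K')
    (hcomm : (algebraMap A' K').comp φ = ψ.comp (algebraMap A K)) (hφ : IsLocalHom φ)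
    (k : K) (a' : A') (h : algebraMap A' K' a' = ψ k) : ∃ a : A, algebraMap A K a = k := by
  rcases ValuationRing.isInteger_or_isInteger A k with ⟨a, ha⟩ | ⟨a, ha⟩
  · exact ⟨a, ha⟩
  · by_cases hk : k = 0
    · exact ⟨0, by simp [hk]⟩
    have h0 : algebraMap A' K' (φ a) = ψ (algebraMap A K a) := by
      have := congrArg (fun r => r a) hcomm
      simpa using this
    have h2 : algebraMap A' K' (φ a * a') = 1 := by
      rw [map_mul, h, h0, ha, ← map_mul, inv_mul_cancel₀ hk, map_one]
    have h1 : φ a * a' = 1 := IsFractionRing.injective A' K' (by rw [h2, map_one])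
    have hu : IsUnit (φ a) := IsUnit.of_mul_eq_one _ h1
    have hua : IsUnit a := hφ.map_nonunit a hu
    obtain ⟨b, hb⟩ := hua.exists_right_inv
    refine ⟨b, ?_⟩
    have h3 : algebraMap A K a * algebraMap A K b = 1 := by rw [← map_mul, hb, map_one]
    rw [ha] at h3
    have := congrArg (fun r => k * r) h3
    simpa [← mul_assoc, mul_inv_cancel₀ hk] using this

theorem exists_lift_of_domExt {W : Scheme.{u}} {A K A' K' : Type u} [CommRing A] [IsDomain A]
    [ValuationRing A] [Field K] [Algebra A K] [IsFractionRing A K] [CommRing A'] [IsDomain A']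
    [ValuationRing A'] [Field K'] [Algebra A' K'] [IsFractionRing A' K'] (φ : A →+* A')
    (ψ : K →+* K') (hcomm : (algebraMap A' K').comp φ = ψ.comp (algebraMap A K))
    (hφ : IsLocalHom φ) (g : W ⟶ Spec (.of A)) (s : Spec (.of K) ⟶ W) (t : Spec (.of A') ⟶ W)
    (hs : s ≫ g = Spec.map (CommRingCat.ofHom (algebraMap A K)))
    (hst : Spec.map (CommRingCat.ofHom (algebraMap A' K')) ≫ t =
      Spec.map (CommRingCat.ofHom ψ) ≫ s) :
    ∃ l : Spec (.of A) ⟶ W, Spec.map (CommRingCat.ofHom (algebraMap A K)) ≫ l = s ∧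
      l ≫ g = 𝟙 _ := by
  obtain ⟨V, hV', hwV⟩ : ∃ V : W.Opens, IsAffineOpen V ∧ t (IsLocalRing.closedPoint A') ∈ V := by
    obtain ⟨_, ⟨V, hV, rfl⟩, hwV, -⟩ := W.isBasis_affineOpens.exists_subset_of_mem_open
      (Set.mem_univ (t (IsLocalRing.closedPoint A'))) isOpen_univ
    exact ⟨V, hV, hwV⟩
  have htop : t ⁻¹ᵁ V = ⊤ :=
    (IsLocalRing.closedPoint_mem_iff (R := A') (U := t ⁻¹ᵁ V)).mp hwV
  have hrt : Set.range t ⊆ Set.range V.ι := by
    rintro _ ⟨x, rfl⟩
    have : x ∈ t ⁻¹ᵁ V := by rw [htop]; trivial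
    simpa using this
  have hrs : Set.range s ⊆ Set.range V.ι := by
    rintro _ ⟨x, rfl⟩
    obtain ⟨y⟩ : Nonempty (Spec (.of K')) := inferInstance
    have hx : x = Spec.map (CommRingCat.ofHom ψ) y := Subsingleton.elim _ _
    rw [hx, ← Scheme.Hom.comp_apply, ← hst, Scheme.Hom.comp_apply]
    exact hrt ⟨_, rfl⟩
  let t' := IsOpenImmersion.lift V.ι t hrt
  let s' := IsOpenImmersion.lift V.ι s hrs
  have ht' : t' ≫ V.ι = t := IsOpenImmersion.lift_fac _ _ _
  have hs' : s' ≫ V.ι = s := IsOpenImmersion.lift_fac _ _ _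
  have : IsAffine V.toScheme := hV'
  let e := V.toScheme.isoSpec
  let τ := Spec.preimage (t' ≫ e.hom)
  let σ := Spec.preimage (s' ≫ e.hom)
  let α := Spec.preimage (e.inv ≫ V.ι ≫ g)
  have hτ : Spec.map τ = t' ≫ e.hom := Spec.map_preimage _
  have hσ : Spec.map σ = s' ≫ e.hom := Spec.map_preimage _
  have hα : Spec.map α = e.inv ≫ V.ι ≫ g := Spec.map_preimage _
  have hst' : Spec.map (CommRingCat.ofHom (algebraMap A' K')) ≫ t' =
      Spec.map (CommRingCat.ofHom ψ) ≫ s' := by
    rw [← cancel_mono V.ι, Category.assoc, Category.assoc, ht', hs', hst]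
  have hring : τ ≫ CommRingCat.ofHom (algebraMap A' K') = σ ≫ CommRingCat.ofHom ψ := by
    apply Spec.map_injective
    rw [Spec.map_comp, Spec.map_comp, hτ, hσ, reassoc_of% hst']
  have hmem : ∀ b, σ.hom b ∈ (algebraMap A K).range := by
    intro b
    have := congrArg (fun r => r.hom b) hring
    obtain ⟨a, ha⟩ := mem_range_of_dominates φ ψ hcomm hφ (σ.hom b) (τ.hom b) (by simpa using this)
    exact ⟨a, ha⟩
  have hinj : Function.Injective (algebraMap A K) := IsFractionRing.injective A K
  let e0 : A ≃+* (algebraMap A K).range :=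
    RingEquiv.ofBijective (algebraMap A K).rangeRestrict
      ⟨fun x y h => hinj (congrArg Subtype.val h), (algebraMap A K).rangeRestrict_surjective⟩
  let lam : (Γ(V.toScheme, ⊤) : Type u) →+* A :=
    e0.symm.toRingHom.comp (σ.hom.codRestrict _ hmem)
  have hlam : ∀ b, algebraMap A K (lam b) = σ.hom b := by
    intro b
    have : e0 (lam b) = σ.hom.codRestrict _ hmem b := e0.apply_symm_apply _
    exact congrArg Subtype.val this
  have hlam' : CommRingCat.ofHom lam ≫ CommRingCat.ofHom (algebraMap A K) = σ := by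
    ext b
    exact hlam b
  refine ⟨Spec.map (CommRingCat.ofHom lam) ≫ e.inv ≫ V.ι, ?_, ?_⟩
  · rw [← Spec.map_comp_assoc, hlam', hσ, Category.assoc, e.hom_inv_id_assoc, hs']
  · rw [Category.assoc, Category.assoc, ← hα, ← Spec.map_comp]
    have hσα : α ≫ σ = CommRingCat.ofHom (algebraMap A K) := by
      apply Spec.map_injective
      rw [Spec.map_comp, hσ, hα, Category.assoc, e.hom_inv_id_assoc, reassoc_of% hs', hs]
    have : α ≫ CommRingCat.ofHom lam = 𝟙 _ := by
      ext a
      apply hinj
      have := congrArg (fun r => r.hom a) hσα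
      simp only [CommRingCat.hom_comp, RingHom.coe_comp, Function.comp_apply,
        CommRingCat.hom_ofHom] at this
      simp only [CommRingCat.hom_comp, RingHom.coe_comp, Function.comp_apply,
        CommRingCat.hom_ofHom, CommRingCat.hom_id, RingHom.id_apply]
      exact (hlam _).trans this
    exact (congrArg Spec.map this).trans (Spec.map_id _)

end Groth.Agent.H51.ValExt
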