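import Groth.Agent.H51.ValExt
import Groth.Prelude.Def_AlgSpMor5

/-!
# Existence part of the valuative criterion for representable morphisms: extensions are not needed
-/

universe u

open CategoryTheory CategoryTheory.Limits AlgebraicGeometry AlgSp

namespace Groth.Agent.H51.ValExtSp

variable {S : Scheme.{u}}

/-- A lift of the square gives a lift of every dominating extension. -/
theorem domExt_hasLift_of_hasLift {F G : Sp S} {f : F ⟶ G} (sq : ValSq f) (e : sq.DomExt)
    (h : sq.HasLift) : e.HasLift := by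
  obtain ⟨l, hl1, hl2⟩ := h
  refine ⟨(yon S).map (Over.homMk (Spec.map (CommRingCat.ofHom e.φ)) rfl : e.ptA' ⟶ sq.ptA) ≫ l,
    ?_, ?_⟩
  · rw [← hl1, ← Functor.map_comp_assoc, ← Functor.map_comp_assoc]
    congr 2
    ext
    change Spec.map _ ≫ Spec.map _ = Spec.map _ ≫ Spec.map _
    rw [← Spec.map_comp, ← Spec.map_comp, ← CommRingCat.ofHom_comp, ← CommRingCat.ofHom_comp,
      e.comm]
  · rw [Category.assoc, hl2]

/-- The trivial dominating extension. -/
noncomputable def trivialExt {F G : Sp S} {f : F ⟶ G} (sq : ValSq f) : sq.DomExt where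
  A' := sq.A
  K' := sq.K
  φ := RingHom.id _
  ψ := RingHom.id _
  comm := rfl
  isLocalHom := ⟨fun _ h => h⟩

theorem existVC_of_existVCStrict {F G : Sp S} {f : F ⟶ G} (h : ExistVCStrict f) : ExistVC f :=
  fun sq => ⟨trivialExt sq, domExt_hasLift_of_hasLift sq _ (h sq)⟩

/-- For a representable morphism, a lift after a dominating extension descends. -/
theorem hasLift_of_hasLiftExt {F G : Sp S} {f : F ⟶ G} (hf : AlgSp.Representable f) (sq : ValSq f)
    (h : sq.HasLiftExt) : sq.HasLift := by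
  obtain ⟨e, l', hl1, hl2⟩ := h
  obtain ⟨W, snd, fst, pb⟩ := hf sq.bot
  -- the K-point of W
  let s0 := pb.lift sq.top ((yon S).map sq.j) sq.comm
  have hs0f : s0 ≫ fst = sq.top := pb.lift_fst _ _ _
  have hs0s : s0 ≫ (yon S).map snd = (yon S).map sq.j := pb.lift_snd _ _ _
  let s : sq.ptK ⟶ W := (yon S).preimage s0
  have hs : (yon S).map s = s0 := (yon S).map_preimage _
  -- the A'-point of W
  let t0 := pb.lift l' ((yon S).map (Over.homMk (Spec.map (CommRingCat.ofHom e.φ)) rfl :
    e.ptA' ⟶ sq.ptA)) hl2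
  have ht0f : t0 ≫ fst = l' := pb.lift_fst _ _ _
  have ht0s : t0 ≫ (yon S).map snd = (yon S).map (Over.homMk (Spec.map (CommRingCat.ofHom e.φ)) rfl :
    e.ptA' ⟶ sq.ptA) := pb.lift_snd _ _ _
  let t : e.ptA' ⟶ W := (yon S).preimage t0
  have ht : (yon S).map t = t0 := (yon S).map_preimage _
  have hsnd : s ≫ snd = sq.j := by
    apply (yon S).map_injective
    rw [Functor.map_comp, hs, hs0s]
  have hψ : Spec.map (CommRingCat.ofHom e.ψ) ≫ sq.ptK.hom = e.ptK'.hom := by
    change Spec.map _ ≫ Spec.map _ ≫ _ = Spec.map _ ≫ Spec.map _ ≫ _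
    rw [← Spec.map_comp_assoc, ← Spec.map_comp_assoc, ← CommRingCat.ofHom_comp,
      ← CommRingCat.ofHom_comp, e.comm]
  have hst : (Over.homMk (Spec.map (CommRingCat.ofHom (algebraMap e.A' e.K'))) rfl :
      e.ptK' ⟶ e.ptA') ≫ t = (Over.homMk (Spec.map (CommRingCat.ofHom e.ψ)) hψ : e.ptK' ⟶ sq.ptK) ≫
        s := by
    apply (yon S).map_injective
    rw [Functor.map_comp, Functor.map_comp, hs, ht]
    apply pb.hom_ext
    · rw [Category.assoc, Category.assoc, ht0f, hs0f]
      exact hl1
    · rw [Category.assoc, Category.assoc, ht0s, hs0s, ← Functor.map_comp, ← Functor.map_comp]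
      congr 1
      ext
      change Spec.map _ ≫ Spec.map _ = Spec.map _ ≫ Spec.map _
      rw [← Spec.map_comp, ← Spec.map_comp, ← CommRingCat.ofHom_comp, ← CommRingCat.ofHom_comp,
        e.comm]
  obtain ⟨l, hl1', hl2'⟩ := ValExt.exists_lift_of_domExt e.φ e.ψ e.comm e.isLocalHom snd.left s.left
    t.left (congrArg CommaMorphism.left hsnd) (congrArg CommaMorphism.left hst)
  have hlw : l ≫ W.hom = sq.str := by
    have := Over.w snd
    change snd.left ≫ sq.str = W.hom at this
    rw [← this, reassoc_of% hl2']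
  let lo : sq.ptA ⟶ W := Over.homMk l hlw
  refine ⟨(yon S).map lo ≫ fst, ?_, ?_⟩
  · rw [← Functor.map_comp_assoc]
    have : sq.j ≫ lo = s := by
      ext
      exact hl1'
    rw [this, hs, hs0f]
  · rw [Category.assoc, pb.w, ← Functor.map_comp_assoc]
    have : lo ≫ snd = 𝟙 _ := by
      ext
      exact hl2'
    rw [this, CategoryTheory.Functor.map_id, Category.id_comp]

theorem existVC_iff_existVCStrict_of_representable {F G : Sp S} {f : F ⟶ G}
    (hf : AlgSp.Representable f) : ExistVC f ↔ ExistVCStrict f :=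
  ⟨fun h sq => hasLift_of_hasLiftExt hf sq (h sq), existVC_of_existVCStrict⟩

end Groth.Agent.H51.ValExtSp
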