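import Groth.Agent.H51.SepFpqcB
import Groth.Agent.H51.ValExtSp
import Groth.Agent.H52.FibProd
import Mathlib.AlgebraicGeometry.Morphisms.SchemeTheoreticallyDominant

/-!
# helper51: for a separated morphism of algebraic spaces, a lift after a dominating extension of the valuation
ring descends
-/

set_option autoImplicit false
universe u
open CategoryTheory CategoryTheory.Limits AlgebraicGeometry

namespace Groth.Agent.H51.ValSep

open AlgSp

section Ring

theorem faithfullyFlat_of_valuationRing {A A' : Type u} [CommRing A] [IsDomain A] [ValuationRing A]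
    [CommRing A'] [IsDomain A'] [IsLocalRing A'] (φ : A →+* A') (hinj : Function.Injective φ)
    [IsLocalHom φ] : φ.FaithfullyFlat := by
  algebraize [φ]
  have : Module.IsTorsionFree A A' := Module.isTorsionFree_iff_algebraMap_injective.2 hinj
  have hfl : Module.Flat A A' := by
    rw [Module.Flat.flat_iff_torsion_eq_bot_of_isBezout, ← Submodule.isTorsionFree_iff_torsion_eq_bot]
    infer_instance
  have : IsLocalHom (algebraMap A A') := ‹IsLocalHom φ›
  exact Module.FaithfullyFlat.of_flat_of_isLocalHom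

theorem flat_of_valuationRing {A B : Type u} [CommRing A] [IsDomain A] [ValuationRing A]
    [CommRing B] [IsDomain B] (φ : A →+* B) (hinj : Function.Injective φ) : φ.Flat := by
  algebraize [φ]
  have : Module.IsTorsionFree A B := Module.isTorsionFree_iff_algebraMap_injective.2 hinj
  show Module.Flat A B
  rw [Module.Flat.flat_iff_torsion_eq_bot_of_isBezout, ← Submodule.isTorsionFree_iff_torsion_eq_bot]
  infer_instance

theorem ker_SpecMap_eq_bot {R R' : CommRingCat.{u}} (φ : R ⟶ R')
    (h : Function.Injective φ.hom) : (Spec.map φ).ker = ⊥ := by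
  apply Scheme.IdealSheafData.ext_of_isAffine
  rw [Scheme.Hom.ker_apply, Scheme.IdealSheafData.ideal_bot, Pi.bot_apply,
    ← RingHom.injective_iff_ker_eq_bot]
  have hnat := Scheme.ΓSpecIso_naturality φ
  have h1 : Function.Injective ((Spec.map φ).appTop ≫ (Scheme.ΓSpecIso R').hom).hom := by
    rw [hnat, CommRingCat.hom_comp, RingHom.coe_comp]
    exact h.comp (ConcreteCategory.bijective_of_isIso (Scheme.ΓSpecIso R).hom).1
  rw [CommRingCat.hom_comp, RingHom.coe_comp] at h1
  exact h1.of_comp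

theorem mono_SpecMap_of_epi {R R' : CommRingCat.{u}} (φ : R ⟶ R') [Epi φ] : Mono (Spec.map φ) := by
  have h1 : Mono φ.op := inferInstance
  have h2 : (Scheme.Spec).PreservesMonomorphisms := inferInstance
  exact (Scheme.Spec).map_mono φ.op

theorem isLocalHom_of_field {K K' : Type u} [Field K] [Field K'] (ψ : K →+* K') : IsLocalHom ψ :=
  ⟨fun x hx => by
    have : x ≠ 0 := by
      rintro rfl
      rw [map_zero] at hx
      exact not_isUnit_zero hx
    exact this.isUnit⟩

end Ring

variable {S : Scheme.{u}}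

/-- For a separated morphism of algebraic spaces, a lift after a dominating extension descends. -/
theorem hasLift_of_domExt {F G : Sp S} (hF : IsAlgSpace F) (hG : IsAlgSpace G) (f : F ⟶ G)
    (hf : IsSeparatedMor f) (sq : ValSq f) (e : sq.DomExt) (he : e.HasLift) : sq.HasLift := by
  obtain ⟨l', hl1, hl2⟩ := he
  -- ring level facts
  have hψinj : Function.Injective e.ψ := e.ψ.injective
  have hAK : Function.Injective (algebraMap sq.A sq.K) := IsFractionRing.injective sq.A sq.K
  have hA'K' : Function.Injective (algebraMap e.A' e.K') := IsFractionRing.injective e.A' e.K'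
  have hφinj : Function.Injective e.φ := by
    have : Function.Injective ((algebraMap e.A' e.K').comp e.φ) := by
      rw [e.comm]
      exact hψinj.comp hAK
    exact Function.Injective.of_comp this
  have := e.isLocalHom
  have hφff : e.φ.FaithfullyFlat := faithfullyFlat_of_valuationRing e.φ hφinj
  have := isLocalHom_of_field e.ψ
  have hψff : e.ψ.FaithfullyFlat := faithfullyFlat_of_valuationRing e.ψ hψinj
  have hjfl : (algebraMap e.A' e.K').Flat := flat_of_valuationRing _ hA'K'
  -- the morphisms of schemes over `S`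
  let fφ : e.ptA' ⟶ sq.ptA := Over.homMk (Spec.map (CommRingCat.ofHom e.φ)) rfl
  let jK' : e.ptK' ⟶ e.ptA' := Over.homMk (Spec.map (CommRingCat.ofHom (algebraMap e.A' e.K'))) rfl
  have hψw : Spec.map (CommRingCat.ofHom e.ψ) ≫ sq.ptK.hom = e.ptK'.hom := by
    change Spec.map _ ≫ Spec.map _ ≫ _ = Spec.map _ ≫ Spec.map _ ≫ _
    rw [← Spec.map_comp_assoc, ← Spec.map_comp_assoc, ← CommRingCat.ofHom_comp,
      ← CommRingCat.ofHom_comp, e.comm]
  let ψO : e.ptK' ⟶ sq.ptK := Over.homMk (Spec.map (CommRingCat.ofHom e.ψ)) hψw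
  have hl1' : (yon S).map jK' ≫ l' = (yon S).map ψO ≫ sq.top := hl1
  have hl2' : l' ≫ f = (yon S).map fφ ≫ sq.bot := hl2
  have hjψ : jK' ≫ fφ = ψO ≫ sq.j := by
    ext
    change Spec.map _ ≫ Spec.map _ = Spec.map _ ≫ Spec.map _
    rw [← Spec.map_comp, ← Spec.map_comp, ← CommRingCat.ofHom_comp, ← CommRingCat.ofHom_comp,
      e.comm]
  have hfφfl : Flat fφ.left :=
    ((flat_and_surjective_SpecMap_iff (CommRingCat.ofHom e.φ)).2 hφff).1
  have hfφsurj : Surjective fφ.left :=
    ((flat_and_surjective_SpecMap_iff (CommRingCat.ofHom e.φ)).2 hφff).2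
  have hfφaff : IsAffineHom fφ.left := by
    change IsAffineHom (Spec.map _)
    infer_instance
  have hψfl : Flat ψO.left :=
    ((flat_and_surjective_SpecMap_iff (CommRingCat.ofHom e.ψ)).2 hψff).1
  have hψsurj : Surjective ψO.left :=
    ((flat_and_surjective_SpecMap_iff (CommRingCat.ofHom e.ψ)).2 hψff).2
  have hψqc : QuasiCompact ψO.left := by
    change QuasiCompact (Spec.map _)
    infer_instance
  have hjK'fl : Flat jK'.left :=
    (HasRingHomProperty.Spec_iff (P := @Flat)).2 hjfl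
  have hjK'std : IsSchemeTheoreticallyDominant jK'.left :=
    ⟨ker_SpecMap_eq_bot (CommRingCat.ofHom (algebraMap e.A' e.K')) hA'K'⟩
  have hjK'qc : QuasiCompact jK'.left := by
    change QuasiCompact (Spec.map _)
    infer_instance
  have hjmono : Mono sq.j := by
    have : Epi (CommRingCat.ofHom (algebraMap sq.A sq.K)) :=
      IsLocalization.epi (nonZeroDivisors sq.A) sq.K
    have : Mono sq.j.left := mono_SpecMap_of_epi (CommRingCat.ofHom (algebraMap sq.A sq.K))
    exact Over.mono_of_mono_left sq.j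
  -- the base change to `Spec A`
  let q : pullback f sq.bot ⟶ (yon S).obj sq.ptA := pullback.snd f sq.bot
  let pF : pullback f sq.bot ⟶ F := pullback.fst f sq.bot
  have hpq : pF ≫ f = q ≫ sq.bot := pullback.condition
  have hsep : RepWith @IsClosedImmersion (pullback.diagonal q) :=
    MorphismProperty.of_isPullback (P := (RepWith (S := S) @IsClosedImmersion).diagonal)
      (IsPullback.of_hasPullback f sq.bot) hf
  have hF' : IsAlgSpace (pullback f sq.bot) :=
    H52.isAlgSpace_of_isPullback (IsPullback.of_hasPullback f sq.bot) hG.diag hF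
      (IsAlgSpace.yon_obj _)
  obtain ⟨U, p, hpe, hps⟩ := hF'.atlas
  have hpfl : RepWith @Flat p :=
    H50.repWith_mono (fun A B k (hk : Etale k) => (inferInstance : Flat k)) hpe
  have hplfp : RepWith @LocallyOfFinitePresentation p :=
    H50.repWith_mono (fun A B k (hk : Etale k) =>
      (inferInstance : LocallyOfFinitePresentation k)) hpe
  let ξ' : (yon S).obj e.ptA' ⟶ pullback f sq.bot := pullback.lift l' ((yon S).map fφ) hl2'
  have hξ'q : ξ' ≫ q = (yon S).map fφ := pullback.lift_snd _ _ _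
  have hξ'p : ξ' ≫ pF = l' := pullback.lift_fst _ _ _
  let s : (yon S).obj sq.ptK ⟶ pullback f sq.bot := pullback.lift sq.top ((yon S).map sq.j) sq.comm
  have hsq : s ≫ q = (yon S).map sq.j := pullback.lift_snd _ _ _
  have hsp : s ≫ pF = sq.top := pullback.lift_fst _ _ _
  have hstar : (yon S).map jK' ≫ ξ' = (yon S).map ψO ≫ s := by
    apply pullback.hom_ext
    · change ((yon S).map jK' ≫ ξ') ≫ pF = ((yon S).map ψO ≫ s) ≫ pF
      rw [Category.assoc, Category.assoc, hξ'p, hsp, hl1']
    · change ((yon S).map jK' ≫ ξ') ≫ q = ((yon S).map ψO ≫ s) ≫ q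
      rw [Category.assoc, Category.assoc, hξ'q, hsq, ← Functor.map_comp, ← Functor.map_comp, hjψ]
  clear_value ξ' s
  -- the two pullbacks of `ξ'` to `Spec A' ×_A Spec A'` agree
  have heq : ∀ (T₁ : Over S) (τ₁ τ₂ : T₁ ⟶ e.ptA'), τ₁ ≫ fφ = τ₂ ≫ fφ →
      (yon S).map τ₁ ≫ ξ' = (yon S).map τ₂ ≫ ξ' := by
    let P'' : Over S := H50.pbOver fφ fφ
    let p₁ : P'' ⟶ e.ptA' := H50.pbOverFst fφ fφ
    let p₂ : P'' ⟶ e.ptA' := H50.pbOverSnd fφ fφ
    have hp12 : p₁ ≫ fφ = p₂ ≫ fφ := H50.pbOver_condition fφ fφ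
    have hab : ((yon S).map p₁ ≫ ξ') ≫ q = ((yon S).map p₂ ≫ ξ') ≫ q := by
      rw [Category.assoc, Category.assoc, hξ'q, ← Functor.map_comp, ← Functor.map_comp, hp12]
    suffices hmain : (yon S).map p₁ ≫ ξ' = (yon S).map p₂ ≫ ξ' by
      intro T₁ τ₁ τ₂ hτ
      have hτl : τ₁.left ≫ fφ.left = τ₂.left ≫ fφ.left := congrArg CommaMorphism.left hτ
      have htw : pullback.lift τ₁.left τ₂.left hτl ≫ P''.hom = T₁.hom := by
        change pullback.lift τ₁.left τ₂.left hτl ≫ pullback.fst fφ.left fφ.left ≫ e.ptA'.hom = T₁.hom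
        rw [pullback.lift_fst_assoc, Over.w]
      let t : T₁ ⟶ P'' := Over.homMk (pullback.lift τ₁.left τ₂.left hτl) htw
      have ht1 : t ≫ p₁ = τ₁ := by
        apply Over.OverMorphism.ext
        exact pullback.lift_fst _ _ _
      have ht2 : t ≫ p₂ = τ₂ := by
        apply Over.OverMorphism.ext
        exact pullback.lift_snd _ _ _
      rw [← ht1, ← ht2, Functor.map_comp, Functor.map_comp, Category.assoc, Category.assoc, hmain]
    obtain ⟨E, e₀, hcl, he₀, huniv⟩ := SepFpqc.exists_closed_equalizer q hsep _ _ hab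
    -- the scheme theoretically dense `Spec K' ×_A Spec K'`
    let pr₁ : P''.left ⟶ e.ptA'.left := pullback.fst fφ.left fφ.left
    let pr₂ : P''.left ⟶ e.ptA'.left := pullback.snd fφ.left fφ.left
    have hpr₁fl : Flat pr₁ := inferInstance
    have hpr₂fl : Flat pr₂ := inferInstance
    let m₁ : pullback pr₂ jK'.left ⟶ P''.left := pullback.fst pr₂ jK'.left
    let n₁ : pullback pr₂ jK'.left ⟶ e.ptK'.left := pullback.snd pr₂ jK'.left
    have hm₁ : m₁ ≫ pr₂ = n₁ ≫ jK'.left := pullback.condition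
    have hm₁std : IsSchemeTheoreticallyDominant m₁ := inferInstance
    have hm₁fl : Flat m₁ := inferInstance
    have hm₁pr₁fl : Flat (m₁ ≫ pr₁) := inferInstance
    let m₂ : pullback (m₁ ≫ pr₁) jK'.left ⟶ pullback pr₂ jK'.left := pullback.fst (m₁ ≫ pr₁) jK'.left
    let n₂ : pullback (m₁ ≫ pr₁) jK'.left ⟶ e.ptK'.left := pullback.snd (m₁ ≫ pr₁) jK'.left
    have hm₂ : m₂ ≫ m₁ ≫ pr₁ = n₂ ≫ jK'.left := pullback.condition
    have hm₂std : IsSchemeTheoreticallyDominant m₂ := inferInstance
    have hgstd : IsSchemeTheoreticallyDominant (m₂ ≫ m₁) := inferInstance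
    have hP''w : pr₂ ≫ e.ptA'.hom = P''.hom := H50.pbOver_snd_w fφ fφ
    let GO : Over S := Over.mk ((m₂ ≫ m₁) ≫ P''.hom)
    let gO : GO ⟶ P'' := Over.homMk (m₂ ≫ m₁) rfl
    have hκ₁w : n₂ ≫ e.ptK'.hom = GO.hom := by
      change n₂ ≫ jK'.left ≫ e.ptA'.hom = (m₂ ≫ m₁) ≫ pr₁ ≫ e.ptA'.hom
      rw [← Category.assoc, ← hm₂]
      simp only [Category.assoc]
    let κ₁ : GO ⟶ e.ptK' := Over.homMk n₂ hκ₁w
    have hκ₂w : (m₂ ≫ n₁) ≫ e.ptK'.hom = GO.hom := by
      change (m₂ ≫ n₁) ≫ jK'.left ≫ e.ptA'.hom = (m₂ ≫ m₁) ≫ P''.hom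
      rw [← hP''w, Category.assoc, ← Category.assoc n₁, ← hm₁]
      simp only [Category.assoc]
    let κ₂ : GO ⟶ e.ptK' := Over.homMk (m₂ ≫ n₁) hκ₂w
    have hg1 : gO ≫ p₁ = κ₁ ≫ jK' := by
      apply Over.OverMorphism.ext
      change (m₂ ≫ m₁) ≫ pr₁ = n₂ ≫ jK'.left
      rw [Category.assoc, hm₂]
    have hg2 : gO ≫ p₂ = κ₂ ≫ jK' := by
      apply Over.OverMorphism.ext
      change (m₂ ≫ m₁) ≫ pr₂ = (m₂ ≫ n₁) ≫ jK'.left
      rw [Category.assoc, Category.assoc, hm₁]
    have hκψ : κ₁ ≫ ψO = κ₂ ≫ ψO := by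
      rw [← cancel_mono sq.j, Category.assoc, Category.assoc, ← hjψ, ← Category.assoc,
        ← Category.assoc, ← hg1, ← hg2, Category.assoc, Category.assoc, hp12]
    have hgab : (yon S).map gO ≫ (yon S).map p₁ ≫ ξ' = (yon S).map gO ≫ (yon S).map p₂ ≫ ξ' := by
      rw [← Category.assoc, ← Category.assoc, ← Functor.map_comp, ← Functor.map_comp, hg1, hg2,
        Functor.map_comp, Functor.map_comp, Category.assoc, Category.assoc, hstar,
        ← Category.assoc, ← Category.assoc, ← Functor.map_comp, ← Functor.map_comp, hκψ]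
    obtain ⟨z, hz⟩ := huniv GO gO hgab
    have hker : e₀.left.ker = ⊥ := by
      have h1 : e₀.left.ker ≤ (z.left ≫ e₀.left).ker := Scheme.Hom.le_ker_comp z.left e₀.left
      have h2 : z.left ≫ e₀.left = m₂ ≫ m₁ := congrArg CommaMorphism.left hz
      rw [h2, hgstd.ker_eq_bot] at h1
      exact le_bot_iff.1 h1
    have hiso : IsIso e₀.left := IsClosedImmersion.isIso_iff_ker_eq_bot.2 hker
    have hiso' : IsIso e₀ := by
      have : IsIso ((Over.forget S).map e₀) := hiso
      exact isIso_of_reflects_iso e₀ (Over.forget S)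
    rw [← cancel_epi ((yon S).map e₀)]
    exact he₀
  obtain ⟨ξ, hξq, hξf⟩ := SepFpqc.exists_section_of_fpqc fφ q hsep p hpfl hplfp hps ξ' hξ'q heq
  have hjξ : (yon S).map sq.j ≫ ξ = s := by
    apply SepFpqc.eq_of_fpqc_cover q hsep ψO
    · rw [Category.assoc, hξq, Category.comp_id, hsq]
    · rw [← hstar, ← hξf, ← Category.assoc, ← Category.assoc, ← Functor.map_comp,
        ← Functor.map_comp, hjψ]
  refine ⟨ξ ≫ pF, ?_, ?_⟩
  · rw [← Category.assoc, hjξ, hsp]
  · rw [Category.assoc, hpq, ← Category.assoc, hξq, Category.id_comp]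

end Groth.Agent.H51.ValSep
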