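import Groth.Prelude.Def_AlgSpMor5
import Mathlib.AlgebraicGeometry.Morphisms.ClosedImmersion

/-! Uniqueness part of the valuative criterion for separated morphisms (helper51). -/

set_option autoImplicit false
universe u
open CategoryTheory CategoryTheory.Limits AlgebraicGeometry
open AlgSp

namespace Groth.Agent.H51

/-- A closed immersion into the spectrum of a domain through which the generic point factors is an
isomorphism. -/
theorem isIso_of_isClosedImmersion_of_generic (A K : Type u) [CommRing A] [IsDomain A] [Field K]
    [Algebra A K] (hinj : Function.Injective (algebraMap A K)) {Z : Scheme.{u}}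
    (i : Z ⟶ Spec (CommRingCat.of A)) [IsClosedImmersion i] (k : Spec (CommRingCat.of K) ⟶ Z)
    (hk : k ≫ i = Spec.map (CommRingCat.ofHom (algebraMap A K))) : IsIso i := by
  have hsurj : Surjective i := by
    refine ⟨fun y => ?_⟩
    let η : Spec (CommRingCat.of K) := default
    have hx : (k ≫ i) η ∈ Set.range i := ⟨k η, rfl⟩
    have hcl : IsClosed (Set.range i) := i.isClosedEmbedding.isClosed_range
    have hsp : (k ≫ i) η ⤳ y := by
      rw [hk]
      change (PrimeSpectrum.comap (algebraMap A K) η : PrimeSpectrum A) ⤳ (y : PrimeSpectrum A)
      rw [← PrimeSpectrum.le_iff_specializes]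
      intro a ha
      have h0 : algebraMap A K a ∈ (η : PrimeSpectrum K).asIdeal := ha
      have hbot : (η : PrimeSpectrum K).asIdeal = ⊥ := Ideal.eq_bot_of_prime _
      rw [hbot, Ideal.mem_bot] at h0
      have : a = 0 := hinj (by rw [h0, map_zero])
      rw [this]
      exact Ideal.zero_mem _
    exact hsp.mem_closed hcl hx
  exact isIso_of_isClosedImmersion_of_surjective i

end Groth.Agent.H51
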