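import Groth.Agent.H51.DescCrit
import Mathlib.AlgebraicGeometry.Cover.Open
import Mathlib.AlgebraicGeometry.Gluing

/-!
# Descent data along a Zariski refinement of families (helper51)

`u i : U i ⟶ S` refines `v j : V j ⟶ S` through `g i : U i ⟶ V (α i)`, and for every `j` the `g i` with `α i = j`
form a Zariski covering of `V j`.  Given a descent datum `E` relative to `u` and, for every `j`, a solution `Y j` of the
descent problem of `E` relative to the covering of `V j`, we construct a descent datum relative to `v` on the `Y j`.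
-/

set_option autoImplicit false
universe u
open CategoryTheory CategoryTheory.Limits AlgebraicGeometry Opposite Desc

namespace Groth.Agent.H51.ZarDD

open Groth.Agent.H51.DescCrit

variable {ι κ : Type u} {S : Scheme.{u}} {U : ι → Scheme.{u}} {V : κ → Scheme.{u}}
  {u : ∀ i, U i ⟶ S} {v : ∀ j, V j ⟶ S} {α : ι → κ} {g : ∀ i, U i ⟶ V (α i)}

/-- The indices over `j`. -/
abbrev I (α : ι → κ) (j : κ) : Type u := {i : ι // α i = j}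

/-- The members of the covering of `V j`. -/
def g' (g : ∀ i, U i ⟶ V (α i)) (j : κ) (i : I α j) : U i.1 ⟶ V j := g i.1 ≫ eqToHom (congrArg V i.2)

theorem g'_v (w : ∀ i, g i ≫ v (α i) = u i) (j : κ) (i : I α j) : g' g j i ≫ v j = u i.1 := by
  obtain ⟨i, rfl⟩ := i
  simp [g', w]

theorem g'_self (i : ι) : g' g (α i) ⟨i, rfl⟩ = g i := by
  simp [g']

theorem φ_congr (E : SchDDFam u) {T : Scheme.{u}} {i j : ι} {x₀ x₀' : T ⟶ U i} {x₁ x₁' : T ⟶ U j}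
    (h : x₀ ≫ u i = x₁ ≫ u j) (h' : x₀' ≫ u i = x₁' ≫ u j) (e₀ : x₀ = x₀') (e₁ : x₁ = x₁')
    (p : Lifts (E.obj i) x₀) (p' : Lifts (E.obj i) x₀') (hp : p.1 = p'.1) :
    (E.φ x₀ x₁ h p).1 = (E.φ x₀' x₁' h' p').1 := by
  subst e₀ e₁
  obtain rfl : p = p' := Subtype.ext hp
  rfl

variable (w : ∀ i, g i ≫ v (α i) = u i) (E : SchDDFam u)

include w in
theorem hu_of {T : Scheme.{u}} {j : κ} {i i' : I α j} (x₀ : T ⟶ U i.1) (x₁ : T ⟶ U i'.1)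
    (h : x₀ ≫ g' g j i = x₁ ≫ g' g j i') : x₀ ≫ u i.1 = x₁ ≫ u i'.1 := by
  rw [← g'_v w j i, ← g'_v w j i', ← Category.assoc, h, Category.assoc]

/-- The descent datum relative to the covering of `V j` induced by `E`. -/
def Ej (j : κ) : SchDDFam (fun i : I α j => g' g j i) where
  obj i := E.obj i.1
  φ T i i' x₀ x₁ h := E.φ x₀ x₁ (hu_of w x₀ x₁ h)
  φ_natural T T' c i i' x₀ x₁ h y₀ y₁ hy₀ hy₁ h' p p' hp' :=
    E.φ_natural c x₀ x₁ _ y₀ y₁ hy₀ hy₁ _ p p' hp'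
  φ_self T i x p := E.φ_self x p
  φ_comp T i i' i'' x₀ x₁ x₂ h₀₁ h₁₂ p := E.φ_comp x₀ x₁ x₂ _ _ p

/-- Solutions of the local descent problems. -/
structure Sol where
  Y : ∀ j, Over (V j)
  kk : ∀ j (i : I α j), (E.obj i.1).left ⟶ (Y j).left
  hs : ∀ j, IsSol (Ej w E j) (Y j) (kk j)

variable {w E} (s : Sol w E)

theorem Sol.sq (j : κ) (i : I α j) :
    IsPullback (s.kk j i) (E.obj i.1).hom (s.Y j).hom (g' g j i) := (s.hs j).sq i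

theorem Sol.inv {T : Scheme.{u}} {j : κ} {i i' : I α j} (x₀ : T ⟶ U i.1) (x₁ : T ⟶ U i'.1)
    (h : x₀ ≫ g' g j i = x₁ ≫ g' g j i') (p : Lifts (E.obj i.1) x₀) :
    (E.φ x₀ x₁ (hu_of w x₀ x₁ h) p).1 ≫ s.kk j i' = p.1 ≫ s.kk j i := (s.hs j).inv x₀ x₁ h p

section loc

variable {T : Scheme.{u}} {j j' : κ} {y₀ : T ⟶ V j} {y₁ : T ⟶ V j'} (hy : y₀ ≫ v j = y₁ ≫ v j')
  {p : T ⟶ (s.Y j).left} (hp : p ≫ (s.Y j).hom = y₀)

include w hy in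
theorem hx {T' : Scheme.{u}} (t : T' ⟶ T) (i : I α j) (i' : I α j') (x₀ : T' ⟶ U i.1)
    (x₁ : T' ⟶ U i'.1) (h₀ : t ≫ y₀ = x₀ ≫ g' g j i) (h₁ : t ≫ y₁ = x₁ ≫ g' g j' i') :
    x₀ ≫ u i.1 = x₁ ≫ u i'.1 := by
  rw [← g'_v w j i, ← g'_v w j' i', ← Category.assoc, ← h₀, Category.assoc, hy, ← Category.assoc,
    h₁, Category.assoc]

/-- The local lift of `p`. -/
noncomputable def lft {T' : Scheme.{u}} (t : T' ⟶ T) (i : I α j) (x₀ : T' ⟶ U i.1)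
    (h₀ : t ≫ y₀ = x₀ ≫ g' g j i) : Lifts (E.obj i.1) x₀ :=
  ⟨(s.sq j i).lift (t ≫ p) x₀ (by rw [Category.assoc, hp, h₀]), (s.sq j i).lift_snd _ _ _⟩

theorem lft_k {T' : Scheme.{u}} (t : T' ⟶ T) (i : I α j) (x₀ : T' ⟶ U i.1)
    (h₀ : t ≫ y₀ = x₀ ≫ g' g j i) : (lft s hp t i x₀ h₀).1 ≫ s.kk j i = t ≫ p :=
  (s.sq j i).lift_fst _ _ _

theorem lft_unique {T' : Scheme.{u}} (t : T' ⟶ T) (i : I α j) (x₀ : T' ⟶ U i.1)
    (h₀ : t ≫ y₀ = x₀ ≫ g' g j i) (q : Lifts (E.obj i.1) x₀) (h1 : q.1 ≫ s.kk j i = t ≫ p) :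
    lft s hp t i x₀ h₀ = q := by
  apply Subtype.ext
  apply (s.sq j i).hom_ext
  · rw [lft_k, h1]
  · rw [(lft s hp t i x₀ h₀).2, q.2]

/-- The local value of the glued point. -/
noncomputable def loc {T' : Scheme.{u}} (t : T' ⟶ T) (i : I α j) (i' : I α j') (x₀ : T' ⟶ U i.1)
    (x₁ : T' ⟶ U i'.1) (h₀ : t ≫ y₀ = x₀ ≫ g' g j i) (h₁ : t ≫ y₁ = x₁ ≫ g' g j' i') :
    T' ⟶ (s.Y j').left :=
  (E.φ x₀ x₁ (hx (w := w) hy t i i' x₀ x₁ h₀ h₁) (lft s hp t i x₀ h₀)).1 ≫ s.kk j' i'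

theorem loc_comp {T' T'' : Scheme.{u}} (c : T'' ⟶ T') (t : T' ⟶ T) (i : I α j) (i' : I α j')
    (x₀ : T' ⟶ U i.1) (x₁ : T' ⟶ U i'.1) (h₀ : t ≫ y₀ = x₀ ≫ g' g j i)
    (h₁ : t ≫ y₁ = x₁ ≫ g' g j' i') :
    c ≫ loc s hy hp t i i' x₀ x₁ h₀ h₁ = loc s hy hp (c ≫ t) i i' (c ≫ x₀) (c ≫ x₁)
      (by rw [Category.assoc, h₀, Category.assoc]) (by rw [Category.assoc, h₁, Category.assoc]) := by
  unfold loc
  rw [← Category.assoc]
  congr 1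
  symm
  refine E.φ_natural c x₀ x₁ _ (c ≫ x₀) (c ≫ x₁) rfl rfl _ (lft s hp t i x₀ h₀) _ ?_
  have := lft_unique s hp (c ≫ t) i (c ≫ x₀) (by rw [Category.assoc, h₀, Category.assoc])
    ⟨c ≫ (lft s hp t i x₀ h₀).1, by rw [Category.assoc, (lft s hp t i x₀ h₀).2]⟩
    (by rw [Category.assoc, lft_k, Category.assoc])
  rw [this]

/-- The local value does not depend on the chosen local factorisations. -/
theorem loc_indep {T' : Scheme.{u}} (t t' : T' ⟶ T) (et : t = t') (i : I α j) (i' : I α j')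
    (x₀ : T' ⟶ U i.1) (x₁ : T' ⟶ U i'.1) (h₀ : t ≫ y₀ = x₀ ≫ g' g j i)
    (h₁ : t ≫ y₁ = x₁ ≫ g' g j' i') (i₂ : I α j) (i₂' : I α j') (x₀₂ : T' ⟶ U i₂.1)
    (x₁₂ : T' ⟶ U i₂'.1) (h₀₂ : t' ≫ y₀ = x₀₂ ≫ g' g j i₂) (h₁₂ : t' ≫ y₁ = x₁₂ ≫ g' g j' i₂') :
    loc s hy hp t i i' x₀ x₁ h₀ h₁ = loc s hy hp t' i₂ i₂' x₀₂ x₁₂ h₀₂ h₁₂ := by
  subst et
  have h00 : x₀ ≫ g' g j i = x₀₂ ≫ g' g j i₂ := h₀.symm.trans h₀₂
  have h11 : x₁ ≫ g' g j' i' = x₁₂ ≫ g' g j' i₂' := h₁.symm.trans h₁₂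
  have e1 : lft s hp t i₂ x₀₂ h₀₂ = E.φ x₀ x₀₂ (hu_of w x₀ x₀₂ h00) (lft s hp t i x₀ h₀) := by
    apply lft_unique
    rw [s.inv x₀ x₀₂ h00, lft_k]
  unfold loc
  rw [e1, E.φ_comp, ← s.inv x₁ x₁₂ h11, E.φ_comp]

theorem loc_hom {T' : Scheme.{u}} (t : T' ⟶ T) (i : I α j) (i' : I α j') (x₀ : T' ⟶ U i.1)
    (x₁ : T' ⟶ U i'.1) (h₀ : t ≫ y₀ = x₀ ≫ g' g j i) (h₁ : t ≫ y₁ = x₁ ≫ g' g j' i') :
    loc s hy hp t i i' x₀ x₁ h₀ h₁ ≫ (s.Y j').hom = t ≫ y₁ := by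
  unfold loc
  rw [Category.assoc, (s.sq j' i').w, ← Category.assoc,
    (E.φ x₀ x₁ (hx (w := w) hy t i i' x₀ x₁ h₀ h₁) (lft s hp t i x₀ h₀)).2, h₁]

end loc

variable (hcov : ∀ j, Presieve.ofArrows (fun i : {i // α i = j} => U i.1)
  (fun i => g i.1 ≫ eqToHom (congrArg V i.2)) ∈ Scheme.zariskiPrecoverage (V j))

/-- The covering of `V j`. -/
def cV (j : κ) : (V j).OpenCover where
  I₀ := I α j
  X i := U i.1
  f i := g' g j i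
  mem₀ := hcov j

section glue

variable {T : Scheme.{u}} {j j' : κ} (y₀ : T ⟶ V j) (y₁ : T ⟶ V j')

/-- The open cover of `T` by the loci where `y₀` and `y₁` lift to members of the coverings. -/
noncomputable def cov : T.OpenCover :=
  ((cV hcov j).pullback₁ y₀).bind
    (fun i => (cV hcov j').pullback₁ (((cV hcov j).pullback₁ y₀).f i ≫ y₁))

/-- The first local lift. -/
noncomputable def cy₀ (q : Σ _ : I α j, I α j') : (cov hcov y₀ y₁).X q ⟶ U q.1.1 :=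
  pullback.fst (pullback.fst y₀ (g' g j q.1) ≫ y₁) (g' g j' q.2) ≫ pullback.snd y₀ (g' g j q.1)

/-- The second local lift. -/
noncomputable def cy₁ (q : Σ _ : I α j, I α j') : (cov hcov y₀ y₁).X q ⟶ U q.2.1 :=
  pullback.snd (pullback.fst y₀ (g' g j q.1) ≫ y₁) (g' g j' q.2)

/-- The structure map of a member of the cover. -/
noncomputable def ct (q : Σ _ : I α j, I α j') : (cov hcov y₀ y₁).X q ⟶ T :=
  pullback.fst (pullback.fst y₀ (g' g j q.1) ≫ y₁) (g' g j' q.2) ≫ pullback.fst y₀ (g' g j q.1)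

theorem cov_f (q : Σ _ : I α j, I α j') : (cov hcov y₀ y₁).f q = ct hcov y₀ y₁ q := rfl

theorem ch₀ (q : Σ _ : I α j, I α j') :
    ct hcov y₀ y₁ q ≫ y₀ = cy₀ hcov y₀ y₁ q ≫ g' g j q.1 := by
  unfold ct cy₀
  rw [Category.assoc, Category.assoc, pullback.condition]

theorem ch₁ (q : Σ _ : I α j, I α j') :
    ct hcov y₀ y₁ q ≫ y₁ = cy₁ hcov y₀ y₁ q ≫ g' g j' q.2 := by
  unfold ct cy₁
  rw [Category.assoc]
  exact pullback.condition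

variable {y₀ y₁} (hy : y₀ ≫ v j = y₁ ≫ v j') {p : T ⟶ (s.Y j).left} (hp : p ≫ (s.Y j).hom = y₀)

/-- The local pieces of the glued point. -/
noncomputable def gl (q : Σ _ : I α j, I α j') : (cov hcov y₀ y₁).X q ⟶ (s.Y j').left :=
  loc s hy hp (ct hcov y₀ y₁ q) q.1 q.2 (cy₀ hcov y₀ y₁ q) (cy₁ hcov y₀ y₁ q) (ch₀ hcov y₀ y₁ q)
    (ch₁ hcov y₀ y₁ q)

theorem gl_compat (q q' : Σ _ : I α j, I α j') :
    pullback.fst ((cov hcov y₀ y₁).f q) ((cov hcov y₀ y₁).f q') ≫ gl s hcov hy hp q =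
      pullback.snd ((cov hcov y₀ y₁).f q) ((cov hcov y₀ y₁).f q') ≫ gl s hcov hy hp q' := by
  have hc : pullback.fst ((cov hcov y₀ y₁).f q) ((cov hcov y₀ y₁).f q') ≫ ct hcov y₀ y₁ q =
      pullback.snd ((cov hcov y₀ y₁).f q) ((cov hcov y₀ y₁).f q') ≫ ct hcov y₀ y₁ q' :=
    pullback.condition
  unfold gl
  rw [loc_comp, loc_comp]
  exact loc_indep s hy hp _ _ hc _ _ _ _ _ _ _ _ _ _ _ _

/-- The glued point. -/
noncomputable def φfun : T ⟶ (s.Y j').left :=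
  Scheme.Cover.glueMorphisms (cov hcov y₀ y₁) (fun q => gl s hcov hy hp q)
    (fun q q' => gl_compat s hcov hy hp q q')

/-- The local formula for the glued point. -/
theorem φfun_local {T' : Scheme.{u}} (t : T' ⟶ T) (i : I α j) (i' : I α j') (x₀ : T' ⟶ U i.1)
    (x₁ : T' ⟶ U i'.1) (h₀ : t ≫ y₀ = x₀ ≫ g' g j i) (h₁ : t ≫ y₁ = x₁ ≫ g' g j' i') :
    t ≫ φfun s hcov hy hp = loc s hy hp t i i' x₀ x₁ h₀ h₁ := by
  let c₁ : T' ⟶ pullback y₀ (g' g j i) := pullback.lift t x₀ h₀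
  have hc₁ : c₁ ≫ pullback.fst y₀ (g' g j i) = t := pullback.lift_fst _ _ _
  let c : T' ⟶ (cov hcov y₀ y₁).X (⟨i, i'⟩ : Σ _ : I α j, I α j') :=
    pullback.lift (f := pullback.fst y₀ (g' g j i) ≫ y₁) (g := g' g j' i') c₁ x₁
      (by rw [← Category.assoc, hc₁, h₁])
  have hc : c ≫ ct hcov y₀ y₁ (⟨i, i'⟩ : Σ _ : I α j, I α j') = t := by
    unfold ct
    rw [← Category.assoc]
    have : c ≫ pullback.fst (pullback.fst y₀ (g' g j i) ≫ y₁) (g' g j' i') = c₁ :=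
      pullback.lift_fst _ _ _
    rw [this, hc₁]
  have e1 : t ≫ φfun s hcov hy hp = c ≫ gl s hcov hy hp (⟨i, i'⟩ : Σ _ : I α j, I α j') := by
    rw [φfun, ← Scheme.Cover.ι_glueMorphisms (cov hcov y₀ y₁) (fun q => gl s hcov hy hp q)
      (fun q q' => gl_compat s hcov hy hp q q') (⟨i, i'⟩ : Σ _ : I α j, I α j'),
      ← Category.assoc, cov_f, hc]
  rw [e1, gl, loc_comp]
  exact loc_indep s hy hp _ _ hc _ _ _ _ _ _ _ _ _ _ _ _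

theorem φfun_hom : φfun s hcov hy hp ≫ (s.Y j').hom = y₁ := by
  refine Scheme.Cover.hom_ext (cov hcov y₀ y₁) _ _ (fun q => ?_)
  rw [← Category.assoc, cov_f, φfun_local s hcov hy hp _ _ _ _ _ (ch₀ hcov y₀ y₁ q)
    (ch₁ hcov y₀ y₁ q), loc_hom]

end glue

section props

variable {T : Scheme.{u}}

include hcov in
theorem hom_ext_cov {Z : Scheme.{u}} {j : κ} (y : T ⟶ V j) (a b : T ⟶ Z)
    (h : ∀ (T' : Scheme.{u}) (t : T' ⟶ T) (i : I α j) (x : T' ⟶ U i.1), t ≫ y = x ≫ g' g j i →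
      t ≫ a = t ≫ b) : a = b :=
  Scheme.Cover.hom_ext ((cV hcov j).pullback₁ y) _ _
    (fun i => h _ _ i (pullback.snd y (g' g j i)) pullback.condition)

include hcov in
theorem hom_ext_cov₂ {Z : Scheme.{u}} {j j' : κ} (y₀ : T ⟶ V j) (y₁ : T ⟶ V j') (a b : T ⟶ Z)
    (h : ∀ (T' : Scheme.{u}) (t : T' ⟶ T) (i : I α j) (i' : I α j') (x₀ : T' ⟶ U i.1)
      (x₁ : T' ⟶ U i'.1), t ≫ y₀ = x₀ ≫ g' g j i → t ≫ y₁ = x₁ ≫ g' g j' i' → t ≫ a = t ≫ b) :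
    a = b := by
  refine hom_ext_cov hcov y₀ _ _ (fun T₁ t₁ i x₀ hx₀ => ?_)
  refine hom_ext_cov hcov (t₁ ≫ y₁) _ _ (fun T₂ t₂ i' x₁ hx₁ => ?_)
  have := h T₂ (t₂ ≫ t₁) i i' (t₂ ≫ x₀) x₁ (by rw [Category.assoc, hx₀, Category.assoc])
    (by rw [Category.assoc, hx₁])
  rw [Category.assoc, Category.assoc] at this
  exact this

include hcov in
theorem hom_ext_cov₃ {Z : Scheme.{u}} {j j' j'' : κ} (y₀ : T ⟶ V j) (y₁ : T ⟶ V j')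
    (y₂ : T ⟶ V j'') (a b : T ⟶ Z)
    (h : ∀ (T' : Scheme.{u}) (t : T' ⟶ T) (i : I α j) (i' : I α j') (i'' : I α j'')
      (x₀ : T' ⟶ U i.1) (x₁ : T' ⟶ U i'.1) (x₂ : T' ⟶ U i''.1), t ≫ y₀ = x₀ ≫ g' g j i →
      t ≫ y₁ = x₁ ≫ g' g j' i' → t ≫ y₂ = x₂ ≫ g' g j'' i'' → t ≫ a = t ≫ b) : a = b := by
  refine hom_ext_cov hcov y₀ _ _ (fun T₁ t₁ i x₀ hx₀ => ?_)
  refine hom_ext_cov₂ hcov (t₁ ≫ y₁) (t₁ ≫ y₂) _ _ (fun T₂ t₂ i' i'' x₁ x₂ hx₁ hx₂ => ?_)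
  have := h T₂ (t₂ ≫ t₁) i i' i'' (t₂ ≫ x₀) x₁ x₂ (by rw [Category.assoc, hx₀, Category.assoc])
    (by rw [Category.assoc, hx₁]) (by rw [Category.assoc, hx₂])
  rw [Category.assoc, Category.assoc] at this
  exact this

theorem φfun_self {j : κ} {y : T ⟶ V j} {p : T ⟶ (s.Y j).left} (hp : p ≫ (s.Y j).hom = y) :
    φfun s hcov (y₀ := y) (y₁ := y) rfl hp = p := by
  refine hom_ext_cov hcov y _ _ (fun T' t i x hx => ?_)
  rw [φfun_local s hcov rfl hp t i i x x hx hx]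
  unfold loc
  rw [E.φ_self, lft_k]

theorem φfun_comp {j j' j'' : κ} {y₀ : T ⟶ V j} {y₁ : T ⟶ V j'} {y₂ : T ⟶ V j''}
    (h₀₁ : y₀ ≫ v j = y₁ ≫ v j') (h₁₂ : y₁ ≫ v j' = y₂ ≫ v j'') {p : T ⟶ (s.Y j).left}
    (hp : p ≫ (s.Y j).hom = y₀) :
    φfun s hcov h₁₂ (φfun_hom s hcov h₀₁ hp) = φfun s hcov (h₀₁.trans h₁₂) hp := by
  refine hom_ext_cov₃ hcov y₀ y₁ y₂ _ _ (fun T' t i i' i'' x₀ x₁ x₂ hx₀ hx₁ hx₂ => ?_)
  rw [φfun_local s hcov h₁₂ (φfun_hom s hcov h₀₁ hp) t i' i'' x₁ x₂ hx₁ hx₂,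
    φfun_local s hcov (h₀₁.trans h₁₂) hp t i i'' x₀ x₂ hx₀ hx₂]
  unfold loc
  congr 1
  have key : lft s (φfun_hom s hcov h₀₁ hp) t i' x₁ hx₁ =
      E.φ x₀ x₁ (hx (w := w) h₀₁ t i i' x₀ x₁ hx₀ hx₁) (lft s hp t i x₀ hx₀) := by
    apply lft_unique
    rw [φfun_local s hcov h₀₁ hp t i i' x₀ x₁ hx₀ hx₁]
    rfl
  rw [key, E.φ_comp]

theorem φfun_natural {T' : Scheme.{u}} (c : T' ⟶ T) {j j' : κ} {y₀ : T ⟶ V j} {y₁ : T ⟶ V j'}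
    (h : y₀ ≫ v j = y₁ ≫ v j') (h' : (c ≫ y₀) ≫ v j = (c ≫ y₁) ≫ v j')
    {p : T ⟶ (s.Y j).left} (hp : p ≫ (s.Y j).hom = y₀) {p' : T' ⟶ (s.Y j).left}
    (hp' : p' ≫ (s.Y j).hom = c ≫ y₀) (e : p' = c ≫ p) :
    φfun s hcov h' hp' = c ≫ φfun s hcov h hp := by
  refine hom_ext_cov₂ hcov (c ≫ y₀) (c ≫ y₁) _ _ (fun T'' t i i' x₀ x₁ hx₀ hx₁ => ?_)
  have hx₀' : (t ≫ c) ≫ y₀ = x₀ ≫ g' g j i := by rw [Category.assoc, hx₀]
  have hx₁' : (t ≫ c) ≫ y₁ = x₁ ≫ g' g j' i' := by rw [Category.assoc, hx₁]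
  rw [φfun_local s hcov h' hp' t i i' x₀ x₁ hx₀ hx₁, ← Category.assoc,
    φfun_local s hcov h hp (t ≫ c) i i' x₀ x₁ hx₀' hx₁']
  unfold loc
  congr 2
  refine congrArg _ ?_
  apply lft_unique
  rw [lft_k, e, Category.assoc]

end props

/-- The descent datum relative to `v` on the local solutions. -/
noncomputable def zarDD : SchDDFam v where
  obj j := s.Y j
  φ T j j' y₀ y₁ hy :=
    { toFun := fun p => ⟨φfun s hcov hy p.2, φfun_hom s hcov hy p.2⟩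
      invFun := fun q => ⟨φfun s hcov hy.symm q.2, φfun_hom s hcov hy.symm q.2⟩
      left_inv := fun p => Subtype.ext (by
        change φfun s hcov hy.symm (φfun_hom s hcov hy p.2) = p.1
        rw [φfun_comp, φfun_self])
      right_inv := fun q => Subtype.ext (by
        change φfun s hcov hy (φfun_hom s hcov hy.symm q.2) = q.1
        rw [φfun_comp, φfun_self]) }
  φ_natural T T' c j j' y₀ y₁ hy z₀ z₁ hz₀ hz₁ hz p p' hp' := by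
    subst hz₀ hz₁
    exact φfun_natural s hcov c hy hz p.2 p'.2 hp'
  φ_self T j y p := Subtype.ext (φfun_self s hcov p.2)
  φ_comp T j j' j'' y₀ y₁ y₂ h₀₁ h₁₂ p := Subtype.ext (φfun_comp s hcov h₀₁ h₁₂ p.2)

/-- The maps to the local solutions, indexed by `ι`. -/
def Sol.k (i : ι) : (E.obj i).left ⟶ (s.Y (α i)).left := s.kk (α i) ⟨i, rfl⟩

theorem Sol.sqk (i : ι) : IsPullback (s.k i) (E.obj i).hom (s.Y (α i)).hom (g i) := by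
  have := s.sq (α i) ⟨i, rfl⟩
  rwa [g'_self] at this

/-- The local formula for the gluing bijections of `zarDD`. -/
theorem zarDD_φ {T : Scheme.{u}} {i i' : ι} (x₀ : T ⟶ U i) (x₁ : T ⟶ U i')
    (h : x₀ ≫ u i = x₁ ≫ u i') (q : Lifts (E.obj i) x₀)
    (hy : (x₀ ≫ g i) ≫ v (α i) = (x₁ ≫ g i') ≫ v (α i'))
    (p : Lifts ((zarDD s hcov).obj (α i)) (x₀ ≫ g i)) (hp : p.1 = q.1 ≫ s.k i) :
    ((zarDD s hcov).φ (x₀ ≫ g i) (x₁ ≫ g i') hy p).1 = (E.φ x₀ x₁ h q).1 ≫ s.k i' := by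
  change φfun s hcov hy p.2 = _
  have h₀ : 𝟙 T ≫ (x₀ ≫ g i) = x₀ ≫ g' g (α i) ⟨i, rfl⟩ := by rw [Category.id_comp, g'_self]
  have h₁ : 𝟙 T ≫ (x₁ ≫ g i') = x₁ ≫ g' g (α i') ⟨i', rfl⟩ := by rw [Category.id_comp, g'_self]
  have h1 := φfun_local s hcov hy p.2 (𝟙 T) ⟨i, rfl⟩ ⟨i', rfl⟩ x₀ x₁ h₀ h₁
  rw [Category.id_comp] at h1
  rw [h1]
  unfold loc
  change _ ≫ s.k i' = _
  congr 2
  refine congrArg _ ?_
  apply lft_unique
  rw [Category.id_comp, hp]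
  rfl

end Groth.Agent.H51.ZarDD
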