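import Groth.Agent.H51.ZarDD
import Groth.Agent.H49.DescFam

/-!
# Essential surjectivity of pullback of descent data along a Zariski refinement (helper51)
-/

set_option autoImplicit false
universe u
open CategoryTheory CategoryTheory.Limits AlgebraicGeometry Opposite Desc

namespace Groth.Agent.H51.ZarEquiv

open Groth.Agent.H51.ZarDD Groth.Agent.H51.DescCrit

variable {ι κ : Type u} {S : Scheme.{u}} {U : ι → Scheme.{u}} {V : κ → Scheme.{u}}
  {u : ∀ i, U i ⟶ S} {v : ∀ j, V j ⟶ S} {α : ι → κ} {g : ∀ i, U i ⟶ V (α i)}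
  {w : ∀ i, g i ≫ v (α i) = u i} {E : SchDDFam u} (s : Sol w E)
  (hcov : ∀ j, Presieve.ofArrows (fun i : {i // α i = j} => U i.1)
    (fun i => g i.1 ≫ eqToHom (congrArg V i.2)) ∈ Scheme.zariskiPrecoverage (V j))

include w in
theorem hw (i : ι) : g i ≫ v (α i) = u i ≫ 𝟙 S := (w i).trans (Category.comp_id (u i)).symm

/-- The pullback functor. -/
noncomputable abbrev pullF (w : ∀ i, g i ≫ v (α i) = u i) : SchDDFam v ⥤ SchDDFam u :=
  pullDDFam (f := v) (f' := u) (α := α) (p := 𝟙 S) (p' := g) (hw (w := w))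

/-- The pulled back datum. -/
noncomputable abbrev E' : SchDDFam u := (pullF w).obj (zarDD s hcov)

theorem E'_φ_fst {T : Scheme.{u}} {i i' : ι} (x₀ : T ⟶ U i) (x₁ : T ⟶ U i') (h : x₀ ≫ u i = x₁ ≫ u i')
    (p : Lifts ((E' s hcov).obj i) x₀) :
    ((E' s hcov).φ x₀ x₁ h p).1 ≫ pullback.fst (s.Y (α i')).hom (g i') =
      ((zarDD s hcov).φ (x₀ ≫ g i) (x₁ ≫ g i') (pull_compat (hw (w := w)) x₀ x₁ h)
        (liftsPullbackEquiv (s.Y (α i)) (g i) x₀ p)).1 :=
  pullback.lift_fst _ _ _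

/-- From points of the pullback to points of `E`. -/
noncomputable def toV {T : Scheme.{u}} {i : ι} (x : T ⟶ U i)
    (p0 : T ⟶ pullback (s.Y (α i)).hom (g i))
    (hp0 : p0 ≫ pullback.snd (s.Y (α i)).hom (g i) = x) : Lifts (E.obj i) x :=
  ⟨(s.sqk i).lift (p0 ≫ pullback.fst (s.Y (α i)).hom (g i)) x (by
      rw [Category.assoc, pullback.condition, ← Category.assoc, hp0]), (s.sqk i).lift_snd _ _ _⟩

theorem toV_k {T : Scheme.{u}} {i : ι} (x : T ⟶ U i) (p0 : T ⟶ pullback (s.Y (α i)).hom (g i))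
    (hp0 : p0 ≫ pullback.snd (s.Y (α i)).hom (g i) = x) :
    (toV s x p0 hp0).1 ≫ s.k i = p0 ≫ pullback.fst (s.Y (α i)).hom (g i) :=
  (s.sqk i).lift_fst _ _ _

theorem lifts_ext {T : Scheme.{u}} {i : ι} {x : T ⟶ U i} (q q' : Lifts (E.obj i) x)
    (h : q.1 ≫ s.k i = q'.1 ≫ s.k i) : q = q' := by
  apply Subtype.ext
  apply (s.sqk i).hom_ext h
  rw [q.2, q'.2]

/-- From points of `E` to points of the pullback. -/
noncomputable def ofV {T : Scheme.{u}} {i : ι} (x : T ⟶ U i) (q : Lifts (E.obj i) x) :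
    T ⟶ pullback (s.Y (α i)).hom (g i) :=
  pullback.lift (q.1 ≫ s.k i) x (by rw [Category.assoc, (s.sqk i).w, ← Category.assoc, q.2])

theorem ofV_fst {T : Scheme.{u}} {i : ι} (x : T ⟶ U i) (q : Lifts (E.obj i) x) :
    ofV s x q ≫ pullback.fst (s.Y (α i)).hom (g i) = q.1 ≫ s.k i := pullback.lift_fst _ _ _

theorem ofV_snd {T : Scheme.{u}} {i : ι} (x : T ⟶ U i) (q : Lifts (E.obj i) x) :
    ofV s x q ≫ pullback.snd (s.Y (α i)).hom (g i) = x := pullback.lift_snd _ _ _

/-- The comparison of points. -/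
noncomputable def ee {T : Scheme.{u}} {i : ι} (x : T ⟶ U i) :
    Lifts ((E' s hcov).obj i) x ≃ Lifts (E.obj i) x where
  toFun p := toV s x p.1 p.2
  invFun q := ⟨ofV s x q, ofV_snd s x q⟩
  left_inv p := by
    apply Subtype.ext
    change ofV s x (toV s x p.1 p.2) = p.1
    apply pullback.hom_ext
    · rw [ofV_fst, toV_k]
    · rw [ofV_snd]
      exact p.2.symm
  right_inv q := by
    apply lifts_ext s
    change (toV s x (ofV s x q) (ofV_snd s x q)).1 ≫ s.k i = _
    rw [toV_k, ofV_fst]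

theorem ee_k {T : Scheme.{u}} {i : ι} (x : T ⟶ U i) (p : Lifts ((E' s hcov).obj i) x) :
    (ee s hcov x p).1 ≫ s.k i = p.1 ≫ pullback.fst (s.Y (α i)).hom (g i) :=
  toV_k s x p.1 p.2

/-- The comparison isomorphism on points. -/
noncomputable def ptIso : Groth.Agent.H49.PtIso (E' s hcov) E where
  e _ _ x := ee s hcov x
  natural T T' c i x y hy p p' hp' := by
    apply (s.sqk i).hom_ext
    · rw [ee_k, Category.assoc, ee_k, hp', Category.assoc]
    · rw [(ee s hcov y p').2, Category.assoc, (ee s hcov x p).2, hy]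
  compat T i i' x₀ x₁ h p := by
    apply lifts_ext s
    rw [ee_k, E'_φ_fst]
    have hy := pull_compat (hw (w := w)) x₀ x₁ h
    have e := zarDD_φ s hcov x₀ x₁ h (ee s hcov x₀ p) hy
      (liftsPullbackEquiv (s.Y (α i)) (g i) x₀ p) (ee_k s hcov x₀ p).symm
    exact e.symm

/-- The pulled back datum is isomorphic to `E`. -/
noncomputable def isoE : E' s hcov ≅ E := (ptIso s hcov).toIso

include hcov in
/-- Essential surjectivity, given effectivity of the local Zariski descent problems. -/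
theorem exists_preimage (w : ∀ i, g i ≫ v (α i) = u i) (E : SchDDFam u)
    (hz : ∀ j, (Ej w E j).IsEffective) :
    ∃ D : SchDDFam v, Nonempty ((pullF w).obj D ≅ E) := by
  choose Y kk hs using fun j => exists_isSol_of_isEffective (hz j)
  let s : Sol w E := ⟨Y, kk, hs⟩
  exact ⟨zarDD s hcov, ⟨isoE s hcov⟩⟩

end Groth.Agent.H51.ZarEquiv
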